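import Groth.Prelude.Def_AlgSpDec

set_option autoImplicit false
universe u
open CategoryTheory CategoryTheory.Limits AlgebraicGeometry Opposite

namespace Groth.Agent.H52

open AlgSp

variable {S : Scheme.{u}}

/-- Restriction of a field-valued point along a morphism of spectra of fields over `S`. -/
noncomputable abbrev fieldPtRestrict {F : Sp S} (p : FieldPt F) {Ω : Type u} [Field Ω]
    (w : Spec (CommRingCat.of Ω) ⟶ S) (a : Over.mk w ⟶ p.pt) : FieldPt F :=
  ⟨Ω, w, F.obj.map a.op p.val⟩

theorem mk_fieldPtRestrict {F : Sp S} (p : FieldPt F) {Ω : Type u} [Field Ω]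
    (w : Spec (CommRingCat.of Ω) ⟶ S) (a : Over.mk w ⟶ p.pt) :
    Points.mk (fieldPtRestrict p w a) = Points.mk p := by
  refine Points.sound ⟨Ω, inferInstance, w, 𝟙 _, a, ?_⟩
  change F.obj.map (𝟙 _).op (F.obj.map a.op p.val) = F.obj.map a.op p.val
  rw [op_id, Functor.map_id_apply]

theorem toHom_fieldPtRestrict {F : Sp S} (p : FieldPt F) {Ω : Type u} [Field Ω]
    (w : Spec (CommRingCat.of Ω) ⟶ S) (a : Over.mk w ⟶ p.pt) :
    (fieldPtRestrict p w a).toHom = (yon S).map a ≫ p.toHom := by
  apply (J S).uliftYonedaEquiv.injective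
  rw [FieldPt.uliftYonedaEquiv_toHom, GrothendieckTopology.uliftYonedaEquiv_comp,
    GrothendieckTopology.uliftYonedaEquiv_uliftYoneda_map]
  exact (FieldPt.toHom_app p a).symm

/-- A field-valued point from a morphism `h_{Spec K} ⟶ F`. -/
noncomputable abbrev fieldPtOfHom {F : Sp S} {K : Type u} [Field K]
    (str : Spec (CommRingCat.of K) ⟶ S) (m : (yon S).obj (Over.mk str) ⟶ F) : FieldPt F :=
  ⟨K, str, (J S).uliftYonedaEquiv m⟩

@[simp] theorem toHom_fieldPtOfHom {F : Sp S} {K : Type u} [Field K]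
    (str : Spec (CommRingCat.of K) ⟶ S) (m : (yon S).obj (Over.mk str) ⟶ F) :
    (fieldPtOfHom str m).toHom = m :=
  Equiv.symm_apply_apply _ _

theorem fieldPtOfHom_toHom {F : Sp S} (p : FieldPt F) : fieldPtOfHom p.str p.toHom = p := by
  obtain ⟨K, str, v⟩ := p
  simp only [fieldPtOfHom]
  congr 1
  exact FieldPt.uliftYonedaEquiv_toHom _

theorem fieldPtOfHom_map {F G : Sp S} (f : F ⟶ G) {K : Type u} [Field K]
    (str : Spec (CommRingCat.of K) ⟶ S) (m : (yon S).obj (Over.mk str) ⟶ F) :
    (fieldPtOfHom str m).map f = fieldPtOfHom str (m ≫ f) := by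
  simp only [fieldPtOfHom, FieldPt.map, GrothendieckTopology.uliftYonedaEquiv_comp]

/-- Points of a fibre product of sheaves surject onto the fibre product of points. -/
theorem exists_point_of_isPullback {F G H P : Sp S} {f : F ⟶ H} {g : G ⟶ H} {fst : P ⟶ F}
    {snd : P ⟶ G} (h : IsPullback fst snd f g) (x : Points F) (y : Points G)
    (e : Points.map f x = Points.map g y) :
    ∃ z : Points P, Points.map fst z = x ∧ Points.map snd z = y := by
  induction x using Points.ind with
  | h p =>
  induction y using Points.ind with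
  | h q =>
  rw [Points.map_mk, Points.map_mk, Points.mk_eq_mk_iff] at e
  obtain ⟨Ω, _, w, a', b', hab'⟩ := e
  let a : Over.mk w ⟶ p.pt := a'
  let b : Over.mk w ⟶ q.pt := b'
  have hab : H.obj.map a.op (f.hom.app _ p.val) = H.obj.map b.op (g.hom.app _ q.val) := hab'
  clear_value a b
  clear hab'
  have hcomm : (fieldPtRestrict p w a).toHom ≫ f = (fieldPtRestrict q w b).toHom ≫ g := by
    apply (J S).uliftYonedaEquiv.injective
    rw [GrothendieckTopology.uliftYonedaEquiv_comp, GrothendieckTopology.uliftYonedaEquiv_comp]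
    erw [FieldPt.uliftYonedaEquiv_toHom, FieldPt.uliftYonedaEquiv_toHom]
    change f.hom.app _ (F.obj.map a.op p.val) = g.hom.app _ (G.obj.map b.op q.val)
    rw [NatTrans.naturality_apply, NatTrans.naturality_apply]
    exact hab
  refine ⟨Points.mk (fieldPtOfHom w (h.lift _ _ hcomm)), ?_, ?_⟩
  · rw [Points.map_mk, fieldPtOfHom_map, h.lift_fst, ← mk_fieldPtRestrict p w a]
    congr 1
    exact fieldPtOfHom_toHom (fieldPtRestrict p w a)
  · rw [Points.map_mk, fieldPtOfHom_map, h.lift_snd, ← mk_fieldPtRestrict q w b]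
    congr 1
    exact fieldPtOfHom_toHom (fieldPtRestrict q w b)

end Groth.Agent.H52
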