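import Groth.Agent.H52.Points
import Mathlib.AlgebraicGeometry.Morphisms.UniversallyOpen
import Mathlib.AlgebraicGeometry.Morphisms.Etale

set_option autoImplicit false
universe u
open CategoryTheory CategoryTheory.Limits AlgebraicGeometry Opposite

namespace Groth.Agent.H52

open AlgSp

variable {S : Scheme.{u}}

/-- `ofPt (h_φ) t'` is the point of `h_T` given by `φ t'`. -/
theorem ofPt_yon_map {T T' : Over S} (φ : T' ⟶ T) (t' : ↥T'.left) :
    Points.ofPt ((yon S).map φ) t' = Points.ofScheme T (φ.left t') := by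
  have hinj : Function.Injective (Points.toScheme T) := (Points.schemeEquiv T).symm.injective
  apply hinj
  rw [Points.toScheme_ofPt, Points.toScheme_ofScheme]

/-- Compatibility of `ofPt` with precomposition by a morphism of schemes. -/
theorem ofPt_yon_map_comp {F : Sp S} {T T' : Over S} (φ : T' ⟶ T) (g : (yon S).obj T ⟶ F)
    (t' : ↥T'.left) :
    Points.ofPt ((yon S).map φ ≫ g) t' = Points.ofPt g (φ.left t') := by
  rw [← Points.map_ofPt, ofPt_yon_map, ← Points.ofPt_eq_map_ofScheme]

/-- The point of `F` defined by a field valued point of a scheme `T` and `g : h_T ⟶ F`. -/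
theorem mk_map_eq_ofPt {F : Sp S} {T : Over S} (g : (yon S).obj T ⟶ F)
    (q : FieldPt ((yon S).obj T)) :
    Points.mk (q.map g) = Points.ofPt g (Points.toScheme T (Points.mk q)) := by
  rw [Points.ofPt_eq_map_ofScheme, Points.ofScheme_toScheme, Points.map_mk]

theorem ofPt_eq_iff_of_isPullback {F : Sp S} {T U V : Over S} {g : (yon S).obj T ⟶ F}
    {a : (yon S).obj U ⟶ F} {fst : V ⟶ U} {snd : V ⟶ T}
    (h : IsPullback ((yon S).map fst) ((yon S).map snd) a g) (u : ↥U.left) (t : ↥T.left) :
    Points.ofPt a u = Points.ofPt g t ↔ ∃ v : ↥V.left, fst.left v = u ∧ snd.left v = t := by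
  constructor
  · intro e
    rw [Points.ofPt_eq_map_ofScheme, Points.ofPt_eq_map_ofScheme g] at e
    obtain ⟨z, hz1, hz2⟩ := exists_point_of_isPullback h _ _ e
    obtain ⟨v, rfl⟩ := (Points.schemeEquiv V).surjective z
    refine ⟨v, ?_, ?_⟩
    · have := congrArg (Points.toScheme U) hz1
      rw [Points.toScheme_ofScheme] at this
      rw [← this]
      change _ = Points.toScheme U (Points.map _ (Points.ofPt (𝟙 _) v))
      rw [Points.map_ofPt, Category.id_comp, Points.toScheme_ofPt]
    · have := congrArg (Points.toScheme T) hz2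
      rw [Points.toScheme_ofScheme] at this
      rw [← this]
      change _ = Points.toScheme T (Points.map _ (Points.ofPt (𝟙 _) v))
      rw [Points.map_ofPt, Category.id_comp, Points.toScheme_ofPt]
  · rintro ⟨v, rfl, rfl⟩
    rw [← ofPt_yon_map_comp, ← ofPt_yon_map_comp, h.w]

/-- A representable surjective map from a scheme is surjective on points. -/
theorem ofPt_surjective_of_repWith_surjective {F : Sp S} {U : Over S} (p : (yon S).obj U ⟶ F)
    (hs : RepWith @Surjective p) : Function.Surjective (Points.ofPt p) := by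
  intro x
  induction x using Points.ind with
  | h q =>
  have hsurj : Surjective (hs.rep.snd q.toHom).left := hs.property_snd q.toHom
  obtain ⟨v, -⟩ := hsurj.surj (IsLocalRing.closedPoint q.K)
  obtain ⟨φ, hφ⟩ := (yon S).map_surjective (hs.rep.fst q.toHom)
  refine ⟨φ.left v, ?_⟩
  rw [← ofPt_yon_map_comp, hφ, hs.rep.w q.toHom, ofPt_yon_map_comp, Points.ofPt_toHom]

/-- The image of `ofPt a` pulled back along `ofPt g` is the image of the projection. -/
theorem preimage_ofPt_image_ofPt {F : Sp S} {T U V : Over S} {g : (yon S).obj T ⟶ F}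
    {a : (yon S).obj U ⟶ F} {fst : V ⟶ U} {snd : V ⟶ T}
    (h : IsPullback ((yon S).map fst) ((yon S).map snd) a g) (W : Set ↥U.left) :
    Points.ofPt g ⁻¹' (Points.ofPt a '' W) = snd.left '' (fst.left ⁻¹' W) := by
  ext t
  simp only [Set.mem_preimage, Set.mem_image]
  constructor
  · rintro ⟨u, hu, e⟩
    obtain ⟨v, rfl, rfl⟩ := (ofPt_eq_iff_of_isPullback h u t).1 e
    exact ⟨v, hu, rfl⟩
  · rintro ⟨v, hv, rfl⟩
    exact ⟨fst.left v, hv, (ofPt_eq_iff_of_isPullback h _ _).2 ⟨v, rfl, rfl⟩⟩

/-- A representable etale map from a scheme induces an open map on points. -/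
theorem isOpenMap_ofPt_of_repWith_etale {F : Sp S} {U : Over S} (a : (yon S).obj U ⟶ F)
    (ha : RepWith @Etale a) : IsOpenMap (Points.ofPt a) := by
  intro W hW
  rw [Points.isOpen_iff]
  intro T g
  obtain ⟨φ, hφ⟩ := (yon S).map_surjective (ha.rep.fst g)
  have hpb : IsPullback ((yon S).map φ) ((yon S).map (ha.rep.snd g)) a g := by
    rw [hφ]; exact ha.rep.isPullback g
  rw [preimage_ofPt_image_ofPt hpb]
  have het : Etale (ha.rep.snd g).left := ha.property_snd g
  exact (ha.rep.snd g).left.isOpenMap _ (hW.preimage φ.left.continuous)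

end Groth.Agent.H52
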