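import Groth.Agent.H52.ChartFinite
import Groth.Prelude.Def_AlgSpCov

set_option autoImplicit false
universe u
open CategoryTheory CategoryTheory.Limits AlgebraicGeometry Opposite TopologicalSpace

namespace Groth.Agent.H52

open AlgSp

variable {S : Scheme.{u}}

/-- A morphism of fppf sheaves representable by monomorphisms of schemes is a monomorphism. -/
theorem mono_of_repWith_mono {P : MorphismProperty Scheme.{u}}
    (hP : P ≤ MorphismProperty.monomorphisms Scheme.{u}) {F G : Sp S} (f : F ⟶ G)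
    (hf : RepWith P f) : Mono f := by
  refine mono_of_yon_injective f fun T a b hab => ?_
  have hrep : Representable f := hf.rep
  have hmono : Mono (hrep.snd (a ≫ f)) := by
    have h1 : P (hrep.snd (a ≫ f)).left := hf.property_snd (a ≫ f)
    have h2 : Mono (hrep.snd (a ≫ f)).left := hP _ h1
    exact (Over.forget S).mono_of_mono_map h2
  have key : hrep.lift (g := a ≫ f) a (𝟙 T) (by simp) = hrep.lift b (𝟙 T) (by simp [← hab]) := by
    simp only [← cancel_mono (hrep.snd (a ≫ f)), Functor.relativelyRepresentable.lift_snd]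
  simpa using (yon S).congr_map key =≫ (hrep.fst (a ≫ f))

/-- A representable open immersion of sheaves is a monomorphism. -/
theorem mono_of_repWith_isOpenImmersion {F G : Sp S} (f : F ⟶ G)
    (hf : RepWith @IsOpenImmersion f) : Mono f :=
  mono_of_repWith_mono (fun _ _ g (_ : IsOpenImmersion g) => (inferInstance : Mono g)) f hf

/-- A monomorphism of sheaves is injective on points. -/
theorem points_map_injective_of_mono {F G : Sp S} (f : F ⟶ G) [Mono f] :
    Function.Injective (Points.map f) := by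
  intro x y hxy
  induction x using Points.ind with
  | h a =>
  induction y using Points.ind with
  | h b =>
  rw [Points.map_mk, Points.map_mk, Points.mk_eq_mk_iff, rel_iff_toHom] at hxy
  obtain ⟨Ω, _, w, c, d, h⟩ := hxy
  rw [Points.mk_eq_mk_iff, rel_iff_toHom]
  let c' : Over.mk w ⟶ a.pt := c
  let d' : Over.mk w ⟶ b.pt := d
  have h' : (yon S).map c' ≫ (a.toHom ≫ f) = (yon S).map d' ≫ (b.toHom ≫ f) := by
    rw [← FieldPt.toHom_map, ← FieldPt.toHom_map]
    exact h
  refine ⟨Ω, inferInstance, w, c', d', ?_⟩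
  rw [← Category.assoc, ← Category.assoc] at h'
  exact (cancel_mono f).1 h'

/-- In a pullback square with scheme corners `V`, `T` over a sheaf, points of `T` whose image lies in
the image of the other leg lift to `V`. -/
theorem exists_scheme_point_of_isPullback {F G : Sp S} {T V : Over S} {f : G ⟶ F}
    {g : (yon S).obj T ⟶ F} {fst : (yon S).obj V ⟶ G} {snd : V ⟶ T}
    (h : IsPullback fst ((yon S).map snd) f g) (z : Points G) (t : ↥T.left)
    (e : Points.map f z = Points.ofPt g t) :
    ∃ v : ↥V.left, snd.left v = t ∧ Points.ofPt fst v = z := by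
  rw [Points.ofPt_eq_map_ofScheme] at e
  obtain ⟨w, hw1, hw2⟩ := exists_point_of_isPullback h z _ e
  obtain ⟨v, rfl⟩ := (Points.schemeEquiv V).surjective w
  refine ⟨v, ?_, ?_⟩
  · have h1 : Points.map ((yon S).map snd) (Points.ofScheme V v) = Points.ofScheme T (snd.left v) := by
      rw [← Points.ofPt_eq_map_ofScheme, ofPt_yon_map]
    have h2 : Points.ofScheme T (snd.left v) = Points.ofScheme T t := h1.symm.trans hw2
    exact (Points.schemeEquiv T).injective h2
  · rw [Points.ofPt_eq_map_ofScheme]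
    exact hw1

/-- **Decency is Zariski local.** -/
theorem isDecent_of_zarCover {X : Sp S} (hX : IsAlgSpace X) {ι : Type u} (Xi : ι → Sp S)
    (j : ∀ i, Xi i ⟶ X) (hj : IsZarCover Xi j) (hd : ∀ i, IsDecent (Xi i)) : IsDecent X := by
  classical
  have hjm : ∀ i, Mono (j i) := fun i => mono_of_repWith_isOpenImmersion (j i) (hj.1 i)
  intro x
  obtain ⟨i, xi, rfl⟩ := hj.2 x
  obtain ⟨pi, rfl, hmi, hqi⟩ := hd i xi
  have hm : Mono (pi.map (j i)).toHom := by
    rw [FieldPt.toHom_map]
    exact @mono_comp _ _ _ _ _ _ hmi _ (hjm i)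
  refine ⟨pi.map (j i), (Points.map_mk _ _).symm, hm, ?_⟩
  refine repWith_quasiCompact_of_finite_fibres hX _ hm fun U φ haff hφ => ?_
  -- the open subschemes `U_i'` of `U`
  have sq : ∀ i', IsPullback ((hj.1 i').rep.fst φ) ((yon S).map ((hj.1 i').rep.snd φ)) (j i') φ :=
    fun i' => (hj.1 i').rep.isPullback φ
  have hopen : ∀ i', IsOpenImmersion ((hj.1 i').rep.snd φ).left := fun i' => (hj.1 i').property_snd φ
  have hae : ∀ i', RepWith @Etale ((hj.1 i').rep.fst φ) := fun i' =>
    MorphismProperty.of_isPullback (P := RepWith @Etale) (sq i').flip hφ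
  -- covering
  have hcov : (Set.univ : Set ↥U.left) ⊆
      ⋃ k : Σ i' : ι, ((hj.1 i').rep.pullback φ).left.affineOpens,
        ((hj.1 k.1).rep.snd φ).left '' ((k.2 : ((hj.1 k.1).rep.pullback φ).left.Opens) : Set _) := by
    intro u _
    obtain ⟨i', z, hz⟩ := hj.2 (Points.ofPt φ u)
    obtain ⟨v, hv, -⟩ := exists_scheme_point_of_isPullback (sq i') z u hz
    obtain ⟨W, hW, hvW, -⟩ := exists_isAffineOpen_mem_and_subset (x := v) (U := ⊤) trivial
    exact Set.mem_iUnion.2 ⟨⟨i', ⟨W, hW⟩⟩, v, hvW, hv⟩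
  have hcomp : CompactSpace ↥U.left := inferInstance
  obtain ⟨t, ht⟩ := isCompact_univ.elim_finite_subcover _
    (fun k : Σ i' : ι, ((hj.1 i').rep.pullback φ).left.affineOpens =>
      ((hj.1 k.1).rep.snd φ).left.isOpenMap _ k.2.1.2) hcov
  -- the finite pieces
  have hpiece : ∀ k : Σ i' : ι, ((hj.1 i').rep.pullback φ).left.affineOpens,
      {w : ↥((hj.1 k.1).rep.pullback φ).left | w ∈ (k.2 : ((hj.1 k.1).rep.pullback φ).left.Opens) ∧
        Points.map (j k.1) (Points.ofPt ((hj.1 k.1).rep.fst φ) w) =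
          Points.mk (pi.map (j i))}.Finite := by
    rintro ⟨i', W, hW⟩
    by_cases hne : ∃ w₀ : ↥((hj.1 i').rep.pullback φ).left, w₀ ∈ W ∧
        Points.map (j i') (Points.ofPt ((hj.1 i').rep.fst φ) w₀) = Points.mk (pi.map (j i))
    · obtain ⟨w₀, hw₀W, hw₀⟩ := hne
      obtain ⟨pz, hpz, -, hqz⟩ := hd i' (Points.ofPt ((hj.1 i').rep.fst φ) w₀)
      have hcW : CompactSpace ↥(Over.mk (W.ι ≫ ((hj.1 i').rep.pullback φ).hom)).left := by
        have : IsAffine (Over.mk (W.ι ≫ ((hj.1 i').rep.pullback φ).hom)).left := hW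
        infer_instance
      have hfin := finite_fibre_of_quasiCompact_point pz hqz
        ((yon S).map (openIncl _ W) ≫ (hj.1 i').rep.fst φ) (repWith_etale_restrict _ (hae i') W)
      refine (hfin.image (openIncl _ W).left).subset ?_
      rintro w ⟨hwW, hw⟩
      refine ⟨⟨w, hwW⟩, ?_, rfl⟩
      change Points.ofPt ((yon S).map (openIncl _ W) ≫ (hj.1 i').rep.fst φ) ⟨w, hwW⟩ = Points.mk pz
      rw [ofPt_yon_map_comp, hpz]
      exact points_map_injective_of_mono (j i') (hw.trans hw₀.symm)
    · refine Set.Finite.subset Set.finite_empty ?_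
      rintro w ⟨hwW, hw⟩
      exact (hne ⟨w, hwW, hw⟩).elim
  refine ((t : Set _).toFinite.biUnion fun k _ =>
    (hpiece k).image ((hj.1 k.1).rep.snd φ).left).subset ?_
  intro u hu
  obtain ⟨k, hkt, w, hwW, rfl⟩ := Set.mem_iUnion₂.1 (ht (Set.mem_univ u))
  refine Set.mem_iUnion₂.2 ⟨k, hkt, w, ⟨hwW, ?_⟩, rfl⟩
  have hu' : Points.ofPt φ (((hj.1 k.1).rep.snd φ).left w) = Points.mk (pi.map (j i)) := hu
  rw [← ofPt_yon_map_comp, ← (sq k.1).w, ← Points.map_ofPt] at hu'
  exact hu'

end Groth.Agent.H52
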