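import Groth.Prelude.Def_AlgSpDec
import Mathlib.CategoryTheory.Sites.RegularEpi
import Mathlib.CategoryTheory.Sites.LocallySurjective
import Mathlib.CategoryTheory.Sites.LocallyInjective

set_option autoImplicit false
universe u
open CategoryTheory CategoryTheory.Limits AlgebraicGeometry Opposite

namespace Groth.Agent.H52

open AlgSp

variable {S : Scheme.{u}}

/-- Restriction of a generalized element. -/
theorem yonedaEquiv_map_comp {F : Sp S} {T T' : Over S} (g : T' ⟶ T) (x : (yon S).obj T ⟶ F) :
    (J S).uliftYonedaEquiv ((yon S).map g ≫ x) = F.obj.map g.op ((J S).uliftYonedaEquiv x) :=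
  ((J S).uliftYonedaEquiv_naturality x g).symm

/-- Separatedness for generalized elements. -/
theorem hom_ext_of_covering {F : Sp S} {T : Over S} (x y : (yon S).obj T ⟶ F) (W : Sieve T)
    (hW : W ∈ J S T)
    (h : ∀ ⦃T' : Over S⦄ (g : T' ⟶ T), W g → (yon S).map g ≫ x = (yon S).map g ≫ y) : x = y := by
  apply (J S).uliftYonedaEquiv.injective
  have hsep := ((isSheaf_iff_isSheaf_of_type _ _).1 F.2).isSeparated
  apply (hsep W hW).ext
  intro T' g hg
  rw [← yonedaEquiv_map_comp, ← yonedaEquiv_map_comp, h g hg]

/-- Monomorphisms can be tested on generalized elements. -/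
theorem mono_of_yon_injective {F G : Sp S} (φ : F ⟶ G)
    (h : ∀ (T : Over S) (x y : (yon S).obj T ⟶ F), x ≫ φ = y ≫ φ → x = y) : Mono φ := by
  apply Sheaf.mono_of_injective
  rintro ⟨T⟩ x y hxy
  have := h T ((J S).uliftYonedaEquiv.symm x) ((J S).uliftYonedaEquiv.symm y) (by
    apply (J S).uliftYonedaEquiv.injective
    rw [GrothendieckTopology.uliftYonedaEquiv_comp, GrothendieckTopology.uliftYonedaEquiv_comp,
      Equiv.apply_symm_apply, Equiv.apply_symm_apply]
    exact hxy)
  simpa using congr((J S).uliftYonedaEquiv $this)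

/-- Epimorphisms are locally surjective on generalized elements. -/
theorem exists_local_lift_of_epi {F G : Sp S} (φ : F ⟶ G) [Epi φ] {T : Over S}
    (x : (yon S).obj T ⟶ G) :
    ∃ W : Sieve T, W ∈ J S T ∧ ∀ ⦃T' : Over S⦄ (g : T' ⟶ T), W g →
      ∃ y : (yon S).obj T' ⟶ F, y ≫ φ = (yon S).map g ≫ x := by
  have hφ : Sheaf.IsLocallySurjective φ := (Sheaf.isLocallySurjective_iff_epi φ).2 inferInstance
  refine ⟨_, Presheaf.imageSieve_mem (J S) φ.hom (U := op T) ((J S).uliftYonedaEquiv x), ?_⟩
  rintro T' g ⟨z, hz⟩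
  refine ⟨(J S).uliftYonedaEquiv.symm z, ?_⟩
  apply (J S).uliftYonedaEquiv.injective
  rw [GrothendieckTopology.uliftYonedaEquiv_comp, Equiv.apply_symm_apply, yonedaEquiv_map_comp]
  exact hz

/-- A morphism of sheaves that is locally surjective on generalized elements is an epimorphism. -/
theorem epi_of_exists_local_lift {F G : Sp S} (φ : F ⟶ G)
    (h : ∀ (T : Over S) (x : (yon S).obj T ⟶ G), ∃ W : Sieve T, W ∈ J S T ∧
      ∀ ⦃T' : Over S⦄ (g : T' ⟶ T), W g → ∃ y : (yon S).obj T' ⟶ F, y ≫ φ = (yon S).map g ≫ x) :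
    Epi φ := by
  have : Sheaf.IsLocallySurjective φ := by
    constructor
    intro T x
    obtain ⟨W, hW, hW'⟩ := h T ((J S).uliftYonedaEquiv.symm x)
    refine (J S).superset_covering ?_ hW
    intro T' g hg
    obtain ⟨y, hy⟩ := hW' g hg
    refine ⟨(J S).uliftYonedaEquiv y, ?_⟩
    have := congr((J S).uliftYonedaEquiv $hy)
    rw [GrothendieckTopology.uliftYonedaEquiv_comp, yonedaEquiv_map_comp,
      Equiv.apply_symm_apply] at this
    exact this
  infer_instance

/-- A single flat, locally finitely presented, surjective morphism generates a covering sieve. -/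
theorem sieve_mem_J_of_fppf {T V : Over S} (snd : V ⟶ T) (h1 : Flat snd.left)
    (h2 : LocallyOfFinitePresentation snd.left) (h3 : Surjective snd.left) :
    Sieve.generate (Presieve.singleton snd) ∈ J S T := by
  rw [GrothendieckTopology.mem_over_iff]
  refine GrothendieckTopology.superset_covering _ ?_
    (Precoverage.generate_mem_toGrothendieck (Scheme.Hom.singleton_mem_fppfPrecoverage snd.left))
  rw [Sieve.generate_le_iff]
  rintro W w ⟨⟩
  rw [Sieve.overEquiv_iff]
  refine ⟨V, Over.homMk (𝟙 _) (by simp), snd, ⟨⟩, ?_⟩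
  ext
  simp

/-- A flat, locally finitely presented, surjective morphism of schemes over `S` induces an epimorphism of
sheaves. -/
theorem epi_yon_map_of_fppf {T V : Over S} (c : V ⟶ T) (h1 : Flat c.left)
    (h2 : LocallyOfFinitePresentation c.left) (h3 : Surjective c.left) :
    Epi ((yon S).map c) := by
  refine epi_of_exists_local_lift _ fun T' x => ?_
  obtain ⟨g, rfl⟩ := (yon S).map_surjective x
  -- pull back `c` along `g`
  have hrep := representable_yon_map (S := S) c
  have sq := hrep.isPullback ((yon S).map g)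
  have hflat : Flat (hrep.snd ((yon S).map g)).left :=
    ((repWith_yon_map_iff @Flat c).2 h1).property _ _ _ sq
  have hlfp : LocallyOfFinitePresentation (hrep.snd ((yon S).map g)).left :=
    ((repWith_yon_map_iff @LocallyOfFinitePresentation c).2 h2).property _ _ _ sq
  have hsurj : Surjective (hrep.snd ((yon S).map g)).left :=
    ((repWith_yon_map_iff @Surjective c).2 h3).property _ _ _ sq
  refine ⟨_, sieve_mem_J_of_fppf _ hflat hlfp hsurj, ?_⟩
  rintro W w ⟨Y, a, b, ⟨⟩, rfl⟩
  refine ⟨(yon S).map a ≫ hrep.fst ((yon S).map g), ?_⟩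
  rw [Category.assoc, sq.w, Functor.map_comp, Category.assoc]

/-- A representable morphism whose represented pullbacks are flat, locally of finite presentation and
surjective is an epimorphism of sheaves. -/
theorem epi_of_repWith_fppf {F G : Sp S} (f : F ⟶ G) (h1 : RepWith @Flat f)
    (h2 : RepWith @LocallyOfFinitePresentation f) (h3 : RepWith @Surjective f) : Epi f := by
  refine epi_of_exists_local_lift f fun T x => ?_
  have sq := h1.rep.isPullback x
  refine ⟨_, sieve_mem_J_of_fppf (h1.rep.snd x) (h1.property _ _ _ sq) (h2.property _ _ _ sq)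
    (h3.property _ _ _ sq), ?_⟩
  rintro W w ⟨Y, a, b, ⟨⟩, rfl⟩
  refine ⟨(yon S).map a ≫ h1.rep.fst x, ?_⟩
  rw [Category.assoc, sq.w, Functor.map_comp, Category.assoc]

/-- A representable etale surjective morphism is an epimorphism of sheaves. -/
theorem epi_of_repWith_etale_surjective {F G : Sp S} (f : F ⟶ G) (h1 : RepWith @Etale f)
    (h3 : RepWith @Surjective f) : Epi f := by
  have h1' : RepWith @Flat f :=
    ⟨h1.rep, fun _ _ g fst snd sq => by
      have : Etale snd.left := h1.property _ _ _ sq
      exact (inferInstance : Flat snd.left)⟩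
  have h2' : RepWith @LocallyOfFinitePresentation f :=
    ⟨h1.rep, fun _ _ g fst snd sq => by
      have : Etale snd.left := h1.property _ _ _ sq
      exact (inferInstance : LocallyOfFinitePresentation snd.left)⟩
  exact epi_of_repWith_fppf f h1' h2' h3

/-- A morphism out of the source of an epimorphism of sheaves which coequalizes a kernel pair of the
epimorphism factors through it. -/
theorem exists_desc_of_epi_of_isKernelPair {F G H R : Sp S} (ε : F ⟶ G) [Epi ε] {a b : R ⟶ F}
    (hk : IsKernelPair ε a b) (f : F ⟶ H) (w : a ≫ f = b ≫ f) : ∃ g : G ⟶ H, ε ≫ g = f := by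
  have hq : IsRegularEpi ε := IsRegularEpiCategory.regularEpiOfEpi ε
  exact IsRegularEpi.exists_of_isKernelPair ε hk f w

end Groth.Agent.H52
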