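import Groth.Agent.H52.UnibranchSp
import Groth.Agent.H14.HensProp.EtNbhdMain
import Groth.Agent.H53.Charts

/-!
# Geometrically unibranch points of algebraic spaces: charts
-/

set_option autoImplicit false
universe u
open CategoryTheory CategoryTheory.Limits AlgebraicGeometry TopologicalSpace
open AlgSp

namespace Groth.Agent.H52.GeomUnibranchSp

open Groth.Agent.H52.UnibranchSp Groth.Agent.H14.HensProp

variable {S : Scheme.{u}}

/-- A geometrically unibranch local ring of a scheme has a unique minimal prime. -/
theorem hasUniqueMinimalPrime_of_isGeomUnibranch {U : Scheme.{u}} (v : U)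
    (h : CAlg2.IsGeomUnibranch (U.presheaf.stalk v)) :
    CAlgX.HasUniqueMinimalPrime (U.presheaf.stalk v) := by
  rw [hasUniqueMinimalPrime_iff_encard, ← CompStalk.encard_components_eq]
  exact EtNbhdMain.encard_eq_one_of_isGeomUnibranch U U (𝟙 U) v h

/-- If all etale charts at all points over `x` have local rings with a unique minimal prime,
then they are all geometrically unibranch. -/
theorem isGeomUnibranch_of_forall_hasUniqueMinimalPrime {F : Sp S} (x : Points F)
    (H : ∀ (U : Over S) (a : (yon S).obj U ⟶ F) (u : ↥U.left), RepWith @Etale a →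
      Points.ofPt a u = x → CAlgX.HasUniqueMinimalPrime ↥(U.left.presheaf.stalk u))
    (U : Over S) (a : (yon S).obj U ⟶ F) (u : ↥U.left) (ha : RepWith @Etale a)
    (hu : Points.ofPt a u = x) : CAlg2.IsGeomUnibranch ↥(U.left.presheaf.stalk u) := by
  rw [EtNbhdMain.isGeomUnibranch_iff]
  intro V g v hg hgv
  apply EtNbhdMain.encard_eq_one_of_isPrime_nilradical
  rw [← UniqueMin.hasUniqueMinimalPrime_iff_isPrime_nilradical]
  refine H (Over.mk (g ≫ U.hom)) (compChart a g) v
    (Groth.Agent.H53.repWith_etale_map_comp _ hg a ha) ?_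
  rw [Groth.Agent.H52.ofPt_yon_map_comp]
  change Points.ofPt a (g v) = x
  rw [hgv, hu]

end Groth.Agent.H52.GeomUnibranchSp
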