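import Groth.Agent.H52.Special
import Groth.Prelude.Def_AlgSp3

set_option autoImplicit false
universe u
open CategoryTheory CategoryTheory.Limits AlgebraicGeometry Opposite

namespace Groth.Agent.H52

open AlgSp

variable {S : Scheme.{u}}

/-- Given a morphism `f : F ⟶ G` of sheaves, an etale atlas `w : h_W ⟶ F` and an etale atlas
`b : h_U ⟶ G` (with `b` representable), there is a chart diagram `V ⟶ U` over `f` with `V ⟶ F`
etale surjective. -/
theorem exists_chart_diagram {F G : Sp S} (f : F ⟶ G) {W : Over S} (w : (yon S).obj W ⟶ F)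
    (hw : RepWith @Etale w) (hws : RepWith @Surjective w) {U : Over S} (b : (yon S).obj U ⟶ G)
    (hb : RepWith @Etale b) (hbs : RepWith @Surjective b) :
    ∃ (V : Over S) (a : (yon S).obj V ⟶ F) (h : V ⟶ U), RepWith @Etale a ∧
      RepWith @Surjective a ∧ a ≫ f = (yon S).map h ≫ b := by
  have hpb := hb.rep.isPullback (w ≫ f)
  obtain ⟨h, hh⟩ := (yon S).map_surjective (hb.rep.fst (w ≫ f))
  refine ⟨hb.rep.pullback (w ≫ f), (yon S).map (hb.rep.snd (w ≫ f)) ≫ w, h, ?_, ?_, ?_⟩
  · refine (RepWith @Etale).comp_mem _ _ ?_ hw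
    rw [repWith_yon_map_iff]
    exact hb.property_snd (w ≫ f)
  · refine (RepWith @Surjective).comp_mem _ _ ?_ hws
    rw [repWith_yon_map_iff]
    exact hbs.property_snd (w ≫ f)
  · rw [Category.assoc, hh]
    exact (hb.rep.w (w ≫ f)).symm

/-- S10344 for sheaves with etale atlases. -/
theorem exists_specializes_lift_of_flat {F G : Sp S} (f : F ⟶ G) (hf : LocP @Flat f)
    {W : Over S} (w : (yon S).obj W ⟶ F) (hw : RepWith @Etale w) (hws : RepWith @Surjective w)
    {U : Over S} (b : (yon S).obj U ⟶ G) (hb : RepWith @Etale b) (hbs : RepWith @Surjective b)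
    (x x' : Points G) (h : x' ⤳ x) (p : FieldPt G) (hp : Points.mk p = x')
    (hpq : RepWith @QuasiCompact p.toHom) (y : Points F) (hy : Points.map f y = x) :
    ∃ y' : Points F, y' ⤳ y ∧ Points.map f y' = x' := by
  obtain ⟨V, a, g, ha, has, hag⟩ := exists_chart_diagram f w hw hws b hb hbs
  have hflat : Flat g.left := hf a b g ha hb hag
  obtain ⟨v, rfl⟩ := ofPt_surjective_of_repWith_surjective a has y
  have hu : Points.ofPt b (g.left v) = x := by
    rw [← ofPt_yon_map_comp, ← hag, ← Points.map_ofPt]; exact hy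
  obtain ⟨u', hu'u, hu'⟩ := exists_specializes_lift x x' h p hp hpq b hb (g.left v) hu
  obtain ⟨v', hv'v, hv'⟩ := Flat.generalizingMap g.left hu'u
  refine ⟨Points.ofPt a v', hv'v.map (Points.continuous_ofPt a), ?_⟩
  rw [Points.map_ofPt, hag, ofPt_yon_map_comp, hv', hu']

end Groth.Agent.H52
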