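import Groth.Agent.H52.Special
import Mathlib.AlgebraicGeometry.Morphisms.FlatMono

set_option autoImplicit false
universe u
open CategoryTheory CategoryTheory.Limits AlgebraicGeometry Opposite TopologicalSpace

namespace Groth.Agent.H52

open AlgSp

variable {S : Scheme.{u}}

/-- A monomorphism of schemes from a nonempty scheme to the spectrum of a field is an isomorphism. -/
theorem isIso_of_mono_of_nonempty_of_field {Z : Scheme.{u}} {K : Type u} [Field K]
    (f : Z ⟶ Spec (CommRingCat.of K)) [Mono f] [Nonempty ↥Z] : IsIso f := by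
  have hsub : Subsingleton ↥Z := by
    refine ⟨fun a b => f.injective ?_⟩
    exact Subsingleton.elim (α := PrimeSpectrum K) _ _
  have : Finite ↥Z := Finite.of_subsingleton
  have : QuasiCompact f := quasiCompact_of_finite f
  have : Surjective f := by
    refine ⟨fun y => ?_⟩
    obtain ⟨z⟩ := ‹Nonempty ↥Z›
    exact ⟨z, Subsingleton.elim (α := PrimeSpectrum K) _ _⟩
  have : Subsingleton ↥(Spec (CommRingCat.of K)) :=
    inferInstanceAs (Subsingleton (PrimeSpectrum K))
  have : Flat f := inferInstance
  exact Flat.isIso_of_surjective_of_mono f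

/-- `Rel` in terms of morphisms. -/
theorem rel_iff_toHom {F : Sp S} (p q : FieldPt F) :
    FieldPt.Rel p q ↔ ∃ (Ω : Type u) (_ : Field Ω) (w : Spec (CommRingCat.of Ω) ⟶ S)
      (a : Over.mk w ⟶ p.pt) (b : Over.mk w ⟶ q.pt),
      (yon S).map a ≫ p.toHom = (yon S).map b ≫ q.toHom := by
  constructor
  · rintro ⟨Ω, _, w, a, b, h⟩
    refine ⟨Ω, inferInstance, w, a, b, ?_⟩
    rw [← toHom_fieldPtRestrict, ← toHom_fieldPtRestrict]
    congr 1
    simp only [fieldPtRestrict]
    congr 1
  · rintro ⟨Ω, _, w, a, b, h⟩
    refine ⟨Ω, inferInstance, w, a, b, ?_⟩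
    rw [← toHom_fieldPtRestrict, ← toHom_fieldPtRestrict] at h
    have := congrArg (J S).uliftYonedaEquiv h
    erw [FieldPt.uliftYonedaEquiv_toHom, FieldPt.uliftYonedaEquiv_toHom] at this
    exact this

/-- A field valued point in the class of a monomorphic field valued point factors through it:
version with a given fibre product. -/
theorem exists_factor_of_mono_aux {F : Sp S} (p q : FieldPt F) (hm : Mono p.toHom)
    (h : Points.mk q = Points.mk p) {Z : Over S} (φ : Z ⟶ p.pt) (ψ : Z ⟶ q.pt)
    (hpb : IsPullback ((yon S).map φ) ((yon S).map ψ) p.toHom q.toHom) :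
    IsIso ψ ∧ ∃ c : q.pt ⟶ p.pt, (yon S).map c ≫ p.toHom = q.toHom := by
  rw [Points.mk_eq_mk_iff] at h
  obtain ⟨Ω, _, w, a, b, hab⟩ := (rel_iff_toHom q p).1 h
  -- `ψ` is a monomorphism
  have hmψ : Mono ((yon S).map ψ) :=
    (MorphismProperty.monomorphisms _).of_isPullback hpb hm
  have hmψ' : Mono ψ := (yon S).mono_of_mono_map hmψ
  have hmψl : Mono ψ.left := by
    have : Mono ((Over.forget S).map ψ) := inferInstance
    exact this
  -- `Z` is nonempty
  obtain ⟨l, hl⟩ := (yon S).map_surjective (hpb.lift ((yon S).map b) ((yon S).map a) hab.symm)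
  have hne : Nonempty ↥Z.left := ⟨l.left.base (IsLocalRing.closedPoint Ω)⟩
  have hiso : IsIso ψ.left := isIso_of_mono_of_nonempty_of_field (K := q.K) ψ.left
  have hiso' : IsIso ψ := by
    have : IsIso ((Over.forget S).map ψ) := hiso
    exact isIso_of_reflects_iso ψ (Over.forget S)
  refine ⟨hiso', inv ψ ≫ φ, ?_⟩
  rw [Functor.map_comp, Category.assoc, hpb.w, ← Category.assoc, ← Functor.map_comp,
    IsIso.inv_hom_id, CategoryTheory.Functor.map_id, Category.id_comp]

/-- A field valued point in the class of a monomorphic field valued point factors through it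
(for sheaves for which the monomorphic point is representable). -/
theorem exists_factor_of_mono {F : Sp S} (p q : FieldPt F) (hm : Mono p.toHom)
    (hp : Representable p.toHom) (h : Points.mk q = Points.mk p) :
    ∃ c : q.pt ⟶ p.pt, (yon S).map c ≫ p.toHom = q.toHom := by
  obtain ⟨φ, hφ⟩ := (yon S).map_surjective (hp.fst q.toHom)
  have hpb : IsPullback ((yon S).map φ) ((yon S).map (hp.snd q.toHom)) p.toHom q.toHom := by
    rw [hφ]; exact hp.isPullback q.toHom
  exact (exists_factor_of_mono_aux p q hm h φ _ hpb).2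

/-- A split monomorphism between spectra of fields over `S` is an isomorphism. -/
theorem isIso_of_comp_eq_id_of_fields {K L : Type u} [Field K] [Field L]
    {wK : Spec (CommRingCat.of K) ⟶ S} {wL : Spec (CommRingCat.of L) ⟶ S}
    (e : Over.mk wK ⟶ Over.mk wL) (c : Over.mk wL ⟶ Over.mk wK) (h : e ≫ c = 𝟙 _) :
    IsIso e ∧ IsIso c := by
  let e' : Spec (CommRingCat.of K) ⟶ Spec (CommRingCat.of L) := e.left
  let c' : Spec (CommRingCat.of L) ⟶ Spec (CommRingCat.of K) := c.left
  have hleft : e' ≫ c' = 𝟙 _ := congrArg (fun m => m.left) h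
  -- ring level
  have hring : Spec.preimage c' ≫ Spec.preimage e' = 𝟙 _ := by
    apply Spec.map_injective
    rw [Spec.map_comp, Spec.map_preimage, Spec.map_preimage, hleft, Spec.map_id]
  have hsurj : Function.Surjective (Spec.preimage e').hom := by
    intro x
    refine ⟨(Spec.preimage c').hom x, ?_⟩
    have := congrArg (fun m => m.hom x) hring
    simpa using this
  have hinj : Function.Injective (Spec.preimage e').hom :=
    (Spec.preimage e').hom.injective
  have hiso : IsIso (Spec.preimage e') :=
    (ConcreteCategory.isIso_iff_bijective _).mpr ⟨hinj, hsurj⟩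
  have hiso' : IsIso e' := by
    rw [← Spec.map_preimage e']
    infer_instance
  have he : IsIso e := by
    have : IsIso ((Over.forget S).map e) := hiso'
    exact isIso_of_reflects_iso e (Over.forget S)
  refine ⟨he, ?_⟩
  have : c = inv e := by
    rw [← cancel_epi e, h, IsIso.hom_inv_id]
  rw [this]
  infer_instance

/-- The inclusion of the point `u` of a chart `a : h_U ⟶ F`, with source typed as the scheme
underlying the field valued point `FieldPt.ofPt a u`. -/
noncomputable def ofPtHom {F : Sp S} {U : Over S} (a : (yon S).obj U ⟶ F) (u : ↥U.left) :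
    (FieldPt.ofPt a u).pt ⟶ U :=
  ptHom U u

theorem toHom_ofPt' {F : Sp S} {U : Over S} (a : (yon S).obj U ⟶ F) (u : ↥U.left) :
    (FieldPt.ofPt a u).toHom = (yon S).map (ofPtHom a u) ≫ a :=
  FieldPt.toHom_ofPt a u

theorem ofPtHom_left_apply {F : Sp S} {U : Over S} (a : (yon S).obj U ⟶ F) (u : ↥U.left)
    (y : ↥(FieldPt.ofPt a u).pt.left) : (ofPtHom a u).left y = u :=
  Scheme.fromSpecResidueField_apply u y

instance mono_ofPtHom {F : Sp S} {U : Over S} (a : (yon S).obj U ⟶ F) (u : ↥U.left) :
    Mono (ofPtHom a u) :=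
  mono_ptHom U u

/-- A morphism from the spectrum of a field to a scheme over `S` factors through the residue
field of the image point. -/
theorem exists_factor_ptHom {T : Over S} {K : Type u} [Field K] {w : Spec (CommRingCat.of K) ⟶ S}
    (l : Over.mk w ⟶ T) :
    ∃ (v : ↥T.left) (e : Over.mk w ⟶ Over.mk (T.left.fromSpecResidueField v ≫ T.hom)),
      v = l.left (IsLocalRing.closedPoint K) ∧ e ≫ ptHom T v = l := by
  let l' : Spec (CommRingCat.of K) ⟶ T.left := l.left
  have h := Scheme.descResidueField_stalkClosedPointTo_fromSpecResidueField K T.left l'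
  refine ⟨l' (IsLocalRing.closedPoint K),
    Over.homMk (Spec.map (Scheme.descResidueField (Scheme.stalkClosedPointTo l'))) ?_, rfl,
    Over.OverMorphism.ext h⟩
  change _ ≫ T.left.fromSpecResidueField _ ≫ T.hom = w
  rw [← Category.assoc, h]
  exact Over.w l

/-- A morphism from (the scheme of) a field valued point to a chart factors through the residue
field of the image point. -/
theorem exists_factor_ofPtHom {F G : Sp S} (p : FieldPt G) {T : Over S} (a : (yon S).obj T ⟶ F)
    (l : p.pt ⟶ T) :
    ∃ (v : ↥T.left) (e : p.pt ⟶ (FieldPt.ofPt a v).pt),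
      v = l.left (IsLocalRing.closedPoint p.K) ∧ e ≫ ofPtHom a v = l := by
  obtain ⟨v, e, hv, he⟩ := exists_factor_ptHom l
  exact ⟨v, e, hv, he⟩

/-- If a monomorphic field valued point `p` of `F` factors through the residue field of a point
`v` of a chart `a : h_T ⟶ F`, then `v` defines a monomorphic field valued point in the class
of `p`. -/
theorem mono_ofPt_of_factor {F : Sp S} (p : FieldPt F) (hm : Mono p.toHom)
    (hp : Representable p.toHom) {T : Over S} (a : (yon S).obj T ⟶ F) (v : ↥T.left)
    (e : p.pt ⟶ (FieldPt.ofPt a v).pt)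
    (heq : (yon S).map e ≫ (FieldPt.ofPt a v).toHom = p.toHom) :
    Mono (FieldPt.ofPt a v).toHom ∧ Points.ofPt a v = Points.mk p := by
  have hmk : Points.ofPt a v = Points.mk p := by
    change Points.mk (FieldPt.ofPt a v) = Points.mk p
    rw [Points.mk_eq_mk_iff, rel_iff_toHom]
    exact ⟨p.K, inferInstance, p.str, e, 𝟙 _, by
      rw [heq, CategoryTheory.Functor.map_id, Category.id_comp]⟩
  obtain ⟨c, hc⟩ := exists_factor_of_mono p (FieldPt.ofPt a v) hm hp hmk
  have hec : e ≫ c = 𝟙 _ := by
    apply (yon S).map_injective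
    rw [← cancel_mono p.toHom, Functor.map_comp, Category.assoc, hc, heq,
      CategoryTheory.Functor.map_id, Category.id_comp]
  obtain ⟨-, hciso⟩ := isIso_of_comp_eq_id_of_fields e c hec
  refine ⟨?_, hmk⟩
  rw [← hc]
  have h1 : IsIso ((yon S).map c) := @Functor.map_isIso _ _ _ _ _ _ (yon S) c hciso
  have h2 : Mono ((yon S).map c) := inferInstance
  exact @mono_comp _ _ _ _ _ _ h2 _ hm

/-- If a monomorphic field valued point `p` of `F` lifts to a chart `a : h_T ⟶ F`, then the
point of the chart hit by the lift also defines a monomorphic field valued point, in the class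
of `p`. -/
theorem mono_ofPt_of_lift {F : Sp S} (p : FieldPt F) (hm : Mono p.toHom)
    (hp : Representable p.toHom) {T : Over S} (a : (yon S).obj T ⟶ F) (l : p.pt ⟶ T)
    (hl : (yon S).map l ≫ a = p.toHom) :
    Mono (FieldPt.ofPt a (l.left (IsLocalRing.closedPoint p.K))).toHom ∧
      Points.ofPt a (l.left (IsLocalRing.closedPoint p.K)) = Points.mk p := by
  obtain ⟨v, e, hv, he⟩ := exists_factor_ofPtHom p a l
  rw [← hv]
  refine mono_ofPt_of_factor p hm hp a v e ?_
  rw [toHom_ofPt', ← Category.assoc, ← Functor.map_comp, he, hl]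

end Groth.Agent.H52
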