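import Mathlib.AlgebraicGeometry.Properties
import Mathlib.AlgebraicGeometry.GammaSpecAdjunction
import Mathlib.AlgebraicGeometry.Morphisms.Etale
import Mathlib.RingTheory.LocalRing.ResidueField.Ideal

set_option autoImplicit false
universe u
open CategoryTheory AlgebraicGeometry

namespace Groth.Agent.H52

/-- A morphism from a reduced scheme to an affine scheme whose image is a single point factors
through the spectrum of the residue field of that point. -/
theorem exists_factor_residueField_of_isReduced {T : Scheme.{u}} [IsReduced T]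
    {A : CommRingCat.{u}} (h : T ⟶ Spec A) (𝔭 : PrimeSpectrum A) (him : ∀ t : T, h t = 𝔭) :
    ∃ h' : T ⟶ Spec (CommRingCat.of 𝔭.asIdeal.ResidueField),
      h = h' ≫ Spec.map (CommRingCat.ofHom (algebraMap A 𝔭.asIdeal.ResidueField)) := by
  let φ : A ⟶ Γ(T, ⊤) := (Scheme.ΓSpecIso A).inv ≫ h.appTop
  have hh : h = T.toSpecΓ ≫ Spec.map φ := by
    have h1 := Scheme.toSpecΓ_naturality h
    have h2 := toSpecΓ_SpecMap_ΓSpecIso_inv A
    calc h = h ≫ ((Spec A).toSpecΓ ≫ Spec.map (Scheme.ΓSpecIso A).inv) := by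
          rw [h2, Category.comp_id]
      _ = (h ≫ (Spec A).toSpecΓ) ≫ Spec.map (Scheme.ΓSpecIso A).inv := by
          rw [Category.assoc]
      _ = _ := by rw [h1, Category.assoc, ← Spec.map_comp]
  have key : ∀ a : A, T.basicOpen (φ.hom a) = h ⁻¹ᵁ (PrimeSpectrum.basicOpen a) := by
    intro a
    rw [← Scheme.toSpecΓ_preimage_basicOpen]
    conv_rhs => rw [hh]
    rw [Scheme.Hom.comp_preimage]
    congr 1
  have hunit : ∀ a : A, a ∉ 𝔭.asIdeal → IsUnit (φ.hom a) := by
    intro a ha
    refine T.toRingedSpace.isUnit_of_isUnit_germ ⊤ (φ.hom a) fun t _ => ?_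
    have ht : t ∈ T.basicOpen (φ.hom a) := by
      rw [key]
      change h t ∈ PrimeSpectrum.basicOpen a
      rw [him]
      exact ha
    exact (T.mem_basicOpen (φ.hom a) t trivial).1 ht
  have hzero : ∀ a : A, a ∈ 𝔭.asIdeal → φ.hom a = 0 := by
    intro a ha
    rw [← basicOpen_eq_bot_iff, key]
    ext t
    simp only [TopologicalSpace.Opens.coe_bot, Set.mem_empty_iff_false, iff_false]
    intro ht
    have : h t ∈ PrimeSpectrum.basicOpen a := ht
    rw [him] at this
    exact this ha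
  have hf₁ : 𝔭.asIdeal ≤ RingHom.ker φ.hom := fun a ha => hzero a ha
  have hf₂ : 𝔭.asIdeal.primeCompl ≤ (IsUnit.submonoid Γ(T, ⊤)).comap φ.hom :=
    fun a ha => hunit a ha
  let ψ : 𝔭.asIdeal.ResidueField →+* Γ(T, ⊤) := Ideal.ResidueField.lift 𝔭.asIdeal φ.hom hf₁ hf₂
  refine ⟨T.toSpecΓ ≫ Spec.map (CommRingCat.ofHom ψ), ?_⟩
  rw [Category.assoc, ← Spec.map_comp, hh]
  congr 2
  ext a
  exact (Ideal.ResidueField.lift_algebraMap 𝔭.asIdeal φ.hom hf₁ hf₂ a).symm

/-- The spectrum of the residue field of a prime maps to that prime. -/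
theorem specMap_algebraMap_residueField_apply {A : CommRingCat.{u}} (𝔭 : PrimeSpectrum A)
    (z : Spec (CommRingCat.of 𝔭.asIdeal.ResidueField)) :
    Spec.map (CommRingCat.ofHom (algebraMap A 𝔭.asIdeal.ResidueField)) z = 𝔭 := by
  apply PrimeSpectrum.ext
  change Ideal.comap (algebraMap A 𝔭.asIdeal.ResidueField) z.asIdeal = 𝔭.asIdeal
  have hz : z.asIdeal = ⊥ := by
    have := z.isPrime
    exact (Ideal.eq_bot_or_top z.asIdeal).resolve_right z.isPrime.ne_top
  rw [hz, ← RingHom.ker_eq_comap_bot, Ideal.ker_algebraMap_residueField]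

end Groth.Agent.H52
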