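import Groth.Agent.H52.GlueMono
import Groth.Agent.H52.ReducedFactor
import Groth.Agent.H52.MonoPoint
import Groth.Agent.H52.Chart
import Groth.Agent.H47.SmoothReduced
import Groth.Agent.H24.AffineChart

set_option autoImplicit false
universe u
open CategoryTheory CategoryTheory.Limits AlgebraicGeometry Opposite

namespace Groth.Agent.H52

open AlgSp

/-- a scheme covered by affine opens with reduced rings of sections is reduced (as in
`Groth.Agent.H10.isReduced_of_affine_cover`). -/
theorem isReduced_of_affine_cover' (X : Scheme.{u})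
    (h : ∀ x : X, ∃ U : X.Opens, IsAffineOpen U ∧ x ∈ U ∧ _root_.IsReduced Γ(X, U)) :
    AlgebraicGeometry.IsReduced X := by
  choose U hU hxU hred using h
  have hcov : TopologicalSpace.IsOpenCover U := by
    refine TopologicalSpace.IsOpenCover.mk (top_le_iff.1 ?_)
    intro x _
    exact TopologicalSpace.Opens.mem_iSup.2 ⟨x, hxU x⟩
  have : ∀ i, AlgebraicGeometry.IsReduced ((X.openCoverOfIsOpenCover U hcov).X i) := by
    intro x
    change AlgebraicGeometry.IsReduced (U x : Scheme)
    have : IsAffine (U x : Scheme) := hU x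
    have : _root_.IsReduced Γ((U x : Scheme), ⊤) := by
      have hinj : Function.Injective ((U x).topIso.hom.hom) :=
        (ConcreteCategory.bijective_of_isIso (U x).topIso.hom).1
      have := hred x
      exact isReduced_of_injective _ hinj
    exact isReduced_of_isAffine_isReduced _
  exact IsReduced.of_openCover X (X.openCoverOfIsOpenCover U hcov)

/-- The source of an etale morphism to a reduced scheme is reduced. -/
theorem isReduced_of_etale_scheme {X Y : Scheme.{u}} (f : X ⟶ Y) [Etale f]
    [AlgebraicGeometry.IsReduced Y] : AlgebraicGeometry.IsReduced X := by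
  apply isReduced_of_affine_cover'
  intro x
  obtain ⟨V, U, hV, hU, hxU, hUV⟩ := H24.exists_affine_charts f x
  refine ⟨U, hU, hxU, ?_⟩
  have hE : (f.appLE V U hUV).hom.Etale :=
    HasRingHomProperty.appLE (P := @Etale) f inferInstance ⟨V, hV⟩ ⟨U, hU⟩ hUV
  algebraize [(f.appLE V U hUV).hom]
  exact H47.isReduced_of_etale Γ(Y, V) Γ(X, U)

/-- A point of a finite set without internal specializations has an open neighbourhood meeting the
set only in that point. -/
theorem exists_open_inter_subset_singleton {V : Type*} [TopologicalSpace V] (F : Set V)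
    (hF : F.Finite) (hsp : ∀ v ∈ F, ∀ w ∈ F, w ⤳ v → w = v) (v : V) (hv : v ∈ F) :
    ∃ O : Set V, IsOpen O ∧ v ∈ O ∧ O ∩ F ⊆ {v} := by
  refine ⟨⋂ w ∈ F \ {v}, (closure {w})ᶜ, ?_, ?_, ?_⟩
  · exact Set.Finite.isOpen_biInter (hF.subset Set.sdiff_subset)
      fun w _ => isClosed_closure.isOpen_compl
  · simp only [Set.mem_iInter, Set.mem_compl_iff]
    intro w hw hvw
    exact hw.2 (hsp v hv w hw.1 (specializes_iff_mem_closure.2 hvw))
  · rintro z ⟨hzO, hzF⟩
    by_contra hzv
    simp only [Set.mem_iInter, Set.mem_compl_iff] at hzO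
    exact hzO z ⟨hzF, hzv⟩ (subset_closure rfl)

variable {S : Scheme.{u}}

/-- A morphism from a reduced scheme to an algebraic space whose image is a single point, represented
by a quasi-compact monomorphism from the spectrum of a field, factors through that monomorphism. -/
theorem exists_factor_of_reduced_scheme {X : Sp S} (hX : IsAlgSpace X) {T : Over S}
    [AlgebraicGeometry.IsReduced T.left] (f : (yon S).obj T ⟶ X) (p : FieldPt X)
    (hm : Mono p.toHom) (hq : RepWith @QuasiCompact p.toHom)
    (hf : ∀ t : ↥T.left, Points.ofPt f t = Points.mk p) :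
    ∃ g : (yon S).obj T ⟶ (yon S).obj p.pt, g ≫ p.toHom = f := by
  -- an affine etale chart through the point
  obtain ⟨U₀, b₀, hb₀, hbs₀⟩ := hX.atlas
  obtain ⟨u₀, hu₀⟩ := ofPt_surjective_of_repWith_surjective b₀ hbs₀ (Points.mk p)
  obtain ⟨W, hW, hu₀W, -⟩ :=
    exists_isAffineOpen_mem_and_subset (X := U₀.left) (x := u₀) (U := ⊤) trivial
  let V : Over S := Over.mk (W.ι ≫ U₀.hom)
  let b : (yon S).obj V ⟶ X := (yon S).map (openIncl U₀ W) ≫ b₀
  have hb : RepWith @Etale b := repWith_etale_restrict b₀ hb₀ W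
  have hVaff : IsAffine V.left := hW
  have hVc : CompactSpace ↥V.left := inferInstance
  have hv₀ : Points.ofPt b (⟨u₀, hu₀W⟩ : W) = Points.mk p := by
    rw [ofPt_yon_map_comp]; exact hu₀
  -- the finite fibre
  let F : Set ↥V.left := Points.ofPt b ⁻¹' {Points.mk p}
  have hFfin : F.Finite := finite_fibre_of_quasiCompact_point p hq b hb
  have hsp : ∀ v ∈ F, ∀ w ∈ F, w ⤳ v → w = v := by
    intro v hv w hw hs
    refine (eq_of_specializes_of_affine_finite_fibres (Points.mk p) ?_ b hb v w hv hw hs).symm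
    intro V' b' hV' hb'
    exact finite_fibre_of_quasiCompact_point p hq b' hb'
  -- the pullback
  have sq := hb.rep.isPullback f
  obtain ⟨φ, hφ⟩ := (yon S).map_surjective (hb.rep.fst f)
  have sq' : IsPullback ((yon S).map φ) ((yon S).map (hb.rep.snd f)) b f := by
    rw [hφ]; exact sq
  have het : Etale (hb.rep.snd f).left := hb.property_snd f
  have hred : AlgebraicGeometry.IsReduced (hb.rep.pullback f).left :=
    isReduced_of_etale_scheme (hb.rep.snd f).left
  have hφF : ∀ t₁, φ.left t₁ ∈ F := by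
    intro t₁
    change Points.ofPt b (φ.left t₁) = Points.mk p
    rw [(ofPt_eq_iff_of_isPullback sq' (φ.left t₁) ((hb.rep.snd f).left t₁)).2 ⟨t₁, rfl, rfl⟩]
    exact hf _
  have hψs : ∀ t : ↥T.left, ∃ t₁, (hb.rep.snd f).left t₁ = t := by
    intro t
    obtain ⟨t₁, -, ht₁⟩ := (ofPt_eq_iff_of_isPullback sq' (⟨u₀, hu₀W⟩ : W) t).1
      (hv₀.trans (hf t).symm)
    exact ⟨t₁, ht₁⟩
  -- the family
  choose O hOopen hvO hOF using fun v : F =>
    exists_open_inter_subset_singleton F hFfin hsp v.1 v.2
  let Tv : F → (hb.rep.pullback f).left.Opens := fun v => φ.left ⁻¹ᵁ ⟨O v, hOopen v⟩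
  refine exists_factor_of_mono_of_fppf_family (κ := F) p.toHom f
    (fun v => Over.mk ((Tv v).ι ≫ (hb.rep.pullback f).hom))
    (fun v => openIncl _ (Tv v) ≫ hb.rep.snd f) ?_ ?_ ?_ ?_
  · intro v
    change Flat ((Tv v).ι ≫ (hb.rep.snd f).left)
    infer_instance
  · intro v
    change LocallyOfFinitePresentation ((Tv v).ι ≫ (hb.rep.snd f).left)
    infer_instance
  · intro t
    obtain ⟨t₁, rfl⟩ := hψs t
    refine ⟨⟨φ.left t₁, hφF t₁⟩, ⟨⟨t₁, ?_⟩, rfl⟩⟩
    exact hvO ⟨φ.left t₁, hφF t₁⟩
  · intro v
    -- the restriction of `φ` to `Tv v` has image `{v}`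
    let hv : (Tv v).toScheme ⟶ V.left := (Tv v).ι ≫ φ.left
    have him : ∀ t : (Tv v).toScheme, hv t = v.1 := by
      intro t
      have h1 : hv t ∈ O v := t.2
      exact hOF v ⟨h1, hφF _⟩
    let 𝔭 : PrimeSpectrum Γ(V.left, ⊤) := V.left.isoSpec.hom v.1
    obtain ⟨h', hh'⟩ := exists_factor_residueField_of_isReduced (hv ≫ V.left.isoSpec.hom) 𝔭
      (fun t => by
        change V.left.isoSpec.hom (hv t) = _
        rw [him])
    let s : Spec (CommRingCat.of 𝔭.asIdeal.ResidueField) ⟶ V.left :=
      Spec.map (CommRingCat.ofHom (algebraMap Γ(V.left, ⊤) 𝔭.asIdeal.ResidueField)) ≫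
        V.left.isoSpec.inv
    have hhs : hv = h' ≫ s := by
      rw [← Category.assoc, ← hh', Category.assoc, Iso.hom_inv_id, Category.comp_id]
    have hsz : ∀ z, s z = v.1 := by
      intro z
      change V.left.isoSpec.inv (Spec.map _ z) = _
      rw [specMap_algebraMap_residueField_apply]
      change (V.left.isoSpec.hom ≫ V.left.isoSpec.inv) v.1 = v.1
      rw [Iso.hom_inv_id]; rfl
    let ŝ : Over.mk (s ≫ V.hom) ⟶ V := Over.homMk s rfl
    let q : FieldPt X := fieldPtOfHom (s ≫ V.hom) ((yon S).map ŝ ≫ b)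
    have hqp : Points.mk q = Points.mk p := by
      let z : ↥(Spec (CommRingCat.of 𝔭.asIdeal.ResidueField)) :=
        (⊥ : PrimeSpectrum 𝔭.asIdeal.ResidueField)
      rw [← Points.ofPt_toHom q z, toHom_fieldPtOfHom, ofPt_yon_map_comp]
      change Points.ofPt b (s z) = _
      rw [hsz]
      exact v.2
    obtain ⟨c', hc'⟩ := exists_factor_of_mono p q hm hq.rep hqp
    rw [toHom_fieldPtOfHom] at hc'
    let ĥ : Over.mk ((Tv v).ι ≫ (hb.rep.pullback f).hom) ⟶ Over.mk (s ≫ V.hom) :=
      Over.homMk h' (by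
        change h' ≫ s ≫ V.hom = (Tv v).ι ≫ (hb.rep.pullback f).hom
        rw [← Category.assoc, ← hhs, Category.assoc, Over.w φ])
    have hĥ : ĥ ≫ ŝ = openIncl _ (Tv v) ≫ φ := by
      ext
      change h' ≫ s = (Tv v).ι ≫ φ.left
      exact hhs.symm
    refine ⟨(yon S).map ĥ ≫ (yon S).map c', ?_⟩
    rw [Category.assoc, hc', ← Category.assoc, ← Functor.map_comp, hĥ, Functor.map_comp,
      Category.assoc, sq'.w, Functor.map_comp, Category.assoc]

/-- S10373 at the level of sheaves: a morphism from a reduced space to an algebraic space with image a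
single point, represented by a quasi-compact monomorphism from the spectrum of a field, factors
through that monomorphism. -/
theorem exists_factor_of_reduced {Y X : Sp S} (hX : IsAlgSpace X) (f : Y ⟶ X) (p : FieldPt X)
    (hm : Mono p.toHom) (hq : RepWith @QuasiCompact p.toHom)
    (hY : EtaleLocally (fun U => AlgebraicGeometry.IsReduced U) Y)
    (hf : ∀ y : Points Y, Points.map f y = Points.mk p) :
    ∃ g : Y ⟶ (yon S).obj p.pt, g ≫ p.toHom = f := by
  obtain ⟨Y₀, c, hc, hcs, hred⟩ := hY
  have : AlgebraicGeometry.IsReduced Y₀.left := hred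
  obtain ⟨ℓ, hℓ⟩ := exists_factor_of_reduced_scheme hX (c ≫ f) p hm hq
    (fun t => by rw [← Points.map_ofPt, hf])
  have : Epi c := epi_of_repWith_etale_surjective c hc hcs
  exact exists_factor_of_mono_of_epi p.toHom f c ℓ hℓ

/-- S10356: a reduced algebraic space with a single point, represented by a quasi-compact
monomorphism from the spectrum of a field, is that spectrum. -/
theorem isIso_toHom_of_reduced_of_subsingleton {X : Sp S} (hX : IsAlgSpace X) (p : FieldPt X)
    (hm : Mono p.toHom) (hq : RepWith @QuasiCompact p.toHom)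
    (hr : EtaleLocally (fun U => AlgebraicGeometry.IsReduced U) X) [Subsingleton (Points X)] :
    IsIso p.toHom := by
  obtain ⟨g, hg⟩ := exists_factor_of_reduced hX (𝟙 X) p hm hq hr
    (fun y => Subsingleton.elim _ _)
  have : IsSplitEpi p.toHom := IsSplitEpi.mk' ⟨g, hg⟩
  exact isIso_of_mono_of_isSplitEpi p.toHom

end Groth.Agent.H52
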