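import Mathlib.AlgebraicGeometry.Morphisms.Etale
import Mathlib.AlgebraicGeometry.Morphisms.QuasiFinite
import Mathlib.AlgebraicGeometry.Morphisms.QuasiCompact
import Mathlib.AlgebraicGeometry.Morphisms.UniversallyOpen
import Mathlib.RingTheory.Unramified.LocalStructure

set_option autoImplicit false
universe u
open CategoryTheory CategoryTheory.Limits AlgebraicGeometry Opposite TopologicalSpace

namespace Groth.Agent.H52

/-- Any morphism of schemes whose source has a finite underlying space is quasi-compact. -/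
theorem quasiCompact_of_finite {X Y : Scheme.{u}} (f : X ⟶ Y) [Finite ↥X] : QuasiCompact f :=
  ⟨fun _ _ _ => (Set.toFinite _).isCompact⟩

instance finite_spec_field (K : Type u) [Field K] : Finite ↥(Spec (CommRingCat.of K)) :=
  inferInstanceAs (Finite (PrimeSpectrum K))

/-- Etale morphisms of schemes are locally quasi-finite. -/
theorem etale_locallyQuasiFinite {X Y : Scheme.{u}} (f : X ⟶ Y) [Etale f] :
    LocallyQuasiFinite f := by
  constructor
  intro U hU V hV e
  have h := f.etale_appLE hU hV e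
  rw [RingHom.QuasiFinite]
  algebraize [(f.appLE U V e).hom]
  have : Algebra.Etale Γ(Y, U) Γ(X, V) := h
  infer_instance

/-- No nontrivial specializations inside a fibre of a locally quasi-finite morphism. -/
theorem eq_of_specializes_of_locallyQuasiFinite {X Y : Scheme.{u}} (f : X ⟶ Y)
    [LocallyQuasiFinite f] {x x' : X} (h : x' ⤳ x) (e : f x' = f x) : x' = x := by
  have hd : _root_.IsDiscrete (f ⁻¹' {f x}) := f.isDiscrete_preimage_singleton (f x)
  rw [isDiscrete_iff_discreteTopology] at hd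
  have hx : x ∈ f ⁻¹' {f x} := rfl
  have hx' : x' ∈ f ⁻¹' {f x} := e
  have hs : (⟨x', hx'⟩ : ↥(f ⁻¹' {f x})) ⤳ ⟨x, hx⟩ := by
    exact Topology.IsInducing.subtypeVal.specializes_iff.mp h
  have := hs.eq
  exact congrArg Subtype.val this

/-- For a ring map, a point in the closure of the image of `Spec` is a specialization of a point
of the image. -/
theorem exists_comap_specializes {R A : Type u} [CommRing R] [CommRing A] (φ : A →+* R)
    (y : PrimeSpectrum A) (hy : y ∈ closure (Set.range (PrimeSpectrum.comap φ))) :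
    ∃ q : PrimeSpectrum R, PrimeSpectrum.comap φ q ⤳ y := by
  rw [PrimeSpectrum.closure_range_comap] at hy
  have hy' : RingHom.ker φ ≤ y.asIdeal := hy
  have hker : RingHom.ker φ = (⊥ : Ideal R).comap φ := rfl
  rw [hker] at hy'
  obtain ⟨p, hp₁, hp₂⟩ := Ideal.exists_minimalPrimes_le hy'
  obtain ⟨p', hp', -, hpe⟩ := Ideal.exists_comap_eq_of_mem_minimalPrimes φ _ hp₁
  refine ⟨⟨p', hp'⟩, ?_⟩
  rw [← PrimeSpectrum.le_iff_specializes]
  change p'.comap φ ≤ y.asIdeal
  rw [hpe]
  exact hp₂

/-- For a quasi-compact morphism, a point in the closure of the image is a specialization of a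
point of the image. -/
theorem exists_specializes_of_mem_closure_range {X Y : Scheme.{u}} (f : X ⟶ Y) [QuasiCompact f]
    (y : Y) (hy : y ∈ closure (Set.range f)) : ∃ x : X, f x ⤳ y := by
  obtain ⟨_, ⟨V, hV, rfl⟩, hyV, -⟩ :=
    Y.isBasis_affineOpens.exists_subset_of_mem_open (Set.mem_univ y) isOpen_univ
  have hV' : IsAffineOpen V := hV
  have hc : IsCompact (f ⁻¹ᵁ V : Set X) := f.isCompact_preimage hV'.isCompact
  obtain ⟨R, g, hg⟩ := isCompact_iff_exists.mp hc
  have hrange : Set.range (g ≫ f) ⊆ Set.range hV'.fromSpec := by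
    rintro _ ⟨r, rfl⟩
    rw [hV'.range_fromSpec]
    have : g r ∈ (f ⁻¹ᵁ V : Set X) := hg ▸ Set.mem_range_self r
    simpa using this
  obtain ⟨k, hk⟩ : ∃ k : Spec R ⟶ Spec Γ(Y, V), k ≫ hV'.fromSpec = g ≫ f :=
    ⟨IsOpenImmersion.lift hV'.fromSpec (g ≫ f) hrange, IsOpenImmersion.lift_fac _ _ _⟩
  obtain ⟨y₀, rfl⟩ : y ∈ Set.range hV'.fromSpec := by rw [hV'.range_fromSpec]; exact hyV
  obtain ⟨φ, rfl⟩ : ∃ φ : Γ(Y, V) ⟶ R, Spec.map φ = k := ⟨Spec.preimage k, Spec.map_preimage k⟩
  have hy₀ : y₀ ∈ closure (Set.range (Spec.map φ)) := by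
    rw [mem_closure_iff]
    intro N hN hyN
    have hopen : IsOpen (hV'.fromSpec '' N) := hV'.fromSpec.isOpenEmbedding.isOpenMap N hN
    obtain ⟨_, ⟨n, hn, rfl⟩, ⟨x, hx⟩⟩ :=
      mem_closure_iff.mp hy _ hopen ⟨y₀, hyN, rfl⟩
    have hxV : x ∈ (f ⁻¹ᵁ V : Set X) := by
      change f x ∈ (V : Set Y)
      rw [hx, ← hV'.range_fromSpec]
      exact Set.mem_range_self n
    rw [← hg] at hxV
    obtain ⟨r, rfl⟩ := hxV
    refine ⟨n, hn, r, ?_⟩
    apply hV'.fromSpec.isOpenEmbedding.injective
    rw [← hx]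
    exact congrArg (fun m => m r) (congrArg (fun m => m.base) hk)
  obtain ⟨q, hq⟩ := exists_comap_specializes φ.hom y₀ hy₀
  refine ⟨g q, ?_⟩
  have h1 : (g ≫ f) q = hV'.fromSpec ((Spec.map φ) q) := by
    rw [← hk]; rfl
  change (g ≫ f) q ⤳ _
  rw [h1]
  exact Specializes.map hq hV'.fromSpec.continuous

/-- A quasi-compact open meets each fibre of a locally quasi-finite morphism in a finite set. -/
theorem finite_inter_preimage_singleton {W U : Scheme.{u}} (q : W ⟶ U) [LocallyQuasiFinite q]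
    (K : W.Opens) (hK : IsCompact (K : Set W)) (u : U) : ((K : Set W) ∩ q ⁻¹' {u}).Finite := by
  have hqc : QuasiCompact (q.fiberι u) := by
    have : QuasiCompact (U.fromSpecResidueField u) := quasiCompact_of_finite _
    exact MorphismProperty.pullback_fst (P := @QuasiCompact) _ _ this
  have hc : IsCompact ((q.fiberι u) ⁻¹' (K : Set W)) := (q.fiberι u).isCompact_preimage hK
  have hd : DiscreteTopology (q.fiber u) := inferInstance
  have hfin : ((q.fiberι u) ⁻¹' (K : Set W)).Finite := hc.finite_of_discrete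
  have : (K : Set W) ∩ q ⁻¹' {u} = (q.fiberι u) '' ((q.fiberι u) ⁻¹' (K : Set W)) := by
    rw [Set.image_preimage_eq_inter_range, q.range_fiberι]
  rw [this]
  exact hfin.image _

end Groth.Agent.H52
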