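import Groth.Agent.H52.Decent
import Groth.Agent.H52.SchemeLemmas

set_option autoImplicit false
universe u
open CategoryTheory CategoryTheory.Limits AlgebraicGeometry Opposite

namespace Groth.Agent.H52

open AlgSp

variable {S : Scheme.{u}}

/-- The inclusion of an open subscheme of a scheme over `S`, as a morphism over `S`. -/
noncomputable abbrev openIncl (U : Over S) (W : U.left.Opens) : Over.mk (W.ι ≫ U.hom) ⟶ U :=
  Over.homMk W.ι rfl

theorem repWith_etale_restrict {F : Sp S} {U : Over S} (a : (yon S).obj U ⟶ F)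
    (ha : RepWith @Etale a) (W : U.left.Opens) :
    RepWith @Etale ((yon S).map (openIncl U W) ≫ a) := by
  refine (RepWith @Etale).comp_mem _ _ ?_ ha
  rw [repWith_yon_map_iff]
  change Etale W.ι
  infer_instance

/-- A finite set in a T0 space has, above each of its points, a maximal generization. -/
theorem exists_maximal_generization {X : Type*} [TopologicalSpace X] [T0Space X] (Φ : Set X)
    (hΦ : Φ.Finite) (u : X) (hu : u ∈ Φ) :
    ∃ v ∈ Φ, v ⤳ u ∧ ∀ w ∈ Φ, w ⤳ v → w = v := by
  let _ := specializationPreorder X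
  have hG : {v ∈ Φ | v ⤳ u}.Finite := hΦ.subset (fun _ h => h.1)
  obtain ⟨v, ⟨hv1, hv2⟩, hmax⟩ :=
    Set.Finite.exists_maximalFor id {v ∈ Φ | v ⤳ u} hG ⟨u, hu, specializes_rfl⟩
  refine ⟨v, hv1, hv2, fun w hw hwv => ?_⟩
  have h1 : v ⤳ w := hmax ⟨hw, hwv.trans hv2⟩ hwv
  exact (hwv.antisymm h1).eq

/-- Core statement: no nontrivial specializations within a finite fibre of an etale chart. -/
theorem eq_of_specializes_of_finite_fibre {F : Sp S} {U : Over S} (a : (yon S).obj U ⟶ F)
    (ha : RepWith @Etale a) (x : Points F) (hfin : (Points.ofPt a ⁻¹' {x}).Finite)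
    (u u' : ↥U.left) (hu : Points.ofPt a u = x) (hu' : Points.ofPt a u' = x) (hs : u' ⤳ u) :
    u = u' := by
  by_contra hne
  obtain ⟨v, hvΦ, hvu', hvmax⟩ := exists_maximal_generization _ hfin u' hu'
  have hvu : v ⤳ u := hvu'.trans hs
  have hvne : v ≠ u := by
    rintro rfl
    exact hne (hvu'.antisymm hs).eq
  -- the relation R = U ×_F U
  obtain ⟨φ, hφ⟩ := (yon S).map_surjective (ha.rep.fst a)
  have hpb : IsPullback ((yon S).map φ) ((yon S).map (ha.rep.snd a)) a a := by
    rw [hφ]; exact ha.rep.isPullback a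
  have hetφ : Etale φ.left := ha.property a _ φ hpb.flip
  have hets : Etale (ha.rep.snd a).left := ha.property_snd a
  obtain ⟨r, hr1, hr2⟩ := (ofPt_eq_iff_of_isPullback hpb u v).1 (hu.trans hvΦ.symm)
  -- lift the generization v ⤳ u along φ
  have hgen : GeneralizingMap φ.left := Flat.generalizingMap φ.left
  obtain ⟨r', hr'r, hr'v⟩ := hgen (hr1 ▸ hvu : v ⤳ φ.left r)
  have h2 : (ha.rep.snd a).left r' ⤳ v := by
    rw [← hr2]
    exact hr'r.map (ha.rep.snd a).left.continuous
  have h3 : (ha.rep.snd a).left r' ∈ Points.ofPt a ⁻¹' {x} := by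
    change Points.ofPt a _ = x
    rw [← (ofPt_eq_iff_of_isPullback hpb _ _).2 ⟨r', rfl, rfl⟩, hr'v]
    exact hvΦ
  have h4 : (ha.rep.snd a).left r' = v := hvmax _ h3 h2
  have := etale_locallyQuasiFinite (ha.rep.snd a).left
  have h5 : r' = r :=
    eq_of_specializes_of_locallyQuasiFinite (ha.rep.snd a).left hr'r (h4.trans hr2.symm)
  apply hvne
  rw [← hr'v, h5, hr1]

end Groth.Agent.H52

namespace Groth.Agent.H52

open AlgSp

variable {S : Scheme.{u}}

/-- S10341 for sheaves: finiteness of the fibres of affine etale charts over `x` rules out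
nontrivial specializations in the fibre of any etale chart. -/
theorem eq_of_specializes_of_affine_finite_fibres {F : Sp S} (x : Points F)
    (hx : ∀ (V : Over S) (b : (yon S).obj V ⟶ F), IsAffine V.left → RepWith @Etale b →
      (Points.ofPt b ⁻¹' {x}).Finite)
    {U : Over S} (a : (yon S).obj U ⟶ F) (ha : RepWith @Etale a) (u u' : ↥U.left)
    (hu : Points.ofPt a u = x) (hu' : Points.ofPt a u' = x) (hs : u' ⤳ u) : u = u' := by
  obtain ⟨_, ⟨W, hW, rfl⟩, huW, -⟩ :=
    U.left.isBasis_affineOpens.exists_subset_of_mem_open (Set.mem_univ u) isOpen_univ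
  have hW' : IsAffineOpen W := hW
  have hu'W : u' ∈ W := hs.mem_open W.isOpen huW
  let a₀ := (yon S).map (openIncl U W) ≫ a
  have ha₀ : RepWith @Etale a₀ := repWith_etale_restrict a ha W
  let w : ↥(Over.mk (Scheme.Opens.ι W ≫ U.hom)).left := ⟨u, huW⟩
  let w' : ↥(Over.mk (Scheme.Opens.ι W ≫ U.hom)).left := ⟨u', hu'W⟩
  have hw : Points.ofPt a₀ w = x := by
    rw [ofPt_yon_map_comp]; exact hu
  have hw' : Points.ofPt a₀ w' = x := by
    rw [ofPt_yon_map_comp]; exact hu'
  have hsw : w' ⤳ w := by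
    have : (Scheme.Opens.ι W) w' ⤳ (Scheme.Opens.ι W) w := hs
    exact (Scheme.Opens.ι W).isOpenEmbedding.isInducing.specializes_iff.mp this
  have hfin := hx _ a₀ hW' ha₀
  have := eq_of_specializes_of_finite_fibre a₀ ha₀ x hfin w w' hw hw' hsw
  exact congrArg Subtype.val this

instance subsingleton_fieldPt_pt {F : Sp S} (q : FieldPt F) : Subsingleton ↥q.pt.left :=
  inferInstanceAs (Subsingleton (PrimeSpectrum q.K))

/-- The fibre product of a chart with a field valued point, as a scheme. -/
theorem exists_fibre_scheme {F : Sp S} (q : FieldPt F) {V : Over S} (b : (yon S).obj V ⟶ F)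
    (hb : Representable b) :
    ∃ (Z : Over S) (φ : Z ⟶ V) (ψ : Z ⟶ q.pt),
      IsPullback ((yon S).map φ) ((yon S).map ψ) b q.toHom ∧
      Set.range φ.left = Points.ofPt b ⁻¹' {Points.mk q} := by
  obtain ⟨φ, hφ⟩ := (yon S).map_surjective (hb.fst q.toHom)
  have hpb : IsPullback ((yon S).map φ) ((yon S).map (hb.snd q.toHom)) b q.toHom := by
    rw [hφ]; exact hb.isPullback q.toHom
  refine ⟨_, φ, hb.snd q.toHom, hpb, ?_⟩
  ext v
  simp only [Set.mem_range, Set.mem_preimage, Set.mem_singleton_iff]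
  rw [← Points.ofPt_toHom q (IsLocalRing.closedPoint q.K), ofPt_eq_iff_of_isPullback hpb]
  constructor
  · rintro ⟨z, hz⟩
    exact ⟨z, hz, Subsingleton.elim _ _⟩
  · rintro ⟨z, hz, -⟩
    exact ⟨z, hz⟩

/-- A point represented by a quasi-compact morphism from a field has finite fibres in
quasi-compact etale charts. -/
theorem finite_fibre_of_quasiCompact_point {F : Sp S} (q : FieldPt F)
    (hq : RepWith @QuasiCompact q.toHom) {V : Over S} (b : (yon S).obj V ⟶ F)
    (hb : RepWith @Etale b) [CompactSpace ↥V.left] :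
    (Points.ofPt b ⁻¹' {Points.mk q}).Finite := by
  obtain ⟨Z, φ, ψ, hpb, hrange⟩ := exists_fibre_scheme q b hb.rep
  have hqc : QuasiCompact φ.left := hq.property b _ φ hpb.flip
  have het : Etale ψ.left := hb.property q.toHom _ ψ hpb
  have : CompactSpace ↥Z.left := QuasiCompact.compactSpace_of_compactSpace φ.left
  have := etale_locallyQuasiFinite ψ.left
  have hd : _root_.IsDiscrete (ψ.left ⁻¹' {IsLocalRing.closedPoint q.K}) :=
    ψ.left.isDiscrete_preimage_singleton _
  have huniv : ψ.left ⁻¹' {IsLocalRing.closedPoint q.K} = Set.univ := by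
    ext z; simp only [Set.mem_preimage, Set.mem_univ, iff_true]
    exact Subsingleton.elim _ _
  rw [huniv, isDiscrete_univ_iff] at hd
  have : Finite ↥Z.left := finite_of_compact_of_discrete
  rw [← hrange]
  exact Set.finite_range _

/-- S10340 for sheaves. -/
theorem eq_of_specializes_of_isDecent {F : Sp S} (hF : IsDecent F) {U : Over S}
    (a : (yon S).obj U ⟶ F) (ha : RepWith @Etale a) (u u' : ↥U.left)
    (he : Points.ofPt a u = Points.ofPt a u') (hs : u' ⤳ u) : u = u' := by
  obtain ⟨q, hq, -, hqc⟩ := hF (Points.ofPt a u)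
  refine eq_of_specializes_of_affine_finite_fibres (Points.ofPt a u) ?_ a ha u u' rfl he.symm hs
  intro V b hV hb
  rw [← hq]
  exact finite_fibre_of_quasiCompact_point q hqc b hb

/-- S10343 for sheaves: generizations lift to etale charts at points represented by
quasi-compact morphisms. -/
theorem exists_specializes_lift {F : Sp S} (x x' : Points F) (h : x' ⤳ x) (p : FieldPt F)
    (hp : Points.mk p = x') (hpq : RepWith @QuasiCompact p.toHom) {U : Over S}
    (a : (yon S).obj U ⟶ F) (ha : RepWith @Etale a) (u : ↥U.left) (hu : Points.ofPt a u = x) :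
    ∃ u' : ↥U.left, u' ⤳ u ∧ Points.ofPt a u' = x' := by
  obtain ⟨Z, φ, ψ, hpb, hrange⟩ := exists_fibre_scheme p a ha.rep
  have hqc : QuasiCompact φ.left := hpq.property a _ φ hpb.flip
  have hcl : u ∈ closure (Set.range φ.left) := by
    rw [mem_closure_iff]
    intro N hN huN
    have hopen : IsOpen (Points.ofPt a '' N) := isOpenMap_ofPt_of_repWith_etale a ha N hN
    have hx'N : x' ∈ Points.ofPt a '' N := h.mem_open hopen ⟨u, huN, hu⟩
    obtain ⟨n, hn, hn'⟩ := hx'N
    refine ⟨n, hn, ?_⟩
    rw [hrange, hp]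
    exact hn'
  obtain ⟨z, hz⟩ := exists_specializes_of_mem_closure_range φ.left u hcl
  refine ⟨φ.left z, hz, ?_⟩
  have : φ.left z ∈ Points.ofPt a ⁻¹' {Points.mk p} := hrange ▸ Set.mem_range_self z
  rw [← hp]
  exact this

/-- S10338 for sheaves with an etale atlas: the space of points of a decent space is T0. -/
theorem t0Space_points_of_isDecent {F : Sp S} (hF : IsDecent F) {U : Over S}
    (a : (yon S).obj U ⟶ F) (ha : RepWith @Etale a) (hsurj : RepWith @Surjective a) :
    T0Space (Points F) := by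
  refine ⟨fun x y hxy => ?_⟩
  obtain ⟨u, hu⟩ := ofPt_surjective_of_repWith_surjective a hsurj x
  obtain ⟨py, hpy, -, hpyq⟩ := hF y
  obtain ⟨px, hpx, -, hpxq⟩ := hF x
  obtain ⟨u', hu'u, hu'⟩ := exists_specializes_lift x y hxy.specializes'  py hpy hpyq a ha u hu
  obtain ⟨u'', hu''u', hu''⟩ :=
    exists_specializes_lift y x hxy.specializes px hpx hpxq a ha u' hu'
  have h1 : u = u'' :=
    eq_of_specializes_of_isDecent hF a ha u u'' (hu.trans hu''.symm) (hu''u'.trans hu'u)
  have h2 : u = u' := ((h1 ▸ hu''u').antisymm hu'u).eq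
  rw [← hu, ← hu', h2]

end Groth.Agent.H52
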