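import Groth.Agent.H52.JacobsonTop
import Groth.Agent.H52.Atlas
import Groth.Agent.H52.Chart
import Groth.Agent.H52.Special
import Groth.Agent.H52.ReducedPoint
import Groth.Agent.H50.LocPClass
import Mathlib.AlgebraicGeometry.Morphisms.Finite

set_option autoImplicit false
universe u
open CategoryTheory CategoryTheory.Limits AlgebraicGeometry Opposite

namespace Groth.Agent.H52

open AlgSp

/-- The target of a surjective etale morphism from a Jacobson scheme is Jacobson. -/
theorem jacobsonSpace_of_etale_surjective {W' W : Scheme.{u}} (f : W' ⟶ W) [Etale f]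
    [Surjective f] [JacobsonSpace ↥W'] : JacobsonSpace ↥W := by
  have := H50.locallyQuasiFinite_of_etale f
  exact jacobsonSpace_of_isOpenMap_of_surjective f.continuous f.isOpenMap f.surjective
    (Flat.generalizingMap f) f.isDiscrete_preimage_singleton

variable {S : Scheme.{u}}

/-- A scheme locally of finite type over a Jacobson algebraic space is Jacobson. -/
theorem jacobsonSpace_of_locP_lft {X : Sp S} (hX : EtaleLocally (fun U => JacobsonSpace ↥U) X)
    {W : Over S} (g : (yon S).obj W ⟶ X) (hg : LocP @LocallyOfFiniteType g) :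
    JacobsonSpace ↥W.left := by
  obtain ⟨U₀, b, hb, hbs, hJ⟩ := hX
  obtain ⟨V, a', h, ha', has', hcomm⟩ := exists_chart_diagram g (𝟙 ((yon S).obj W))
    (repWith_id _ W) (repWith_id _ W) b hb hbs
  have hft : LocallyOfFiniteType h.left := hg a' b h ha' hb hcomm
  have : JacobsonSpace ↥U₀.left := hJ
  have : JacobsonSpace ↥V.left := LocallyOfFiniteType.jacobsonSpace h.left
  obtain ⟨e, rfl⟩ := (yon S).map_surjective a'
  have : Etale e.left := (repWith_yon_map_iff @Etale e).1 ha'
  have : Surjective e.left := (repWith_yon_map_iff @Surjective e).1 has'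
  exact jacobsonSpace_of_etale_surjective e.left

/-- S10402. -/
theorem exists_closedPoint_over_ftPt {X : Sp S} (hX : EtaleLocally (fun U => JacobsonSpace ↥U) X)
    (x : Points X) (hx : HasAt (fun U u => IsClosed ({u} : Set ↥U)) X x) {W : Over S}
    (g : (yon S).obj W ⟶ X) (hg : LocP @LocallyOfFiniteType g)
    (hxW : x ∈ Set.range (Points.ofPt g)) :
    ∃ w : ↥W.left, IsClosed ({w} : Set ↥W.left) ∧ Points.ofPt g w = x := by
  obtain ⟨U, a, u, ha, hau, hu⟩ := hx
  obtain ⟨w₀, hw₀⟩ := hxW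
  have hWJ : JacobsonSpace ↥W.left := jacobsonSpace_of_locP_lft hX g hg
  have sq := ha.rep.isPullback g
  obtain ⟨φ, hφ⟩ := (yon S).map_surjective (ha.rep.fst g)
  have sq' : IsPullback ((yon S).map φ) ((yon S).map (ha.rep.snd g)) a g := by
    rw [hφ]; exact sq
  have het : Etale (ha.rep.snd g).left := ha.property_snd g
  obtain ⟨p₀, hp₀1, hp₀2⟩ := (ofPt_eq_iff_of_isPullback sq' u w₀).1 (hau.trans hw₀.symm)
  have hPJ : JacobsonSpace ↥(ha.rep.pullback g).left :=
    LocallyOfFiniteType.jacobsonSpace (ha.rep.snd g).left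
  obtain ⟨p, hpF, hpcl⟩ := nonempty_inter_closedPoints (Z := φ.left ⁻¹' {u}) ⟨p₀, hp₀1⟩
    ((hu.preimage φ.left.continuous).isLocallyClosed)
  refine ⟨(ha.rep.snd g).left p, ?_, ?_⟩
  · exact (ha.rep.snd g).left.closePoints_subset_preimage_closedPoints hpcl
  · rw [← (ofPt_eq_iff_of_isPullback sq' (φ.left p) ((ha.rep.snd g).left p)).2 ⟨p, rfl, rfl⟩]
    have : φ.left p = u := hpF
    rw [this, hau]

/-- A point of an etale chart over a closed point of another etale chart of a Jacobson space is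
closed. -/
theorem isClosed_singleton_of_ofPt_eq {X : Sp S} {U U₀ : Over S} (a : (yon S).obj U ⟶ X)
    (ha : RepWith @Etale a) (b : (yon S).obj U₀ ⟶ X) (hb : RepWith @Etale b)
    [JacobsonSpace ↥U₀.left] (u : ↥U.left) (hu : IsClosed ({u} : Set ↥U.left)) (z : ↥U₀.left)
    (h : Points.ofPt a u = Points.ofPt b z) : IsClosed ({z} : Set ↥U₀.left) := by
  have sq := ha.rep.isPullback b
  obtain ⟨φ, hφ⟩ := (yon S).map_surjective (ha.rep.fst b)
  have sq' : IsPullback ((yon S).map φ) ((yon S).map (ha.rep.snd b)) a b := by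
    rw [hφ]; exact sq
  have het : Etale (ha.rep.snd b).left := ha.property_snd b
  have het1 : Etale φ.left := by
    have h1 : RepWith @Etale ((yon S).map φ) := MorphismProperty.of_isPullback sq'.flip hb
    exact (repWith_yon_map_iff @Etale φ).1 h1
  obtain ⟨p, hp1, hp2⟩ := (ofPt_eq_iff_of_isPullback sq' u z).1 h
  have := H50.locallyQuasiFinite_of_etale φ.left
  have hpcl : IsClosed ({p} : Set ↥(ha.rep.pullback b).left) := by
    rw [← closure_subset_iff_isClosed]
    intro y hy
    have hpy : p ⤳ y := specializes_iff_mem_closure.2 hy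
    have hyF : φ.left y = u := by
      have h1 : φ.left p ⤳ φ.left y := hpy.map φ.left.continuous
      rw [hp1] at h1
      have h2 : φ.left y ∈ closure ({u} : Set ↥U.left) := specializes_iff_mem_closure.1 h1
      rw [hu.closure_eq] at h2
      exact h2
    exact (eq_of_specializes_of_isDiscrete_fibre φ.left.isDiscrete_preimage_singleton hpy
      (hp1.trans hyF.symm)).symm
  have := (ha.rep.snd b).left.closePoints_subset_preimage_closedPoints hpcl
  rw [Set.mem_preimage, hp2] at this
  exact this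

/-- S10403. -/
theorem ftPt_iff_isClosed {X : Sp S} (hd : IsDecent X)
    (hX : EtaleLocally (fun U => JacobsonSpace ↥U) X) (x : Points X) :
    HasAt (fun U u => IsClosed ({u} : Set ↥U)) X x ↔ IsClosed ({x} : Set (Points X)) := by
  obtain ⟨U₀, b, hb, hbs, hJ⟩ := hX
  have : JacobsonSpace ↥U₀.left := hJ
  have hq : Topology.IsQuotientMap (Points.ofPt b) :=
    (isOpenMap_ofPt_of_repWith_etale b hb).isQuotientMap (Points.continuous_ofPt b)
      (ofPt_surjective_of_repWith_surjective b hbs)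
  constructor
  · rintro ⟨U, a, u, ha, hau, hu⟩
    rw [← hq.isClosed_preimage, ← closure_subset_iff_isClosed]
    intro z hz
    have hz' : z ∈ Points.ofPt b ⁻¹' closure {x} := by
      rw [(isOpenMap_ofPt_of_repWith_etale b hb).preimage_closure_eq_closure_preimage
        (Points.continuous_ofPt b)]
      exact hz
    have hxz : x ⤳ Points.ofPt b z := specializes_iff_mem_closure.2 hz'
    obtain ⟨q, hq1, -, hq3⟩ := hd x
    obtain ⟨z', hz'z, hz'x⟩ := exists_specializes_lift (Points.ofPt b z) x hxz q hq1 hq3 b hb z rfl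
    have hz'cl : IsClosed ({z'} : Set ↥U₀.left) :=
      isClosed_singleton_of_ofPt_eq a ha b hb u hu z' (hau.trans hz'x.symm)
    have h2 : z ∈ closure ({z'} : Set ↥U₀.left) := specializes_iff_mem_closure.1 hz'z
    rw [hz'cl.closure_eq] at h2
    rw [Set.mem_singleton_iff] at h2
    rw [h2]
    exact hz'x
  · intro hx
    obtain ⟨u₀, hu₀⟩ := ofPt_surjective_of_repWith_surjective b hbs x
    obtain ⟨p, hpF, hpcl⟩ := nonempty_inter_closedPoints (Z := Points.ofPt b ⁻¹' {x}) ⟨u₀, hu₀⟩
      ((hx.preimage (Points.continuous_ofPt b)).isLocallyClosed)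
    exact ⟨U₀, b, p, hb, hpF, hpcl⟩

/-- The fibres of an etale chart of a decent space are discrete. -/
theorem isDiscrete_fibre_of_isDecent {X : Sp S} (hd : IsDecent X) {U : Over S}
    (a : (yon S).obj U ⟶ X) (ha : RepWith @Etale a) (x : Points X) :
    _root_.IsDiscrete (Points.ofPt a ⁻¹' {x}) := by
  rw [isDiscrete_iff_forall_mem_exists_isOpen]
  intro y hy
  obtain ⟨V, hV, hyV, -⟩ :=
    exists_isAffineOpen_mem_and_subset (X := U.left) (x := y) (U := ⊤) trivial
  obtain ⟨q, hq1, -, hq3⟩ := hd x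
  have hVaff : IsAffine V.toScheme := hV
  have : CompactSpace ↥(Over.mk (V.ι ≫ U.hom)).left :=
    inferInstanceAs (CompactSpace ↥V.toScheme)
  have hfin' : (Points.ofPt ((yon S).map (openIncl U V) ≫ a) ⁻¹' {Points.mk q}).Finite :=
    finite_fibre_of_quasiCompact_point q hq3 _ (repWith_etale_restrict a ha V)
  have hfin : ((Points.ofPt a ⁻¹' {x}) ∩ (V : Set ↥U.left)).Finite := by
    refine (hfin'.image (Subtype.val : V → ↥U.left)).subset ?_
    rintro z ⟨hzF, hzV⟩
    refine ⟨⟨z, hzV⟩, ?_, rfl⟩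
    change Points.ofPt ((yon S).map (openIncl U V) ≫ a) ⟨z, hzV⟩ = Points.mk q
    rw [ofPt_yon_map_comp, hq1]
    exact hzF
  have hsp : ∀ v ∈ (Points.ofPt a ⁻¹' {x}) ∩ (V : Set ↥U.left),
      ∀ w ∈ (Points.ofPt a ⁻¹' {x}) ∩ (V : Set ↥U.left), w ⤳ v → w = v := by
    intro v hv w hw hs
    exact (eq_of_specializes_of_isDecent hd a ha v w (hv.1.trans hw.1.symm) hs).symm
  obtain ⟨O, hO, hyO, hOF⟩ := exists_open_inter_subset_singleton _ hfin hsp y ⟨hy, hyV⟩
  refine ⟨O ∩ V, hO.inter V.2, ?_⟩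
  ext z
  constructor
  · rintro ⟨⟨hzO, hzV⟩, hzF⟩
    exact hOF ⟨hzO, hzF, hzV⟩
  · rintro rfl
    exact ⟨⟨hyO, hyV⟩, hy⟩

/-- Generizations lift along etale charts of decent spaces. -/
theorem generalizingMap_ofPt_of_isDecent {X : Sp S} (hd : IsDecent X) {U : Over S}
    (a : (yon S).obj U ⟶ X) (ha : RepWith @Etale a) : GeneralizingMap (Points.ofPt a) := by
  intro u y hy
  obtain ⟨q, hq1, -, hq3⟩ := hd y
  obtain ⟨u', hu'u, hu'⟩ := exists_specializes_lift (Points.ofPt a u) y hy q hq1 hq3 a ha u rfl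
  exact ⟨u', hu'u, hu'⟩

/-- A quasi-compact etale chart of a decent space with Jacobson space of points is Jacobson. -/
theorem jacobsonSpace_chart_of_jacobsonSpace_points {X : Sp S} (hd : IsDecent X)
    [JacobsonSpace (Points X)] {V : Over S} [CompactSpace ↥V.left] (a : (yon S).obj V ⟶ X)
    (ha : RepWith @Etale a) : JacobsonSpace ↥V.left := by
  rw [jacobsonSpace_iff_locallyClosed]
  rintro Z ⟨z, hz⟩ ⟨N, C, hN, hC, rfl⟩
  obtain ⟨q, hq1, -, hq3⟩ := hd (Points.ofPt a z)
  have hfin : (Points.ofPt a ⁻¹' {Points.ofPt a z}).Finite := by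
    rw [← hq1]; exact finite_fibre_of_quasiCompact_point q hq3 a ha
  have hsp : ∀ v ∈ Points.ofPt a ⁻¹' {Points.ofPt a z},
      ∀ w ∈ Points.ofPt a ⁻¹' {Points.ofPt a z}, w ⤳ v → w = v := by
    intro v hv w hw hs
    exact (eq_of_specializes_of_isDecent hd a ha v w (hv.trans hw.symm) hs).symm
  obtain ⟨O, hO, hzO, hOF⟩ := exists_open_inter_subset_singleton _ hfin hsp z rfl
  -- a closed point of `|X|` in `closure {a z} ∩ a (N ∩ O)`
  have hopen : IsOpen (Points.ofPt a '' (N ∩ O)) :=
    isOpenMap_ofPt_of_repWith_etale a ha _ (hN.inter hO)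
  obtain ⟨x, ⟨hxT, u, ⟨huN, huO⟩, rfl⟩, hxcl⟩ := nonempty_inter_closedPoints
    (Z := closure {Points.ofPt a z} ∩ Points.ofPt a '' (N ∩ O))
    ⟨Points.ofPt a z, subset_closure rfl, z, ⟨hz.1, hzO⟩, rfl⟩
    (isClosed_closure.isLocallyClosed.inter hopen.isLocallyClosed)
  have hzu : Points.ofPt a z ⤳ Points.ofPt a u := specializes_iff_mem_closure.2 hxT
  obtain ⟨z', hz'u, hz'⟩ := generalizingMap_ofPt_of_isDecent hd a ha hzu
  have hz'O : z' ∈ O := hz'u.mem_open hO huO
  have hz'z : z' = z := hOF ⟨hz'O, hz'⟩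
  rw [hz'z] at hz'u
  refine ⟨u, ⟨huN, ?_⟩, ?_⟩
  · have : u ∈ closure ({z} : Set ↥V.left) := specializes_iff_mem_closure.1 hz'u
    exact (closure_minimal (Set.singleton_subset_iff.2 hz.2) hC) this
  · change IsClosed ({u} : Set ↥V.left)
    rw [← closure_subset_iff_isClosed]
    intro y hy
    have huy : u ⤳ y := specializes_iff_mem_closure.2 hy
    have h1 : Points.ofPt a y ∈ closure ({Points.ofPt a u} : Set (Points X)) :=
      specializes_iff_mem_closure.1 (huy.map (Points.continuous_ofPt a))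
    have hxcl' : IsClosed ({Points.ofPt a u} : Set (Points X)) := hxcl
    rw [hxcl'.closure_eq] at h1
    exact eq_of_specializes_of_isDecent hd a ha y u h1 huy

/-- S10404. -/
theorem jacobson_iff_jacobsonSpace_points {X : Sp S} (hXa : IsAlgSpace X) (hd : IsDecent X) :
    EtaleLocally (fun U => JacobsonSpace ↥U) X ↔ JacobsonSpace (Points X) := by
  constructor
  · rintro ⟨U₀, b, hb, hbs, hJ⟩
    have : JacobsonSpace ↥U₀.left := hJ
    exact jacobsonSpace_of_isOpenMap_of_surjective (Points.continuous_ofPt b)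
      (isOpenMap_ofPt_of_repWith_etale b hb) (ofPt_surjective_of_repWith_surjective b hbs)
      (generalizingMap_ofPt_of_isDecent hd b hb) (isDiscrete_fibre_of_isDecent hd b hb)
  · intro hJ
    obtain ⟨U₀, b, hb, hbs⟩ := hXa.atlas
    refine ⟨U₀, b, hb, hbs, ?_⟩
    have hcov : TopologicalSpace.IsOpenCover
        (fun V : U₀.left.affineOpens => (V.1 : TopologicalSpace.Opens ↥U₀.left)) :=
      TopologicalSpace.IsOpenCover.mk (iSup_affineOpens_eq_top U₀.left)
    beta_reduce
    rw [hcov.jacobsonSpace_iff]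
    intro V
    have hVaff : IsAffine V.1.toScheme := V.2
    have : CompactSpace ↥(Over.mk (V.1.ι ≫ U₀.hom)).left :=
      inferInstanceAs (CompactSpace ↥V.1.toScheme)
    exact jacobsonSpace_chart_of_jacobsonSpace_points hd ((yon S).map (openIncl U₀ V.1) ≫ b)
      (repWith_etale_restrict b hb V.1)

end Groth.Agent.H52
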