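import Groth.Agent.H52.StalkDim
import Groth.Agent.H52.Chart
import Groth.Agent.H24.AffineChart
import Groth.Agent.H50.LocPClass
import Mathlib.AlgebraicGeometry.Noetherian

set_option autoImplicit false
universe u
open CategoryTheory CategoryTheory.Limits AlgebraicGeometry Opposite

namespace Groth.Agent.H52

open AlgSp

/-- On a locally Noetherian scheme the dimension of the local ring drops strictly along a
nontrivial generization. -/
theorem ringKrullDim_stalk_lt_of_specializes {U : Scheme.{u}} [IsLocallyNoetherian U] {u u' : U}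
    (h : u' ⤳ u) (hne : u ≠ u') :
    ringKrullDim (U.presheaf.stalk u') < ringKrullDim (U.presheaf.stalk u) := by
  obtain ⟨_, ⟨V, hV, rfl⟩, huV, -⟩ :=
    U.isBasis_affineOpens.exists_subset_of_mem_open (Set.mem_univ u) isOpen_univ
  have hu'V : u' ∈ V := h.mem_open V.2 huV
  rw [H24.ringKrullDim_stalk_eq_height hV u huV, H24.ringKrullDim_stalk_eq_height hV u' hu'V]
  have : IsNoetherianRing Γ(U, V) := IsLocallyNoetherian.component_noetherian ⟨V, hV⟩
  have hs : (⟨u', hu'V⟩ : V) ⤳ ⟨u, huV⟩ := (subtype_specializes_iff _ _).mpr h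
  have hs' : hV.primeIdealOf ⟨u', hu'V⟩ ⤳ hV.primeIdealOf ⟨u, huV⟩ :=
    hs.map hV.isoSpec.hom.continuous
  have hle : hV.primeIdealOf ⟨u', hu'V⟩ ≤ hV.primeIdealOf ⟨u, huV⟩ :=
    (PrimeSpectrum.le_iff_specializes _ _).2 hs'
  have hlt : (hV.primeIdealOf ⟨u', hu'V⟩).asIdeal < (hV.primeIdealOf ⟨u, huV⟩).asIdeal := by
    refine lt_of_le_of_ne hle fun heq => hne ?_
    exact (H24.primeIdealOf_injective hV hu'V huV (PrimeSpectrum.ext heq)).symm
  exact_mod_cast Ideal.height_strict_mono_of_isPrime hlt

variable {S : Scheme.{u}}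

/-- No nontrivial specializations in the fibres of an etale chart from a locally Noetherian
scheme. -/
theorem eq_of_specializes_of_ofPt_eq_of_isLocallyNoetherian {F : Sp S} {U : Over S}
    [IsLocallyNoetherian U.left] (a : (yon S).obj U ⟶ F) (ha : RepWith @Etale a)
    (u u' : ↥U.left) (he : Points.ofPt a u = Points.ofPt a u') (hs : u' ⤳ u) : u = u' := by
  by_contra hne
  have sq := ha.rep.isPullback a
  obtain ⟨φ, hφ⟩ := (yon S).map_surjective (ha.rep.fst a)
  have sq' : IsPullback ((yon S).map φ) ((yon S).map (ha.rep.snd a)) a a := by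
    rw [hφ]; exact sq
  obtain ⟨r, hr1, hr2⟩ := (ofPt_eq_iff_of_isPullback sq' u u').1 he
  have het2 : Etale (ha.rep.snd a).left := ha.property_snd a
  have het1 : Etale φ.left := by
    have h1 : RepWith @Etale ((yon S).map φ) := MorphismProperty.of_isPullback sq'.flip ha
    exact (repWith_yon_map_iff @Etale φ).1 h1
  have := H50.locallyQuasiFinite_of_etale φ.left
  have := H50.locallyQuasiFinite_of_etale (ha.rep.snd a).left
  have e1 : ringKrullDim (U.left.presheaf.stalk u) = ringKrullDim ((ha.rep.pullback a).left.presheaf.stalk r) := by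
    rw [← hr1]
    exact le_antisymm (ringKrullDim_stalk_le_of_flat φ.left r)
      (ringKrullDim_stalk_le_of_isDiscrete_fibres φ.left φ.left.isDiscrete_preimage_singleton r)
  have e2 : ringKrullDim (U.left.presheaf.stalk u') = ringKrullDim ((ha.rep.pullback a).left.presheaf.stalk r) := by
    rw [← hr2]
    exact le_antisymm (ringKrullDim_stalk_le_of_flat (ha.rep.snd a).left r)
      (ringKrullDim_stalk_le_of_isDiscrete_fibres (ha.rep.snd a).left
        (ha.rep.snd a).left.isDiscrete_preimage_singleton r)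
  have hlt := ringKrullDim_stalk_lt_of_specializes hs hne
  rw [e1, e2] at hlt
  exact lt_irrefl _ hlt

/-- S10342: no nontrivial specializations in the fibres of an etale chart of a locally Noetherian
algebraic space. -/
theorem eq_of_specializes_of_ofPt_eq_of_isLocNoethSp {F : Sp S} (hF : IsLocNoethSp F) {U : Over S}
    (a : (yon S).obj U ⟶ F) (ha : RepWith @Etale a)
    (u u' : ↥U.left) (he : Points.ofPt a u = Points.ofPt a u') (hs : u' ⤳ u) : u = u' := by
  obtain ⟨U₀, b, hb, hbs, hN⟩ := hF
  have sq := hb.rep.isPullback a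
  obtain ⟨φ, hφ⟩ := (yon S).map_surjective (hb.rep.fst a)
  have sq' : IsPullback ((yon S).map φ) ((yon S).map (hb.rep.snd a)) b a := by
    rw [hφ]; exact sq
  have het2 : Etale (hb.rep.snd a).left := hb.property_snd a
  have hsurj2 : Surjective (hb.rep.snd a).left := hbs.property_snd a
  have het1 : Etale φ.left := by
    have h1 : RepWith @Etale ((yon S).map φ) := MorphismProperty.of_isPullback sq'.flip ha
    exact (repWith_yon_map_iff @Etale φ).1 h1
  have : IsLocallyNoetherian U₀.left := hN
  have : IsLocallyNoetherian (hb.rep.pullback a).left :=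
    LocallyOfFiniteType.isLocallyNoetherian φ.left
  obtain ⟨w, hw⟩ := hsurj2.surj u
  have hs' : u' ⤳ (hb.rep.snd a).left w := hw ▸ hs
  obtain ⟨w', hw'w, hw'⟩ := Flat.generalizingMap (hb.rep.snd a).left hs'
  have key := eq_of_specializes_of_ofPt_eq_of_isLocallyNoetherian
    ((yon S).map (hb.rep.snd a) ≫ a)
    ((RepWith @Etale).comp_mem _ _ ((repWith_yon_map_iff @Etale _).2 het2) ha) w w'
    (by rw [ofPt_yon_map_comp, ofPt_yon_map_comp, hw, hw', he]) hw'w
  rw [← hw, ← hw', key]

end Groth.Agent.H52
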