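import Groth.Agent.H52.DimZeroSch
import Groth.Agent.H52.NoSpec
import Groth.Agent.H52.JacobsonSp
import Groth.Prelude.Def_Flat

set_option autoImplicit false
universe u
open CategoryTheory CategoryTheory.Limits AlgebraicGeometry Opposite Topology TopologicalSpace

namespace Groth.Agent.H52

open AlgSp

variable {S : Scheme.{u}}

/-- An open subset of an etale chart of a locally Noetherian space on which specializations stay
in the fibres of the chart has dimension at most zero. -/
theorem topologicalKrullDim_le_zero_of_specializes_fibre {X : Sp S} (hN : IsLocNoethSp X)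
    {U : Over S} (a : (yon S).obj U ⟶ X) (ha : RepWith @Etale a) (W : Set ↥U.left)
    (hWo : IsOpen W)
    (hW : ∀ w ∈ W, ∀ w' ∈ W, w' ⤳ w → Points.ofPt a w = Points.ofPt a w') :
    topologicalKrullDim ↥W ≤ 0 := by
  have : QuasiSober ↥W := hWo.isOpenEmbedding_subtypeVal.quasiSober
  unfold topologicalKrullDim
  rw [Order.krullDim_nonpos_iff_forall_isMax]
  intro Z Z' hle
  have hz := Z.isIrreducible'.isGenericPoint_genericPoint Z.isClosed'
  have hz' := Z'.isIrreducible'.isGenericPoint_genericPoint Z'.isClosed'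
  set z := Z.isIrreducible'.genericPoint
  set z' := Z'.isIrreducible'.genericPoint
  have hsp : z' ⤳ z := by
    rw [specializes_iff_mem_closure, hz'.def]
    exact hle hz.mem
  have hsp' : z'.1 ⤳ z.1 := (subtype_specializes_iff _ _).1 hsp
  have := eq_of_specializes_of_ofPt_eq_of_isLocNoethSp hN a ha z.1 z'.1
    (hW z.1 z.2 z'.1 z'.2 hsp') hsp'
  have hzz : z = z' := Subtype.ext this
  apply le_of_eq
  apply IrreducibleCloseds.ext
  change Z'.carrier = Z.carrier
  rw [← hz.def, ← hz'.def, hzz]

/-- The Krull dimension of a nonempty space is nonnegative. -/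
theorem topologicalKrullDim_nonneg_of_nonempty (T : Type*) [TopologicalSpace T] [Nonempty T] :
    0 ≤ topologicalKrullDim T := by
  have : Nonempty (IrreducibleCloseds T) :=
    ⟨⟨closure {Classical.arbitrary T}, isIrreducible_singleton.closure, isClosed_closure⟩⟩
  exact Order.krullDim_nonneg

theorem localDim_nonneg {T : Type*} [TopologicalSpace T] (t : T) : 0 ≤ FlatMor.localDim T t := by
  unfold FlatMor.localDim
  refine le_iInf fun W => ?_
  have : Nonempty ↥(W.1 : Set T) := ⟨⟨t, W.2⟩⟩
  exact topologicalKrullDim_nonneg_of_nonempty _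

theorem exists_open_dim_le_zero_of_localDim {T : Type*} [TopologicalSpace T] (t : T)
    (h : FlatMor.localDim T t ≤ 0) :
    ∃ W : Opens T, t ∈ W ∧ topologicalKrullDim ↥(W : Set T) ≤ 0 := by
  unfold FlatMor.localDim at h
  have : Nonempty {W : Opens T // t ∈ W} := ⟨⟨⊤, trivial⟩⟩
  obtain ⟨W, hW⟩ := ciInf_mem (fun W : {W : Opens T // t ∈ W} => topologicalKrullDim ↥(W.1 : Set T))
  exact ⟨W.1, W.2, by beta_reduce at hW; rw [hW]; exact h⟩

/-- If an etale chart of `X` has local dimension zero at `u` then the image of `u` is an open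
point. -/
theorem isOpen_singleton_of_localDim_le_zero {X : Sp S} {U : Over S} (a : (yon S).obj U ⟶ X)
    (ha : RepWith @Etale a) [IsLocallyNoetherian U.left] (u : ↥U.left)
    (h : FlatMor.localDim ↥U.left u ≤ 0) : IsOpen ({Points.ofPt a u} : Set (Points X)) := by
  obtain ⟨W, huW, hW⟩ := exists_open_dim_le_zero_of_localDim u h
  have hW' : topologicalKrullDim ↥(Scheme.Opens.toScheme (X := U.left) W) ≤ 0 := hW
  have : DiscreteTopology ↥(Scheme.Opens.toScheme (X := U.left) W) :=
    discreteTopology_of_topologicalKrullDim_le_zero hW'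
  have h1 : IsOpen ({⟨u, huW⟩} : Set ↥(Scheme.Opens.toScheme (X := U.left) W)) :=
    isOpen_discrete _
  have h2 : IsOpen ((Subtype.val : ↥(W : Set ↥U.left) → ↥U.left) '' {⟨u, huW⟩}) :=
    W.2.isOpenMap_subtype_val _ h1
  rw [Set.image_singleton] at h2
  have := isOpenMap_ofPt_of_repWith_etale a ha _ h2
  rwa [Set.image_singleton] at this

/-- If the image of `u` is an open point of a locally Noetherian space, the chart has local
dimension zero at `u`. -/
theorem localDim_eq_zero_of_isOpen_singleton {X : Sp S} (hN : IsLocNoethSp X) {U : Over S}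
    (a : (yon S).obj U ⟶ X) (ha : RepWith @Etale a) (u : ↥U.left)
    (h : IsOpen ({Points.ofPt a u} : Set (Points X))) : FlatMor.localDim ↥U.left u = 0 := by
  refine le_antisymm ?_ (localDim_nonneg u)
  have hWo : IsOpen (Points.ofPt a ⁻¹' {Points.ofPt a u}) := h.preimage (Points.continuous_ofPt a)
  unfold FlatMor.localDim
  refine (iInf_le _ ⟨⟨_, hWo⟩, rfl⟩).trans ?_
  refine topologicalKrullDim_le_zero_of_specializes_fibre hN a ha _ hWo ?_
  intro w hw w' hw' _
  rw [hw, hw']

/-- Etale charts of a space locally of finite type over the base are locally of finite type. -/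
theorem locallyOfFiniteType_chart_of_locP {X : Sp S} (p : X ⟶ (yon S).obj (Over.mk (𝟙 S)))
    (hp : LocP @LocallyOfFiniteType p) {U : Over S} (a : (yon S).obj U ⟶ X)
    (ha : RepWith @Etale a) : LocallyOfFiniteType U.hom := by
  obtain ⟨h, hh⟩ := (yon S).map_surjective (a ≫ p)
  have h1 : LocallyOfFiniteType h.left :=
    hp a (𝟙 _) h ha (repWith_id _ _) (by rw [hh, Category.comp_id])
  have h2 : h.left = U.hom := by
    have := Over.w h
    simpa using this
  rwa [h2] at h1

/-- Charts of a space locally of finite type over a field are locally Noetherian and Jacobson. -/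
theorem chart_noeth_jacobson_of_locP_field {k : Type u} [Field k]
    {X : Sp (Spec (CommRingCat.of k))}
    (p : X ⟶ (yon (Spec (CommRingCat.of k))).obj (Over.mk (𝟙 _)))
    (hp : LocP @LocallyOfFiniteType p) ⦃U : Over (Spec (CommRingCat.of k))⦄
    (a : (yon (Spec (CommRingCat.of k))).obj U ⟶ X) (ha : RepWith @Etale a) :
    IsLocallyNoetherian U.left ∧ JacobsonSpace ↥U.left := by
  have := locallyOfFiniteType_chart_of_locP p hp a ha
  have hJ : JacobsonSpace ↥(Spec (CommRingCat.of k)) :=
    (PrimeSpectrum.isJacobsonRing_iff_jacobsonSpace (R := k)).1 inferInstance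
  exact ⟨LocallyOfFiniteType.isLocallyNoetherian U.hom, LocallyOfFiniteType.jacobsonSpace U.hom⟩

section main

variable {X : Sp S} (hXa : IsAlgSpace X)
  (hch : ∀ ⦃U : Over S⦄ (a : (yon S).obj U ⟶ X), RepWith @Etale a →
    IsLocallyNoetherian U.left ∧ JacobsonSpace ↥U.left)

include hXa hch

theorem isLocNoethSp_of_charts : IsLocNoethSp X := by
  obtain ⟨U₀, b, hb, hbs⟩ := hXa.atlas
  exact ⟨U₀, b, hb, hbs, (hch b hb).1⟩

/-- S10391 (2) ⇔ (3). -/
theorem isOpen_singleton_iff_isClosed_and (x : Points X) :
    IsOpen ({x} : Set (Points X)) ↔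
      (IsClosed ({x} : Set (Points X)) ∧ ∀ x' : Points X, x' ⤳ x → x' = x) := by
  have hN := isLocNoethSp_of_charts hXa hch
  obtain ⟨U₀, b, hb, hbs⟩ := hXa.atlas
  obtain ⟨hU₀N, hU₀J⟩ := hch b hb
  have hq : Topology.IsQuotientMap (Points.ofPt b) :=
    (isOpenMap_ofPt_of_repWith_etale b hb).isQuotientMap (Points.continuous_ofPt b)
      (ofPt_surjective_of_repWith_surjective b hbs)
  constructor
  · intro ho
    refine ⟨?_, fun x' hx' => hx'.mem_open ho rfl⟩
    rw [← hq.isClosed_preimage]
    apply isClosed_of_forall_isOpen_singleton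
    intro w hw
    have : IsOpen ({Points.ofPt b w} : Set (Points X)) := by rw [hw]; exact ho
    have h0 := localDim_eq_zero_of_isOpen_singleton hN b hb w this
    obtain ⟨W, hwW, hW⟩ := exists_open_dim_le_zero_of_localDim w h0.le
    have hW' : topologicalKrullDim ↥(Scheme.Opens.toScheme (X := U₀.left) W) ≤ 0 := hW
    have : DiscreteTopology ↥(Scheme.Opens.toScheme (X := U₀.left) W) :=
      discreteTopology_of_topologicalKrullDim_le_zero hW'
    have h1 : IsOpen ({⟨w, hwW⟩} : Set ↥(Scheme.Opens.toScheme (X := U₀.left) W)) :=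
      isOpen_discrete _
    have h2 : IsOpen ((Subtype.val : ↥(W : Set ↥U₀.left) → ↥U₀.left) '' {⟨w, hwW⟩}) :=
      W.2.isOpenMap_subtype_val _ h1
    rwa [Set.image_singleton] at h2
  · rintro ⟨hc, hg⟩
    rw [← hq.isOpen_preimage]
    apply isOpen_of_isClosed_of_stableUnderGeneralization_scheme
      (hc.preimage (Points.continuous_ofPt b))
    intro u u' huu' hu
    have : Points.ofPt b u' ⤳ Points.ofPt b u := huu'.map (Points.continuous_ofPt b)
    rw [Set.mem_preimage, Set.mem_singleton_iff] at hu
    rw [hu] at this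
    exact hg _ this

/-- S10391 (3) ⇔ (4). -/
theorem isOpen_singleton_iff_hasAt_localDim (x : Points X) :
    IsOpen ({x} : Set (Points X)) ↔ HasAt (fun U u => FlatMor.localDim ↥U u = 0) X x := by
  have hN := isLocNoethSp_of_charts hXa hch
  constructor
  · intro ho
    obtain ⟨U₀, b, hb, hbs⟩ := hXa.atlas
    obtain ⟨u, rfl⟩ := ofPt_surjective_of_repWith_surjective b hbs x
    exact ⟨U₀, b, u, hb, rfl, localDim_eq_zero_of_isOpen_singleton hN b hb u ho⟩
  · rintro ⟨U, a, u, ha, rfl, h⟩
    have := (hch a ha).1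
    exact isOpen_singleton_of_localDim_le_zero a ha u h.le

/-- S10391 (1) ⇔ (3) for decent spaces. -/
theorem localDim_points_eq_zero_iff (hd : IsDecent X) (x : Points X) :
    FlatMor.localDim (Points X) x = 0 ↔ IsOpen ({x} : Set (Points X)) := by
  constructor
  · intro h
    obtain ⟨V, hxV, hV⟩ := exists_open_dim_le_zero_of_localDim x h.le
    obtain ⟨U₀, b, hb, hbs⟩ := hXa.atlas
    obtain ⟨hU₀N, hU₀J⟩ := hch b hb
    obtain ⟨u, rfl⟩ := ofPt_surjective_of_repWith_surjective b hbs x
    have : T0Space (Points X) := t0Space_points_of_isDecent hd b hb hbs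
    have hWo : IsOpen (Points.ofPt b ⁻¹' (V : Set (Points X))) :=
      V.2.preimage (Points.continuous_ofPt b)
    have : QuasiSober ↥(Points.ofPt b ⁻¹' (V : Set (Points X))) :=
      hWo.isOpenEmbedding_subtypeVal.quasiSober
    let g : ↥(Points.ofPt b ⁻¹' (V : Set (Points X))) → ↥(V : Set (Points X)) :=
      fun w => ⟨Points.ofPt b w.1, w.2⟩
    have hg : Continuous g :=
      ((Points.continuous_ofPt b).comp continuous_subtype_val).subtype_mk _
    have hdg : ∀ y, _root_.IsDiscrete (g ⁻¹' {y}) := by
      intro y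
      have h1 := isDiscrete_fibre_of_isDecent hd b hb y.1
      have h2 := h1.preimage (f := (Subtype.val :
        ↥(Points.ofPt b ⁻¹' (V : Set (Points X))) → ↥U₀.left))
        continuous_subtype_val.continuousOn Subtype.val_injective
      convert h2 using 1
      ext w
      simp only [Set.mem_preimage, Set.mem_singleton_iff, g]
      exact ⟨fun h => congrArg Subtype.val h, fun h => Subtype.ext h⟩
    have hle := topologicalKrullDim_le_of_isDiscrete_fibres_t0 g hg hdg
    have h0 : FlatMor.localDim ↥U₀.left u ≤ 0 := by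
      unfold FlatMor.localDim
      exact (iInf_le _ ⟨⟨_, hWo⟩, hxV⟩).trans (hle.trans hV)
    exact isOpen_singleton_of_localDim_le_zero b hb u h0
  · intro ho
    refine le_antisymm ?_ (localDim_nonneg x)
    unfold FlatMor.localDim
    refine (iInf_le _ ⟨⟨_, ho⟩, rfl⟩).trans ?_
    have : Subsingleton ↥({x} : Set (Points X)) := Set.subsingleton_singleton.coe_sort
    exact topologicalKrullDim_zero_of_discreteTopology _

end main

end Groth.Agent.H52
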