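import Groth.Agent.H52.ReducedPoint
import Groth.Agent.S4366
import Groth.Prelude.Def_FDesc

set_option autoImplicit false
universe u
open CategoryTheory CategoryTheory.Limits AlgebraicGeometry Opposite

namespace Groth.Agent.H52

/-- Reducedness of local rings descends along flat morphisms. -/
theorem isReduced_stalk_of_flat {W U : Scheme.{u}} (g : W ⟶ U) [Flat g] (w : W)
    (h : _root_.IsReduced (W.presheaf.stalk w)) : _root_.IsReduced (U.presheaf.stalk (g w)) := by
  have hfl := Flat.stalkMap g w
  algebraize [(g.stalkMap w).hom]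
  have : IsLocalHom (algebraMap (U.presheaf.stalk (g w)) (W.presheaf.stalk w)) := by
    rw [RingHom.algebraMap_toAlgebra]; infer_instance
  have := Module.FaithfullyFlat.of_flat_of_isLocalHom (A := U.presheaf.stalk (g w))
    (B := W.presheaf.stalk w)
  exact isReduced_of_injective (algebraMap (U.presheaf.stalk (g w)) (W.presheaf.stalk w))
    (FaithfulSMul.algebraMap_injective _ _)

/-- Reducedness of local rings ascends along etale morphisms. -/
theorem isReduced_stalk_of_etale {W U : Scheme.{u}} (g : W ⟶ U) [Etale g] (w : W)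
    (h : _root_.IsReduced (U.presheaf.stalk (g w))) : _root_.IsReduced (W.presheaf.stalk w) := by
  have hred : AlgebraicGeometry.IsReduced (Spec (U.presheaf.stalk (g w))) :=
    (affine_isReduced_iff _).2 h
  have hP : AlgebraicGeometry.IsReduced (pullback g (U.fromSpecStalk (g w))) :=
    isReduced_of_etale_scheme (pullback.snd g (U.fromSpecStalk (g w)))
  obtain ⟨t, ht, -⟩ := Scheme.Pullback.exists_preimage_pullback (f := g)
    (g := U.fromSpecStalk (g w)) w (IsLocalRing.closedPoint _)
    (Scheme.fromSpecStalk_closedPoint).symm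
  have hiso := Groth.Agent.S4366.result g (g w) t
  have hinj : Function.Injective ((pullback.fst g (U.fromSpecStalk (g w))).stalkMap t).hom :=
    ((ConcreteCategory.isIso_iff_bijective _).1 hiso).1
  have := isReduced_of_injective _ hinj
  rw [ht] at this
  exact this

variable {k : Type u} [Field k]

/-- Geometric reducedness at a point is invariant under etale morphisms. -/
theorem isGeomReducedAt_iff_of_etale {W U : Scheme.{u}} (g : W ⟶ U) [Etale g]
    (f : U ⟶ Spec (CommRingCat.of k)) (w : W) :
    FBase.IsGeomReducedAt (g ≫ f) w ↔ FBase.IsGeomReducedAt f (g w) := by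
  have key : ∀ (K : Type u) [Field K] [Algebra k K],
      ∃ gK : FBase.bc (g ≫ f) K ⟶ FBase.bc f K,
        IsPullback gK (FBase.bcπ (g ≫ f) K) (FBase.bcπ f K) g := by
    intro K _ _
    unfold FBase.bc FBase.bcπ
    let ι := Spec.map (CommRingCat.ofHom (algebraMap k K))
    have h1 : IsPullback (pullback.fst (g ≫ f) ι) (pullback.snd (g ≫ f) ι) (g ≫ f) ι :=
      IsPullback.of_hasPullback _ _
    have h2 : IsPullback (pullback.fst f ι) (pullback.snd f ι) f ι := IsPullback.of_hasPullback _ _
    let gK : pullback (g ≫ f) ι ⟶ pullback f ι :=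
      pullback.lift (pullback.fst (g ≫ f) ι ≫ g) (pullback.snd (g ≫ f) ι)
        (by rw [Category.assoc]; exact h1.w)
    refine ⟨gK, ?_⟩
    have hfst : gK ≫ pullback.fst f ι = pullback.fst (g ≫ f) ι ≫ g := pullback.lift_fst _ _ _
    have hsnd : gK ≫ pullback.snd f ι = pullback.snd (g ≫ f) ι := pullback.lift_snd _ _ _
    refine IsPullback.of_right ?_ hfst h2.flip
    rw [hsnd]
    exact h1.flip
  constructor
  · intro h K _ _ u' hu'
    obtain ⟨gK, sq⟩ := key K
    have hetK : Etale gK := MorphismProperty.of_isPullback (P := @Etale) sq.flip inferInstance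
    obtain ⟨t, ht1, ht2⟩ := Scheme.Pullback.exists_preimage_pullback (f := FBase.bcπ f K)
      (g := g) u' w hu'
    -- transport to the chosen pullback
    have hiso := sq.isoPullback
    let w' : ↥(FBase.bc (g ≫ f) K) := sq.isoPullback.inv t
    have hw'1 : gK w' = u' := by
      have := congrArg (fun φ => φ.base t) sq.isoPullback_inv_fst
      simp only [Scheme.Hom.comp_base, TopCat.comp_app] at this
      exact this.trans ht1
    have hw'2 : (FBase.bcπ (g ≫ f) K) w' = w := by
      have := congrArg (fun φ => φ.base t) sq.isoPullback_inv_snd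
      simp only [Scheme.Hom.comp_base, TopCat.comp_app] at this
      exact this.trans ht2
    have := isReduced_stalk_of_flat gK w' (h K w' hw'2)
    rw [hw'1] at this
    exact this
  · intro h K _ _ w' hw'
    obtain ⟨gK, sq⟩ := key K
    have hetK : Etale gK := MorphismProperty.of_isPullback (P := @Etale) sq.flip inferInstance
    refine isReduced_stalk_of_etale gK w' (h K (gK w') ?_)
    have := congrArg (fun φ => φ.base w') sq.w
    simp only [Scheme.Hom.comp_base, TopCat.comp_app] at this
    rw [this, hw']

open AlgSp

/-- Geometric reducedness at a point of an algebraic space over a field does not depend on the etale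
chart through the point. -/
theorem isGeomReducedAt_chart_iff {X : Sp (Spec (CommRingCat.of k))}
    {U U' : Over (Spec (CommRingCat.of k))} (a : (yon _).obj U ⟶ X) (ha : RepWith @Etale a)
    (a' : (yon _).obj U' ⟶ X) (ha' : RepWith @Etale a') (u : ↥U.left) (u' : ↥U'.left)
    (h : Points.ofPt a u = Points.ofPt a' u') :
    FBase.IsGeomReducedAt U.hom u ↔ FBase.IsGeomReducedAt U'.hom u' := by
  have sq := ha.rep.isPullback a'
  obtain ⟨φ, hφ⟩ := (yon _).map_surjective (ha.rep.fst a')
  have sq' : IsPullback ((yon _).map φ) ((yon _).map (ha.rep.snd a')) a a' := by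
    rw [hφ]; exact sq
  obtain ⟨w, hw1, hw2⟩ := (ofPt_eq_iff_of_isPullback sq' u u').1 h
  have het2 : Etale (ha.rep.snd a').left := ha.property_snd a'
  have het1 : Etale φ.left := by
    have h1 : RepWith @Etale ((yon _).map φ) := MorphismProperty.of_isPullback sq'.flip ha'
    exact (repWith_yon_map_iff @Etale φ).1 h1
  have e1 := isGeomReducedAt_iff_of_etale φ.left U.hom w
  have e2 := isGeomReducedAt_iff_of_etale (ha.rep.snd a').left U'.hom w
  rw [hw1] at e1
  rw [hw2] at e2
  rw [← e1, ← e2, Over.w φ, Over.w (ha.rep.snd a')]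

end Groth.Agent.H52
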