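import Mathlib.AlgebraicGeometry.Morphisms.FlatDescent
import Mathlib.AlgebraicGeometry.Morphisms.LocalFlatDescent
import Mathlib.RingTheory.RingHom.Flat
import Mathlib.RingTheory.Flat.FaithfullyFlat.Basic

set_option autoImplicit false
universe u
open CategoryTheory AlgebraicGeometry MorphismProperty

namespace Groth.Agent.H52

/-- Flatness of ring maps codescends along faithfully flat ring maps. -/
theorem flat_codescendsAlong_faithfullyFlat :
    RingHom.CodescendsAlong (fun {R S : Type u} [CommRing R] [CommRing S] (f : R →+* S) => f.Flat)
      (fun {R S : Type u} [CommRing R] [CommRing S] (f : R →+* S) => f.FaithfullyFlat) := by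
  apply RingHom.CodescendsAlong.mk _ RingHom.Flat.respectsIso
  introv h H
  rw [RingHom.faithfullyFlat_algebraMap_iff] at h
  rw [RingHom.flat_algebraMap_iff] at H ⊢
  exact Module.Flat.of_flat_tensorProduct R T S

/-- Flatness of morphisms of schemes satisfies fpqc descent. -/
instance flat_descendsAlong_fpqc :
    DescendsAlong @Flat.{u} (@Surjective ⊓ @Flat ⊓ @QuasiCompact) :=
  HasRingHomProperty.descendsAlong_flat flat_codescendsAlong_faithfullyFlat

end Groth.Agent.H52
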