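import Mathlib.AlgebraicGeometry.Stalk
import Mathlib.AlgebraicGeometry.Morphisms.Flat
import Mathlib.AlgebraicGeometry.Morphisms.Preimmersion
import Mathlib.RingTheory.Ideal.GoingDown
import Mathlib.RingTheory.KrullDimension.Basic

set_option autoImplicit false
universe u
open CategoryTheory AlgebraicGeometry

namespace Groth.Agent.H52

/-- A flat local homomorphism of local rings does not lower Krull dimension. -/
theorem ringKrullDim_le_of_flat_of_isLocalHom (A B : Type*) [CommRing A] [CommRing B] [Algebra A B]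
    [IsLocalRing A] [IsLocalRing B] [Module.Flat A B] [IsLocalHom (algebraMap A B)] :
    ringKrullDim A ≤ ringKrullDim B := by
  have : Module.FaithfullyFlat A B := Module.FaithfullyFlat.of_flat_of_isLocalHom
  unfold ringKrullDim Order.krullDim
  refine iSup_le fun l => ?_
  obtain ⟨P, hP⟩ := PrimeSpectrum.comap_surjective_of_faithfullyFlat (A := A) (B := B) l.last
  have : P.asIdeal.LiesOver l.last.asIdeal := ⟨by rw [← hP]; rfl⟩
  obtain ⟨L, hL, -, -⟩ := Ideal.exists_ltSeries_of_hasGoingDown l P.asIdeal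
  rw [← hL]
  exact le_iSup (fun p : LTSeries (PrimeSpectrum B) => ((p.length : ℕ∞) : WithBot ℕ∞)) L

/-- Along a flat morphism of schemes the dimension of the local ring does not drop. -/
theorem ringKrullDim_stalk_le_of_flat {W U : Scheme.{u}} (g : W ⟶ U) [Flat g] (w : W) :
    ringKrullDim (U.presheaf.stalk (g w)) ≤ ringKrullDim (W.presheaf.stalk w) := by
  have hfl := Flat.stalkMap g w
  algebraize [(g.stalkMap w).hom]
  have : IsLocalHom (algebraMap (U.presheaf.stalk (g w)) (W.presheaf.stalk w)) := by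
    rw [RingHom.algebraMap_toAlgebra]; infer_instance
  exact ringKrullDim_le_of_flat_of_isLocalHom _ _

/-- Along a morphism of schemes with discrete fibres the dimension of the local ring does not
grow. -/
theorem ringKrullDim_stalk_le_of_isDiscrete_fibres {W V : Scheme.{u}} (φ : W ⟶ V)
    (hd : ∀ v : V, _root_.IsDiscrete (φ ⁻¹' {v})) (w : W) :
    ringKrullDim (W.presheaf.stalk w) ≤ ringKrullDim (V.presheaf.stalk (φ w)) := by
  refine Order.krullDim_le_of_strictMono (PrimeSpectrum.comap (φ.stalkMap w).hom) ?_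
  intro q q' hqq'
  have hle : PrimeSpectrum.comap (φ.stalkMap w).hom q ≤ PrimeSpectrum.comap (φ.stalkMap w).hom q' :=
    Ideal.comap_mono hqq'.le
  refine lt_of_le_of_ne hle fun heq => ?_
  have hcomm := Scheme.SpecMap_stalkMap_fromSpecStalk (f := φ) (x := w)
  have h1 : ∀ z : PrimeSpectrum (W.presheaf.stalk w),
      φ ((W.fromSpecStalk w) z) =
        (V.fromSpecStalk (φ w)) (PrimeSpectrum.comap (φ.stalkMap w).hom z) := by
    intro z
    have := congrArg (fun k => k.base z) hcomm
    simp only [Scheme.Hom.comp_base, TopCat.comp_app] at this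
    exact this.symm
  have hspec : q ⤳ q' := (PrimeSpectrum.le_iff_specializes q q').1 hqq'.le
  have hspec' : (W.fromSpecStalk w) q ⤳ (W.fromSpecStalk w) q' :=
    hspec.map (W.fromSpecStalk w).continuous
  have hfib : φ ((W.fromSpecStalk w) q) = φ ((W.fromSpecStalk w) q') := by
    rw [h1, h1, heq]
  have hdisc := (hd (φ ((W.fromSpecStalk w) q'))).to_subtype
  have ha : (W.fromSpecStalk w) q ∈ φ ⁻¹' {φ ((W.fromSpecStalk w) q')} := hfib
  have hb : (W.fromSpecStalk w) q' ∈ φ ⁻¹' {φ ((W.fromSpecStalk w) q')} := rfl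
  have h2 : (⟨_, ha⟩ : φ ⁻¹' {φ ((W.fromSpecStalk w) q')}) ⤳ ⟨_, hb⟩ :=
    (subtype_specializes_iff _ _).mpr hspec'
  have h3 := congrArg Subtype.val h2.eq
  exact hqq'.ne ((W.fromSpecStalk w).isEmbedding.injective h3)

end Groth.Agent.H52
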