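import Groth.Agent.H53.LocalBase
import Groth.Agent.H52.Chart
import Mathlib.AlgebraicGeometry.Morphisms.QuasiSeparated

set_option autoImplicit false
universe u
open CategoryTheory CategoryTheory.Limits AlgebraicGeometry Opposite TopologicalSpace

namespace Groth.Agent.H52

open AlgSp

variable {S : Scheme.{u}}

/-- Quasi-compactness of morphisms descends along fpqc morphisms. -/
instance quasiCompact_descendsAlong_fpqc :
    MorphismProperty.DescendsAlong (@QuasiCompact : MorphismProperty Scheme.{u})
      (@Surjective ⊓ @Flat ⊓ @QuasiCompact) := by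
  apply IsZariskiLocalAtTarget.descendsAlong
  intro R X Y f g hf h
  obtain ⟨⟨hs, -⟩, hq⟩ := hf
  have h1 : CompactSpace X := QuasiCompact.compactSpace_of_compactSpace f
  have h2 : CompactSpace ↥(pullback f g) :=
    QuasiCompact.compactSpace_of_compactSpace (pullback.fst f g)
  have h3 : Surjective (pullback.snd f g) := inferInstance
  have h4 : CompactSpace Y :=
    (pullback.snd f g).surjective.compactSpace (pullback.snd f g).continuous
  exact (quasiCompact_iff_compactSpace g).2 h4

/-- Over a quasi-compact scheme, finitely many affine opens of the source of an open surjective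
morphism have images covering the target. -/
theorem exists_finite_affine_family {Z' Z : Scheme.{u}} (e : Z' ⟶ Z) (he : IsOpenMap e)
    (hs : Function.Surjective e) [CompactSpace Z] :
    ∃ (m : ℕ) (U : Fin m → Z'.affineOpens), ∀ z : Z, ∃ j, z ∈ e '' ((U j : Z'.Opens) : Set Z') := by
  classical
  have hcov : (Set.univ : Set Z) ⊆ ⋃ U : Z'.affineOpens, e '' ((U : Z'.Opens) : Set Z') := by
    intro z _
    obtain ⟨z', rfl⟩ := hs z
    obtain ⟨U, hU, hz', -⟩ := exists_isAffineOpen_mem_and_subset (x := z') (U := ⊤) trivial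
    exact Set.mem_iUnion.2 ⟨⟨U, hU⟩, z', hz', rfl⟩
  obtain ⟨t, ht⟩ := isCompact_univ.elim_finite_subcover _ (fun U => he _ U.1.2) hcov
  refine ⟨t.card, fun j => (t.equivFin.symm j).1, fun z => ?_⟩
  obtain ⟨U, hUt, hz⟩ := Set.mem_iUnion₂.1 (ht (Set.mem_univ z))
  refine ⟨t.equivFin ⟨U, hUt⟩, ?_⟩
  simpa using hz

/-- A property of morphisms of schemes which is Zariski local on the target, stable under base change
and satisfies fpqc descent can be checked for a representable morphism of sheaves after base change to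
an etale atlas of the target. -/
theorem repWith_of_atlas (P : MorphismProperty Scheme.{u}) [IsZariskiLocalAtTarget P]
    [P.DescendsAlong (@Surjective ⊓ @Flat ⊓ @QuasiCompact)] [P.IsStableUnderBaseChange]
    {A X : Sp S} (d : A ⟶ X) (hd : Representable d) {V : Over S} (ψ : (yon S).obj V ⟶ X)
    (hψ : RepWith @Etale ψ) (hψs : RepWith @Surjective ψ)
    {Y : Over S} (fstV : (yon S).obj Y ⟶ A) (sndV : Y ⟶ V)
    (sqV : IsPullback fstV ((yon S).map sndV) d ψ) (hV : P sndV.left) :
    RepWith P d := by
  refine Groth.Agent.H53.repWith_of_fpqc_local P d hd fun Z hZ t => ?_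
  have sq := hψ.rep.isPullback t
  obtain ⟨b, hb⟩ := (yon S).map_surjective (hψ.rep.fst t)
  have hee : Etale (hψ.rep.snd t).left := hψ.property _ _ _ sq
  have hes : Surjective (hψ.rep.snd t).left := hψs.property _ _ _ sq
  have hcomp : CompactSpace ↥Z.left := inferInstance
  obtain ⟨m, U, hU⟩ := exists_finite_affine_family (hψ.rep.snd t).left
    (hψ.rep.snd t).left.isOpenMap (hψ.rep.snd t).left.surjective
  refine ⟨m, fun j => Groth.Agent.H53.overOf _ (U j).1.ι,
    fun j => Groth.Agent.H53.overHom _ (U j).1.ι ≫ hψ.rep.snd t, fun j => (U j).2,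
    fun j => ?_, fun z => ?_, fun j V' fst' s' sq' => ?_⟩
  · simp only [Over.comp_left, Over.homMk_left]
    infer_instance
  · obtain ⟨j, z', hz', rfl⟩ := hU z
    refine ⟨j, ⟨⟨z', hz'⟩, ?_⟩⟩
    simp only [Over.comp_left, Over.homMk_left]
    rfl
  · -- the base change to `W j` factors through the base change to the atlas
    have hcomm : (yon S).map (Groth.Agent.H53.overHom _ (U j).1.ι ≫ hψ.rep.snd t) ≫ t =
        (yon S).map (Groth.Agent.H53.overHom _ (U j).1.ι ≫ b) ≫ ψ := by
      rw [Functor.map_comp, Functor.map_comp, Category.assoc, Category.assoc, ← sq.w, hb]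
    rw [hcomm] at sq'
    let l : (yon S).obj V' ⟶ (yon S).obj Y :=
      sqV.lift fst' ((yon S).map s' ≫ (yon S).map (Groth.Agent.H53.overHom _ (U j).1.ι ≫ b))
        (by rw [sq'.w, Category.assoc])
    have hl1 : l ≫ fstV = fst' := sqV.lift_fst _ _ _
    have hl2 : l ≫ (yon S).map sndV =
        (yon S).map s' ≫ (yon S).map (Groth.Agent.H53.overHom _ (U j).1.ι ≫ b) :=
      sqV.lift_snd _ _ _
    rw [← hl1] at sq'
    have sqL := IsPullback.of_right sq' hl2 sqV
    exact ((repWith_yon_map_iff P sndV).2 hV).property _ _ _ sqL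

end Groth.Agent.H52
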