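import Groth.Agent.H52.Chart

set_option autoImplicit false
universe u
open CategoryTheory CategoryTheory.Limits AlgebraicGeometry Opposite TopologicalSpace

namespace Groth.Agent.H52

open AlgSp

variable {S : Scheme.{u}}

/-- The base change square for a product with a varying second factor. -/
theorem isPullback_prod_snd_map {C : Type*} [Category C] [HasBinaryProducts C] {A B : C}
    (f : A ⟶ B) (X : C) : IsPullback prod.snd (prod.map (𝟙 X) f) f prod.snd := by
  refine IsPullback.mk' (by simp) ?_ ?_
  · intro T φ φ' h1 h2
    ext
    · simpa using congr($h2 ≫ prod.fst)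
    · simpa using h1
  · intro T a b h
    refine ⟨prod.lift (b ≫ prod.fst) a, Limits.prod.lift_snd _ _, ?_⟩
    ext
    · rw [Limits.prod.lift_map, Limits.prod.lift_fst, Category.comp_id]
    · rw [Limits.prod.lift_map, Limits.prod.lift_snd, h]

/-- The space of points of the spectrum of a field is a single point. -/
instance subsingleton_points_spec_field {K : Type u} [Field K] (w : Spec (CommRingCat.of K) ⟶ S) :
    Subsingleton (Points ((yon S).obj (Over.mk w))) := by
  have : Subsingleton ↥(Over.mk w).left := inferInstanceAs (Subsingleton (PrimeSpectrum K))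
  exact (Points.schemeEquiv (Over.mk w)).symm.injective.subsingleton

instance nonempty_points_spec_field {K : Type u} [Field K] (w : Spec (CommRingCat.of K) ⟶ S) :
    Nonempty (Points ((yon S).obj (Over.mk w))) :=
  ⟨Points.schemeEquiv (Over.mk w) (IsLocalRing.closedPoint K)⟩

/-- Base change along a morphism of spectra of fields is surjective on points. -/
theorem surjective_points_map_prod_map {K L : Type u} [Field K] [Field L]
    {wK : Spec (CommRingCat.of K) ⟶ S} {wL : Spec (CommRingCat.of L) ⟶ S}
    (g : Over.mk wL ⟶ Over.mk wK) (F : Sp S) :
    Function.Surjective (Points.map (prod.map (𝟙 F) ((yon S).map g))) := by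
  intro y
  obtain ⟨z⟩ := nonempty_points_spec_field (S := S) wL
  obtain ⟨w, -, hw⟩ := exists_point_of_isPullback (isPullback_prod_snd_map ((yon S).map g) F) z y
    (Subsingleton.elim _ _)
  exact ⟨w, hw⟩

end Groth.Agent.H52
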