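import Groth.Agent.H52.ZarLocal
import Groth.Agent.H50.UnivInj

set_option autoImplicit false
universe u
open CategoryTheory CategoryTheory.Limits AlgebraicGeometry Opposite TopologicalSpace

namespace Groth.Agent.H52

open AlgSp

variable {S : Scheme.{u}}

/-- A base change of an algebraic space to a scheme is an algebraic space. -/
theorem isAlgSpace_of_isPullback_yon {X Y F' : Sp S} (hX : IsAlgSpace X) (hY : IsAlgSpace Y)
    (f : X ⟶ Y) {T : Over S} (g : (yon S).obj T ⟶ Y) (fst : F' ⟶ X) (snd : F' ⟶ (yon S).obj T)
    (sq : IsPullback fst snd f g) : IsAlgSpace F' :=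
  (Groth.Agent.H50.isAlgSpace_pullback_yon hX hY f g).of_iso sq.isoPullback.symm

/-- The base change of a sheaf over a scheme `T` to the affine opens of `T` is a Zariski covering. -/
theorem isZarCover_affineOpens {F' : Sp S} {T : Over S} (snd : F' ⟶ (yon S).obj T) :
    IsZarCover (fun W : T.left.affineOpens => pullback snd ((yon S).map (openIncl T W.1)))
      (fun W => pullback.fst snd ((yon S).map (openIncl T W.1))) := by
  refine ⟨fun W => ?_, fun x => ?_⟩
  · have h1 : RepWith @IsOpenImmersion ((yon S).map (openIncl T W.1)) := by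
      rw [repWith_yon_map_iff]
      change IsOpenImmersion W.1.ι
      infer_instance
    exact MorphismProperty.of_isPullback (P := RepWith @IsOpenImmersion)
      (IsPullback.of_hasPullback snd ((yon S).map (openIncl T W.1))).flip h1
  · obtain ⟨t, ht⟩ := (Points.schemeEquiv T).surjective (Points.map snd x)
    obtain ⟨W, hW, htW, -⟩ := exists_isAffineOpen_mem_and_subset (x := t) (U := ⊤) trivial
    have e : Points.map snd x =
        Points.map ((yon S).map (openIncl T W)) (Points.ofScheme _ ⟨t, htW⟩) := by
      rw [← Points.ofPt_eq_map_ofScheme, ofPt_yon_map]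
      exact ht.symm
    obtain ⟨w, hw, -⟩ := exists_point_of_isPullback
      (IsPullback.of_hasPullback snd ((yon S).map (openIncl T W))) x _ e
    exact ⟨⟨W, hW⟩, w, hw⟩

/-- A morphism of algebraic spaces whose base changes to affine schemes are decent is decent. -/
theorem isDecentMor_of_affine {X Y : Sp S} (hX : IsAlgSpace X) (hY : IsAlgSpace Y) (f : X ⟶ Y)
    (h : ∀ (Z : Over S) (g : (yon S).obj Z ⟶ Y) (P : Sp S) (fst : P ⟶ X)
      (snd : P ⟶ (yon S).obj Z), IsAffine Z.left → IsPullback fst snd f g → IsDecent P) :
    IsDecentMor f := by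
  intro T F' g fst snd sq
  have hF' : IsAlgSpace F' := isAlgSpace_of_isPullback_yon hX hY f g fst snd sq
  refine isDecent_of_zarCover hF' _ _ (isZarCover_affineOpens snd) fun W => ?_
  refine h _ ((yon S).map (openIncl T W.1) ≫ g) _ (pullback.fst _ _ ≫ fst) (pullback.snd _ _) W.2 ?_
  exact (IsPullback.of_hasPullback snd ((yon S).map (openIncl T W.1))).paste_horiz sq

end Groth.Agent.H52
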