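import Groth.Agent.H52.Epi
import Groth.Agent.H52.DecentMorLocal
import Groth.Agent.H50.LocPClass
import Groth.Agent.H49.AlgSpMonoField
import Groth.Agent.H53.Points
import Groth.Agent.H52.BaseChangeField
import Groth.Agent.H49.AlgSpRep

set_option autoImplicit false
universe u
open CategoryTheory CategoryTheory.Limits AlgebraicGeometry Opposite TopologicalSpace

namespace Groth.Agent.H52

open AlgSp

variable {S : Scheme.{u}}

/-- A flat, locally finitely presented, surjective morphism from a scheme to an algebraic space is an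
epimorphism of sheaves. -/
theorem epi_of_locP_fppf {Z : Sp S} (hZ : IsAlgSpace Z) {T : Over S} (p : (yon S).obj T ⟶ Z)
    (h1 : LocP @LocallyOfFinitePresentation p) (h2 : LocP @Flat p) (h3 : IsSurjectiveMor p) :
    Epi p := by
  have hrep := hZ.representable_from_yon p
  exact epi_of_repWith_fppf p (Groth.Agent.H50.goodClass_flat.repWith_of_locP hZ p hrep h2)
    (Groth.Agent.H50.goodClass_lfp.repWith_of_locP hZ p hrep h1)
    (Groth.Agent.H53.repWith_surjective_of_points_surjective p hrep h3)

/-- A monomorphism of algebraic spaces into a space covered (fppf) by the spectrum of a field has empty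
source or is an isomorphism. -/
theorem isEmpty_or_isIso_of_mono_of_field_cover {Z' Z : Sp S} (hZ' : IsAlgSpace Z') (hZ : IsAlgSpace Z)
    (f : Z' ⟶ Z) [Mono f] {k : Type u} [Field k] (str : Spec (CommRingCat.of k) ⟶ S)
    (p : (yon S).obj (Over.mk str) ⟶ Z) (h1 : LocP @LocallyOfFinitePresentation p)
    (h2 : LocP @Flat p) (h3 : IsSurjectiveMor p) :
    IsEmpty (Points Z') ∨ IsIso f := by
  have sq := IsPullback.of_hasPullback f p
  have hW : IsAlgSpace (pullback f p) := Groth.Agent.H50.isAlgSpace_pullback_yon hZ' hZ f p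
  by_cases hne : Nonempty (Points (pullback f p))
  · right
    obtain ⟨w⟩ := hne
    have hmono : Mono (pullback.snd f p) := inferInstance
    have hiso : IsIso (pullback.snd f p) :=
      Groth.Agent.H49.isIso_of_mono_to_field hW str (pullback.snd f p) w
    have hfac : (inv (pullback.snd f p) ≫ pullback.fst f p) ≫ f = p := by
      rw [Category.assoc, sq.w, IsIso.inv_hom_id_assoc]
    have hepi : Epi p := epi_of_locP_fppf hZ p h1 h2 h3
    have hepi' : Epi f := by
      rw [← hfac] at hepi
      exact epi_of_epi (inv (pullback.snd f p) ≫ pullback.fst f p) f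
    exact isIso_of_mono_of_epi f
  · left
    refine ⟨fun z' => hne ?_⟩
    obtain ⟨t, ht⟩ := h3 (Points.map f z')
    obtain ⟨w, -, -⟩ := exists_point_of_isPullback sq z' t ht.symm
    exact ⟨w⟩

/-- Two monomorphisms into an algebraic space with the same one-point image, whose sources are covered
(fppf) by spectra of fields, are isomorphic over the space. -/
theorem exists_iso_of_mono_of_field_cover {X Z Z' : Sp S} (hX : IsAlgSpace X) (hZ : IsAlgSpace Z)
    (hZ' : IsAlgSpace Z') (x : Points X) (i : Z ⟶ X) (i' : Z' ⟶ X) [Mono i] [Mono i']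
    (hi : Set.range (Points.map i) = {x}) (hi' : Set.range (Points.map i') = {x})
    {k : Type u} [Field k] (str : Spec (CommRingCat.of k) ⟶ S)
    (p : (yon S).obj (Over.mk str) ⟶ Z) (h1 : LocP @LocallyOfFinitePresentation p)
    (h2 : LocP @Flat p) (h3 : IsSurjectiveMor p)
    {k' : Type u} [Field k'] (str' : Spec (CommRingCat.of k') ⟶ S)
    (p' : (yon S).obj (Over.mk str') ⟶ Z') (h1' : LocP @LocallyOfFinitePresentation p')
    (h2' : LocP @Flat p') (h3' : IsSurjectiveMor p') :
    ∃ e : Z' ≅ Z, e.hom ≫ i = i' := by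
  have sq := IsPullback.of_hasPullback i i'
  have hW : IsAlgSpace (pullback i i') :=
    Groth.Agent.H49.isAlgSpace_of_isPullback sq hX.diag hZ hZ'
  obtain ⟨z, hz⟩ : x ∈ Set.range (Points.map i) := by rw [hi]; rfl
  obtain ⟨z', hz'⟩ : x ∈ Set.range (Points.map i') := by rw [hi']; rfl
  obtain ⟨w, -, -⟩ := exists_point_of_isPullback sq z z' (hz.trans hz'.symm)
  have hm1 : Mono (pullback.fst i i') := inferInstance
  have hm2 : Mono (pullback.snd i i') := inferInstance
  have hiso1 : IsIso (pullback.fst i i') := by
    rcases isEmpty_or_isIso_of_mono_of_field_cover hW hZ (pullback.fst i i') str p h1 h2 h3 with h | h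
    · exact (h.false w).elim
    · exact h
  have hiso2 : IsIso (pullback.snd i i') := by
    rcases isEmpty_or_isIso_of_mono_of_field_cover hW hZ' (pullback.snd i i') str' p' h1' h2' h3'
      with h | h
    · exact (h.false w).elim
    · exact h
  refine ⟨(asIso (pullback.snd i i')).symm ≪≫ asIso (pullback.fst i i'), ?_⟩
  simp only [Iso.trans_hom, Iso.symm_hom, asIso_inv, asIso_hom, Category.assoc]
  rw [sq.w, IsIso.inv_hom_id_assoc]

/-- The image of a field-valued point in the space of points is its class. -/
theorem range_map_toHom {F : Sp S} (p : FieldPt F) :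
    Set.range (Points.map p.toHom) = {Points.mk p} := by
  ext y
  simp only [Set.mem_range, Set.mem_singleton_iff]
  have key : ∀ z : Points ((yon S).obj p.pt), Points.map p.toHom z = Points.mk p := by
    intro z
    obtain ⟨s, rfl⟩ := (Points.schemeEquiv p.pt).surjective z
    change Points.map p.toHom (Points.ofPt (𝟙 _) s) = _
    rw [Points.map_ofPt, Category.id_comp]
    exact Points.ofPt_toHom p s
  constructor
  · rintro ⟨z, rfl⟩
    exact key z
  · rintro rfl
    obtain ⟨z⟩ := nonempty_points_spec_field (S := S) p.str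
    exact ⟨z, key z⟩

/-- The residual space is the spectrum of a field iff the point is represented by a monomorphism from the
spectrum of a field. -/
theorem residual_iso_field_iff {X Z : Sp S} (hX : IsAlgSpace X) (hZ : IsAlgSpace Z) (x : Points X)
    (i : Z ⟶ X) [Mono i] (hi : Set.range (Points.map i) = {x})
    {k : Type u} [Field k] (str : Spec (CommRingCat.of k) ⟶ S)
    (p : (yon S).obj (Over.mk str) ⟶ Z) (h1 : LocP @LocallyOfFinitePresentation p)
    (h2 : LocP @Flat p) (h3 : IsSurjectiveMor p) :
    (∃ (k' : Type u) (_ : Field k') (str' : Spec (CommRingCat.of k') ⟶ S),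
        Nonempty (Z ≅ (yon S).obj (Over.mk str'))) ↔
      ∃ q : FieldPt X, Points.mk q = x ∧ Mono q.toHom := by
  constructor
  · rintro ⟨k', _, str', ⟨e⟩⟩
    refine ⟨fieldPtOfHom str' (e.inv ≫ i), ?_, ?_⟩
    · have hmem : Points.mk (fieldPtOfHom str' (e.inv ≫ i)) ∈ Set.range (Points.map i) := by
        refine ⟨Points.mk (fieldPtOfHom str' e.inv), ?_⟩
        rw [Points.map_mk, fieldPtOfHom_map]
      rw [hi] at hmem
      exact hmem
    · rw [toHom_fieldPtOfHom]
      infer_instance
  · rintro ⟨q, hq, hm⟩
    have hGf := Groth.Agent.H50.goodClass_flat.{u}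
    have hGp := Groth.Agent.H50.goodClass_lfp.{u}
    have hid : (yon S).map (𝟙 q.pt) = 𝟙 _ := (yon S).map_id _
    have l1 : LocP @LocallyOfFinitePresentation (𝟙 ((yon S).obj q.pt)) := by
      rw [← hid]
      exact hGp.locP_yon_map (𝟙 q.pt) (by rw [Over.id_left]; infer_instance)
    have l2 : LocP @Flat (𝟙 ((yon S).obj q.pt)) := by
      rw [← hid]
      exact hGf.locP_yon_map (𝟙 q.pt) (by rw [Over.id_left]; infer_instance)
    have l3 : IsSurjectiveMor (𝟙 ((yon S).obj q.pt)) := fun y => ⟨y, Points.map_id y⟩
    have hr : Set.range (Points.map q.toHom) = {x} := by rw [range_map_toHom, hq]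
    obtain ⟨e, -⟩ := exists_iso_of_mono_of_field_cover hX hZ (IsAlgSpace.yon_obj q.pt) x i q.toHom
      hi hr str p h1 h2 h3 q.str (𝟙 _) l1 l2 l3
    exact ⟨q.K, inferInstance, q.str, ⟨e.symm⟩⟩

end Groth.Agent.H52
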