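import Groth.Agent.H52.DimZero

set_option autoImplicit false
universe u
open CategoryTheory CategoryTheory.Limits AlgebraicGeometry Opposite

namespace Groth.Agent.H52

open AlgSp

/-- A morphism locally of finite type from a discrete scheme is locally quasi-finite. -/
theorem locallyQuasiFinite_of_discreteTopology {U V : Scheme.{u}} (h : U ⟶ V)
    [LocallyOfFiniteType h] [DiscreteTopology ↥U] : LocallyQuasiFinite h := by
  rw [locallyQuasiFinite_iff_isDiscrete_preimage_singleton]
  intro x
  exact ⟨inferInstance⟩

/-- A scheme locally quasi-finite over a field is discrete. -/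
theorem discreteTopology_of_locallyQuasiFinite_field {k : Type u} [Field k] {U : Scheme.{u}}
    (h : U ⟶ Spec (CommRingCat.of k)) [LocallyQuasiFinite h] : DiscreteTopology ↥U := by
  rw [← isDiscrete_univ_iff]
  by_cases hU : IsEmpty ↥U
  · rw [Set.univ_eq_empty_iff.2 hU]
    exact ⟨inferInstance⟩
  rw [not_isEmpty_iff] at hU
  obtain ⟨u⟩ := hU
  have h1 := h.isDiscrete_preimage_singleton (h u)
  have h2 : h ⁻¹' {h u} = Set.univ :=
    Set.eq_univ_of_forall fun v => Subsingleton.elim (α := ↥(Spec (CommRingCat.of k))) _ _
  rwa [h2] at h1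

/-- S10482 for sheaves. -/
theorem locP_lqf_field_iff {k : Type u} [Field k] {X : Sp (Spec (CommRingCat.of k))}
    (p : X ⟶ (yon (Spec (CommRingCat.of k))).obj (Over.mk (𝟙 _))) :
    LocP (@LocallyQuasiFinite ⊓ @LocallyOfFiniteType : MorphismProperty Scheme.{u}) p ↔
      LocP @LocallyOfFiniteType p ∧ AlgSp.dim X ≤ 0 := by
  constructor
  · intro hp
    refine ⟨fun U V a b h ha hb e => (hp a b h ha hb e).2, ?_⟩
    refine iSup_le fun U => iSup_le fun a => iSup_le fun ha => ?_
    obtain ⟨h, hh⟩ := (yon (Spec (CommRingCat.of k))).map_surjective (a ≫ p)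
    have h1 := hp a (𝟙 _) h ha (repWith_id _ _) (by rw [hh, Category.comp_id])
    have : LocallyQuasiFinite h.left := h1.1
    have := discreteTopology_of_locallyQuasiFinite_field (k := k) h.left
    exact topologicalKrullDim_zero_of_discreteTopology _
  · rintro ⟨hp, hd⟩ U V a b h ha hb e
    have hlft : LocallyOfFiniteType h.left := hp a b h ha hb e
    have hU : topologicalKrullDim ↥U.left ≤ 0 :=
      (le_iSup_of_le (f := fun U : Over (Spec (CommRingCat.of k)) =>
        ⨆ (a : (yon (Spec (CommRingCat.of k))).obj U ⟶ X) (_ : RepWith @Etale a),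
          topologicalKrullDim ↥U.left) U
        (le_iSup_of_le (f := fun a : (yon (Spec (CommRingCat.of k))).obj U ⟶ X =>
          ⨆ (_ : RepWith @Etale a), topologicalKrullDim ↥U.left) a
          (le_iSup_of_le (f := fun _ : RepWith @Etale a => topologicalKrullDim ↥U.left) ha
            le_rfl))).trans hd
    have := (chart_noeth_jacobson_of_locP_field p hp a ha).1
    have := discreteTopology_of_topologicalKrullDim_le_zero hU
    exact ⟨locallyQuasiFinite_of_discreteTopology h.left, hlft⟩

end Groth.Agent.H52
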