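import Groth.Agent.H52.QFAtSp
import Groth.Agent.H52.LQFField
import Groth.Agent.H52.DecentMorLocal
import Groth.Agent.H52.Points
import Groth.Agent.H52.Chart
import Groth.Agent.H50.LocPBase

/-!
# Finiteness of the points of a fibre product over a pair of points (S10417)
-/

set_option autoImplicit false
universe u
open CategoryTheory CategoryTheory.Limits AlgebraicGeometry Opposite

namespace Groth.Agent.H52.FibreProdFinite

open AlgSp

/-- Quasi-finiteness near a point is stable under base change. -/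
theorem quasiFiniteAt_of_isPullback {U V T U' : Scheme.{u}} {h : U ⟶ V} {t : T ⟶ V}
    {s : U' ⟶ U} {h' : U' ⟶ T} (sq : IsPullback s h' h t) (u : U) (hq : QFNear U V h u)
    (u' : U') (hu' : s u' = u) : h'.QuasiFiniteAt u' := by
  obtain ⟨W, hu, hlqf, -⟩ := hq
  have sq1 : IsPullback (s ∣_ W) (s ⁻¹ᵁ W).ι W.ι s := isPullback_morphismRestrict s W
  have sq2 : IsPullback (s ∣_ W) ((s ⁻¹ᵁ W).ι ≫ h') (W.ι ≫ h) t := sq1.paste_vert sq
  have : LocallyQuasiFinite ((s ⁻¹ᵁ W).ι ≫ h') :=
    MorphismProperty.of_isPullback (P := @LocallyQuasiFinite) sq2 hlqf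
  have hmem : u' ∈ s ⁻¹ᵁ W := by
    change s u' ∈ W
    rw [hu']; exact hu
  have h1 : ((s ⁻¹ᵁ W).ι ≫ h').QuasiFiniteAt ⟨u', hmem⟩ := ((s ⁻¹ᵁ W).ι ≫ h').quasiFiniteAt _
  rw [Scheme.Hom.quasiFiniteAt_comp_iff_of_isOpenImmersion] at h1
  exact h1

/-- A quasi-compact scheme locally of finite type over a field has finitely many points at which
it is quasi-finite over the field. -/
theorem finite_quasiFiniteAt {K : Type u} [Field K] {A : Scheme.{u}} [CompactSpace ↥A]
    (m : A ⟶ Spec (CommRingCat.of K)) [LocallyOfFiniteType m] :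
    {v : A | m.QuasiFiniteAt v}.Finite := by
  have : IsLocallyNoetherian A := LocallyOfFiniteType.isLocallyNoetherian m
  have : IsNoetherian A := {}
  have hN : TopologicalSpace.NoetherianSpace ↥A := inferInstance
  let Ω := m.quasiFiniteLocus
  have hlqf : LocallyQuasiFinite (Ω.ι ≫ m) := inferInstance
  have hd : DiscreteTopology ↥Ω := discreteTopology_of_locallyQuasiFinite_field (Ω.ι ≫ m)
  have hc : CompactSpace ↥Ω := isCompact_iff_compactSpace.1 (hN.isCompact (Ω : Set ↥A))
  have hf : Finite ↥Ω := finite_of_compact_of_discrete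
  exact Set.toFinite (Ω : Set ↥A)

variable {S : Scheme.{u}}

/-- S10417. -/
theorem s10417 {X Y Z W : AlgSp.Space S} (f : X ⟶ Y) (g : Z ⟶ Y) (p : W ⟶ X) (q : W ⟶ Z)
    (hW : IsPullback p.hom q.hom f.hom g.hom) (x : Points X.obj) (z : Points Z.obj)
    (hxz : Points.map f.hom x = Points.map g.hom z) (hft : IsFiniteTypeMor f.hom)
    (hf : HasAtMor QFNear f.hom x) :
    {w : Points W.obj | Points.map p.hom w = x ∧ Points.map q.hom w = z}.Finite := by
  obtain ⟨ζ, rfl⟩ := Points.mk_surjective z
  let T : Over S := ζ.pt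
  let η : (yon S).obj T ⟶ Y.obj := ζ.toHom ≫ g.hom
  -- the fibre
  let XK : Sp S := pullback f.hom η
  let fstK : XK ⟶ X.obj := pullback.fst f.hom η
  let sndK : XK ⟶ (yon S).obj T := pullback.snd f.hom η
  have hXK : IsPullback fstK sndK f.hom η := IsPullback.of_hasPullback f.hom η
  -- the map to `W`
  have hwc : fstK ≫ f.hom = (sndK ≫ ζ.toHom) ≫ g.hom := by
    rw [Category.assoc]; exact hXK.w
  let c : XK ⟶ W.obj := hW.lift fstK (sndK ≫ ζ.toHom) hwc
  have hc1 : c ≫ p.hom = fstK := hW.lift_fst _ _ _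
  have hc2 : c ≫ q.hom = sndK ≫ ζ.toHom := hW.lift_snd _ _ _
  have hsqc : IsPullback c sndK q.hom ζ.toHom := by
    refine IsPullback.of_right ?_ hc2 hW
    rw [hc1]; exact hXK
  -- reduction to the fibre
  have hsub : {w : Points W.obj | Points.map p.hom w = x ∧ Points.map q.hom w = Points.mk ζ} ⊆
      Points.map c '' {w' : Points XK | Points.map fstK w' = x} := by
    rintro w ⟨hw1, hw2⟩
    have e : Points.map q.hom w = Points.map ζ.toHom
        (Points.ofScheme T (IsLocalRing.closedPoint ζ.K)) := by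
      rw [hw2, ← Points.ofPt_eq_map_ofScheme]
      exact (Points.ofPt_toHom ζ _).symm
    obtain ⟨w', hw'1, -⟩ := exists_point_of_isPullback hsqc w _ e
    refine ⟨w', ?_, hw'1⟩
    change Points.map fstK w' = x
    rw [← hc1, Points.map_comp, hw'1, hw1]
  suffices hE' : {w' : Points XK | Points.map fstK w' = x}.Finite from (hE'.image _).subset hsub
  -- the fibre is quasi-compact and locally of finite type over the field
  have hTqc : IsQuasiCompactSp ((yon S).obj T) :=
    ⟨T, 𝟙 _, repWith_id _ _, repWith_id _ _,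
      (inferInstance : CompactSpace ↥(Spec (CommRingCat.of ζ.K)))⟩
  obtain ⟨A, α, hαe, hαs, hAc⟩ := hft.2 (IsAlgSpace.yon_obj T) hTqc η fstK sndK hXK
  obtain ⟨m, hm⟩ := (yon S).map_surjective (α ≫ sndK)
  have hlft : LocP @LocallyOfFiniteType sndK :=
    Groth.Agent.H50.goodClass_lft.locP_of_isPullback X.property Y.property
      (IsAlgSpace.yon_obj T) f.hom η fstK sndK hXK hft.1
  have hmlft : LocallyOfFiniteType m.left :=
    hlft α (𝟙 _) m hαe (repWith_id _ _) (by rw [hm, Category.comp_id])
  have : CompactSpace ↥A.left := hAc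
  have hfin := finite_quasiFiniteAt (K := ζ.K) m.left
  suffices hsub' : {w' : Points XK | Points.map fstK w' = x} ⊆
      Points.ofPt α '' {v | m.left.QuasiFiniteAt v} from (hfin.image _).subset hsub'
  intro w' hw'
  obtain ⟨v, hv⟩ := ofPt_surjective_of_repWith_surjective α hαs w'
  refine ⟨v, ?_, hv⟩
  -- a chart of the fibre at which the projection is quasi-finite
  obtain ⟨U, V, a, b, h, u, hae, hbe, hcomm, hux, hqf⟩ := hf
  have hηrep : Representable η := Y.property.representable_from_yon η
  let Ut : Over S := hηrep.pullback (a ≫ f.hom)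
  let sU : Ut ⟶ U := hηrep.snd (a ≫ f.hom)
  let tU : Ut ⟶ T := hηrep.fst' (a ≫ f.hom)
  have hUt : IsPullback ((yon S).map tU) ((yon S).map sU) η (a ≫ f.hom) := hηrep.isPullback' _
  let Tt : Over S := hηrep.pullback b
  let sT : Tt ⟶ V := hηrep.snd b
  let tT : Tt ⟶ T := hηrep.fst' b
  have hTt : IsPullback ((yon S).map tT) ((yon S).map sT) η b := hηrep.isPullback' _
  have hTet : Etale tT.left := hbe.property η _ tT hTt.flip
  have hwk : (yon S).map tU ≫ η = (yon S).map (sU ≫ h) ≫ b := by
    rw [hUt.w, hcomm, Functor.map_comp, Category.assoc]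
  obtain ⟨k, hk⟩ := (yon S).map_surjective (hTt.lift ((yon S).map tU) ((yon S).map (sU ≫ h)) hwk)
  have hk1 : (yon S).map k ≫ (yon S).map tT = (yon S).map tU := by
    rw [hk, hTt.lift_fst]
  have hk2 : (yon S).map k ≫ (yon S).map sT = (yon S).map sU ≫ (yon S).map h := by
    rw [hk, hTt.lift_snd, Functor.map_comp]
  have hsqk : IsPullback k.left sU.left sT.left h.left := by
    have h1 : IsPullback ((yon S).map k) ((yon S).map sU) ((yon S).map sT) ((yon S).map h) := by
      refine IsPullback.of_right ?_ hk2 hTt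
      rw [hk1, ← hcomm]; exact hUt
    have h2 : IsPullback k sU sT h :=
      IsPullback.of_map (yon S) ((yon S).map_injective (by
        rw [Functor.map_comp, Functor.map_comp]; exact hk2)) h1
    exact h2.map (Over.forget S)
  -- the chart of the fibre
  have hwa : ((yon S).map sU ≫ a) ≫ f.hom = (yon S).map tU ≫ η := by
    rw [Category.assoc]; exact hUt.w.symm
  let a' : (yon S).obj Ut ⟶ XK := hXK.lift ((yon S).map sU ≫ a) ((yon S).map tU) hwa
  have ha'1 : a' ≫ fstK = (yon S).map sU ≫ a := hXK.lift_fst _ _ _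
  have ha'2 : a' ≫ sndK = (yon S).map tU := hXK.lift_snd _ _ _
  have hsqa : IsPullback a' ((yon S).map sU) fstK a := by
    refine IsPullback.of_right ?_ ha'1 hXK.flip
    rw [ha'2]; exact hUt
  have ha'e : RepWith @Etale a' := MorphismProperty.of_isPullback hsqa.flip hae
  -- the point
  have e : Points.map fstK w' = Points.map a (Points.ofScheme U u) := by
    rw [← Points.ofPt_eq_map_ofScheme, hux]; exact hw'
  obtain ⟨pt, hpt1, hpt2⟩ := exists_point_of_isPullback hsqa w' _ e
  obtain ⟨u', rfl⟩ := (Points.schemeEquiv Ut).surjective pt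
  have hu'1 : Points.ofPt a' u' = w' := by
    rw [Points.ofPt_eq_map_ofScheme]; exact hpt1
  have hu'2 : sU.left u' = u := by
    have h3 : Points.ofPt ((yon S).map sU) u' = Points.ofScheme U u := by
      rw [Points.ofPt_eq_map_ofScheme]; exact hpt2
    have := congrArg (Points.toScheme U) h3
    rwa [Points.toScheme_ofPt, Points.toScheme_ofScheme] at this
  -- quasi-finiteness at the point of the chart
  have hq1 : k.left.QuasiFiniteAt u' :=
    quasiFiniteAt_of_isPullback hsqk.flip u hqf u' hu'2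
  have : LocallyQuasiFinite tT.left := Groth.Agent.H50.locallyQuasiFinite_of_etale _
  have hq2 : (k.left ≫ tT.left).QuasiFiniteAt u' :=
    QFAt.quasiFiniteAt_comp k.left tT.left u' hq1 (tT.left.quasiFiniteAt _)
  have hktU : k ≫ tT = tU := (yon S).map_injective (by rw [Functor.map_comp]; exact hk1)
  have hq3 : tU.left.QuasiFiniteAt u' := by
    have : k.left ≫ tT.left = tU.left := congrArg (fun φ => φ.left) hktU
    rwa [this] at hq2
  exact quasiFiniteAt_chart_indep sndK α (𝟙 _) m hαe (repWith_id _ _)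
    (by rw [hm, Category.comp_id]) a' (𝟙 _) tU ha'e (repWith_id _ _)
    (by rw [ha'2, Category.comp_id]) v u' (hv.trans hu'1.symm) hq3

end Groth.Agent.H52.FibreProdFinite
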