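import Mathlib
import Groth.Agent.H50.LocPClass

set_option autoImplicit false
universe u
open CategoryTheory CategoryTheory.Limits AlgebraicGeometry

namespace Groth.Agent.H52.QFAt

variable {X Y Z : Scheme.{u}}

/-- Topological form of quasi-finiteness at a point: the point is isolated in its fibre. -/
theorem quasiFiniteAt_iff_exists_isOpen (f : X ⟶ Y) [LocallyOfFiniteType f] (x : X) :
    f.QuasiFiniteAt x ↔ ∃ O : Set X, IsOpen O ∧ O ∩ f ⁻¹' {f x} = {x} := by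
  rw [Scheme.Hom.quasiFiniteAt_iff_isOpen_singleton_asFiber]
  have h1 : IsOpen ({f.asFiber x} : Set (f.fiber (f x))) ↔
      IsOpen ({⟨x, rfl⟩} : Set (f ⁻¹' {f x})) := by
    rw [← (f.fiberHomeo (f x)).symm.isOpen_image, Set.image_singleton]
    rfl
  rw [h1, isOpen_induced_iff]
  constructor
  · rintro ⟨O, hO, hOe⟩
    refine ⟨O, hO, ?_⟩
    ext z
    constructor
    · rintro ⟨hzO, hzf⟩
      have : (⟨z, hzf⟩ : f ⁻¹' {f x}) ∈ Subtype.val ⁻¹' O := hzO
      rw [hOe] at this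
      exact congrArg Subtype.val this
    · rintro rfl
      have : (⟨z, rfl⟩ : f ⁻¹' {f z}) ∈ Subtype.val ⁻¹' O := by rw [hOe]; rfl
      exact ⟨this, rfl⟩
  · rintro ⟨O, hO, hOe⟩
    refine ⟨O, hO, ?_⟩
    ext ⟨z, hz⟩
    simp only [Set.mem_preimage, Set.mem_singleton_iff, Subtype.mk.injEq]
    constructor
    · intro hzO
      have : z ∈ O ∩ f ⁻¹' {f x} := ⟨hzO, hz⟩
      rw [hOe] at this
      exact this
    · rintro rfl
      have : z ∈ O ∩ f ⁻¹' {f z} := by rw [hOe]; rfl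
      exact this.1

/-- Quasi-finiteness at a point is stable under composition. -/
theorem quasiFiniteAt_comp (f : X ⟶ Y) (g : Y ⟶ Z) (x : X) (hf : f.QuasiFiniteAt x)
    (hg : g.QuasiFiniteAt (f x)) : (f ≫ g).QuasiFiniteAt x := by
  unfold Scheme.Hom.QuasiFiniteAt at *
  rw [Scheme.Hom.stalkMap_comp]
  exact RingHom.QuasiFinite.comp hf hg

/-- Cancellation of an étale (or open) morphism on the source. -/
theorem quasiFiniteAt_of_comp_of_isOpenMap (e : X ⟶ Y) (h : Y ⟶ Z) [LocallyOfFiniteType e]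
    [LocallyOfFiniteType h] (he : IsOpenMap e) (x : X) (hx : (e ≫ h).QuasiFiniteAt x) :
    h.QuasiFiniteAt (e x) := by
  rw [quasiFiniteAt_iff_exists_isOpen] at hx ⊢
  obtain ⟨O, hO, hOe⟩ := hx
  refine ⟨e '' O, he O hO, ?_⟩
  ext u
  constructor
  · rintro ⟨⟨o, hoO, rfl⟩, hu⟩
    have : o ∈ O ∩ (e ≫ h) ⁻¹' {(e ≫ h) x} := ⟨hoO, hu⟩
    rw [hOe] at this
    rw [Set.mem_singleton_iff] at this ⊢
    rw [this]
  · rintro rfl
    have : x ∈ O ∩ (e ≫ h) ⁻¹' {(e ≫ h) x} := by rw [hOe]; rfl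
    exact ⟨⟨x, this.1, rfl⟩, rfl⟩

end Groth.Agent.H52.QFAt
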