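import Groth.Agent.H52.FibreFinite

set_option autoImplicit false
universe u
open CategoryTheory CategoryTheory.Limits AlgebraicGeometry Opposite TopologicalSpace

namespace Groth.Agent.H52

open AlgSp

variable {S : Scheme.{u}}

/-- If `h` is quasi-finite at `u` then the induced morphism of residue field spectra is locally
quasi-finite. -/
theorem locallyQuasiFinite_residueFieldMap {U V : Scheme.{u}} (h : U ⟶ V) (u : ↥U)
    (hu : h.QuasiFiniteAt u) : LocallyQuasiFinite (Spec.map (h.residueFieldMap u)) := by
  have h1 : LocallyQuasiFinite (U.fromSpecStalk u ≫ h) := Scheme.Hom.quasiFiniteAt_iff.mp hu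
  have h2 : LocallyQuasiFinite (U.fromSpecResidueField u ≫ h) := by
    unfold Scheme.fromSpecResidueField
    rw [Category.assoc]
    infer_instance
  have h3 : LocallyQuasiFinite (Spec.map (h.residueFieldMap u) ≫ V.fromSpecResidueField (h u)) := by
    rw [Scheme.Hom.SpecMap_residueFieldMap_fromSpecResidueField]
    exact h2
  exact LocallyQuasiFinite.of_comp _ (V.fromSpecResidueField (h u))

/-- Quasi-finiteness at a point from quasi-finiteness on an open neighbourhood. -/
theorem quasiFiniteAt_of_opens {U V : Scheme.{u}} (h : U ⟶ V) (u : ↥U) (W : U.Opens) (hu : u ∈ W)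
    (hW : LocallyQuasiFinite (W.ι ≫ h)) : h.QuasiFiniteAt u := by
  have := (W.ι ≫ h).quasiFiniteAt ⟨u, hu⟩
  rw [Scheme.Hom.quasiFiniteAt_comp_iff_of_isOpenImmersion] at this
  exact this

/-- The morphism of residue field spectra induced by a morphism of schemes over `S`. -/
noncomputable abbrev resHom {U V : Over S} (h : U ⟶ V) (u : ↥U.left) :
    Over.mk (U.left.fromSpecResidueField u ≫ U.hom) ⟶
      Over.mk (V.left.fromSpecResidueField (h.left u) ≫ V.hom) :=
  Over.homMk (Spec.map (h.left.residueFieldMap u)) (by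
    change Spec.map (h.left.residueFieldMap u) ≫ V.left.fromSpecResidueField (h.left u) ≫ V.hom = _
    rw [Scheme.Hom.SpecMap_residueFieldMap_fromSpecResidueField_assoc, Over.w h]
    rfl)

theorem resHom_ptHom {U V : Over S} (h : U ⟶ V) (u : ↥U.left) :
    resHom h u ≫ ptHom V (h.left u) = ptHom U u ≫ h :=
  Over.OverMorphism.ext (Scheme.Hom.SpecMap_residueFieldMap_fromSpecResidueField h.left u)

/-- For a chart square with `h` quasi-finite at `u` and a monomorphic point `r` of the target under
the image of `u`, the factor morphism `Spec κ(u) ⟶ Spec r.K` is locally quasi-finite. -/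
theorem locallyQuasiFinite_factor_of_chart {F G : Sp S} (g : F ⟶ G) {U V : Over S}
    (a : (yon S).obj U ⟶ F) (b : (yon S).obj V ⟶ G) (h : U ⟶ V) (hb : RepWith @Etale b)
    (hcomm : a ≫ g = (yon S).map h ≫ b) (u : ↥U.left) (hu : h.left.QuasiFiniteAt u)
    (r : FieldPt G) (hm : Mono r.toHom) (hrep : Representable r.toHom)
    (hr : Points.mk r = Points.map g (Points.ofPt a u))
    (c : Over.mk (U.left.fromSpecResidueField u ≫ U.hom) ⟶ r.pt)
    (hc : (yon S).map c ≫ r.toHom = ((yon S).map (ptHom U u) ≫ a) ≫ g) :
    LocallyQuasiFinite c.left := by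
  have hv : Points.mk (FieldPt.ofPt b (h.left u)) = Points.mk r := by
    rw [hr, Points.map_ofPt, hcomm, ofPt_yon_map_comp]
    rfl
  obtain ⟨cv', hcv'⟩ := exists_factor_of_mono r (FieldPt.ofPt b (h.left u)) hm hrep hv
  have hlqf' : LocallyQuasiFinite cv'.left :=
    locallyQuasiFinite_of_factor b hb (h.left u) r cv' hcv'
  let cv : Over.mk (V.left.fromSpecResidueField (h.left u) ≫ V.hom) ⟶ r.pt := cv'
  have hcv : (yon S).map cv ≫ r.toHom = (yon S).map (ptHom V (h.left u)) ≫ b := by
    exact hcv'.trans (FieldPt.toHom_ofPt b (h.left u))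
  have hlqf : LocallyQuasiFinite cv.left := hlqf'
  clear_value cv
  clear hcv' hlqf'
  have hfac : c = resHom h u ≫ cv := by
    apply (yon S).map_injective
    rw [← cancel_mono r.toHom, hc, Functor.map_comp]
    simp only [Category.assoc]
    rw [hcv, ← Category.assoc ((yon S).map (resHom h u)), ← Functor.map_comp, resHom_ptHom,
      Functor.map_comp]
    simp only [Category.assoc]
    rw [hcomm]
  have hρ : LocallyQuasiFinite (resHom h u).left := locallyQuasiFinite_residueFieldMap h.left u hu
  rw [hfac]
  exact MorphismProperty.comp_mem _ _ _ hρ hlqf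

end Groth.Agent.H52
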