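import Groth.Agent.H51.SpOpen
import Groth.Agent.H53.Epi

set_option autoImplicit false
universe u
open CategoryTheory CategoryTheory.Limits AlgebraicGeometry Opposite TopologicalSpace

namespace Groth.Agent.H52

open AlgSp

variable {S : Scheme.{u}}

/-- An etale monomorphism from an algebraic space is (representable and) an open immersion. -/
theorem repWith_isOpenImmersion_of_isEtaleMor_of_mono {X Y : Sp S} (hX : IsAlgSpace X) (f : X ⟶ Y)
    (het : IsEtaleMor f) [Mono f] : RepWith @IsOpenImmersion f := by
  have hopen : IsOpen (Set.range (Points.map f)) :=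
    (Groth.Agent.H51.isOpenMap_map_of_isEtaleMor f hX het).isOpen_range
  have hι := Groth.Agent.H51.repWith_isOpenImmersion_openSubι (Set.range (Points.map f)) hopen
  obtain ⟨f', hf'⟩ := (Groth.Agent.H51.exists_factor_iff_of_isOpenImmersion'
    (Groth.Agent.H51.openSubι Y (Set.range (Points.map f))) hι f).2 (by
      rw [Groth.Agent.H51.range_map_openSubι])
  have hmι : Mono (Groth.Agent.H51.openSubι Y (Set.range (Points.map f))) :=
    Groth.Agent.H49.mono_of_repWith_mono Groth.Agent.H51.isOpenImmersion_le_mono _ hι
  have hm' : Mono f' := by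
    have : Mono (f' ≫ Groth.Agent.H51.openSubι Y (Set.range (Points.map f))) := by
      rw [hf']; infer_instance
    exact mono_of_mono f' (Groth.Agent.H51.openSubι Y (Set.range (Points.map f)))
  have het' : IsEtaleMor f' := by
    intro U φ hφ
    have h1 : RepWith @Etale (φ ≫ f) := het φ hφ
    rw [← hf', ← Category.assoc] at h1
    exact Groth.Agent.H51.repWith_of_comp_mono (φ ≫ f') _ h1
  have hs' : IsSurjectiveMor f' := by
    intro z
    have hz : Points.map (Groth.Agent.H51.openSubι Y (Set.range (Points.map f))) z ∈
        Set.range (Points.map f) := by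
      have : Points.map (Groth.Agent.H51.openSubι Y (Set.range (Points.map f))) z ∈
          Set.range (Points.map (Groth.Agent.H51.openSubι Y (Set.range (Points.map f)))) :=
        ⟨z, rfl⟩
      rwa [Groth.Agent.H51.range_map_openSubι] at this
    obtain ⟨x, hx⟩ := hz
    refine ⟨x, Groth.Agent.H51.injective_map_of_mono
      (Groth.Agent.H51.openSubι Y (Set.range (Points.map f))) ?_⟩
    rw [← Points.map_comp, hf', hx]
  have hepi : Epi f' := Groth.Agent.H53.epi_of_isEtaleMor_of_isSurjectiveMor hX f' het' hs'
  have hiso : IsIso f' := isIso_of_mono_of_epi f'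
  rw [← hf']
  exact ((RepWith @IsOpenImmersion).cancel_left_of_respectsIso f' _).2 hι

/-- A representable open immersion is etale in the sense of `IsEtaleMor`. -/
theorem isEtaleMor_of_repWith_isOpenImmersion {X Y : Sp S} (f : X ⟶ Y)
    (hf : RepWith @IsOpenImmersion f) : IsEtaleMor f := by
  intro U φ hφ
  have hf' : RepWith @Etale f :=
    ⟨hf.rep, fun _ _ g fst snd sq => by
      have : IsOpenImmersion snd.left := hf.property _ _ _ sq
      exact (inferInstance : Etale snd.left)⟩
  exact (RepWith @Etale).comp_mem _ _ hφ hf'

end Groth.Agent.H52
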