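import Groth.Agent.H52.ChartFinite

set_option autoImplicit false
universe u
open CategoryTheory CategoryTheory.Limits AlgebraicGeometry Opposite TopologicalSpace

namespace Groth.Agent.H52

open AlgSp

variable {S : Scheme.{u}}

/-- A scheme finite over a scheme with finitely many points has finitely many points. -/
theorem finite_of_isFinite_of_finite {Z W : Scheme.{u}} (f : Z ⟶ W) [IsFinite f] [Finite ↥W] :
    Finite ↥Z := by
  have h : (Set.univ : Set ↥Z) = ⋃ w : ↥W, f ⁻¹' {w} := by
    ext z
    simp
  rw [← Set.finite_univ_iff, h]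
  exact Set.finite_iUnion fun w => f.finite_preimage_singleton w

/-- If the fibre `Z = U ×_F Spec K` of a chart over a field-valued point `q` is finite over `Spec K`, then
the fibre over the point of `q` of the relation `U ×_F U` is finite. -/
theorem finite_rel_fibre_of_isFinite_fibre {F : Sp S} (q : FieldPt F) {U : Over S}
    (φ : (yon S).obj U ⟶ F) (hφ : Representable φ) {Z : Over S} (a : Z ⟶ U) (b : Z ⟶ q.pt)
    (hpb : IsPullback ((yon S).map a) ((yon S).map b) φ q.toHom) (hbfin : IsFinite b.left)
    {R : Over S} (s t : R ⟶ U) (hR : IsPullback ((yon S).map t) ((yon S).map s) φ φ) :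
    (Points.ofPt ((yon S).map t ≫ φ) ⁻¹' {Points.mk q}).Finite := by
  have hZfin : Finite ↥Z.left := finite_of_isFinite_of_finite (W := Spec (CommRingCat.of q.K)) b.left
  -- `P = Z ×_{Spec K} Z`
  have hP := IsPullback.of_hasPullback b b
  have hP' := hP.map (Over.forget S)
  have hfstfin : IsFinite (pullback.fst b b).left :=
    MorphismProperty.of_isPullback (P := @IsFinite) hP'.flip hbfin
  have hPfin : Finite ↥(pullback b b).left := finite_of_isFinite_of_finite (pullback.fst b b).left
  -- `Z_R = R ×_F Spec K`
  have hrepR : Representable ((yon S).map t ≫ φ) :=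
    (Representable).comp_mem _ _ (representable_yon_map t) hφ
  obtain ⟨ZR, aR, bR, hpbR, hrangeR⟩ := exists_fibre_scheme q ((yon S).map t ≫ φ) hrepR
  have hw1 : (yon S).map (aR ≫ t) ≫ φ = (yon S).map bR ≫ q.toHom := by
    rw [Functor.map_comp, Category.assoc]; exact hpbR.w
  have hw2 : (yon S).map (aR ≫ s) ≫ φ = (yon S).map bR ≫ q.toHom := by
    rw [Functor.map_comp, Category.assoc, ← hR.w]; exact hpbR.w
  obtain ⟨m₁, hm₁a, hm₁b⟩ := exists_lift_of_isPullback_yon hpb _ _ hw1
  obtain ⟨m₂, hm₂a, hm₂b⟩ := exists_lift_of_isPullback_yon hpb _ _ hw2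
  let m : ZR ⟶ pullback b b := pullback.lift m₁ m₂ (by rw [hm₁b, hm₂b])
  have hmono : Mono m := by
    refine ⟨fun {T} z z' hzz => ?_⟩
    have h1 : z ≫ m₁ = z' ≫ m₁ := by
      have := congrArg (fun k => k ≫ pullback.fst b b) hzz
      simpa only [Category.assoc, m, pullback.lift_fst] using this
    have h2 : z ≫ m₂ = z' ≫ m₂ := by
      have := congrArg (fun k => k ≫ pullback.snd b b) hzz
      simpa only [Category.assoc, m, pullback.lift_snd] using this
    refine hom_ext_of_isPullback_yon hpbR z z' ?_ ?_
    · refine hom_ext_of_isPullback_yon hR _ _ ?_ ?_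
      · rw [Category.assoc, Category.assoc, ← hm₁a, ← Category.assoc, ← Category.assoc, h1]
      · rw [Category.assoc, Category.assoc, ← hm₂a, ← Category.assoc, ← Category.assoc, h2]
    · rw [← hm₁b, ← Category.assoc, ← Category.assoc, h1]
  have hmonol : Mono m.left := inferInstance
  have hZRfin : Finite ↥ZR.left := Finite.of_injective _ m.left.injective
  rw [← hrangeR]
  exact Set.finite_range _

/-- For a quasi-compact field-valued point `q` of a sheaf and a quasi-compact etale chart `U`, the fibre
over the point of `q` of the relation `U ×_F U` is finite. -/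
theorem finite_rel_fibre_of_quasiCompact_point {F : Sp S} (q : FieldPt F)
    (hq : RepWith @QuasiCompact q.toHom) {U : Over S} (φ : (yon S).obj U ⟶ F)
    (hφ : RepWith @Etale φ) [CompactSpace ↥U.left] {R : Over S} (s t : R ⟶ U)
    (hR : IsPullback ((yon S).map t) ((yon S).map s) φ φ) :
    (Points.ofPt ((yon S).map t ≫ φ) ⁻¹' {Points.mk q}).Finite := by
  -- `Z = U ×_F Spec K`
  obtain ⟨Z, a, b, hpb, -⟩ := exists_fibre_scheme q φ hφ.rep
  have hqc : QuasiCompact a.left := hq.property φ _ a hpb.flip
  have het : Etale b.left := hφ.property q.toHom _ b hpb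
  have hZc : CompactSpace ↥Z.left := QuasiCompact.compactSpace_of_compactSpace a.left
  have hbqc : QuasiCompact b.left :=
    (quasiCompact_iff_compactSpace (Y := Spec (CommRingCat.of q.K)) b.left).2 hZc
  have hbfin : IsFinite b.left := isFinite_of_etale_of_quasiCompact (K := q.K) b.left
  exact finite_rel_fibre_of_isFinite_fibre q φ hφ.rep a b hpb hbfin s t hR

/-- If the fibre `Z = U ×_F Spec K` of a chart over a field-valued point `q` is finite over `Spec K`, then
the fibre of the chart over the point of `q` is finite. -/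
theorem finite_fibre_of_isFinite_fibre {F : Sp S} (q : FieldPt F) {U : Over S}
    (φ : (yon S).obj U ⟶ F) (hφ : Representable φ)
    (hfin : ∀ (Z : Over S) (a : Z ⟶ U) (b : Z ⟶ q.pt),
      IsPullback ((yon S).map a) ((yon S).map b) φ q.toHom → IsFinite b.left) :
    (Points.ofPt φ ⁻¹' {Points.mk q}).Finite := by
  obtain ⟨Z, a, b, hpb, hrange⟩ := exists_fibre_scheme q φ hφ
  have hbfin := hfin Z a b hpb
  have hZfin : Finite ↥Z.left := finite_of_isFinite_of_finite (W := Spec (CommRingCat.of q.K)) b.left
  rw [← hrange]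
  exact Set.finite_range _

end Groth.Agent.H52
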