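import Groth.Agent.H52.DimZeroTop
import Mathlib.AlgebraicGeometry.Artinian
import Mathlib.AlgebraicGeometry.Noetherian
import Mathlib.AlgebraicGeometry.Morphisms.FiniteType

set_option autoImplicit false
universe u
open CategoryTheory AlgebraicGeometry Topology TopologicalSpace

namespace Groth.Agent.H52

/-- Every point of a locally Noetherian scheme has an open neighbourhood which is a Noetherian
quasi-sober space. -/
theorem exists_noetherian_open_nhd {U : Scheme.{u}} [IsLocallyNoetherian U] (z : U) :
    ∃ V : Set U, IsOpen V ∧ z ∈ V ∧ NoetherianSpace ↥V ∧ QuasiSober ↥V := by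
  obtain ⟨V, hV, hzV, -⟩ := exists_isAffineOpen_mem_and_subset (X := U) (x := z) (U := ⊤) trivial
  have : IsNoetherianRing Γ(U, V) := IsLocallyNoetherian.component_noetherian ⟨V, hV⟩
  exact ⟨V, V.2, hzV, noetherianSpace_of_isAffineOpen V hV, V.isOpenEmbedding'.quasiSober⟩

/-- In a locally Noetherian scheme a closed set stable under generalization is open. -/
theorem isOpen_of_isClosed_of_stableUnderGeneralization_scheme {U : Scheme.{u}}
    [IsLocallyNoetherian U] {F : Set U} (hF : IsClosed F) (hg : StableUnderGeneralization F) :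
    IsOpen F := by
  rw [isOpen_iff_forall_mem_open]
  intro z hz
  obtain ⟨V, hVo, hzV, hN, hQ⟩ := exists_noetherian_open_nhd z
  have hopen : IsOpen ((Subtype.val : ↥V → U) ⁻¹' F) :=
    isOpen_of_isClosed_of_stableUnderGeneralization (hF.preimage continuous_subtype_val)
      (hg.preimage continuous_subtype_val)
  refine ⟨Subtype.val '' ((Subtype.val : ↥V → U) ⁻¹' F), ?_, hVo.isOpenMap_subtype_val _ hopen,
    ⟨⟨z, hzV⟩, hz, rfl⟩⟩
  rintro _ ⟨y, hy, rfl⟩
  exact hy

/-- A locally Noetherian scheme of dimension at most zero is discrete. -/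
theorem discreteTopology_of_topologicalKrullDim_le_zero {W : Scheme.{u}} [IsLocallyNoetherian W]
    (h : topologicalKrullDim W ≤ 0) : DiscreteTopology W :=
  have := IsLocallyArtinian.of_topologicalKrullDim_le_zero h
  inferInstance

/-- An open set of isolated points of a locally Noetherian Jacobson scheme is closed. -/
theorem isClosed_of_forall_isOpen_singleton {U : Scheme.{u}} [IsLocallyNoetherian U]
    [JacobsonSpace U] {W : Set U} (hW : ∀ w ∈ W, IsOpen ({w} : Set U)) : IsClosed W := by
  have hcl : ∀ w ∈ W, IsClosed ({w} : Set U) := by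
    intro w hw
    obtain ⟨c, hc1, hc2⟩ := nonempty_inter_closedPoints (Z := ({w} : Set U)) ⟨w, rfl⟩
      (hW w hw).isLocallyClosed
    rw [Set.mem_singleton_iff] at hc1
    rw [← hc1]
    exact hc2
  rw [← closure_subset_iff_isClosed]
  intro z hz
  obtain ⟨V, hVo, hzV, hN, -⟩ := exists_noetherian_open_nhd z
  -- `W ∩ V` is compact, covered by open singletons, so finite
  have hWV : IsCompact (W ∩ V) := by
    have := (NoetherianSpace.isCompact ((Subtype.val : ↥V → U) ⁻¹' W)).image
      continuous_subtype_val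
    rwa [Subtype.image_preimage_coe, Set.inter_comm] at this
  obtain ⟨t, ht⟩ := hWV.elim_finite_subcover (fun w : ↥W => ({w.1} : Set U))
    (fun w => hW w.1 w.2) (fun y hy => Set.mem_iUnion.2 ⟨⟨y, hy.1⟩, rfl⟩)
  have hz' : z ∈ closure (W ∩ V) := by
    rw [mem_closure_iff] at hz ⊢
    intro O hO hzO
    obtain ⟨y, hyO, hyW⟩ := hz (O ∩ V) (hO.inter hVo) ⟨hzO, hzV⟩
    exact ⟨y, hyO.1, hyW, hyO.2⟩
  have hcl2 : IsClosed (⋃ i ∈ t, ({i.1} : Set U)) :=
    t.finite_toSet.isClosed_biUnion (fun i _ => hcl i.1 i.2)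
  have := closure_minimal ht hcl2 hz'
  simp only [Set.mem_iUnion, Set.mem_singleton_iff, exists_prop] at this
  obtain ⟨i, -, rfl⟩ := this
  exact i.2

end Groth.Agent.H52
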