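import Groth.Agent.H52.QFAtSp
import Groth.Agent.H52.DimZeroSch
import Groth.Agent.H51.SpDim2
import Groth.Agent.H49.FibreGeneric
import Groth.Agent.H52.Atlas

set_option autoImplicit false
universe u
open CategoryTheory CategoryTheory.Limits AlgebraicGeometry Opposite

namespace Groth.Agent.H52.CZ

open AlgSp QFAt

theorem stalk_dim_zero_iff {X : Scheme.{u}} (x : X) :
    ringKrullDim (X.presheaf.stalk x) = 0 ↔ ∀ x' : X, x' ⤳ x → x' = x := by
  rw [ringKrullDim_stalk_eq_coheight]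
  have h0 : ((Order.coheight x : ℕ∞) : WithBot ℕ∞) = 0 ↔ Order.coheight x = 0 := by
    exact_mod_cast Iff.rfl
  rw [h0, Order.coheight_eq_zero]
  constructor
  · intro hm x' hx'
    have h1 : x ≤ x' := Scheme.le_iff_specializes.2 hx'
    have h2 : x' ≤ x := hm h1
    exact ((Scheme.le_iff_specializes.1 h2).antisymm hx').symm.eq
  · intro h b hb
    have := h b (Scheme.le_iff_specializes.1 hb)
    rw [this]

/-- (2) ⇒ (1) pointwise. -/
theorem stalk_dim_zero_of_quasiFiniteAt {W V : Scheme.{u}} (h : W ⟶ V) [LocallyOfFiniteType h]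
    (w : W) (hv : ringKrullDim (V.presheaf.stalk (h w)) = 0) (hq : h.QuasiFiniteAt w) :
    ringKrullDim (W.presheaf.stalk w) = 0 := by
  rw [stalk_dim_zero_iff] at hv ⊢
  intro w' hw'
  have h1 : h w' = h w := hv _ (hw'.map h.continuous)
  obtain ⟨O, hO, hOe⟩ := (quasiFiniteAt_iff_exists_isOpen h w).1 hq
  have hwO : w ∈ O := by
    have : w ∈ O ∩ h ⁻¹' {h w} := by rw [hOe]; rfl
    exact this.1
  have : w' ∈ O ∩ h ⁻¹' {h w} := ⟨hw'.mem_open hO hwO, h1⟩
  rw [hOe] at this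
  exact this

/-- (3) ⇒ (1) -/
theorem stalk_dim_zero_of_quasiFiniteAt_generic {W V : Scheme.{u}} (h : W ⟶ V)
    [LocallyOfFiniteType h] (w : W) (hv : ringKrullDim (V.presheaf.stalk (h w)) = 0)
    (hq : ∀ w' : W, h w' = h w → ringKrullDim (W.presheaf.stalk w') = 0 → h.QuasiFiniteAt w') :
    ringKrullDim (W.presheaf.stalk w) = 0 := by
  obtain ⟨w', hs, hd⟩ := H49.FibreGeneric.exists_specializes_ringKrullDim_stalk_eq_zero W w
  have hv' := (stalk_dim_zero_iff _).1 hv
  have h1 : h w' = h w := hv' _ (hs.map h.continuous)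
  have hq' := hq w' h1 hd
  have hcl := hq'.isClopen_singleton_asFiber.1
  -- w is in the closure of w' in the fibre
  have hw : w ∈ h ⁻¹' {h w'} := h1.symm
  have hmem : (h.fiberHomeo (h w')).symm ⟨w, hw⟩ ∈ ({h.asFiber w'} : Set (h.fiber (h w'))) := by
    rw [← hcl.closure_eq]
    rw [← specializes_iff_mem_closure]
    have hs' : (⟨w', rfl⟩ : h ⁻¹' {h w'}) ⤳ ⟨w, hw⟩ :=
      Topology.IsEmbedding.subtypeVal.specializes_iff.1 hs
    exact hs'.map (h.fiberHomeo (h w')).symm.continuous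
  have h2 := congrArg (fun z => h.fiberι (h w') z) (Set.mem_singleton_iff.1 hmem)
  simp only [Scheme.Hom.fiberι_fiberHomeo_symm, Scheme.Hom.fiberι_asFiber] at h2
  rw [h2]; exact hd

/-- (1) ⇒ (2) -/
theorem quasiFiniteAt_of_fibre_generic {W V : Scheme.{u}} (h : W ⟶ V) [LocallyOfFiniteType h]
    (v : V) (hq : ∀ w : W, h w = v → ringKrullDim (W.presheaf.stalk w) = 0) (w : W) (hw : h w = v) :
    h.QuasiFiniteAt w := by
  subst hw
  have : LocallyOfFiniteType (h.fiberToSpecResidueField (h w)) :=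
    MorphismProperty.pullback_snd _ _ inferInstance
  have : IsLocallyNoetherian (h.fiber (h w)) :=
    LocallyOfFiniteType.isLocallyNoetherian (h.fiberToSpecResidueField (h w))
  have hdim : topologicalKrullDim (h.fiber (h w)) ≤ 0 := by
    rw [H51.topologicalKrullDim_eq_iSup_coheight]
    refine iSup_le fun z => ?_
    have : Order.coheight z = 0 := by
      rw [Order.coheight_eq_zero]
      intro z' hz'
      have hs : z' ⤳ z := Scheme.le_iff_specializes.1 hz'
      have hs2 : h.fiberι (h w) z' ⤳ h.fiberι (h w) z := hs.map (h.fiberι (h w)).continuous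
      have hz : h (h.fiberι (h w) z) = h w := by
        have := (h.fiberHomeo (h w) z).2
        exact this
      have := (stalk_dim_zero_iff _).1 (hq _ hz) _ hs2
      have : z' = z := (h.fiberι (h w)).isEmbedding.injective this
      rw [this]
    rw [this]; rfl
  have := discreteTopology_of_topologicalKrullDim_le_zero hdim
  rw [Scheme.Hom.quasiFiniteAt_iff_isOpen_singleton_asFiber]
  exact isOpen_discrete _

end Groth.Agent.H52.CZ

namespace Groth.Agent.H52.CZ

open AlgSp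

variable {S : Scheme.{u}}

theorem map_ofPt_chart {F G : Sp S} (f : F ⟶ G) {U V : Over S} (a : (yon S).obj U ⟶ F)
    (b : (yon S).obj V ⟶ G) (h : U ⟶ V) (e : a ≫ f = (yon S).map h ≫ b) (u : ↥U.left) :
    Points.map f (Points.ofPt a u) = Points.ofPt b (h.left u) := by
  rw [Points.map_ofPt, e, H51.ofPt_map_comp]

/-- The statement of S10399. -/
theorem s10399 {X Y : AlgSp.Space S} (f : X ⟶ Y)
    (hf : AlgSp.LocP @LocallyOfFiniteType f.hom) (y : AlgSp.Points Y.obj)
    (hy : AlgSp.HasAt (fun U u => ringKrullDim ↥(U.presheaf.stalk u) = 0) Y.obj y) :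
    ((∀ x : AlgSp.Points X.obj, AlgSp.Points.map f.hom x = y →
        AlgSp.HasAt (fun U u => ringKrullDim ↥(U.presheaf.stalk u) = 0) X.obj x) ↔
      (∀ x : AlgSp.Points X.obj, AlgSp.Points.map f.hom x = y →
        AlgSp.HasAtMor QFNear f.hom x)) ∧
    ((∀ x : AlgSp.Points X.obj, AlgSp.Points.map f.hom x = y →
        AlgSp.HasAt (fun U u => ringKrullDim ↥(U.presheaf.stalk u) = 0) X.obj x →
        AlgSp.HasAtMor QFNear f.hom x) →
      ∀ x : AlgSp.Points X.obj, AlgSp.Points.map f.hom x = y →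
        AlgSp.HasAt (fun U u => ringKrullDim ↥(U.presheaf.stalk u) = 0) X.obj x) := by
  obtain ⟨U, a, ha, has⟩ := X.property.atlas
  obtain ⟨V, b, hb, hbs⟩ := Y.property.atlas
  obtain ⟨W, a', h, ha', has', e⟩ := exists_chart_diagram f.hom a ha has b hb hbs
  have hlft : LocallyOfFiniteType h.left := hf a' b h ha' hb e
  have hy' := (H51.s10248 Y y 0).1 hy
  have hsurj := H51.surjective_ofPt_of_surjective a' has'
  refine ⟨⟨fun h1 x hx => ?_, fun h2 x hx => ?_⟩, fun h3 x hx => ?_⟩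
  · obtain ⟨w, rfl⟩ := hsurj x
    have hv : Points.ofPt b (h.left w) = y := by rw [← map_ofPt_chart f.hom a' b h e, hx]
    refine ⟨W, V, a', b, h, w, ha', hb, e, rfl, ?_⟩
    refine qfNear_of_quasiFiniteAt h.left w ?_
    refine quasiFiniteAt_of_fibre_generic h.left (h.left w) (fun w₁ hw₁ => ?_) w rfl
    have hx₁ : Points.map f.hom (Points.ofPt a' w₁) = y := by
      rw [map_ofPt_chart f.hom a' b h e, hw₁, hv]
    exact (H51.s10248 X _ 0).1 (h1 _ hx₁) W a' w₁ ha' rfl
  · obtain ⟨U₂, V₂, a₂, b₂, h₂, u₂, ha₂, hb₂, e₂, hu₂, hq⟩ := h2 x hx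
    have : LocallyOfFiniteType h₂.left := hf a₂ b₂ h₂ ha₂ hb₂ e₂
    have hv : Points.ofPt b₂ (h₂.left u₂) = y := by
      rw [← map_ofPt_chart f.hom a₂ b₂ h₂ e₂, hu₂, hx]
    refine ⟨U₂, a₂, u₂, ha₂, hu₂, ?_⟩
    exact stalk_dim_zero_of_quasiFiniteAt h₂.left u₂ (hy' V₂ b₂ _ hb₂ hv)
      (quasiFiniteAt_of_qfNear h₂.left u₂ hq)
  · obtain ⟨w, rfl⟩ := hsurj x
    have hv : Points.ofPt b (h.left w) = y := by rw [← map_ofPt_chart f.hom a' b h e, hx]
    refine ⟨W, a', w, ha', rfl, ?_⟩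
    refine stalk_dim_zero_of_quasiFiniteAt_generic h.left w (hy' V b _ hb hv) (fun w' hw' hd => ?_)
    have hx' : Points.map f.hom (Points.ofPt a' w') = y := by
      rw [map_ofPt_chart f.hom a' b h e, hw', hv]
    obtain ⟨U₂, V₂, a₂, b₂, h₂, u₂, ha₂, hb₂, e₂, hu₂, hq⟩ :=
      h3 _ hx' ⟨W, a', w', ha', rfl, hd⟩
    exact quasiFiniteAt_chart_indep f.hom a' b h ha' hb e a₂ b₂ h₂ ha₂ hb₂ e₂ w' u₂ hu₂.symm
      (quasiFiniteAt_of_qfNear h₂.left u₂ hq)

end Groth.Agent.H52.CZ
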