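import Groth.Agent.H52.OnePt
import Groth.Agent.H49.AlgSpQC
import Groth.Agent.H49.AlgSpMonoField
import Mathlib.AlgebraicGeometry.ValuativeCriterion

/-!
# Zero-dimensional quasi-separated algebraic spaces are separated schemes
-/

set_option autoImplicit false
universe u
open CategoryTheory CategoryTheory.Limits AlgebraicGeometry Opposite

namespace Groth.Agent.H52.ZeroDim

open AlgSp Groth.Agent.H50 Groth.Agent.H51 Groth.Agent.H53.ZMT

/-- In a `T0` space of Krull dimension `≤ 0` there are no nontrivial specializations. -/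
theorem eq_of_specializes_of_dim_le_zero {X : Type*} [TopologicalSpace X] [T0Space X]
    (h : topologicalKrullDim X ≤ 0) {x y : X} (hxy : x ⤳ y) : x = y := by
  unfold topologicalKrullDim at h
  rw [Order.krullDim_nonpos_iff_forall_isMin] at h
  let cx : TopologicalSpace.IrreducibleCloseds X :=
    ⟨closure {x}, isIrreducible_singleton.closure, isClosed_closure⟩
  let cy : TopologicalSpace.IrreducibleCloseds X :=
    ⟨closure {y}, isIrreducible_singleton.closure, isClosed_closure⟩
  have hle : cy ≤ cx := by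
    change closure {y} ⊆ closure {x}
    exact specializes_iff_closure_subset.1 hxy
  have hge : cx ≤ cy := h cx hle
  have hyx : y ⤳ x := specializes_iff_closure_subset.2 hge
  exact (hxy.antisymm hyx).eq

theorem t1Space_of_dim_le_zero {X : Type*} [TopologicalSpace X] [T0Space X]
    (h : topologicalKrullDim X ≤ 0) : T1Space X :=
  t1Space_iff_specializes_imp_eq.2 fun _ _ hxy => eq_of_specializes_of_dim_le_zero h hxy

/-- The spectrum of a ring all of whose primes are maximal is Hausdorff. -/
theorem t2Space_primeSpectrum (R : Type*) [CommRing R]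
    (hR : ∀ p : PrimeSpectrum R, p.asIdeal.IsMaximal) : T2Space (PrimeSpectrum R) := by
  refine ⟨fun p q hpq => ?_⟩
  have key : ∃ a b : R, a ∉ p.asIdeal ∧ b ∉ q.asIdeal ∧ a * b = 0 := by
    by_contra hcon
    replace hcon : ∀ a b : R, a ∉ p.asIdeal → b ∉ q.asIdeal → a * b ≠ 0 :=
      fun a b ha hb hab => hcon ⟨a, b, ha, hb, hab⟩
    let M : Submonoid R := p.asIdeal.primeCompl ⊔ q.asIdeal.primeCompl
    have hM : Disjoint ((⊥ : Ideal R) : Set R) (M : Set R) := by
      rw [Set.disjoint_left]
      intro z hz hzM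
      have hz0 : z = 0 := hz
      obtain ⟨a, ha, b, hb, hab⟩ := Submonoid.mem_sup.1 hzM
      exact hcon a b ha hb (hab.trans hz0)
    obtain ⟨P, hP, -, hPM⟩ := Ideal.exists_le_prime_disjoint (⊥ : Ideal R) M hM
    have hPp : P ≤ p.asIdeal := by
      intro z hz
      by_contra hzp
      exact Set.disjoint_left.1 hPM hz (Submonoid.mem_sup_left (show z ∈ p.asIdeal.primeCompl from hzp))
    have hPq : P ≤ q.asIdeal := by
      intro z hz
      by_contra hzq
      exact Set.disjoint_left.1 hPM hz (Submonoid.mem_sup_right (show z ∈ q.asIdeal.primeCompl from hzq))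
    have hPmax : P.IsMaximal := hR ⟨P, hP⟩
    have e1 : P = p.asIdeal := hPmax.eq_of_le p.2.ne_top hPp
    have e2 : P = q.asIdeal := hPmax.eq_of_le q.2.ne_top hPq
    exact hpq (PrimeSpectrum.ext (e1.symm.trans e2))
  obtain ⟨a, b, ha, hb, hab⟩ := key
  refine ⟨PrimeSpectrum.basicOpen a, PrimeSpectrum.basicOpen b,
    (PrimeSpectrum.basicOpen a).2, (PrimeSpectrum.basicOpen b).2, ha, hb, ?_⟩
  rw [Set.disjoint_left]
  intro z hza hzb
  have : a * b ∉ z.asIdeal := fun h => (z.2.mem_or_mem h).elim hza hzb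
  rw [hab] at this
  exact this z.asIdeal.zero_mem

/-- Primes of the coordinate ring of a `T1` affine scheme are maximal. -/
theorem isMaximal_of_t1Space {V : Scheme.{u}} [IsAffine V] [T1Space ↥V]
    (p : PrimeSpectrum Γ(V, ⊤)) : p.asIdeal.IsMaximal := by
  have : T1Space (PrimeSpectrum Γ(V, ⊤)) :=
    V.isoSpec.hom.homeomorph.symm.isEmbedding.t1Space
  exact (PrimeSpectrum.isClosed_singleton_iff_isMaximal p).1 isClosed_singleton

/-- Primes of the coordinate ring of a scheme integral over a `T1` affine scheme are maximal. -/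
theorem forall_isMaximal_of_isIntegralHom {N V : Scheme.{u}} (ν : N ⟶ V) [IsIntegralHom ν]
    [IsAffine V] [T1Space ↥V] (q : PrimeSpectrum Γ(N, ⊤)) : q.asIdeal.IsMaximal := by
  have hφ : (ν.appTop).hom.IsIntegral := ν.isIntegral_app ⊤ (isAffineOpen_top V)
  refine Ideal.isMaximal_of_isIntegral_of_isMaximal_comap' _ hφ q.asIdeal ?_
  exact isMaximal_of_t1Space ⟨q.asIdeal.comap (ν.appTop).hom, inferInstance⟩

theorem t2Space_of_isAffine_of_forall_isMaximal {N : Scheme.{u}} [IsAffine N]
    (h : ∀ q : PrimeSpectrum Γ(N, ⊤), q.asIdeal.IsMaximal) : T2Space ↥N := by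
  have : T2Space ↥(Spec Γ(N, ⊤)) := t2Space_primeSpectrum _ h
  exact N.isoSpec.hom.homeomorph.isEmbedding.t2Space

/-- A `T1` affine scheme is Hausdorff. -/
theorem t2Space_of_isAffine_of_t1Space (V : Scheme.{u}) [IsAffine V] [T1Space ↥V] : T2Space ↥V :=
  t2Space_of_isAffine_of_forall_isMaximal isMaximal_of_t1Space

/-- A quasi-finite separated morphism to a zero-dimensional affine scheme is finite. -/
theorem isFinite_of_t1Space {R V : Scheme.{u}} (f : R ⟶ V) [LocallyQuasiFinite f]
    [LocallyOfFiniteType f] [IsSeparated f] [QuasiCompact f] [IsAffine V] [T1Space ↥V] :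
    IsFinite f := by
  have hj : IsOpenImmersion f.toNormalization := inferInstance
  have : IsAffine f.normalization := isAffine_of_isAffineHom f.fromNormalization
  have : T2Space ↥f.normalization :=
    t2Space_of_isAffine_of_forall_isMaximal (forall_isMaximal_of_isIntegralHom f.fromNormalization)
  have : CompactSpace ↥R := QuasiCompact.compactSpace_of_compactSpace f
  have hcl : IsClosed (Set.range f.toNormalization) :=
    (isCompact_range f.toNormalization.continuous).isClosed
  have : IsClosedImmersion f.toNormalization := IsClosedImmersion.of_isPreimmersion _ hcl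
  have hint : IsIntegralHom f := by
    rw [← f.toNormalization_fromNormalization]
    infer_instance
  exact (IsFinite.iff_isIntegralHom_and_locallyOfFiniteType _).mpr ⟨hint, inferInstance⟩

variable {S : Scheme.{u}}

/-- The kernel pair of a chart maps monomorphically to the fibre square over the base. -/
theorem mono_lift_kernelPair {F : Sp S} {V R : Over S} (q : (yon S).obj V ⟶ F) (s t : R ⟶ V)
    (sq : IsPullback ((yon S).map t) ((yon S).map s) q q) :
    Mono (pullback.lift t.left s.left (by rw [Over.w, Over.w]) :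
      R.left ⟶ pullback V.hom V.hom) := by
  constructor
  intro T r r' h
  have h1 : r ≫ t.left = r' ≫ t.left := by
    have e : (pullback.lift t.left s.left (by rw [Over.w, Over.w]) :
        R.left ⟶ pullback V.hom V.hom) ≫ pullback.fst _ _ = t.left := pullback.lift_fst _ _ _
    rw [← e, ← Category.assoc, h, Category.assoc]
  have h2 : r ≫ s.left = r' ≫ s.left := by
    have e : (pullback.lift t.left s.left (by rw [Over.w, Over.w]) :
        R.left ⟶ pullback V.hom V.hom) ≫ pullback.snd _ _ = s.left := pullback.lift_snd _ _ _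
    rw [← e, ← Category.assoc, h, Category.assoc]
  let T' : Over S := Over.mk (r ≫ R.hom)
  let ρ : T' ⟶ R := Over.homMk r rfl
  let ρ' : T' ⟶ R := Over.homMk r' (by
    change r' ≫ R.hom = r ≫ R.hom
    rw [← Over.w t, ← Category.assoc, ← h1, Category.assoc])
  have : ρ = ρ' := by
    apply (yon S).map_injective
    apply sq.hom_ext
    · rw [← Functor.map_comp, ← Functor.map_comp]
      congr 1
      ext
      exact h1
    · rw [← Functor.map_comp, ← Functor.map_comp]
      congr 1
      ext
      exact h2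
  exact congrArg (fun x => x.left) this

/-- Over a base with quasi-separated underlying space: the projections of the kernel pair of an
etale chart from a zero-dimensional affine scheme to a quasi-separated algebraic space are
finite. -/
theorem isFinite_kernelPair_of_t1Space [QuasiSeparatedSpace ↥S] {X : Sp S} (hX : IsAlgSpace X)
    (hqs : IsQuasiSeparatedSp X) {V R : Over S} [IsAffine V.left] [T1Space ↥V.left]
    (q : (yon S).obj V ⟶ X) (hq : RepWith @Etale q) (s t : R ⟶ V)
    (sq : IsPullback ((yon S).map t) ((yon S).map s) q q) : IsFinite s.left := by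
  have hqc : IsQuasiCompactMor q :=
    Groth.Agent.H49.isQuasiCompactMor_of_isQuasiCompactSp_of_isQuasiSeparatedSp
      (IsAlgSpace.yon_obj V) hX q (Groth.Agent.H49.isQuasiCompactSp_yon V) hqs
  have hRqc : IsQuasiCompactSp ((yon S).obj R) :=
    hqc (IsAlgSpace.yon_obj V) (Groth.Agent.H49.isQuasiCompactSp_yon V) q _ _ sq
  have hRc : CompactSpace (Points ((yon S).obj R)) :=
    (isQuasiCompactSp_iff (IsAlgSpace.yon_obj R)).1 hRqc
  have : CompactSpace ↥R.left := (Points.schemeHomeo R).symm.compactSpace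
  have hse : Etale s.left := hq.property q _ s sq
  have : LocallyQuasiFinite s.left := locallyQuasiFinite_of_etale s.left
  have hδ := mono_lift_kernelPair q s t sq
  have hsep : IsSeparated s.left := by
    have e : (pullback.lift t.left s.left (by rw [Over.w, Over.w]) :
        R.left ⟶ pullback V.hom V.hom) ≫ pullback.snd _ _ = s.left := pullback.lift_snd _ _ _
    rw [← e]
    infer_instance
  have : QuasiCompact s.left := inferInstance
  exact isFinite_of_t1Space s.left

/-- The open image of an etale chart from a zero-dimensional affine scheme in a quasi-separated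
algebraic space is an affine scheme. -/
theorem exists_affine_open_image [QuasiSeparatedSpace ↥S] {X : Sp S} (hX : IsAlgSpace X)
    (hqs : IsQuasiSeparatedSp X) {V : Over S} [hVa : IsAffine V.left] [T1Space ↥V.left]
    (q : (yon S).obj V ⟶ X) (hq : RepWith @Etale q) :
    ∃ (M : Over S) (j : (yon S).obj M ⟶ X), IsAffine M.left ∧ RepWith @IsOpenImmersion j ∧
      Set.range (Points.map j) = Set.range (Points.ofPt q) ∧
      ∃ π : V ⟶ M, (yon S).map π ≫ j = q ∧ IsFinite π.left := by
  have hW : IsOpen (Set.range (Points.ofPt q)) := (isOpenMap_ofPt_of_etale q hq).isOpen_range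
  obtain ⟨F', j, hF', hj, hrange⟩ := exists_open_subspace hX _ hW
  obtain ⟨a', ha'j, ha'e, ha's, -⟩ := isPresentation_of_open_image q hq j hj hrange
  have hm : Mono j := Groth.Agent.H49.mono_of_repWith_mono isOpenImmersion_le_mono j hj
  obtain ⟨M, e, π, hM, hπ, hπf⟩ := LqfField.exists_affine_quot_of_finite hVa a' ha'e ha's
    (fun R s t sq' => by
      have sq := Groth.Agent.H49.isPullback_comp_mono j sq'
      rw [ha'j] at sq
      exact isFinite_kernelPair_of_t1Space hX hqs q hq s t sq)
  refine ⟨M, e.hom ≫ j, hM, MorphismProperty.RespectsIso.precomp _ e.hom j hj, ?_,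
    π, by rw [← Category.assoc, hπ, ha'j], hπf⟩
  rw [← hrange]
  ext x
  constructor
  · rintro ⟨z, rfl⟩
    exact ⟨Points.map e.hom z, (Points.map_comp _ _ _).symm⟩
  · rintro ⟨z, rfl⟩
    refine ⟨Points.map e.inv z, ?_⟩
    rw [← Points.map_comp, e.inv_hom_id_assoc]

/-- Charts of a zero-dimensional space are `T1`. -/
theorem t1Space_of_chart {X : Sp S} (hd : AlgSp.dim X ≤ 0) {V : Over S}
    (q : (yon S).obj V ⟶ X) (hq : RepWith @Etale q) : T1Space ↥V.left := by
  refine t1Space_of_dim_le_zero (le_trans ?_ hd)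
  exact le_iSup_of_le V (le_iSup_of_le q (le_iSup_of_le hq le_rfl))

/-- A zero-dimensional quasi-separated algebraic space is a scheme. -/
theorem exists_iso_yon_of_dim_zero [QuasiSeparatedSpace ↥S] {X : Sp S} (hX : IsAlgSpace X)
    (hqs : IsQuasiSeparatedSp X) (hd : AlgSp.dim X ≤ 0) :
    ∃ G : Over S, Nonempty ((yon S).obj G ≅ X) := by
  obtain ⟨U, a, ha, has⟩ := hX.atlas
  refine exists_iso_yon_of_forall_point a has ?_
  intro u
  have hb : ∀ {W : TopologicalSpace.Opens ↥U.left} {x : ↥U.left}, x ∈ W →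
      ∃ U' ∈ U.left.affineOpens, x ∈ U' ∧ U' ≤ W :=
    TopologicalSpace.Opens.isBasis_iff_nbhd.1 (Scheme.isBasis_affineOpens U.left)
  obtain ⟨V, hV, huV, -⟩ := @hb ⊤ u trivial
  have hq : RepWith @Etale ((yon S).map (overOpenι U V) ≫ a) := repWith_etale_restrict a ha V
  have hVa : IsAffine (overOpen U V).left := hV
  have hT1 : T1Space ↥(overOpen U V).left := t1Space_of_chart hd _ hq
  obtain ⟨M, j, -, hj, hrange, -⟩ := exists_affine_open_image hX hqs _ hq
  refine ⟨M, j, hj, ?_⟩
  rw [hrange]
  exact ⟨⟨u, huV⟩, ofPt_restrict a V ⟨u, huV⟩⟩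

/-- An open subset of an affine open which is relatively closed in it is affine. -/
theorem isAffineOpen_of_le_of_isClosed {G : Scheme.{u}} {O U : G.Opens} (hU : IsAffineOpen U)
    (hOU : O ≤ U) (hcl : IsClosed (U.ι ⁻¹' (O : Set ↥G))) : IsAffineOpen O := by
  have hUa : IsAffine U.toScheme := hU
  have hr : Set.range (G.homOfLE hOU) = U.ι ⁻¹' (O : Set ↥G) := by
    ext x
    constructor
    · rintro ⟨z, rfl⟩
      change (G.homOfLE hOU z).1 ∈ O
      rw [Scheme.homOfLE_apply]
      exact z.2
    · intro hx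
      exact ⟨⟨x.1, hx⟩, Subtype.ext (Scheme.homOfLE_apply hOU _)⟩
  have : IsClosedImmersion (G.homOfLE hOU) :=
    IsClosedImmersion.of_isPreimmersion _ (by rw [hr]; exact hcl)
  exact isAffine_of_isAffineHom (G.homOfLE hOU)

/-- In a quasi-separated `T1` scheme every quasi-compact open is affine. -/
theorem isAffineOpen_of_isCompact_of_t1Space (G : Scheme.{u}) [QuasiSeparatedSpace ↥G]
    [T1Space ↥G] (V : G.Opens) (hV : IsCompact (V : Set ↥G)) : IsAffineOpen V := by
  refine compact_open_induction_on (P := fun V => IsAffineOpen V) V hV (isAffineOpen_bot G) ?_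
  intro T hT U hTaff
  have hUa : IsAffine U.1.toScheme := U.2
  have hT1 : T1Space ↥U.1.toScheme := U.1.ι.isOpenEmbedding.isEmbedding.t1Space
  have hT2 : T2Space ↥U.1.toScheme := t2Space_of_isAffine_of_t1Space _
  have hc : IsCompact ((T : Set ↥G) ∩ (U.1 : Set ↥G)) :=
    hT.inter_of_isOpen U.2.isCompact T.2 U.1.2
  have hpre : U.1.ι ⁻¹' ((T : Set ↥G) ∩ (U.1 : Set ↥G)) = U.1.ι ⁻¹' (T : Set ↥G) := by
    ext x
    simp only [Set.mem_preimage, Set.mem_inter_iff, and_iff_left_iff_imp]
    intro _
    exact x.2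
  have hc' : IsCompact (U.1.ι ⁻¹' (T : Set ↥G)) := by
    rw [← hpre]
    refine (U.1.ι.isOpenEmbedding.isInducing.isCompact_preimage_iff ?_).2 hc
    rw [Scheme.Opens.range_ι]
    exact Set.inter_subset_right
  have hcl : IsClosed (U.1.ι ⁻¹' (T : Set ↥G)) := hc'.isClosed
  let W : U.1.toScheme.Opens := ⟨(U.1.ι ⁻¹' (T : Set ↥G))ᶜ, hcl.isOpen_compl⟩
  let O : G.Opens := U.1.ι ''ᵁ W
  have hOmem : ∀ x : ↥G, x ∈ O ↔ x ∈ U.1 ∧ x ∉ T := by
    intro x
    constructor
    · rintro ⟨z, hz, rfl⟩
      exact ⟨z.2, hz⟩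
    · rintro ⟨h1, h2⟩
      exact ⟨⟨x, h1⟩, h2, rfl⟩
  have hOU : O ≤ U.1 := fun x hx => ((hOmem x).1 hx).1
  have hOcl : IsClosed (U.1.ι ⁻¹' (O : Set ↥G)) := by
    have : U.1.ι ⁻¹' (O : Set ↥G) = (U.1.ι ⁻¹' (T : Set ↥G))ᶜ := by
      ext x
      simp only [Set.mem_preimage, Set.mem_compl_iff]
      exact ⟨fun h => ((hOmem _).1 h).2, fun h => (hOmem _).2 ⟨x.2, h⟩⟩
    rw [this]
    exact (T.2.preimage U.1.ι.continuous).isClosed_compl
  have hOaff : IsAffineOpen O := isAffineOpen_of_le_of_isClosed U.2 hOU hOcl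
  have hdisj : Disjoint T O := by
    rw [← TopologicalSpace.Opens.coe_disjoint, Set.disjoint_left]
    intro x hxT hxO
    exact ((hOmem x).1 hxO).2 hxT
  have heq : T ⊔ U.1 = T ⊔ O := by
    ext x
    simp only [TopologicalSpace.Opens.coe_sup, Set.mem_union, SetLike.mem_coe]
    constructor
    · rintro (h | h)
      · exact Or.inl h
      · by_cases hxT : x ∈ T
        · exact Or.inl hxT
        · exact Or.inr ((hOmem x).2 ⟨h, hxT⟩)
    · rintro (h | h)
      · exact Or.inl h
      · exact Or.inr (hOU h)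
  rw [heq]
  exact hTaff.sup_of_disjoint hOaff hdisj

/-- A quasi-separated `T1` scheme is separated. -/
theorem isSeparated_of_t1Space (G : Scheme.{u}) [QuasiSeparatedSpace ↥G] [T1Space ↥G] :
    G.IsSeparated := by
  constructor
  have hqs : QuasiSeparated (terminal.from G) :=
    (quasiSeparatedSpace_iff_quasiSeparated G).1 inferInstance
  refine IsSeparated.of_valuativeCriterion _ ?_
  intro Sq
  constructor
  rintro ⟨l₁, hl₁, hl₁'⟩ ⟨l₂, hl₂, hl₂'⟩
  ext : 1
  dsimp at *
  let φ := CommRingCat.ofHom (algebraMap Sq.R Sq.K)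
  let pt : ↥(Spec (.of Sq.K)) := IsLocalRing.closedPoint Sq.K
  have hall : ∀ (l : Spec (.of Sq.R) ⟶ G), Spec.map φ ≫ l = Sq.i₁ → ∀ z, l z = Sq.i₁ pt := by
    intro l hl z
    have hη : (Spec.map φ pt) ⤳ z := by
      refine (PrimeSpectrum.le_iff_specializes _ z).1 ?_
      intro x hx
      rw [Spec.map_apply] at hx
      have hx' : φ.hom x ∈ IsLocalRing.maximalIdeal Sq.K := hx
      rw [IsLocalRing.maximalIdeal_eq_bot] at hx'
      have h0 : algebraMap Sq.R Sq.K x = 0 := hx'
      have : x = 0 := (IsFractionRing.injective Sq.R Sq.K) (by rw [h0, map_zero])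
      rw [this]
      exact z.asIdeal.zero_mem
    have h2 : l (Spec.map φ pt) ⤳ l z := hη.map l.continuous
    rw [← hl, Scheme.Hom.comp_apply]
    exact h2.eq.symm
  have hb : ∀ {W : TopologicalSpace.Opens ↥G} {x : ↥G}, x ∈ W →
      ∃ U' ∈ G.affineOpens, x ∈ U' ∧ U' ≤ W :=
    TopologicalSpace.Opens.isBasis_iff_nbhd.1 (Scheme.isBasis_affineOpens G)
  obtain ⟨W, hW, hgW, -⟩ := @hb ⊤ (Sq.i₁ pt) trivial
  have hWa : IsAffine W.toScheme := hW
  have hr : ∀ (l : Spec (.of Sq.R) ⟶ G), Spec.map φ ≫ l = Sq.i₁ →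
      Set.range l ⊆ Set.range W.ι := by
    intro l hl
    rintro _ ⟨z, rfl⟩
    rw [Scheme.Opens.range_ι, hall l hl z]
    exact hgW
  let l₁' := IsOpenImmersion.lift W.ι l₁ (hr l₁ hl₁)
  let l₂' := IsOpenImmersion.lift W.ι l₂ (hr l₂ hl₂)
  have hl₁'' : l₁' ≫ W.ι = l₁ := IsOpenImmersion.lift_fac _ _ _
  have hl₂'' : l₂' ≫ W.ι = l₂ := IsOpenImmersion.lift_fac _ _ _
  have huniq := IsSeparated.valuativeCriterion (terminal.from W.toScheme)
  let Sq' : ValuativeCommSq (terminal.from W.toScheme) :=
    ⟨Sq.R, Sq.K, Spec.map φ ≫ l₁', terminal.from _, ⟨terminal.hom_ext _ _⟩⟩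
  have hsub : Subsingleton Sq'.commSq.LiftStruct := huniq Sq'
  let L₁ : Sq'.commSq.LiftStruct := ⟨l₁', rfl, terminal.hom_ext _ _⟩
  let L₂ : Sq'.commSq.LiftStruct := ⟨l₂', by
    change Spec.map φ ≫ l₂' = Spec.map φ ≫ l₁'
    rw [← cancel_mono W.ι, Category.assoc, Category.assoc, hl₁'', hl₂'', hl₁, hl₂],
    terminal.hom_ext _ _⟩
  have hL : L₁ = L₂ := Subsingleton.elim _ _
  have hl' : l₁' = l₂' := congrArg CommSq.LiftStruct.l hL
  rw [← hl₁'', ← hl₂'', hl']

/-- Properties of the diagonal are invariant under isomorphism of sheaves. -/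
theorem repWith_diag_iff_of_iso (P : MorphismProperty Scheme.{u}) {F G : Sp S} (e : F ≅ G) :
    RepWith P (Limits.diag F) ↔ RepWith P (Limits.diag G) := by
  have h : Limits.diag F ≫ (prod.mapIso e e).hom = e.hom ≫ Limits.diag G := by
    simp
  constructor
  · intro hF
    have h1 : RepWith P (Limits.diag F ≫ (prod.mapIso e e).hom) :=
      MorphismProperty.RespectsIso.postcomp _ _ _ hF
    rw [h] at h1
    exact (MorphismProperty.cancel_left_of_respectsIso (RepWith P) e.hom (Limits.diag G)).1 h1
  · intro hG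
    have h1 : RepWith P (e.hom ≫ Limits.diag G) :=
      MorphismProperty.RespectsIso.precomp _ _ _ hG
    rw [← h] at h1
    exact (MorphismProperty.cancel_right_of_respectsIso (RepWith P) (Limits.diag F)
      (prod.mapIso e e).hom).1 h1

/-- A scheme over a quasi-separated base whose sheaf is quasi-separated over the base has
quasi-separated underlying space. -/
theorem quasiSeparatedSpace_of_isQuasiSeparatedSp [QuasiSeparatedSpace ↥S] (G : Over S)
    (h : IsQuasiSeparatedSp ((yon S).obj G)) : QuasiSeparatedSpace ↥G.left := by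
  have h1 : QuasiCompact (pullback.diagonal G.hom) := (repWith_diag_yon_iff @QuasiCompact G).1 h
  have : QuasiSeparated G.hom := ⟨h1⟩
  exact quasiSeparatedSpace_of_quasiSeparated G.hom

/-- A zero-dimensional algebraic space, quasi-separated over a base with quasi-separated
underlying space, is a separated scheme all of whose quasi-compact opens are affine. -/
theorem exists_iso_yon_separated_of_dim_zero [QuasiSeparatedSpace ↥S] {X : Sp S}
    (hX : IsAlgSpace X) (hqs : IsQuasiSeparatedSp X) (hd : AlgSp.dim X ≤ 0) :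
    ∃ (G : Over S) (_ : (yon S).obj G ≅ X), G.left.IsSeparated ∧
      ∀ V : G.left.Opens, IsCompact (V : Set ↥G.left) → IsAffineOpen V := by
  obtain ⟨G, ⟨e⟩⟩ := exists_iso_yon_of_dim_zero hX hqs hd
  have hT1 : T1Space ↥G.left := t1Space_of_chart hd e.hom (MorphismProperty.of_isIso _ e.hom)
  have hQS : QuasiSeparatedSpace ↥G.left :=
    quasiSeparatedSpace_of_isQuasiSeparatedSp G
      ((repWith_diag_iff_of_iso @QuasiCompact e).2 hqs)
  exact ⟨G, e, isSeparated_of_t1Space G.left,
    fun V hV => isAffineOpen_of_isCompact_of_t1Space G.left V hV⟩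

end Groth.Agent.H52.ZeroDim
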