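import Groth.Agent.H50.UnivOpen
import Groth.Agent.H52.Points
import Groth.Agent.H52.Chart
import Mathlib.CategoryTheory.Sites.PreservesLimits
import Mathlib.Topology.Homeomorph.Lemmas

set_option autoImplicit false
universe u
open CategoryTheory CategoryTheory.Limits AlgebraicGeometry Opposite

namespace Groth.Agent.H52.GeomConn

open AlgSp

/-- In a category with a terminal object, `X × K` is the base change of `X × Y` along `K ⟶ Y`. -/
theorem isPullback_prod_map {C : Type*} [Category C] [HasBinaryProducts C] {T : C}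
    (hT : IsTerminal T) {X Y K : C} (q : K ⟶ Y) :
    IsPullback (prod.map (𝟙 X) q) (prod.snd : X ⨯ K ⟶ K) (prod.snd : X ⨯ Y ⟶ Y) q := by
  have sqY : IsPullback (prod.fst : X ⨯ Y ⟶ X) prod.snd (hT.from X) (hT.from Y) :=
    IsPullback.of_is_product' (prodIsProd X Y) hT
  have sqK : IsPullback (prod.fst : X ⨯ K ⟶ X) prod.snd (hT.from X) (hT.from K) :=
    IsPullback.of_is_product' (prodIsProd X K) hT
  refine IsPullback.of_right ?_ (prod.map_snd _ _) sqY
  have h1 : prod.map (𝟙 X) q ≫ prod.fst = prod.fst := by rw [prod.map_fst, Category.comp_id]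
  have h2 : q ≫ hT.from Y = hT.from K := hT.hom_ext _ _
  rw [h1, h2]
  exact sqK

variable {S : Scheme.{u}}

/-- The sheaf represented by the base is terminal. -/
noncomputable def isTerminalYon (S : Scheme.{u}) : IsTerminal ((yon S).obj (Over.mk (𝟙 S))) :=
  IsTerminal.isTerminalObj (yon S) _ Over.mkIdTerminal


theorem map_toHom_eq_mk {Y : Sp S} (q : FieldPt Y) (w : Points ((yon S).obj q.pt)) :
    Points.map q.toHom w = Points.mk q := by
  obtain ⟨s, rfl⟩ := (Points.schemeEquiv q.pt).surjective w
  change Points.map q.toHom (Points.ofScheme q.pt s) = Points.mk q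
  rw [← Points.ofPt_eq_map_ofScheme]
  exact Points.ofPt_toHom q s

/-- The fibre of the second projection `X × Y ⟶ Y` over the class of a field-valued point `q` is
the image of `X × Spec K`. -/
theorem preimage_snd_eq_range {X Y : Sp S} (q : FieldPt Y) :
    Points.map (prod.snd : X ⨯ Y ⟶ Y) ⁻¹' {Points.mk q} =
      Set.range (Points.map (prod.map (𝟙 X) q.toHom)) := by
  have L := isPullback_prod_map (isTerminalYon S) (X := X) q.toHom
  ext z
  constructor
  · intro hz
    have hz' : Points.map (prod.snd : X ⨯ Y ⟶ Y) z = Points.mk q := hz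
    let s₀ : ↥(Spec (CommRingCat.of q.K)) := IsLocalRing.closedPoint q.K
    have e : Points.map (prod.snd : X ⨯ Y ⟶ Y) z =
        Points.map q.toHom (Points.ofScheme q.pt s₀) := by
      rw [hz', map_toHom_eq_mk]
    obtain ⟨w, hw, -⟩ := exists_point_of_isPullback L z _ e
    exact ⟨w, hw⟩
  · rintro ⟨w, rfl⟩
    change Points.map prod.snd (Points.map (prod.map (𝟙 X) q.toHom) w) = Points.mk q
    rw [← Points.map_comp, prod.map_snd, Points.map_comp, map_toHom_eq_mk]


/-- Field-valued points over the spectrum of a field `k` are points over field extensions. -/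
theorem connectedSpace_fieldPt (k : Type u) [Field k]
    (X : Sp (Spec (CommRingCat.of k)))
    (hX : ∀ (K : Type u) [Field K] [Algebra k K], ConnectedSpace (Points (X ⨯
      (yon (Spec (CommRingCat.of k))).obj
        (Over.mk (Spec.map (CommRingCat.ofHom (algebraMap k K)))))))
    {Y : Sp (Spec (CommRingCat.of k))} (q : FieldPt Y) :
    ConnectedSpace (Points (X ⨯ (yon (Spec (CommRingCat.of k))).obj q.pt)) := by
  let φ : CommRingCat.of k ⟶ CommRingCat.of q.K := Spec.preimage q.str
  have hφ : Spec.map φ = q.str := Spec.map_preimage _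
  let _ : Algebra k q.K := φ.hom.toAlgebra
  have h1 : CommRingCat.ofHom (algebraMap k q.K) = φ := rfl
  have h2 := hX q.K
  rw [h1, hφ] at h2
  exact h2

/-- **S10466**. -/
theorem s10466 (k : Type u) [Field k]
    (X Y : AlgSp.Space (Spec (CommRingCat.of k)))
    (hX : ∀ (K : Type u) [Field K] [Algebra k K], ConnectedSpace (AlgSp.Points (X.obj ⨯
      (AlgSp.yon (Spec (CommRingCat.of k))).obj
        (Over.mk (Spec.map (CommRingCat.ofHom (algebraMap k K))))))) :
    Function.Bijective (Continuous.connectedComponentsMap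
      (AlgSp.Points.continuous_map (Limits.prod.snd : X.obj ⨯ Y.obj ⟶ Y.obj))) := by
  have hT := isTerminalYon (Spec (CommRingCat.of k))
  have hlocP : LocP @UniversallyOpen (hT.from X.obj) :=
    H50.locP_univOpen_to_field k (𝟙 _) _
  have huo : IsUnivOpenMor (hT.from X.obj) :=
    H50.isUnivOpenMor_of_locP_univOpen X.property (IsAlgSpace.yon_obj _) _ hlocP
  have sq : IsPullback (prod.fst : X.obj ⨯ Y.obj ⟶ X.obj) prod.snd (hT.from X.obj)
      (hT.from Y.obj) := IsPullback.of_is_product' (prodIsProd _ _) hT
  have hopen : IsOpenMap (Points.map (prod.snd : X.obj ⨯ Y.obj ⟶ Y.obj)) :=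
    huo Y.property (hT.from Y.obj) prod.fst prod.snd sq
  have hfib : ∀ y, IsConnected (Points.map (prod.snd : X.obj ⨯ Y.obj ⟶ Y.obj) ⁻¹' {y}) := by
    intro y
    obtain ⟨q, rfl⟩ := Points.mk_surjective y
    rw [preimage_snd_eq_range]
    have := connectedSpace_fieldPt k X.obj hX q
    exact isConnected_range (Points.continuous_map _)
  have hsurj : Function.Surjective (Points.map (prod.snd : X.obj ⨯ Y.obj ⟶ Y.obj)) :=
    fun y => (hfib y).nonempty.imp (fun z hz => hz)
  exact ((hopen.isQuotientMap (Points.continuous_map _) hsurj).isCoinducing).connectedComponentsMap_bijective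
    hfib

end Groth.Agent.H52.GeomConn
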