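import Groth.Agent.H52.ChartFinite
import Mathlib.AlgebraicGeometry.Morphisms.QuasiSeparated

set_option autoImplicit false
universe u
open CategoryTheory CategoryTheory.Limits AlgebraicGeometry Opposite TopologicalSpace

namespace Groth.Agent.H52

open AlgSp

variable {S : Scheme.{u}}

set_option backward.isDefEq.respectTransparency false in
/-- If `W = A ×_X B`, then `W ⟶ A ⨯ B` is the base change of the diagonal of `X` along `a × b`. -/
theorem isPullback_diag_prodMap {C : Type*} [Category C] [HasBinaryProducts C] {X A B W : C}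
    {a : A ⟶ X} {b : B ⟶ X} {p₁ : W ⟶ A} {p₂ : W ⟶ B} (h : IsPullback p₁ p₂ a b) :
    IsPullback (p₁ ≫ a) (prod.lift p₁ p₂) (diag X) (prod.map a b) := by
  have w : (p₁ ≫ a) ≫ diag X = prod.lift p₁ p₂ ≫ prod.map a b := by
    ext
    · simp
    · simp [h.w]
  refine ⟨⟨w⟩, ⟨PullbackCone.IsLimit.mk _
    (fun s => h.lift (s.snd ≫ prod.fst) (s.snd ≫ prod.snd) ?_)
    (fun s => ?_) (fun s => ?_) (fun s m h1 h2 => ?_)⟩⟩
  · have e1 := s.condition =≫ prod.fst
    have e2 := s.condition =≫ prod.snd
    simp only [Category.assoc, prod.lift_fst, prod.lift_snd, Category.comp_id, prod.map_fst,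
      prod.map_snd, diag] at e1 e2
    rw [Category.assoc, Category.assoc, ← e1, ← e2]
  · have e1 := s.condition =≫ prod.fst
    simp only [Category.assoc, prod.lift_fst, Category.comp_id, prod.map_fst, diag] at e1
    rw [← Category.assoc, h.lift_fst, Category.assoc, ← e1]
  · ext
    · simp
    · simp
  · apply h.hom_ext
    · rw [h.lift_fst, ← h2]; simp
    · rw [h.lift_snd, ← h2]; simp

/-- If `P = U ×_X V` then `P ⟶ U × V` (in `Over S`) is a base change of the diagonal of `X`. -/
theorem prop_prod_lift_of_repWith_diag {Q : MorphismProperty Scheme.{u}} {X : Sp S}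
    (hX : RepWith Q (Limits.diag X)) {U V P : Over S}
    {a : (yon S).obj U ⟶ X} {b : (yon S).obj V ⟶ X} {fst : P ⟶ U} {snd : P ⟶ V}
    (h : IsPullback ((yon S).map fst) ((yon S).map snd) a b) :
    Q (prod.lift fst snd).left := by
  have sq := isPullback_diag_prodMap h
  have e1 : prod.lift ((yon S).map fst) ((yon S).map snd) =
      (yon S).map (prod.lift fst snd) ≫ prodComparison (yon S) U V := by
    apply Limits.prod.hom_ext
    · rw [Category.assoc, prodComparison_fst, ← Functor.map_comp, prod.lift_fst, prod.lift_fst]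
    · rw [Category.assoc, prodComparison_snd, ← Functor.map_comp, prod.lift_snd, prod.lift_snd]
  rw [e1] at sq
  have sq' : IsPullback ((yon S).map fst ≫ a) ((yon S).map (prod.lift fst snd)) (Limits.diag X)
      (prodComparison (yon S) U V ≫ prod.map a b) := by
    refine ⟨⟨by rw [sq.w, Category.assoc]⟩, ⟨PullbackCone.IsLimit.mk _
      (fun s => sq.lift s.fst (s.snd ≫ prodComparison (yon S) U V)
        (by rw [s.condition, Category.assoc])) (fun s => by simp) (fun s => ?_)
      (fun s m h1 h2 => ?_)⟩⟩
    · rw [← cancel_mono (prodComparison (yon S) U V), Category.assoc, sq.lift_snd]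
    · apply sq.hom_ext
      · rw [sq.lift_fst, h1]
      · rw [sq.lift_snd, ← h2, Category.assoc]
  exact hX.property _ _ _ sq'

/-- The projections of a product in `Over S` are base changes of the structure morphisms. -/
theorem prop_prod_snd_left (Q : MorphismProperty Scheme.{u}) [Q.IsStableUnderBaseChange]
    (U V : Over S) (h : Q U.hom) : Q (prod.snd : U ⨯ V ⟶ V).left := by
  have hpb : IsPullback (prod.fst : U ⨯ V ⟶ U).left (prod.snd : U ⨯ V ⟶ V).left U.hom V.hom :=
    Over.isPullback_of_binaryFan_isLimit (BinaryFan.mk prod.fst prod.snd) (prodIsProd U V)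
  exact MorphismProperty.of_isPullback (P := Q) hpb h

theorem prop_prod_fst_left (Q : MorphismProperty Scheme.{u}) [Q.IsStableUnderBaseChange]
    (U V : Over S) (h : Q V.hom) : Q (prod.fst : U ⨯ V ⟶ U).left := by
  have hpb : IsPullback (prod.fst : U ⨯ V ⟶ U).left (prod.snd : U ⨯ V ⟶ V).left U.hom V.hom :=
    Over.isPullback_of_binaryFan_isLimit (BinaryFan.mk prod.fst prod.snd) (prodIsProd U V)
  exact MorphismProperty.of_isPullback (P := Q) hpb.flip h

/-- A representable field-valued point of a sheaf with quasi-compact diagonal is quasi-compact. -/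
theorem repWith_quasiCompact_of_quasiSeparated {X : Sp S} (hX : RepWith @QuasiCompact (Limits.diag X))
    (p : FieldPt X) (hrep : Representable p.toHom) : RepWith @QuasiCompact p.toHom := by
  refine ⟨hrep, fun {T Y} g fst snd sq => ?_⟩
  change QuasiCompact snd.left
  obtain ⟨fst', rfl⟩ := (yon S).map_surjective fst
  have h1 : QuasiCompact (prod.lift fst' snd).left := prop_prod_lift_of_repWith_diag hX sq
  have hstr : QuasiCompact p.pt.hom := quasiCompact_of_finite (X := Spec (CommRingCat.of p.K)) p.str
  have h2 : QuasiCompact (prod.snd : p.pt ⨯ T ⟶ T).left := prop_prod_snd_left @QuasiCompact _ _ hstr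
  have e : snd.left = (prod.lift fst' snd).left ≫ (prod.snd : p.pt ⨯ T ⟶ T).left := by
    rw [← Over.comp_left, prod.lift_snd]
  rw [e]
  infer_instance

end Groth.Agent.H52
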