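import Mathlib

set_option autoImplicit false
universe u
open CategoryTheory AlgebraicGeometry

namespace Groth.Agent.H52.ClosedAlg

/-- A ring map from a local ring to a field whose image contains the image of a field `κ₀`
over which the target is integral has kernel the maximal ideal. -/
theorem ker_eq_maximalIdeal_of_integral {B L κ₀ : Type*} [CommRing B] [IsLocalRing B] [Field L]
    [Field κ₀] (χ : B →+* L) (ρ : κ₀ →+* L) (hρ : ρ.IsIntegral)
    (hr : ∀ c : κ₀, ∃ b : B, χ b = ρ c) :
    RingHom.ker χ = IsLocalRing.maximalIdeal B := by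
  algebraize [ρ]
  have hint : Algebra.IsIntegral κ₀ L := ⟨hρ⟩
  let 𝔅 : Subalgebra κ₀ L :=
    { χ.range.toSubsemiring with
      algebraMap_mem' := fun c => by
        obtain ⟨b, hb⟩ := hr c
        exact ⟨b, hb⟩ }
  have hclaim : ∀ b : B, χ b ≠ 0 → ∃ b', χ (b * b') = 1 := by
    intro b hb
    have h1 : ((⟨χ b, ⟨b, rfl⟩⟩ : 𝔅) : L)⁻¹ ∈ 𝔅 :=
      Subalgebra.inv_mem_of_algebraic 𝔅 (x := (⟨χ b, ⟨b, rfl⟩⟩ : 𝔅))
        (Algebra.IsIntegral.isIntegral (R := κ₀) (χ b)).isAlgebraic
    obtain ⟨b', hb'⟩ := h1
    refine ⟨b', ?_⟩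
    rw [map_mul]
    have : χ b' = (χ b)⁻¹ := hb'
    rw [this, mul_inv_cancel₀ hb]
  apply le_antisymm
  · exact IsLocalRing.le_maximalIdeal (RingHom.ker_ne_top χ)
  · intro b hb
    by_contra hbk
    obtain ⟨b', hb'⟩ := hclaim b hbk
    have h2 : b * b' - 1 ∈ IsLocalRing.maximalIdeal B := by
      apply IsLocalRing.le_maximalIdeal (RingHom.ker_ne_top χ)
      rw [RingHom.mem_ker, map_sub, hb', map_one, sub_self]
    have h3 : b * b' ∈ IsLocalRing.maximalIdeal B := Ideal.mul_mem_right _ _ hb
    have h4 : (1 : B) ∈ IsLocalRing.maximalIdeal B := by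
      have := Ideal.sub_mem _ h3 h2
      simp at this
    exact (Ideal.ne_top_iff_one _).1 (IsLocalRing.maximalIdeal.isMaximal B).ne_top h4

/-- A point of a scheme `U` over a closed point `s` of `S`, whose residue field is integral over
the one of `s`, is closed. -/
theorem isClosed_singleton_of_integral_residueField {U S : Scheme.{u}} (h : U ⟶ S) (z : U)
    (hs : IsClosed ({h z} : Set S)) (hint : (h.residueFieldMap z).hom.IsIntegral) :
    IsClosed ({z} : Set U) := by
  rw [← closure_subset_iff_isClosed]
  intro z1 hz1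
  have hsp : z ⤳ z1 := specializes_iff_mem_closure.2 hz1
  have hsp' : h z ⤳ h z1 := hsp.map h.continuous
  have heq : h z1 = h z := by
    have := specializes_iff_mem_closure.1 hsp'
    rw [hs.closure_eq] at this
    exact this
  have hins : Inseparable (h z) (h z1) := heq ▸ Inseparable.refl _
  set σ := U.presheaf.stalkSpecializes hsp with hσ
  have hker : RingHom.ker ((U.residue z).hom.comp σ.hom) =
      IsLocalRing.maximalIdeal (U.presheaf.stalk z1) := by
    refine ker_eq_maximalIdeal_of_integral _ (h.residueFieldMap z).hom hint (fun c => ?_)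
    obtain ⟨r, rfl⟩ := S.residue_surjective (h z) c
    have hsurj : Function.Surjective (S.presheaf.stalkSpecializes hsp') := by
      have : IsIso (S.presheaf.stalkSpecializes hsp') :=
        (inferInstance : IsIso (S.presheaf.stalkCongr hins).inv)
      exact ((ConcreteCategory.bijective_of_isIso (S.presheaf.stalkSpecializes hsp'))).2
    obtain ⟨r', rfl⟩ := hsurj r
    refine ⟨h.stalkMap z1 r', ?_⟩
    have h1 := Scheme.Hom.stalkSpecializes_stalkMap_apply h z z1 hsp r'
    have h2 := congrArg (fun φ => φ.hom (S.presheaf.stalkSpecializes hsp' r'))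
      (Scheme.residue_residueFieldMap h z)
    simp only [CommRingCat.hom_comp, RingHom.comp_apply] at h2
    rw [RingHom.comp_apply]
    erw [h2, h1]
  have h1 : z = U.fromSpecStalk z (IsLocalRing.closedPoint _) := Scheme.fromSpecStalk_closedPoint.symm
  rw [← Scheme.SpecMap_stalkSpecializes_fromSpecStalk hsp] at h1
  have h2 : Spec.map σ (IsLocalRing.closedPoint _) = IsLocalRing.closedPoint _ := by
    apply PrimeSpectrum.ext
    change Ideal.comap σ.hom (IsLocalRing.maximalIdeal _) = IsLocalRing.maximalIdeal _
    rw [← hker, ← RingHom.comap_ker]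
    congr 1
    exact IsLocalRing.ker_residue.symm
  rw [Scheme.Hom.comp_apply, h2, Scheme.fromSpecStalk_closedPoint] at h1
  exact h1.symm

/-- A field-valued point of `U` lying over a closed point `s` of `S` through an integral
extension of `κ(s)` is a closed point of `U`. -/
theorem isClosed_singleton_of_integral_point {U S : Scheme.{u}} (h : U ⟶ S) (K : Type u) [Field K]
    (g : Spec (.of K) ⟶ U) (s : S) (hs : IsClosed ({s} : Set S))
    (ψ : S.residueField s ⟶ .of K) (hψ : ψ.hom.IsIntegral)
    (hg : g ≫ h = Spec.map ψ ≫ S.fromSpecResidueField s) :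
    IsClosed ({g (IsLocalRing.closedPoint K)} : Set U) := by
  have key : Scheme.SpecToEquivOfField K S (Spec.map ψ ≫ S.fromSpecResidueField s) = ⟨s, ψ⟩ :=
    (Scheme.SpecToEquivOfField K S).apply_symm_apply ⟨s, ψ⟩
  rw [← hg] at key
  obtain ⟨e, he⟩ := Scheme.SpecToEquivOfField_eq_iff.1 key
  have e' : h (g (IsLocalRing.closedPoint K)) = s := e
  have he' : Scheme.Hom.residueFieldMap h (g (IsLocalRing.closedPoint K)) ≫
      Scheme.descResidueField (Scheme.stalkClosedPointTo g) = (S.residueFieldCongr e').hom ≫ ψ := by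
    rw [← Scheme.descResidueField_stalkClosedPointTo_comp]
    exact he
  refine isClosed_singleton_of_integral_residueField h _ (by rw [e']; exact hs) ?_
  refine RingHom.IsIntegral.tower_bot _ (Scheme.descResidueField (Scheme.stalkClosedPointTo g)).hom
    (RingHom.injective _) ?_
  rw [← CommRingCat.hom_comp, he', CommRingCat.hom_comp]
  refine RingHom.IsIntegral.trans _ _ ?_ hψ
  exact RingHom.isIntegral_of_surjective _
    ((ConcreteCategory.bijective_of_isIso (S.residueFieldCongr e').hom)).2

/-- The residue field of a point of a scheme etale over `Spec k` is integral over `k`. -/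
theorem exists_integral_of_etale_over_field {k : Type u} [Field k] {P : Scheme.{u}}
    (π : P ⟶ Spec (CommRingCat.of k)) [Etale π] (w : P) :
    ∃ θ : CommRingCat.of k ⟶ P.residueField w, θ.hom.IsIntegral ∧
      P.fromSpecResidueField w ≫ π = Spec.map θ := by
  have hmax : (π w).asIdeal.IsMaximal := (π w).isPrime.isMaximal'
  refine ⟨CommRingCat.ofHom (algebraMap k (π w).asIdeal.ResidueField) ≫
    (Scheme.Spec.residueFieldIso (CommRingCat.of k) (π w)).inv ≫ π.residueFieldMap w, ?_, ?_⟩
  · rw [CommRingCat.hom_comp, CommRingCat.hom_comp]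
    refine RingHom.IsIntegral.trans _ _ (RingHom.isIntegral_of_surjective _
      (Ideal.algebraMap_residueField_surjective _)) (RingHom.IsIntegral.trans _ _
      (RingHom.isIntegral_of_surjective _ (ConcreteCategory.bijective_of_isIso
        (Scheme.Spec.residueFieldIso (CommRingCat.of k) (π w)).inv).2) ?_)
    let _ : Algebra ((Spec (CommRingCat.of k)).residueField (π w)) (P.residueField w) :=
      (π.residueFieldMap w).hom.toAlgebra
    have : Algebra.IsSeparable ((Spec (CommRingCat.of k)).residueField (π w)) (P.residueField w) :=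
      inferInstance
    have : Algebra.IsIntegral ((Spec (CommRingCat.of k)).residueField (π w)) (P.residueField w) :=
      inferInstance
    exact this.isIntegral
  · rw [Spec.map_comp, Spec.map_comp, ← Scheme.Hom.SpecMap_residueFieldMap_fromSpecResidueField,
      ← Scheme.Spec.map_residueFieldIso_inv_eq_fromSpecResidueField, Category.assoc]

end Groth.Agent.H52.ClosedAlg
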