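import Groth.Agent.H52.ReducedPoint
import Groth.Agent.H52.AtlasLocal
import Groth.Agent.H1.Descent
import Mathlib.AlgebraicGeometry.IdealSheaf.Subscheme

set_option autoImplicit false
universe u
open CategoryTheory CategoryTheory.Limits AlgebraicGeometry Opposite

namespace Groth.Agent.H52

open AlgSp

/-- The scheme theoretic image of a quasi-compact morphism from a reduced scheme is reduced. -/
theorem isReduced_image {X Y : Scheme.{u}} (f : X ⟶ Y) [QuasiCompact f]
    [AlgebraicGeometry.IsReduced X] : AlgebraicGeometry.IsReduced f.image := by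
  apply isReduced_of_affine_cover'
  intro c
  obtain ⟨U, hU, hcU, -⟩ :=
    exists_isAffineOpen_mem_and_subset (X := Y) (x := f.imageι c) (U := ⊤) trivial
  refine ⟨f.imageι ⁻¹ᵁ U, hU.preimage f.imageι, hcU, ?_⟩
  exact isReduced_of_injective (f.toImage.app (f.imageι ⁻¹ᵁ U)).hom
    (f.toImage_app_injective ⟨U, hU⟩)

/-- A quasi-compact monomorphism `j : P ⟶ V` from a reduced scheme with closed image is a closed
immersion as soon as its scheme theoretic image lifts to `P`. -/
theorem isClosedImmersion_of_image_lift {P V : Scheme.{u}} (j : P ⟶ V) [Mono j]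
    (σ : j.image ⟶ P) (hσ : σ ≫ j = j.imageι) : IsClosedImmersion j := by
  have h1 : j.toImage ≫ σ = 𝟙 P := by
    rw [← cancel_mono j, Category.assoc, hσ, j.toImage_imageι, Category.id_comp]
  have h2 : σ ≫ j.toImage = 𝟙 _ := by
    rw [← cancel_mono j.imageι, Category.assoc, j.toImage_imageι, hσ, Category.id_comp]
  have : IsIso j.toImage := ⟨σ, h1, h2⟩
  rw [← j.toImage_imageι]
  infer_instance

variable {S : Scheme.{u}}

/-- A closed point represented by a quasi-compact monomorphism from the spectrum of a field is
represented by a closed immersion. -/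
theorem repWith_isClosedImmersion_of_isClosed {X : Sp S} (hX : IsAlgSpace X) (p : FieldPt X)
    (hm : Mono p.toHom) (hq : RepWith @QuasiCompact p.toHom)
    (hx : IsClosed ({Points.mk p} : Set (Points X))) :
    RepWith @IsClosedImmersion p.toHom := by
  obtain ⟨V, ψ, hψ, hψs⟩ := hX.atlas
  obtain ⟨Z, φ, χ, hpb, hrange⟩ := exists_fibre_scheme p ψ hψ.rep
  have := Groth.Agent.H1.isClosedImmersion_descendsAlong_fpqc.{u}
  refine repWith_of_atlas @IsClosedImmersion p.toHom hq.rep ψ hψ hψs ((yon S).map χ) φ hpb.flip ?_
  -- properties of `φ`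
  have hqc : QuasiCompact φ.left := hq.property ψ _ φ hpb.flip
  have het : Etale χ.left := hψ.property p.toHom _ χ hpb
  have hmφ : Mono ((yon S).map φ) :=
    (MorphismProperty.monomorphisms _).of_isPullback hpb.flip hm
  have hmφ' : Mono φ := (yon S).mono_of_mono_map hmφ
  have hmφl : Mono φ.left := by
    have : Mono ((Over.forget S).map φ) := inferInstance
    exact this
  have hredk : AlgebraicGeometry.IsReduced p.pt.left :=
    inferInstanceAs (AlgebraicGeometry.IsReduced (Spec (CommRingCat.of p.K)))
  have hred : AlgebraicGeometry.IsReduced Z.left := isReduced_of_etale_scheme χ.left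
  have hcl : IsClosed (Set.range φ.left) := by
    rw [hrange]
    exact hx.preimage (Points.continuous_ofPt ψ)
  -- the scheme theoretic image
  have hC : AlgebraicGeometry.IsReduced φ.left.image := isReduced_image φ.left
  have hCrange : Set.range φ.left.imageι = Set.range φ.left := by
    rw [Scheme.Hom.imageι, Scheme.IdealSheafData.range_subschemeι, Scheme.Hom.support_ker,
      hcl.closure_eq]
  let C : Over S := Over.mk (φ.left.imageι ≫ V.hom)
  let ιC : C ⟶ V := Over.homMk φ.left.imageι rfl
  have : AlgebraicGeometry.IsReduced C.left := hC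
  obtain ⟨g, hg⟩ := exists_factor_of_reduced_scheme hX ((yon S).map ιC ≫ ψ) p hm hq (by
    intro c
    rw [ofPt_yon_map_comp]
    have : φ.left.imageι c ∈ Set.range φ.left := by rw [← hCrange]; exact ⟨c, rfl⟩
    rw [hrange] at this
    exact this)
  obtain ⟨σ, hσ⟩ := (yon S).map_surjective (hpb.lift ((yon S).map ιC) g hg.symm)
  have hσφ : σ ≫ φ = ιC := by
    apply (yon S).map_injective
    rw [Functor.map_comp, hσ, hpb.lift_fst]
  refine isClosedImmersion_of_image_lift φ.left σ.left ?_
  have := congrArg (fun k => k.left) hσφ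
  exact this

end Groth.Agent.H52
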