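import Groth.Agent.H52.JacobsonSp
import Groth.Agent.H52.ClosedAlg
import Groth.Agent.H52.ClosedPoint

set_option autoImplicit false
universe u
open CategoryTheory CategoryTheory.Limits AlgebraicGeometry Opposite

namespace Groth.Agent.H52

open AlgSp

variable {S : Scheme.{u}}

/-- A point of an etale chart of `X` lying under a `k`-point, `k` integral over the residue field
of a closed point `s` of `S`, is closed in the chart. -/
theorem isClosed_chart_point_of_integral {X : Sp S} (s : ↥S) (hs : IsClosed ({s} : Set ↥S))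
    (k : Type u) [Field k] (φ : S.residueField s ⟶ CommRingCat.of k) (hφ : φ.hom.IsIntegral)
    (p : (yon S).obj (Over.mk (Spec.map φ ≫ S.fromSpecResidueField s)) ⟶ X)
    (t : ↥(Spec (CommRingCat.of k))) {U₀ : Over S} (b : (yon S).obj U₀ ⟶ X)
    (hb : RepWith @Etale b) (z : ↥U₀.left) (hz : Points.ofPt b z = Points.ofPt p t) :
    IsClosed ({z} : Set ↥U₀.left) := by
  have sq := hb.rep.isPullback p
  obtain ⟨φ', hφ'⟩ := (yon S).map_surjective (hb.rep.fst p)
  have sq' : IsPullback ((yon S).map φ') ((yon S).map (hb.rep.snd p)) b p := by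
    rw [hφ']; exact sq
  have het : Etale (hb.rep.snd p).left := hb.property_snd p
  obtain ⟨w, hw1, hw2⟩ := (ofPt_eq_iff_of_isPullback sq' z t).1 hz
  obtain ⟨θ, hθ, hθ'⟩ := ClosedAlg.exists_integral_of_etale_over_field (hb.rep.snd p).left w
  have hcl := ClosedAlg.isClosed_singleton_of_integral_point U₀.hom
    (↑((hb.rep.pullback p).left.residueField w))
    ((hb.rep.pullback p).left.fromSpecResidueField w ≫ φ'.left) s hs (φ ≫ θ)
    (by rw [CommRingCat.hom_comp]; exact RingHom.IsIntegral.trans _ _ hφ hθ)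
    (by
      rw [Category.assoc, Over.w φ', ← Over.w (hb.rep.snd p)]
      change _ ≫ _ ≫ Spec.map φ ≫ S.fromSpecResidueField s = _
      rw [reassoc_of% hθ', Spec.map_comp, Category.assoc])
  rw [Scheme.Hom.comp_apply, Scheme.fromSpecResidueField_apply, hw1] at hcl
  exact hcl

/-- S10357 for sheaves. -/
theorem isClosed_point_of_integral {X : Sp S} (hXa : IsAlgSpace X) (hd : IsDecent X) (s : ↥S)
    (hs : IsClosed ({s} : Set ↥S))
    (k : Type u) [Field k] (φ : S.residueField s ⟶ CommRingCat.of k) (hφ : φ.hom.IsIntegral)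
    (p : (yon S).obj (Over.mk (Spec.map φ ≫ S.fromSpecResidueField s)) ⟶ X)
    (t : ↥(Spec (CommRingCat.of k))) :
    IsClosed ({Points.ofPt p t} : Set (Points X)) := by
  obtain ⟨U₀, b, hb, hbs⟩ := hXa.atlas
  have hq : Topology.IsQuotientMap (Points.ofPt b) :=
    (isOpenMap_ofPt_of_repWith_etale b hb).isQuotientMap (Points.continuous_ofPt b)
      (ofPt_surjective_of_repWith_surjective b hbs)
  rw [← hq.isClosed_preimage, ← closure_subset_iff_isClosed]
  intro z hz
  have hz' : z ∈ Points.ofPt b ⁻¹' closure {Points.ofPt p t} := by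
    rw [(isOpenMap_ofPt_of_repWith_etale b hb).preimage_closure_eq_closure_preimage
      (Points.continuous_ofPt b)]
    exact hz
  have hxz : Points.ofPt p t ⤳ Points.ofPt b z := specializes_iff_mem_closure.2 hz'
  obtain ⟨q, hq1, -, hq3⟩ := hd (Points.ofPt p t)
  obtain ⟨z', hz'z, hz'x⟩ :=
    exists_specializes_lift (Points.ofPt b z) (Points.ofPt p t) hxz q hq1 hq3 b hb z rfl
  have hz'cl : IsClosed ({z'} : Set ↥U₀.left) :=
    isClosed_chart_point_of_integral s hs k φ hφ p t b hb z' hz'x
  have h2 : z ∈ closure ({z'} : Set ↥U₀.left) := specializes_iff_mem_closure.1 hz'z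
  rw [hz'cl.closure_eq, Set.mem_singleton_iff] at h2
  rw [h2]
  exact hz'x

/-- The point of a sheaf defined by a morphism from the spectrum of a field. -/
theorem ofPt_eq_mk_fieldPtOfHom {F : Sp S} {K : Type u} [Field K]
    (str : Spec (CommRingCat.of K) ⟶ S) (m : (yon S).obj (Over.mk str) ⟶ F)
    (t : ↥(Spec (CommRingCat.of K))) :
    Points.ofPt m t = Points.mk (fieldPtOfHom str m) := by
  change Points.mk (FieldPt.ofPt m t) = Points.mk (fieldPtOfHom str m)
  rw [Points.mk_eq_mk_iff, rel_iff_toHom]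
  exact ⟨_, inferInstance, (FieldPt.ofPt m t).str, 𝟙 _, ofPtHom m t, by
    rw [CategoryTheory.Functor.map_id, Category.id_comp, toHom_ofPt', toHom_fieldPtOfHom]⟩

/-- A morphism between spectra of fields over `S`, the source being finite over the residue
field of a point of `S`, is finite. -/
theorem finite_of_over_residueField (s : ↥S) (k : Type u) [Field k]
    (φ : S.residueField s ⟶ CommRingCat.of k) (hφ : φ.hom.Finite) {κ : Type u} [Field κ]
    (str : Spec (CommRingCat.of κ) ⟶ S)
    (c : Spec (CommRingCat.of k) ⟶ Spec (CommRingCat.of κ))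
    (hc : c ≫ str = Spec.map φ ≫ S.fromSpecResidueField s) :
    IsFinite c ∧ (Function.Bijective φ.hom → IsIso c) := by
  obtain ⟨γ, rfl⟩ := Spec.map_surjective c
  have h1 : str = Spec.map (Scheme.SpecToEquivOfField κ S str).2 ≫
      S.fromSpecResidueField (Scheme.SpecToEquivOfField κ S str).1 :=
    ((Scheme.SpecToEquivOfField κ S).symm_apply_apply str).symm
  set s' := (Scheme.SpecToEquivOfField κ S str).1 with hs'
  set ψ := (Scheme.SpecToEquivOfField κ S str).2 with hψ
  have h2 : (Scheme.SpecToEquivOfField k S).symm ⟨s', ψ ≫ γ⟩ =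
      (Scheme.SpecToEquivOfField k S).symm ⟨s, φ⟩ := by
    change Spec.map (ψ ≫ γ) ≫ S.fromSpecResidueField s' = Spec.map φ ≫ S.fromSpecResidueField s
    rw [← hc, Spec.map_comp, Category.assoc, ← h1]
  obtain ⟨e, he⟩ := Scheme.SpecToEquivOfField_eq_iff.1 ((Scheme.SpecToEquivOfField k S).symm.injective h2)
  have he' : ψ ≫ γ = (S.residueFieldCongr e).hom ≫ φ := he
  have hfin : (γ.hom.comp ψ.hom).Finite := by
    rw [← CommRingCat.hom_comp, he', CommRingCat.hom_comp]
    exact hφ.comp (RingHom.Finite.of_surjective _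
      (ConcreteCategory.bijective_of_isIso (S.residueFieldCongr e).hom).2)
  have hγ : γ.hom.Finite := RingHom.Finite.of_comp_finite hfin
  refine ⟨(IsFinite.SpecMap_iff γ).2 hγ, fun hb => ?_⟩
  have hbij : Function.Bijective (γ.hom.comp ψ.hom) := by
    rw [← CommRingCat.hom_comp, he', CommRingCat.hom_comp]
    exact hb.comp (ConcreteCategory.bijective_of_isIso (S.residueFieldCongr e).hom)
  have hγb : Function.Bijective γ.hom :=
    ⟨γ.hom.injective, Function.Surjective.of_comp (g := ψ.hom) hbij.2⟩
  have : IsIso γ := (ConcreteCategory.isIso_iff_bijective γ).2 hγb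
  infer_instance

/-- S10358 for sheaves. -/
theorem repWith_isFinite_of_finite {X : Sp S} (hXa : IsAlgSpace X) (hd : IsDecent X) (s : ↥S)
    (hs : IsClosed ({s} : Set ↥S))
    (k : Type u) [Field k] (φ : S.residueField s ⟶ CommRingCat.of k) (hφ : φ.hom.Finite)
    (p : (yon S).obj (Over.mk (Spec.map φ ≫ S.fromSpecResidueField s)) ⟶ X) :
    RepWith @IsFinite p ∧ (Function.Bijective φ.hom → RepWith @IsClosedImmersion p) := by
  have hx : IsClosed ({Points.mk (fieldPtOfHom (Spec.map φ ≫ S.fromSpecResidueField s) p)} :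
      Set (Points X)) := by
    rw [← ofPt_eq_mk_fieldPtOfHom (Spec.map φ ≫ S.fromSpecResidueField s) p
      (IsLocalRing.closedPoint k)]
    exact isClosed_point_of_integral hXa hd s hs k φ hφ.to_isIntegral p _
  obtain ⟨q, hq1, hqm, hqc⟩ :=
    hd (Points.mk (fieldPtOfHom (Spec.map φ ≫ S.fromSpecResidueField s) p))
  have hci : RepWith @IsClosedImmersion q.toHom :=
    repWith_isClosedImmersion_of_isClosed hXa q hqm hqc (hq1 ▸ hx)
  obtain ⟨c, hc⟩ := exists_factor_of_mono q
    (fieldPtOfHom (Spec.map φ ≫ S.fromSpecResidueField s) p) hqm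
    (hXa.representable_from_yon _) hq1.symm
  rw [toHom_fieldPtOfHom] at hc
  obtain ⟨hcf, hci'⟩ := finite_of_over_residueField s k φ hφ q.str c.left (Over.w c)
  have hle : (RepWith (S := S) @IsClosedImmersion) ≤ RepWith @IsFinite :=
    MorphismProperty.relative_monotone (fun _ _ f (hf : IsClosedImmersion f.left) =>
      (inferInstance : IsFinite f.left))
  constructor
  · rw [← hc]
    exact (RepWith (S := S) @IsFinite).comp_mem _ _
      ((repWith_yon_map_iff @IsFinite c).2 hcf) (hle _ hci)
  · intro hb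
    rw [← hc]
    have : IsIso c.left := hci' hb
    exact (RepWith (S := S) @IsClosedImmersion).comp_mem _ _
      ((repWith_yon_map_iff @IsClosedImmersion c).2 inferInstance) hci

end Groth.Agent.H52
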