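import Mathlib.AlgebraicGeometry.Morphisms.Etale
import Mathlib.AlgebraicGeometry.Morphisms.Flat
import Mathlib.RingTheory.Etale.Field
import Mathlib.RingTheory.Unramified.Field
import Mathlib.RingTheory.Artinian.Ring
import Mathlib.RingTheory.LocalProperties.Reduced
import Mathlib.RingTheory.Flat.FaithfullyFlat.Basic

set_option autoImplicit false
universe u
open CategoryTheory CategoryTheory.Limits AlgebraicGeometry Opposite TopologicalSpace

namespace Groth.Agent.H52

/-- The localization at a prime of an algebra etale over a field is a field. -/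
theorem isField_localization_of_etale_field {R A : Type u} [CommRing R] [CommRing A] [Algebra R A]
    (hR : IsField R) [Algebra.Etale R A] (p : Ideal A) [p.IsPrime] (L : Type u) [CommRing L]
    [Algebra A L] [IsLocalization.AtPrime L p] : IsField L := by
  let _ := hR.toField
  have h1 : Module.Finite R A := Algebra.FormallyUnramified.finite_of_free R A
  have h2 : IsArtinianRing A := .of_finite R A
  have h3 : IsReduced A := Algebra.FormallyUnramified.isReduced_of_field R A
  have h4 : IsArtinianRing L := IsArtinianRing.localization_artinian p.primeCompl L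
  have h5 : IsReduced L := isReduced_localizationPreserves p.primeCompl L h3
  have h6 : IsLocalRing L := IsLocalization.AtPrime.isLocalRing L p
  exact IsArtinianRing.isField_of_isReduced_of_isLocalRing L

/-- The local rings of a scheme etale over the spectrum of a field are fields. -/
theorem isField_stalk_of_etale_field {X : Scheme.{u}} {k : Type u} [Field k]
    (f : X ⟶ Spec (CommRingCat.of k)) [Etale f] (x : X) : IsField (X.presheaf.stalk x) := by
  obtain ⟨V, hV, hxV, -⟩ := exists_isAffineOpen_mem_and_subset (x := x) (U := ⊤) trivial
  have le : V ≤ f ⁻¹ᵁ ⊤ := le_top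
  have hφ : (f.appLE ⊤ V le).hom.Etale :=
    HasRingHomProperty.appLE (P := @Etale) f inferInstance ⟨⊤, isAffineOpen_top _⟩ ⟨V, hV⟩ le
  have hR : IsField Γ(Spec (CommRingCat.of k), ⊤) :=
    (Scheme.ΓSpecIso (CommRingCat.of k)).commRingCatIsoToRingEquiv.toMulEquiv.isField
      (Field.toIsField k)
  algebraize [(f.appLE ⊤ V le).hom]
  let _ : Algebra Γ(X, V) (X.presheaf.stalk x) :=
    TopCat.Presheaf.algebra_section_stalk X.presheaf (⟨x, hxV⟩ : V)
  have hloc : IsLocalization.AtPrime (X.presheaf.stalk x) (hV.primeIdealOf ⟨x, hxV⟩).asIdeal :=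
    hV.isLocalization_stalk ⟨x, hxV⟩
  exact isField_localization_of_etale_field hR (hV.primeIdealOf ⟨x, hxV⟩).asIdeal
    (X.presheaf.stalk x)

/-- A local ring with a flat local homomorphism to a field is a field. -/
theorem isField_of_flat_of_isLocalHom_of_isField {A B : Type*} [CommRing A] [CommRing B]
    [IsLocalRing A] (hB : IsField B) (φ : A →+* B) (hφ : φ.Flat) [IsLocalHom φ] : IsField A := by
  let _ := hB.toField
  algebraize [φ]
  have hff : Module.FaithfullyFlat A B := by
    have : IsLocalRing B := inferInstance
    have : IsLocalHom (algebraMap A B) := ‹IsLocalHom φ›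
    exact Module.FaithfullyFlat.of_flat_of_isLocalHom
  have hinj : Function.Injective (algebraMap A B) :=
    FaithfulSMul.algebraMap_injective A B
  rw [IsLocalRing.isField_iff_maximalIdeal_eq]
  rw [eq_bot_iff]
  intro a ha
  rw [Ideal.mem_bot]
  apply hinj
  rw [map_zero]
  by_contra hne
  have hu : IsUnit (algebraMap A B a) := isUnit_iff_ne_zero.2 hne
  have : IsUnit a := isUnit_of_map_unit (algebraMap A B) a hu
  exact (IsLocalRing.mem_maximalIdeal a).1 ha this

/-- A morphism of schemes is flat as soon as the local rings of the target at the images of the points of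
the source are fields. -/
theorem flat_of_isField_stalk {X Y : Scheme.{u}} (f : X ⟶ Y)
    (h : ∀ x : X, IsField (Y.presheaf.stalk (f x))) : Flat f := by
  rw [Flat.iff_flat_stalkMap]
  intro x
  exact RingHom.Flat.of_isField (h x) _

end Groth.Agent.H52
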