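import Groth.Agent.H52.GeomUnibranchSp
import Groth.Agent.H51.SpEtHensel2
import Groth.Agent.H51.SpEtSupport
import Groth.Agent.H52.MonoPoint

/-!
# Geometrically unibranch points of algebraic spaces: etale local rings
-/

set_option autoImplicit false
universe u
open CategoryTheory CategoryTheory.Limits AlgebraicGeometry TopologicalSpace Opposite
open AlgSp

namespace Groth.Agent.H52.GeomUnibranchSp

open Groth.Agent.H51 Groth.Agent.H14.HensProp

/-- Stalk maps of flat morphisms are injective. -/
theorem stalkMap_injective_of_flat {X Y : Scheme.{u}} (f : X ⟶ Y) [Flat f] (x : X) :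
    Function.Injective (f.stalkMap x).hom := by
  algebraize [(f.stalkMap x).hom]
  have : Module.FaithfullyFlat (Y.presheaf.stalk (f x)) (X.presheaf.stalk x) :=
    @Module.FaithfullyFlat.of_flat_of_isLocalHom _ _ _ _ _ _ _
      (Flat.stalkMap f x) (f.toLRSHom.prop x)
  exact ‹RingHom.FaithfullyFlat _›.injective

/-- The nilradical of a localization is prime as soon as products of images of elements of the
base ring which are nilpotent have a nilpotent factor. -/
theorem isPrime_nilradical_of_isLocalization {A B : Type*} [CommRing A] [CommRing B]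
    [Algebra A B] (M : Submonoid A) [IsLocalization M B] [Nontrivial B]
    (H : ∀ s t : A, IsNilpotent (algebraMap A B s * algebraMap A B t) →
      IsNilpotent (algebraMap A B s) ∨ IsNilpotent (algebraMap A B t)) :
    (nilradical B).IsPrime := by
  have key : ∀ b : B, ∃ (s : A) (c : B), IsUnit c ∧ b * c = algebraMap A B s := by
    intro b
    obtain ⟨⟨s, m⟩, hs⟩ := IsLocalization.surj M b
    exact ⟨s, algebraMap A B m, IsLocalization.map_units B m, hs⟩
  refine ⟨?_, ?_⟩
  · intro h
    have h1 : (1 : B) ∈ nilradical B := h ▸ Submodule.mem_top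
    rw [mem_nilradical] at h1
    exact not_isNilpotent_one h1
  · intro b₁ b₂ hb
    rw [mem_nilradical] at hb ⊢
    rw [mem_nilradical]
    obtain ⟨s₁, c₁, hc₁, h₁⟩ := key b₁
    obtain ⟨s₂, c₂, hc₂, h₂⟩ := key b₂
    have hnil : IsNilpotent (algebraMap A B s₁ * algebraMap A B s₂) := by
      rw [← h₁, ← h₂]
      have : b₁ * c₁ * (b₂ * c₂) = (b₁ * b₂) * (c₁ * c₂) := by ring
      rw [this]
      exact (Commute.all _ _).isNilpotent_mul_right hb
    rcases H s₁ s₂ hnil with h | h
    · left
      rw [← h₁] at h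
      obtain ⟨c', hc'⟩ := hc₁.exists_right_inv
      have : b₁ = b₁ * c₁ * c' := by rw [mul_assoc, hc', mul_one]
      rw [this]
      exact (Commute.all _ _).isNilpotent_mul_right h
    · right
      rw [← h₂] at h
      obtain ⟨c', hc'⟩ := hc₂.exists_right_inv
      have : b₂ = b₂ * c₂ * c' := by rw [mul_assoc, hc', mul_one]
      rw [this]
      exact (Commute.all _ _).isNilpotent_mul_right h

/-- A section whose germ at a point vanishes restricts to zero on an open neighbourhood. -/
theorem exists_opens_appTop_eq_zero {V : Scheme.{u}} (s : Γ(V, ⊤)) (v : V)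
    (h : V.presheaf.germ ⊤ v trivial s = 0) :
    ∃ W : V.Opens, v ∈ W ∧ W.ι.appTop.hom s = 0 := by
  have h' : V.presheaf.germ ⊤ v trivial s = V.presheaf.germ ⊤ v trivial 0 := by
    rw [h, map_zero]
  obtain ⟨W', hvW, i₁, i₂, hW⟩ := TopCat.Presheaf.germ_eq V.presheaf (U := ⊤) (V := ⊤) v
    (Set.mem_univ v) (Set.mem_univ v) s 0 h'
  let W : V.Opens := W'
  refine ⟨W, hvW, ?_⟩
  rw [Scheme.Opens.ι_appTop]
  have e : W.ι ''ᵁ ⊤ = W := W.ι_image_top
  have : (homOfLE (le_top : W.ι ''ᵁ ⊤ ≤ ⊤)) = eqToHom e ≫ i₁ := Subsingleton.elim _ _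
  rw [this, op_comp, Functor.map_comp]
  change (V.presheaf.map (eqToHom e).op).hom ((V.presheaf.map i₁.op).hom s) = 0
  have hW' : (V.presheaf.map i₁.op).hom s = 0 := hW.trans (map_zero _)
  rw [hW', map_zero]

variable {S : Scheme.{u}} (X : AlgSp.Space S) (p : FieldPt X.obj) (hp : p.IsGeometric)

/-- A function on an etale neighbourhood vanishes in the etale local ring if and only if it
vanishes on a smaller etale neighbourhood. -/
theorem germR_eq_zero_iff (U : EtOver X.obj) (l : (FieldPt.liftsTo p).obj U)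
    (s : Γ(U.obj.left.left, ⊤)) :
    germR X p hp U l s = 0 ↔
      ∃ (V : EtOver X.obj) (φ : V ⟶ U) (l' : (FieldPt.liftsTo p).obj V),
        (FieldPt.liftsTo p).map φ l' = l ∧ φ.hom.left.left.appTop.hom s = 0 := by
  have := hasColimitsOfSize_commRing.{u}
  have := preservesFilteredColimits_forget_commRing.{u}
  let Φ := geomPoint X p hp
  have hz : Φ.toPresheafFiber U l (OEt X.obj).obj
      (ULift.up (0 : Γ(U.obj.left.left, ⊤)) : (OEt X.obj).obj.obj (op U)) = 0 := map_zero _
  have h0 : germR X p hp U l s = 0 ↔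
      Φ.toPresheafFiber U l (OEt X.obj).obj (ULift.up s) =
        Φ.toPresheafFiber U l (OEt X.obj).obj (ULift.up 0) := by
    constructor
    · intro h; exact h.trans hz.symm
    · intro h; exact h.trans hz
  rw [h0, Φ.toPresheafFiber_eq_iff' U l _ _]
  constructor
  · rintro ⟨Y, f, y, hy, hf⟩
    refine ⟨Y, f, y, hy, ?_⟩
    have := congrArg ULift.down hf
    exact this.trans (map_zero _)
  · rintro ⟨Y, f, y, hy, hf⟩
    refine ⟨Y, f, y, hy, ?_⟩
    change ULift.up (f.hom.left.left.appTop.hom s) = ULift.up (f.hom.left.left.appTop.hom 0)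
    rw [hf, map_zero]

/-- A function whose germ at the centre of an etale neighbourhood is nilpotent has nilpotent image
in the etale local ring. -/
theorem isNilpotent_germR_of_germ (U : EtOver X.obj) (l : (FieldPt.liftsTo p).obj U)
    (v : ↥U.obj.left.left) (hv : l.1.left (IsLocalRing.closedPoint p.K) = v) (r : Γ(U.obj.left.left, ⊤))
    (hr : IsNilpotent (U.obj.left.left.presheaf.germ ⊤ v trivial r)) :
    IsNilpotent (germR X p hp U l r) := by
  subst hv
  obtain ⟨m, hm⟩ := hr
  rw [← map_pow] at hm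
  obtain ⟨W, hvW, hW0⟩ := exists_opens_appTop_eq_zero _ _ hm
  obtain ⟨l'', hl''⟩ := exists_lift_ofOpen X p U l W (by
    rintro _ ⟨y, rfl⟩
    have : y = IsLocalRing.closedPoint p.K :=
      Subsingleton.elim (α := ↥(Spec (CommRingCat.of p.K))) _ _
    rw [this]; exact hvW)
  refine ⟨m, ?_⟩
  rw [← map_pow, germR_w X p hp (EtOver.ofOpenι U W) l'' l hl'']
  change germR X p hp _ l'' ((EtOver.ofOpenι U W).hom.left.left.appTop.hom (r ^ m)) = 0
  rw [show (EtOver.ofOpenι U W).hom.left.left.appTop.hom (r ^ m) = 0 from hW0, map_zero]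

/-- A function with nilpotent image in the etale local ring has nilpotent germ at the centre of
the etale neighbourhood. -/
theorem isNilpotent_germ_of_germR (U : EtOver X.obj) (l : (FieldPt.liftsTo p).obj U)
    (v : ↥U.obj.left.left) (hv : l.1.left (IsLocalRing.closedPoint p.K) = v) (r : Γ(U.obj.left.left, ⊤))
    (hr : IsNilpotent (germR X p hp U l r)) :
    IsNilpotent (U.obj.left.left.presheaf.germ ⊤ v trivial r) := by
  subst hv
  obtain ⟨m, hm⟩ := hr
  rw [← map_pow, germR_eq_zero_iff] at hm
  obtain ⟨V, φ, l', hl', hV⟩ := hm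
  subst hl'
  refine ⟨m, ?_⟩
  rw [← map_pow]
  have het : Etale φ.hom.left.left := EtOver.etale_left φ
  apply stalkMap_injective_of_flat φ.hom.left.left (l'.1.left (IsLocalRing.closedPoint p.K))
  have := Scheme.Hom.germ_stalkMap_apply φ.hom.left.left ⊤
    (l'.1.left (IsLocalRing.closedPoint p.K)) trivial (r ^ m)
  refine this.trans ?_
  rw [show φ.hom.left.left.app ⊤ (r ^ m) = 0 from hV, map_zero]
  exact (map_zero _).symm

include hp in
/-- (1) ⇒ (5): the etale local ring has a prime nilradical if the local rings of all etale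
neighbourhoods do. -/
theorem isPrime_nilradical_OEtStalk
    (H : ∀ (U : EtOver X.obj) (l : (FieldPt.liftsTo p).obj U),
      (nilradical (U.obj.left.left.presheaf.stalk (l.1.left (IsLocalRing.closedPoint p.K)))).IsPrime) :
    (nilradical (OEtStalk p)).IsPrime := by
  have := isLocalRing_OEtStalk X p hp
  refine ⟨?_, ?_⟩
  · intro h
    have h1 : (1 : OEtStalk p) ∈ nilradical (OEtStalk p) := h ▸ Submodule.mem_top
    exact not_isNilpotent_one (mem_nilradical.1 h1)
  · intro a b hab
    obtain ⟨U₁, l₁, s₁, rfl⟩ := germR_jointly_surjective X p hp a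
    obtain ⟨U₂, l₂, s₂, rfl⟩ := germR_jointly_surjective X p hp b
    obtain ⟨U, l, f₁, f₂, h₁, h₂⟩ := exists_common_nbhd X p hp U₁ U₂ l₁ l₂
    rw [germR_w X p hp f₁ l l₁ h₁, germR_w X p hp f₂ l l₂ h₂] at hab ⊢
    simp only [RingHom.comp_apply] at hab ⊢
    generalize f₁.hom.left.left.appTop.hom s₁ = s at hab ⊢
    generalize f₂.hom.left.left.appTop.hom s₂ = t at hab ⊢
    rw [mem_nilradical] at hab
    rw [mem_nilradical, mem_nilradical]
    obtain ⟨n, hn⟩ := hab
    rw [← map_mul, ← map_pow, germR_eq_zero_iff] at hn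
    obtain ⟨V, φ, l', hl', hV⟩ := hn
    rw [germR_w X p hp φ l' l hl']
    simp only [RingHom.comp_apply]
    rw [map_pow, map_mul] at hV
    generalize φ.hom.left.left.appTop.hom s = s' at hV ⊢
    generalize φ.hom.left.left.appTop.hom t = t' at hV ⊢
    have hprime := H V l'
    have hmem : V.obj.left.left.presheaf.germ ⊤ (l'.1.left (IsLocalRing.closedPoint p.K)) trivial s' *
        V.obj.left.left.presheaf.germ ⊤ (l'.1.left (IsLocalRing.closedPoint p.K)) trivial t' ∈ nilradical _ := by
      rw [mem_nilradical]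
      exact ⟨n, by rw [← map_mul, ← map_pow, hV, map_zero]⟩
    rcases hprime.mem_or_mem hmem with h | h
    · exact Or.inl (isNilpotent_germR_of_germ X p hp V l' _ rfl s' (mem_nilradical.1 h))
    · exact Or.inr (isNilpotent_germR_of_germ X p hp V l' _ rfl t' (mem_nilradical.1 h))

include hp in
/-- (5) ⇒ (1) on functions defined on an etale neighbourhood. -/
theorem isNilpotent_germ_or_of_isPrime (hprime : (nilradical (OEtStalk p)).IsPrime)
    (U : EtOver X.obj) (l : (FieldPt.liftsTo p).obj U)
    (v : ↥U.obj.left.left) (hv : l.1.left (IsLocalRing.closedPoint p.K) = v) (s t : Γ(U.obj.left.left, ⊤))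
    (hst : IsNilpotent (U.obj.left.left.presheaf.germ ⊤ v trivial s *
      U.obj.left.left.presheaf.germ ⊤ v trivial t)) :
    IsNilpotent (U.obj.left.left.presheaf.germ ⊤ v trivial s) ∨
      IsNilpotent (U.obj.left.left.presheaf.germ ⊤ v trivial t) := by
  rw [← map_mul] at hst
  have h1 := isNilpotent_germR_of_germ X p hp U l v hv _ hst
  rw [map_mul] at h1
  rcases hprime.mem_or_mem (mem_nilradical.2 h1) with h | h
  · exact Or.inl (isNilpotent_germ_of_germR X p hp U l v hv s (mem_nilradical.1 h))
  · exact Or.inr (isNilpotent_germ_of_germR X p hp U l v hv t (mem_nilradical.1 h))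

end Groth.Agent.H52.GeomUnibranchSp
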