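import Groth.Agent.H52.MonoPoint

set_option autoImplicit false
universe u
open CategoryTheory CategoryTheory.Limits AlgebraicGeometry Opposite TopologicalSpace

namespace Groth.Agent.H52

open AlgSp

variable {S : Scheme.{u}}

/-- Amalgamation of two field extensions, in terms of spectra over `S`. -/
theorem exists_over_amalgamation {L Ω₁ Ω₂ : Type u} [Field L] [Field Ω₁] [Field Ω₂]
    {wL : Spec (CommRingCat.of L) ⟶ S} {w₁ : Spec (CommRingCat.of Ω₁) ⟶ S}
    {w₂ : Spec (CommRingCat.of Ω₂) ⟶ S} (α₁ : Over.mk w₁ ⟶ Over.mk wL)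
    (α₂ : Over.mk w₂ ⟶ Over.mk wL) :
    ∃ (Ω : Type u) (_ : Field Ω) (w : Spec (CommRingCat.of Ω) ⟶ S) (d₁ : Over.mk w ⟶ Over.mk w₁)
      (d₂ : Over.mk w ⟶ Over.mk w₂), d₁ ≫ α₁ = d₂ ≫ α₂ := by
  obtain ⟨Ω, _, i₁, i₂, hi⟩ :=
    FieldPt.exists_amalgamation (Spec.preimage α₁.left).hom (Spec.preimage α₂.left).hom
  have hL : Spec.map (CommRingCat.ofHom i₁) ≫ α₁.left = Spec.map (CommRingCat.ofHom i₂) ≫ α₂.left := by
    conv_lhs => rw [← Spec.map_preimage α₁.left]
    conv_rhs => rw [← Spec.map_preimage α₂.left]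
    rw [← Spec.map_comp, ← Spec.map_comp]
    congr 1
    exact CommRingCat.hom_ext hi
  let w : Spec (CommRingCat.of Ω) ⟶ S := Spec.map (CommRingCat.ofHom i₁) ≫ w₁
  let d₁ : Over.mk w ⟶ Over.mk w₁ := Over.homMk (Spec.map (CommRingCat.ofHom i₁)) rfl
  have e₁ : α₁.left ≫ wL = w₁ := Over.w α₁
  have e₂ : α₂.left ≫ wL = w₂ := Over.w α₂
  have hw : Spec.map (CommRingCat.ofHom i₂) ≫ w₂ = w := by
    change _ = Spec.map (CommRingCat.ofHom i₁) ≫ w₁
    rw [← e₁, ← e₂, ← Category.assoc, ← Category.assoc, hL]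
  let d₂ : Over.mk w ⟶ Over.mk w₂ := Over.homMk (Spec.map (CommRingCat.ofHom i₂)) hw
  exact ⟨Ω, inferInstance, w, d₁, d₂, Over.OverMorphism.ext (by simpa [d₁, d₂] using hL)⟩

/-- The class of a field valued point obtained from a morphism through a scheme lies in the image
of the scheme. -/
theorem mk_fieldPtOfHom_comp_mem_range {F : Sp S} {T : Over S} (ℓ : (yon S).obj T ⟶ F)
    {Ω : Type u} [Field Ω] (w : Spec (CommRingCat.of Ω) ⟶ S) (Δ : Over.mk w ⟶ T) :
    Points.mk (fieldPtOfHom w ((yon S).map Δ ≫ ℓ)) ∈ Set.range (Points.ofPt ℓ) := by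
  rw [← fieldPtOfHom_map, mk_map_eq_ofPt]
  exact Set.mem_range_self _

/-- Points of a fibre product over a pair of points lying over a monomorphic point are in the
image of the fibre product of the two field spectra over the monomorphic point. -/
theorem exists_lift_points_over {F G H W : Sp S} {f : F ⟶ H} {g : G ⟶ H} {p : W ⟶ F}
    {q : W ⟶ G} (hW : IsPullback p q f g) (r : FieldPt H) (hm : Mono r.toHom) (a : FieldPt F)
    (b : FieldPt G) (ca : a.pt ⟶ r.pt) (cb : b.pt ⟶ r.pt)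
    (ha : (yon S).map ca ≫ r.toHom = a.toHom ≫ f) (hb : (yon S).map cb ≫ r.toHom = b.toHom ≫ g) :
    ∃ ℓ : (yon S).obj (Over.mk (pullback.fst ca.left cb.left ≫ a.str)) ⟶ W,
      {w : Points W | Points.map p w = Points.mk a ∧ Points.map q w = Points.mk b} ⊆
        Set.range (Points.ofPt ℓ) := by
  classical
  let π₁ : pullback ca.left cb.left ⟶ Spec (.of a.K) := pullback.fst _ _
  let π₂ : pullback ca.left cb.left ⟶ Spec (.of b.K) := pullback.snd _ _
  let T : Over S := Over.mk (π₁ ≫ a.str)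
  let m₁ : T ⟶ a.pt := Over.homMk π₁ rfl
  have hw₂ : π₂ ≫ b.str = π₁ ≫ a.str := by
    have e1 : ca.left ≫ r.str = a.str := Over.w ca
    have e2 : cb.left ≫ r.str = b.str := Over.w cb
    rw [← e1, ← e2, ← Category.assoc, ← Category.assoc, pullback.condition]
  let m₂ : T ⟶ b.pt := Over.homMk π₂ hw₂
  have hm12 : m₁ ≫ ca = m₂ ≫ cb := Over.OverMorphism.ext pullback.condition
  have hcomm : ((yon S).map m₁ ≫ a.toHom) ≫ f = ((yon S).map m₂ ≫ b.toHom) ≫ g := by
    rw [Category.assoc, Category.assoc, ← ha, ← hb, ← Category.assoc, ← Category.assoc,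
      ← Functor.map_comp, ← Functor.map_comp, hm12]
  refine ⟨hW.lift _ _ hcomm, ?_⟩
  rintro w ⟨hw1, hw2⟩
  induction w using Points.ind with
  | h ω =>
  rw [Points.map_mk, Points.mk_eq_mk_iff] at hw1 hw2
  obtain ⟨Ω₁, _, w₁, α₁', β₁, h₁'⟩ := (rel_iff_toHom _ _).1 hw1
  obtain ⟨Ω₂, _, w₂, α₂', β₂, h₂'⟩ := (rel_iff_toHom _ _).1 hw2
  let α₁ : Over.mk w₁ ⟶ ω.pt := α₁'
  let α₂ : Over.mk w₂ ⟶ ω.pt := α₂'
  have h₁ : (yon S).map α₁ ≫ ω.toHom ≫ p = (yon S).map β₁ ≫ a.toHom := by
    rw [← FieldPt.toHom_map]; exact h₁'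
  have h₂ : (yon S).map α₂ ≫ ω.toHom ≫ q = (yon S).map β₂ ≫ b.toHom := by
    rw [← FieldPt.toHom_map]; exact h₂'
  clear_value α₁ α₂
  clear h₁' h₂'
  obtain ⟨Ω, _, wΩ, d₁, d₂, hd⟩ := exists_over_amalgamation α₁ α₂
  -- the two maps to `Spec k` agree
  have hk : (d₁ ≫ β₁) ≫ ca = (d₂ ≫ β₂) ≫ cb := by
    apply (yon S).map_injective
    rw [← cancel_mono r.toHom]
    simp only [Functor.map_comp, Category.assoc]
    rw [ha, hb, ← Category.assoc ((yon S).map β₁), ← Category.assoc ((yon S).map β₂), ← h₁, ← h₂]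
    simp only [Category.assoc]
    rw [← hW.w, ← Category.assoc ((yon S).map d₁), ← Category.assoc ((yon S).map d₂),
      ← Functor.map_comp, ← Functor.map_comp, hd]
  let δ : Spec (.of Ω) ⟶ pullback ca.left cb.left :=
    pullback.lift (d₁ ≫ β₁).left (d₂ ≫ β₂).left (congrArg (fun m => m.left) hk)
  have hδw : δ ≫ π₁ ≫ a.str = wΩ := by
    rw [← Category.assoc, pullback.lift_fst]
    exact Over.w (d₁ ≫ β₁)
  let Δ : Over.mk wΩ ⟶ T := Over.homMk δ hδw
  have hΔ₁ : Δ ≫ m₁ = d₁ ≫ β₁ := Over.OverMorphism.ext (pullback.lift_fst _ _ _)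
  have hΔ₂ : Δ ≫ m₂ = d₂ ≫ β₂ := Over.OverMorphism.ext (pullback.lift_snd _ _ _)
  have hΔ : (yon S).map Δ ≫ hW.lift _ _ hcomm = (yon S).map (d₁ ≫ α₁) ≫ ω.toHom := by
    apply hW.hom_ext
    · rw [Category.assoc, hW.lift_fst, ← Category.assoc, ← Functor.map_comp, hΔ₁,
        Functor.map_comp, Category.assoc, ← h₁, Functor.map_comp]
      simp only [Category.assoc]
    · rw [Category.assoc, hW.lift_snd, ← Category.assoc, ← Functor.map_comp, hΔ₂,
        Functor.map_comp, Category.assoc, ← h₂, hd, Functor.map_comp]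
      simp only [Category.assoc]
  have := mk_fieldPtOfHom_comp_mem_range (hW.lift _ _ hcomm) wΩ Δ
  rw [hΔ, ← toHom_fieldPtRestrict,
    show fieldPtOfHom wΩ (fieldPtRestrict ω wΩ (d₁ ≫ α₁)).toHom = fieldPtRestrict ω wΩ (d₁ ≫ α₁)
      from fieldPtOfHom_toHom (fieldPtRestrict ω wΩ (d₁ ≫ α₁)), mk_fieldPtRestrict] at this
  exact this

/-- Points of a fibre product over a pair of points lying over a monomorphic point: finiteness. -/
theorem finite_points_over_of_mono {F G H W : Sp S} {f : F ⟶ H} {g : G ⟶ H} {p : W ⟶ F}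
    {q : W ⟶ G} (hW : IsPullback p q f g) (r : FieldPt H) (hm : Mono r.toHom) (a : FieldPt F)
    (b : FieldPt G) (ca : a.pt ⟶ r.pt) (cb : b.pt ⟶ r.pt)
    (ha : (yon S).map ca ≫ r.toHom = a.toHom ≫ f) (hb : (yon S).map cb ≫ r.toHom = b.toHom ≫ g)
    (hcb : LocallyQuasiFinite cb.left) :
    {w : Points W | Points.map p w = Points.mk a ∧ Points.map q w = Points.mk b}.Finite := by
  obtain ⟨ℓ, hℓ⟩ := exists_lift_points_over hW r hm a b ca cb ha hb
  let π₁ : pullback ca.left cb.left ⟶ Spec (.of a.K) := pullback.fst _ _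
  have hfin : Finite ↥(pullback ca.left cb.left) := by
    have h1 : LocallyQuasiFinite π₁ := inferInstanceAs (LocallyQuasiFinite (pullback.fst _ _))
    have hb' : Finite ↥b.pt.left := inferInstanceAs (Finite (PrimeSpectrum b.K))
    have h2 : QuasiCompact cb.left := quasiCompact_of_finite cb.left
    have h3 : QuasiCompact π₁ := inferInstanceAs (QuasiCompact (pullback.fst _ _))
    have := π₁.finite_preimage_singleton (IsLocalRing.closedPoint a.K)
    have huniv : π₁ ⁻¹' {IsLocalRing.closedPoint a.K} = Set.univ := by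
      ext z; simp only [Set.mem_preimage, Set.mem_univ, iff_true]
      exact Subsingleton.elim (α := PrimeSpectrum a.K) _ _
    exact Set.finite_univ_iff.mp (huniv ▸ this)
  have hT : Finite ↥(Over.mk (pullback.fst ca.left cb.left ≫ a.str)).left := hfin
  exact (Set.finite_range (Points.ofPt ℓ)).subset hℓ

/-- Points of a fibre product over a pair of points lying over a monomorphic point: uniqueness
when one of the points has the same field as the monomorphic point. -/
theorem subsingleton_points_over_of_mono {F G H W : Sp S} {f : F ⟶ H} {g : G ⟶ H} {p : W ⟶ F}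
    {q : W ⟶ G} (hW : IsPullback p q f g) (r : FieldPt H) (hm : Mono r.toHom) (a : FieldPt F)
    (b : FieldPt G) (ca : a.pt ⟶ r.pt) (cb : b.pt ⟶ r.pt)
    (ha : (yon S).map ca ≫ r.toHom = a.toHom ≫ f) (hb : (yon S).map cb ≫ r.toHom = b.toHom ≫ g)
    (hcb : IsIso cb.left) :
    {w : Points W | Points.map p w = Points.mk a ∧ Points.map q w = Points.mk b}.Subsingleton := by
  obtain ⟨ℓ, hℓ⟩ := exists_lift_points_over hW r hm a b ca cb ha hb
  have hiso : IsIso (pullback.fst ca.left cb.left) := inferInstance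
  have hsub : Subsingleton ↥(Over.mk (pullback.fst ca.left cb.left ≫ a.str)).left := by
    refine ⟨fun y z => ?_⟩
    have hinj : Function.Injective (pullback.fst ca.left cb.left) :=
      (pullback.fst ca.left cb.left).injective
    exact hinj (Subsingleton.elim (α := PrimeSpectrum a.K) _ _)
  intro w hw w' hw'
  obtain ⟨t, rfl⟩ := hℓ hw
  obtain ⟨t', rfl⟩ := hℓ hw'
  rw [Subsingleton.elim t t']

/-- For an etale chart `b : h_V ⟶ F` and a field valued point `r` of `F` through which the point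
`v` of the chart factors, the morphism `Spec κ(v) ⟶ Spec r.K` is locally quasi-finite. -/
theorem locallyQuasiFinite_of_factor {F : Sp S} {V : Over S} (b : (yon S).obj V ⟶ F)
    (hb : RepWith @Etale b) (v : ↥V.left) (r : FieldPt F) (c : (FieldPt.ofPt b v).pt ⟶ r.pt)
    (hc : (yon S).map c ≫ r.toHom = (FieldPt.ofPt b v).toHom) : LocallyQuasiFinite c.left := by
  obtain ⟨Z, φ, ψ, hpb, -⟩ := exists_fibre_scheme r b hb.rep
  have hcomm : (yon S).map (ptHom V v) ≫ b = (yon S).map c ≫ r.toHom := by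
    rw [hc, FieldPt.toHom_ofPt]
    rfl
  obtain ⟨l, hl⟩ := (yon S).map_surjective (hpb.lift _ _ hcomm)
  have h1 : l ≫ φ = ptHom V v := by
    apply (yon S).map_injective
    rw [Functor.map_comp, hl, hpb.lift_fst]
  have h2 : l ≫ ψ = c := by
    apply (yon S).map_injective
    rw [Functor.map_comp, hl, hpb.lift_snd]
    rfl
  have het : Etale ψ.left := hb.property r.toHom _ ψ hpb
  have hψ : LocallyQuasiFinite ψ.left := etale_locallyQuasiFinite ψ.left
  have h1' : l.left ≫ φ.left = V.left.fromSpecResidueField v := congrArg (fun m => m.left) h1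
  have hl' : LocallyQuasiFinite l.left := by
    have : LocallyQuasiFinite (l.left ≫ φ.left) := by rw [h1']; infer_instance
    exact LocallyQuasiFinite.of_comp l.left φ.left
  have h2' : l.left ≫ ψ.left = c.left := congrArg (fun m => m.left) h2
  rw [← h2']
  exact MorphismProperty.comp_mem _ _ _ hl' hψ

end Groth.Agent.H52
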