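import Groth.Agent.H52.EqvRelGeom
import Groth.Agent.H52.FibreFinite
import Groth.Agent.H52.AtlasLocal

set_option autoImplicit false
universe u
open CategoryTheory CategoryTheory.Limits AlgebraicGeometry Opposite TopologicalSpace

namespace Groth.Agent.H52

open AlgSp

variable {S : Scheme.{u}}

/-- A locally quasi-finite morphism from a scheme with finitely many points to the spectrum of a field is
finite. -/
theorem isFinite_of_lqf_of_finite {Z : Scheme.{u}} {K : Type u} [Field K]
    (f : Z ⟶ Spec (CommRingCat.of K)) [LocallyQuasiFinite f] [Finite ↥Z] : IsFinite f := by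
  have hart : IsLocallyArtinian (Spec (CommRingCat.of K)) :=
    Scheme.isLocallyArtinianScheme_Spec.2 (inferInstanceAs (IsArtinianRing K))
  have : QuasiCompact f := quasiCompact_of_finite f
  exact IsFinite.of_locallyQuasiFinite f

/-- An etale quasi-compact morphism to the spectrum of a field is finite. -/
theorem isFinite_of_etale_of_quasiCompact {Z : Scheme.{u}} {K : Type u} [Field K]
    (f : Z ⟶ Spec (CommRingCat.of K)) [Etale f] [QuasiCompact f] : IsFinite f := by
  have hart : IsLocallyArtinian (Spec (CommRingCat.of K)) :=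
    Scheme.isLocallyArtinianScheme_Spec.2 (inferInstanceAs (IsArtinianRing K))
  have : LocallyQuasiFinite f := etale_locallyQuasiFinite f
  exact IsFinite.of_locallyQuasiFinite f

/-- For a point `u` of an etale chart, the projection from the self fibre product of `Spec κ(u)` over the
sheaf to `Spec κ(u)` is locally quasi-finite. -/
theorem locallyQuasiFinite_pr_of_chart {F : Sp S} {U : Over S} (φ : (yon S).obj U ⟶ F)
    (hφ : RepWith @Etale φ) (u : ↥U.left) {R : Over S} (pr₁ pr₂ : R ⟶ (FieldPt.ofPt φ u).pt)
    (hR : IsPullback ((yon S).map pr₁) ((yon S).map pr₂) (FieldPt.ofPt φ u).toHom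
      (FieldPt.ofPt φ u).toHom) : LocallyQuasiFinite pr₁.left := by
  -- the fibre product `Spec κ(u) ×_F U`
  have sq := hφ.rep.isPullback (FieldPt.ofPt φ u).toHom
  have hae : Etale (hφ.rep.snd (FieldPt.ofPt φ u).toHom).left := hφ.property _ _ _ sq
  have hq : (FieldPt.ofPt φ u).toHom = (yon S).map (ofPtHom φ u) ≫ φ := toHom_ofPt' φ u
  -- the lift `R ⟶ W`
  let l : (yon S).obj R ⟶ (yon S).obj (hφ.rep.pullback (FieldPt.ofPt φ u).toHom) :=
    sq.lift ((yon S).map (pr₂ ≫ ofPtHom φ u)) ((yon S).map pr₁) (by
      rw [Functor.map_comp, Category.assoc, ← hq, hR.w])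
  have hl1 : l ≫ hφ.rep.fst (FieldPt.ofPt φ u).toHom = (yon S).map (pr₂ ≫ ofPtHom φ u) :=
    sq.lift_fst _ _ _
  have hl2 : l ≫ (yon S).map (hφ.rep.snd (FieldPt.ofPt φ u).toHom) = (yon S).map pr₁ :=
    sq.lift_snd _ _ _
  obtain ⟨l', hl'⟩ := (yon S).map_surjective l
  -- the upper square is a pullback
  have houter : IsPullback (l ≫ (yon S).map (hφ.rep.snd (FieldPt.ofPt φ u).toHom)) ((yon S).map pr₂)
      (FieldPt.ofPt φ u).toHom ((yon S).map (ofPtHom φ u) ≫ φ) := by
    rw [hl2, ← hq]
    exact hR
  have hup : IsPullback l ((yon S).map pr₂) (hφ.rep.fst (FieldPt.ofPt φ u).toHom)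
      ((yon S).map (ofPtHom φ u)) :=
    IsPullback.of_right houter (by rw [hl1, Functor.map_comp]) sq.flip
  rw [← hl'] at hup
  have hlqf0 : LocallyQuasiFinite (ofPtHom φ u).left := by
    change LocallyQuasiFinite (U.left.fromSpecResidueField u)
    infer_instance
  have hlqf1 : LocallyQuasiFinite l'.left :=
    ((repWith_yon_map_iff @LocallyQuasiFinite (ofPtHom φ u)).2 hlqf0).property _ _ _ hup.flip
  have hlqf2 : LocallyQuasiFinite (hφ.rep.snd (FieldPt.ofPt φ u).toHom).left :=
    etale_locallyQuasiFinite _
  have hpr : pr₁ = l' ≫ hφ.rep.snd (FieldPt.ofPt φ u).toHom := by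
    apply (yon S).map_injective
    rw [Functor.map_comp, hl', hl2]
  rw [hpr, Over.comp_left]
  infer_instance

/-- **Lemma F.**  For a point `u` of an etale chart, the self fibre product of `Spec κ(u)` over the sheaf
is finite over `Spec κ(u)` as soon as it has finitely many points. -/
theorem isFinite_pr_of_chart {F : Sp S} {U : Over S} (φ : (yon S).obj U ⟶ F) (hφ : RepWith @Etale φ)
    (u : ↥U.left) {R : Over S} (pr₁ pr₂ : R ⟶ (FieldPt.ofPt φ u).pt)
    (hR : IsPullback ((yon S).map pr₁) ((yon S).map pr₂) (FieldPt.ofPt φ u).toHom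
      (FieldPt.ofPt φ u).toHom) [Finite ↥R.left] : IsFinite pr₁.left := by
  have hlqf : LocallyQuasiFinite pr₁.left := locallyQuasiFinite_pr_of_chart φ hφ u pr₁ pr₂ hR
  exact isFinite_of_lqf_of_finite pr₁.left

/-- The fibre product of the residue field points at two points `u`, `u'` of a chart has finitely many
points if the relation `U ×_F U` has finitely many points over `(u, u')`. -/
theorem finite_fibreprod_of_finite_rel {F : Sp S} {U : Over S} (φ : (yon S).obj U ⟶ F)
    (u u' : ↥U.left) {R : Over S} (s t : R ⟶ U)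
    (hR : IsPullback ((yon S).map t) ((yon S).map s) φ φ)
    (hfin : {r : ↥R.left | t.left r = u ∧ s.left r = u'}.Finite)
    {Z : Over S} (a : Z ⟶ (FieldPt.ofPt φ u).pt) (b : Z ⟶ (FieldPt.ofPt φ u').pt)
    (hZ : IsPullback ((yon S).map a) ((yon S).map b) (FieldPt.ofPt φ u).toHom
      (FieldPt.ofPt φ u').toHom) : Finite ↥Z.left := by
  have hcond : (yon S).map (a ≫ ofPtHom φ u) ≫ φ = (yon S).map (b ≫ ofPtHom φ u') ≫ φ := by
    rw [Functor.map_comp, Functor.map_comp, Category.assoc, Category.assoc, ← toHom_ofPt',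
      ← toHom_ofPt', hZ.w]
  obtain ⟨j, hj1, hj2⟩ := exists_lift_of_isPullback_yon hR _ _ hcond
  have hmono : Mono j := by
    refine ⟨fun {T} z z' hzz => ?_⟩
    refine hom_ext_of_isPullback_yon hZ z z' ?_ ?_
    · rw [← cancel_mono (ofPtHom φ u), Category.assoc, Category.assoc, ← hj1,
        ← Category.assoc, ← Category.assoc, hzz]
    · rw [← cancel_mono (ofPtHom φ u'), Category.assoc, Category.assoc, ← hj2,
        ← Category.assoc, ← Category.assoc, hzz]
  have hmonol : Mono j.left := inferInstance
  have hinj : Function.Injective j.left := j.left.injective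
  have hmem : ∀ z : ↥Z.left, j.left z ∈ {r : ↥R.left | t.left r = u ∧ s.left r = u'} := by
    intro z
    constructor
    · have h1 := congrArg (fun m => m.left z) hj1
      simp only [Over.comp_left, Scheme.Hom.comp_apply] at h1
      rw [h1]
      exact ofPtHom_left_apply φ u _
    · have h2 := congrArg (fun m => m.left z) hj2
      simp only [Over.comp_left, Scheme.Hom.comp_apply] at h2
      rw [h2]
      exact ofPtHom_left_apply φ u' _
  have : Finite {r : ↥R.left | t.left r = u ∧ s.left r = u'} := hfin.to_subtype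
  exact Finite.of_injective (fun z => (⟨j.left z, hmem z⟩ :
    {r : ↥R.left | t.left r = u ∧ s.left r = u'})) (fun z z' h => hinj (congrArg Subtype.val h))

/-- **Lemma QC.**  A monomorphic field-valued point of an algebraic space whose fibres in all affine etale
charts are finite is (representable and) quasi-compact. -/
theorem repWith_quasiCompact_of_finite_fibres {X : Sp S} (hX : IsAlgSpace X) (p : FieldPt X)
    (hm : Mono p.toHom)
    (hfin : ∀ (U : Over S) (φ : (yon S).obj U ⟶ X), IsAffine U.left → RepWith @Etale φ →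
      (Points.ofPt φ ⁻¹' {Points.mk p}).Finite) :
    RepWith @QuasiCompact p.toHom := by
  obtain ⟨V, ψ, hψ, hψs⟩ := hX.atlas
  have hprep := hX.representable_from_yon p.toHom
  obtain ⟨Z, a, b, hpb, hrange⟩ := exists_fibre_scheme p ψ hψ.rep
  refine repWith_of_atlas @QuasiCompact p.toHom hprep ψ hψ hψs ((yon S).map b) a hpb.flip ?_
  have hmono : Mono ((yon S).map a) := (MorphismProperty.monomorphisms _).of_isPullback hpb.flip hm
  have hmono' : Mono a := (yon S).mono_of_mono_map hmono
  have hmonol : Mono a.left := inferInstance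
  have hinj : Function.Injective a.left := a.left.injective
  rw [quasiCompact_iff_forall_isAffineOpen]
  intro W hW
  apply Set.Finite.isCompact
  have hfW := hfin _ ((yon S).map (openIncl V W) ≫ ψ) hW (repWith_etale_restrict ψ hψ W)
  refine ((hfW.image (openIncl V W).left).preimage hinj.injOn).subset ?_
  intro z hz
  have hzW : a.left z ∈ W := hz
  have hzx : Points.ofPt ψ (a.left z) = Points.mk p := by
    have : a.left z ∈ Set.range a.left := ⟨z, rfl⟩
    rw [hrange] at this
    exact this
  refine ⟨⟨a.left z, hzW⟩, ?_, rfl⟩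
  change Points.ofPt ((yon S).map (openIncl V W) ≫ ψ) ⟨a.left z, hzW⟩ = Points.mk p
  rw [ofPt_yon_map_comp]
  exact hzx

/-- **Theorem Q for charts.**  If the relation `U ×_X U` of an etale chart of an algebraic space has
finitely many points over `(u, u)`, the point defined by `u` is represented by a monomorphism from the
spectrum of a field, through which `Spec κ(u)` factors by a finite morphism. -/
theorem exists_mono_point_of_chart {X : Sp S} (hX : IsAlgSpace X) {U : Over S}
    (φ : (yon S).obj U ⟶ X) (hφ : RepWith @Etale φ) (u : ↥U.left) {R : Over S} (s t : R ⟶ U)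
    (hR : IsPullback ((yon S).map t) ((yon S).map s) φ φ)
    (hfin : {r : ↥R.left | t.left r = u ∧ s.left r = u}.Finite) :
    ∃ (p : FieldPt X) (c : (FieldPt.ofPt φ u).pt ⟶ p.pt),
      (yon S).map c ≫ p.toHom = (FieldPt.ofPt φ u).toHom ∧ Mono p.toHom ∧ IsFinite c.left ∧
        Points.mk p = Points.ofPt φ u := by
  have hrep := hX.representable_from_yon (FieldPt.ofPt φ u).toHom
  obtain ⟨pr₁, hpr₁⟩ := (yon S).map_surjective (hrep.fst (FieldPt.ofPt φ u).toHom)
  have sq := hrep.isPullback (FieldPt.ofPt φ u).toHom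
  rw [← hpr₁] at sq
  have hfinite : Finite ↥(hrep.pullback (FieldPt.ofPt φ u).toHom).left :=
    finite_fibreprod_of_finite_rel φ u u s t hR hfin pr₁ _ sq
  have hfin₁ : IsFinite pr₁.left := isFinite_pr_of_chart φ hφ u pr₁ _ sq
  exact exists_mono_point_of_finite (FieldPt.ofPt φ u) pr₁ _ sq

end Groth.Agent.H52
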