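import Groth.Agent.H52.Chart
import Groth.Agent.H52.SchemeLemmas

set_option autoImplicit false
universe u
open CategoryTheory CategoryTheory.Limits AlgebraicGeometry Opposite

namespace Groth.Agent.H52

open AlgSp

variable {S : Scheme.{u}}

/-- `h` of the inclusion of a point of a scheme, as a morphism of sheaves. -/
noncomputable abbrev ptHom (T : Over S) (t : ↥T.left) :
    Over.mk (T.left.fromSpecResidueField t ≫ T.hom) ⟶ T :=
  Over.homMk (T.left.fromSpecResidueField t) rfl

instance mono_ptHom (T : Over S) (t : ↥T.left) : Mono (ptHom T t) := by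
  have : Mono (ptHom T t).left := by
    change Mono (T.left.fromSpecResidueField t)
    infer_instance
  exact Over.mono_of_mono_left _

instance mono_yon_map {T T' : Over S} (φ : T' ⟶ T) [Mono φ] : Mono ((yon S).map φ) :=
  inferInstance

theorem repWith_quasiCompact_ptHom (T : Over S) (t : ↥T.left) :
    RepWith @QuasiCompact ((yon S).map (ptHom T t)) := by
  rw [repWith_yon_map_iff]
  change QuasiCompact (T.left.fromSpecResidueField t)
  exact quasiCompact_of_finite _

/-- Every point of a scheme is represented by a quasi-compact monomorphism: schemes are decent. -/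
theorem isDecent_yon_obj (T : Over S) : IsDecent ((yon S).obj T) := by
  intro x
  obtain ⟨t, rfl⟩ := (Points.schemeEquiv T).surjective x
  refine ⟨FieldPt.ofPt (𝟙 _) t, rfl, ?_, ?_⟩
  · rw [FieldPt.toHom_ofPt, Category.comp_id]; exact mono_yon_map (ptHom T t)
  · rw [FieldPt.toHom_ofPt, Category.comp_id]; exact repWith_quasiCompact_ptHom T t

/-- Lifting monomorphic (quasi-compact) representatives of points along a representable morphism. -/
theorem exists_fieldPt_of_representable {F G : Sp S} (f : F ⟶ G) (hf : Representable f)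
    (x : Points F) (q : FieldPt G) (hq : Points.mk q = Points.map f x) (hm : Mono q.toHom) :
    ∃ p : FieldPt F, Points.mk p = x ∧ Mono p.toHom ∧
      (RepWith @QuasiCompact q.toHom → RepWith @QuasiCompact p.toHom) := by
  have hpb := hf.isPullback q.toHom
  obtain ⟨z', hz1, -⟩ := exists_point_of_isPullback hpb x
    (Points.ofScheme q.pt (IsLocalRing.closedPoint q.K)) (by
      rw [← hq, ← Points.ofPt_eq_map_ofScheme, Points.ofPt_toHom])
  obtain ⟨z, rfl⟩ := (Points.schemeEquiv (hf.pullback q.toHom)).surjective z'
  have hx : Points.ofPt (hf.fst q.toHom) z = x := by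
    rw [Points.ofPt_eq_map_ofScheme]; exact hz1
  have hmono_fst : Mono (hf.fst q.toHom) := hpb.mono_fst_of_mono
  refine ⟨FieldPt.ofPt (hf.fst q.toHom) z, hx, ?_, fun hqc => ?_⟩
  · rw [FieldPt.toHom_ofPt]
    exact @mono_comp _ _ _ _ _ _ (mono_yon_map (ptHom (hf.pullback q.toHom) z)) _ hmono_fst
  · rw [FieldPt.toHom_ofPt]
    refine (RepWith @QuasiCompact).comp_mem _ _ (repWith_quasiCompact_ptHom _ z) ?_
    exact (RepWith @QuasiCompact).of_isPullback hpb.flip hqc

/-- A sheaf with a representable morphism to a decent sheaf is decent. -/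
theorem isDecent_of_representable {F G : Sp S} (f : F ⟶ G) (hf : Representable f)
    (hG : IsDecent G) : IsDecent F := by
  intro x
  obtain ⟨q, hq, hm, hqc⟩ := hG (Points.map f x)
  obtain ⟨p, hp, hpm, hpq⟩ := exists_fieldPt_of_representable f hf x q hq hm
  exact ⟨p, hp, hpm, hpq hqc⟩

end Groth.Agent.H52
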