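import Groth.Agent.H52.SoberSp

/-!
# The space of points of a decent algebraic space is quasi-sober : assembly
-/

set_option autoImplicit false
universe u
open CategoryTheory CategoryTheory.Limits AlgebraicGeometry Opposite TopologicalSpace

namespace Groth.Agent.H52.SoberSp

open AlgSp Lifts

variable {S : Scheme.{u}}

/-- An irreducible closed set of points of a decent sheaf which meets the image of an affine
étale chart has a generic point. -/
theorem exists_generic_of_chart {X : Sp S} (hX : IsDecent X) {U : Over S} [IsAffine U.left]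
    (a : (yon S).obj U ⟶ X) (ha : RepWith @Etale a) (T : Set (Points X)) (hT : IsIrreducible T)
    (hTc : IsClosed T) (hne : (T ∩ Set.range (Points.ofPt a)).Nonempty) :
    ∃ η, IsGenericPoint η T := by
  classical
  have hcont := Points.continuous_ofPt a
  set T' : Set ↥U.left := Points.ofPt a ⁻¹' T with hT'def
  have hT'c : IsClosed T' := hTc.preimage hcont
  have hT'ne : T'.Nonempty := by
    obtain ⟨_, hx, ⟨u, rfl⟩⟩ := hne
    exact ⟨u, hx⟩
  set Uo : ℕ → Set ↥U.left := fun n => {u | HasLiftsSp a n (Points.ofPt a u)} with hUodef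
  have hsep : IsSeparated (ha.rep.snd a).left := isSeparated_snd a ha a
  have het : Etale (ha.rep.snd a).left := ha.property_snd a
  have hUo : ∀ n, IsOpen (Uo n) := by
    intro n
    have : Uo n = {u | HasLifts (ha.rep.snd a).left n u} := by
      ext u; exact (hasLifts_snd_iff a ha a n u).symm
    rw [this]
    exact isOpen_setOf_hasLifts n _
  have h0 : T' ⊆ Uo 0 := fun u _ => (hasLifts_snd_iff a ha a 0 u).1 (hasLifts_zero _ u)
  have hemp : ∀ u ∈ T', ∃ n, u ∉ Uo n := by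
    intro u _
    obtain ⟨q, hq, -, hqc⟩ := hX (Points.ofPt a u)
    obtain ⟨N, hN⟩ := exists_not_hasLiftsSp a ha q hqc
    exact ⟨N, fun h => hN (hq ▸ h)⟩
  let e : ↥U.left ≃ₜ PrimeSpectrum Γ(U.left, ⊤) := Scheme.homeoOfIso U.left.isoSpec
  obtain ⟨n, W, hW, hWne, hWn, hWn1⟩ :=
    NestedOpens.exists_open_const e T' hT'c hT'ne Uo hUo h0 hemp
  -- saturate
  set W₀ : Set ↥U.left := Points.ofPt a ⁻¹' (Points.ofPt a '' W) with hW₀def
  have hW₀ : IsOpen W₀ := (H51.isOpenMap_ofPt_of_etale a ha W hW).preimage hcont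
  have hWW₀ : W ⊆ W₀ := fun w hw => ⟨w, hw, rfl⟩
  have hV''n : ∀ u ∈ W₀ ∩ T', HasLiftsSp a n (Points.ofPt a u) ∧
      ¬ HasLiftsSp a (n + 1) (Points.ofPt a u) := by
    rintro u ⟨⟨w, hwW, hwu⟩, huT⟩
    have hwT : w ∈ T' := by
      change Points.ofPt a w ∈ T
      rw [hwu]; exact huT
    rw [← hwu]
    exact ⟨hWn ⟨hwW, hwT⟩, fun h => Set.disjoint_left.1 hWn1 ⟨hwW, hwT⟩ h⟩
  have hsatur : ∀ u u' : ↥U.left, Points.ofPt a u = Points.ofPt a u' → u ∈ W₀ ∩ T' →
      u' ∈ W₀ ∩ T' := by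
    rintro u u' h ⟨h1, h2⟩
    refine ⟨?_, ?_⟩
    · change Points.ofPt a u' ∈ Points.ofPt a '' W
      rw [← h]; exact h1
    · change Points.ofPt a u' ∈ T
      rw [← h]; exact h2
  -- the scheme `Z`
  let I : U.left.IdealSheafData := Scheme.IdealSheafData.vanishingIdeal ⟨T', hT'c⟩
  have hι₀ : Set.range I.subschemeι = T' := by
    rw [I.range_subschemeι]
    exact Scheme.IdealSheafData.coe_support_vanishingIdeal _
  let OZ : I.subscheme.Opens := I.subschemeι ⁻¹ᵁ ⟨W₀, hW₀⟩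
  let ι : OZ.toScheme ⟶ U.left := OZ.ι ≫ I.subschemeι
  have hrange : Set.range ι = W₀ ∩ T' := by
    change Set.range (OZ.ι ≫ I.subschemeι) = _
    rw [Scheme.Hom.comp_base, TopCat.coe_comp, Set.range_comp, Scheme.Opens.range_ι]
    change I.subschemeι '' (I.subschemeι ⁻¹' W₀) = _
    rw [Set.image_preimage_eq_inter_range, hι₀]
  have hemb : Topology.IsEmbedding ι := ι.isEmbedding
  let Z : Over S := Over.mk (ι ≫ U.hom)
  let ι' : Z ⟶ U := Over.homMk ι rfl
  let c : (yon S).obj Z ⟶ X := (yon S).map ι' ≫ a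
  have hcz : ∀ z : ↥Z.left, Points.ofPt c z = Points.ofPt a (ι z) := fun z =>
    H51.ofPt_map_comp ι' a z
  have hιmem : ∀ z : ↥Z.left, ι z ∈ W₀ ∩ T' := fun z => hrange ▸ Set.mem_range_self z
  have sq := ha.rep.isPullback' c
  let g : (ha.rep.pullback c).left ⟶ Z.left := (ha.rep.snd c).left
  have hgsep : IsSeparated g := isSeparated_snd a ha c
  have hget : Etale g := ha.property_snd c
  have hg1 : ∀ z, HasLifts g n z := fun z =>
    (hasLifts_snd_iff a ha c n z).2 (by rw [hcz]; exact (hV''n _ (hιmem z)).1)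
  have hg2 : ∀ z, ¬ HasLifts g (n + 1) z := fun z h =>
    (hV''n _ (hιmem z)).2 (by rw [← hcz]; exact (hasLifts_snd_iff a ha c (n + 1) z).1 h)
  have hguc : UniversallyClosed g := universallyClosed_of_const_lifts n g hg1 hg2
  have hgcl : IsClosedMap g := g.isClosedMap
  -- the topological lemma
  have hπcont : Continuous (Points.ofPt c) := Points.continuous_ofPt c
  have hT₂ : Set.range (Points.ofPt c) = T ∩ Points.ofPt a '' W₀ := by
    ext y
    constructor
    · rintro ⟨z, rfl⟩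
      rw [hcz]
      exact ⟨(hιmem z).2, _, (hιmem z).1, rfl⟩
    · rintro ⟨hyT, u, hu, rfl⟩
      have : u ∈ Set.range ι := by rw [hrange]; exact ⟨hu, hyT⟩
      obtain ⟨z, rfl⟩ := this
      exact ⟨z, hcz z⟩
  have hOopen : IsOpen (Points.ofPt a '' W₀) := H51.isOpenMap_ofPt_of_etale a ha W₀ hW₀
  have hT₂ne : (T ∩ Points.ofPt a '' W₀).Nonempty := by
    obtain ⟨w, hwW, hwT⟩ := hWne
    exact ⟨_, hwT, w, hWW₀ hwW, rfl⟩
  have hT₂irr : IsIrreducible (T ∩ Points.ofPt a '' W₀) := by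
    refine ⟨hT₂ne, fun u v hu hv hnu hnv => ?_⟩
    have := hT.isPreirreducible (Points.ofPt a '' W₀ ∩ u) (Points.ofPt a '' W₀ ∩ v)
      (hOopen.inter hu) (hOopen.inter hv)
      (by obtain ⟨y, ⟨h1, h2⟩, h3⟩ := hnu; exact ⟨y, h1, h2, h3⟩)
      (by obtain ⟨y, ⟨h1, h2⟩, h3⟩ := hnv; exact ⟨y, h1, h2, h3⟩)
    obtain ⟨y, h1, ⟨h2, h3⟩, ⟨-, h4⟩⟩ := this
    exact ⟨y, ⟨h1, h2⟩, h3, h4⟩
  have hopen : ∀ N : Set ↥Z.left, IsOpen N → ∃ G : Set (Points X), IsOpen G ∧
      Points.ofPt c '' N = G ∩ (T ∩ Points.ofPt a '' W₀) := by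
    intro N hN
    obtain ⟨NU, hNU, rfl⟩ := hemb.isInducing.isOpen_iff.1 hN
    refine ⟨Points.ofPt a '' (W₀ ∩ NU), H51.isOpenMap_ofPt_of_etale a ha _ (hW₀.inter hNU), ?_⟩
    ext y
    constructor
    · rintro ⟨z, hz, rfl⟩
      rw [hcz]
      exact ⟨⟨_, ⟨(hιmem z).1, hz⟩, rfl⟩, (hιmem z).2, _, (hιmem z).1, rfl⟩
    · rintro ⟨⟨u, ⟨hu1, hu2⟩, rfl⟩, hyT, -⟩
      have : u ∈ Set.range ι := by rw [hrange]; exact ⟨hu1, hyT⟩
      obtain ⟨z, rfl⟩ := this
      exact ⟨z, hu2, hcz z⟩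
  have hsat : ∀ C : Set ↥Z.left, IsClosed C →
      IsClosed (Points.ofPt c ⁻¹' (Points.ofPt c '' C)) := by
    intro C hC
    obtain ⟨K, hK, rfl⟩ := hemb.isInducing.isClosed_iff.1 hC
    have : Points.ofPt c ⁻¹' (Points.ofPt c '' (ι ⁻¹' K)) =
        g '' ((ha.rep.fst' c).left ⁻¹' K) := by
      ext z
      constructor
      · rintro ⟨z', hz', h⟩
        rw [hcz] at h
        obtain ⟨y, hy1, hy2⟩ := H51.exists_of_ofPt_eq sq (ι z') z h
        exact ⟨y, by rw [Set.mem_preimage, hy1]; exact hz', hy2⟩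
      · rintro ⟨y, hy, rfl⟩
        have h1 : Points.ofPt a ((ha.rep.fst' c).left y) = Points.ofPt c (g y) := by
          rw [← H51.ofPt_map_comp, ← H51.ofPt_map_comp, sq.w]
        have h2 : (ha.rep.fst' c).left y ∈ W₀ ∩ T' :=
          hsatur _ _ ((hcz (g y)).symm.trans h1.symm) (hιmem (g y))
        rw [← hrange] at h2
        obtain ⟨z', hz'⟩ := h2
        refine ⟨z', ?_, ?_⟩
        · rw [Set.mem_preimage, hz']; exact hy
        · rw [hcz, hz', h1]
    rw [this]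
    exact hgcl _ (hK.preimage (ha.rep.fst' c).left.continuous)
  have hfin : ∀ y, (Points.ofPt c ⁻¹' {y}).Finite := by
    intro y
    obtain ⟨q, hq, -, hqc⟩ := hX y
    have hf := finite_fibre_of_quasiCompact_point q hqc a ha
    rw [hq] at hf
    refine (hf.preimage hemb.injective.injOn).subset ?_
    intro z hz
    change Points.ofPt a (ι z) = y
    rw [← hcz]; exact hz
  obtain ⟨z, hz⟩ := SoberTop.exists_generic_of_finite_fibres (Points.ofPt c) hπcont
    (T ∩ Points.ofPt a '' W₀) hT₂irr hT₂ hopen hsat hfin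
  refine ⟨Points.ofPt c z, ?_⟩
  have hzT : Points.ofPt c z ∈ T := by
    have : Points.ofPt c z ∈ T ∩ Points.ofPt a '' W₀ := hT₂ ▸ Set.mem_range_self z
    exact this.1
  apply Set.Subset.antisymm
  · exact closure_minimal (Set.singleton_subset_iff.2 hzT) hTc
  · -- `T ∩ O` is dense in `T`
    intro t ht
    rw [mem_closure_iff]
    intro N hN htN
    have := hT.isPreirreducible N (Points.ofPt a '' W₀) hN hOopen ⟨t, ht, htN⟩
      (by obtain ⟨y, h1, h2⟩ := hT₂ne; exact ⟨y, h1, h2⟩)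
    obtain ⟨y, hyT, hyN, hyO⟩ := this
    have hy : y ∈ closure {Points.ofPt c z} := hz ⟨hyT, hyO⟩
    rw [mem_closure_iff] at hy
    obtain ⟨_, hy1, hy2⟩ := hy N hN hyN
    rw [Set.mem_singleton_iff] at hy2
    exact ⟨_, hy2 ▸ hy1, rfl⟩


/-- **The space of points of a decent algebraic space is quasi-sober.** -/
theorem quasiSober_points_of_isDecent (X : AlgSp.Space S) (hX : IsDecent X.obj) :
    QuasiSober (Points X.obj) := by
  refine ⟨fun {T} hT hTc => ?_⟩
  obtain ⟨x₀, hx₀⟩ := hT.nonempty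
  obtain ⟨V, b, hb, hbs⟩ := X.property.atlas
  obtain ⟨v₀, hv₀⟩ := H51.surjective_ofPt_of_surjective b hbs x₀
  obtain ⟨_, ⟨W, hW, rfl⟩, hv₀W, -⟩ :=
    V.left.isBasis_affineOpens.exists_subset_of_mem_open (Set.mem_univ v₀) isOpen_univ
  let W' : V.left.Opens := W
  have : IsAffine (Over.mk (W'.ι ≫ V.hom)).left := hW
  refine exists_generic_of_chart hX ((yon S).map (openIncl V W') ≫ b)
    (repWith_etale_restrict b hb W') T hT hTc ⟨x₀, hx₀, ⟨⟨v₀, hv₀W⟩, ?_⟩⟩
  exact (H51.ofPt_map_comp (openIncl V W') b _).trans hv₀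

end Groth.Agent.H52.SoberSp
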