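import Mathlib

/-!
# Finite sets of points of codimension zero in a quasi-separated scheme lie in an affine open
-/

set_option autoImplicit false
universe u
open CategoryTheory AlgebraicGeometry TopologicalSpace

namespace Groth.Agent.H52.AffineNbhdFinite

/-- In a ring, a finitely generated ideal contained in a prime `q` whose localization has
dimension zero is killed, up to nilpotents, by an element outside `q`: there is `c ∉ q` with
`D(c)` disjoint from the complement of the zero locus of the generators. -/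
theorem exists_notMem_mul_nilpotent {B : Type*} [CommRing B] (q : Ideal B) [q.IsPrime]
    (hq : ringKrullDim (Localization.AtPrime q) = 0) (t : Finset B) (ht : ∀ b ∈ t, b ∈ q) :
    ∃ c : B, c ∉ q ∧ ∀ b ∈ t, IsNilpotent (c * b) := by
  classical
  have hdim : Ring.KrullDimLE 0 (Localization.AtPrime q) := by
    rw [Ring.krullDimLE_iff, hq]; rfl
  induction t using Finset.induction_on with
  | empty => exact ⟨1, fun h => (Ideal.ne_top_iff_one q).1 (Ideal.IsPrime.ne_top') h, by simp⟩
  | insert b t hb ih =>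
    obtain ⟨c, hc, hct⟩ := ih (fun b' hb' => ht b' (Finset.mem_insert_of_mem hb'))
    have hbq : b ∈ q := ht b (Finset.mem_insert_self b t)
    have hnil : IsNilpotent (algebraMap B (Localization.AtPrime q) b) := by
      rw [Ring.KrullDimLE.isNilpotent_iff_mem_maximalIdeal]
      exact (IsLocalization.AtPrime.to_map_mem_maximal_iff _ q b).2 hbq
    obtain ⟨n, hn⟩ := hnil
    rw [← map_pow, IsLocalization.map_eq_zero_iff q.primeCompl] at hn
    obtain ⟨⟨d, hd⟩, hdn⟩ := hn
    refine ⟨c * d, fun h => ?_, ?_⟩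
    · rcases Ideal.IsPrime.mem_or_mem ‹q.IsPrime› h with h | h
      · exact hc h
      · exact hd h
    · intro b' hb'
      rcases Finset.mem_insert.1 hb' with rfl | hb'
      · refine ⟨n + 1, ?_⟩
        have : (c * d * b') ^ (n + 1) = (c * d) ^ n * c * b' * (d * b' ^ n) := by ring
        rw [this, hdn, mul_zero]
      · obtain ⟨m, hm⟩ := hct b' hb'
        refine ⟨m, ?_⟩
        have : (c * d * b') ^ m = d ^ m * (c * b') ^ m := by ring
        rw [this, hm, mul_zero]

variable {X : Scheme.{u}}

/-- A point with zero dimensional local ring not lying in a quasi-compact open `V` has an affine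
open neighbourhood disjoint from `V` (inside any given affine open neighbourhood, provided the
intersection of the latter with `V` is quasi-compact). -/
theorem exists_affine_nbhd_disjoint (y : X) (hy : ringKrullDim (X.presheaf.stalk y) = 0)
    (V Vy : X.Opens) (hVy : IsAffineOpen Vy) (hyVy : y ∈ Vy) (hyV : y ∉ V)
    (hc : IsCompact ((V ⊓ Vy : X.Opens) : Set X)) :
    ∃ W : X.Opens, IsAffineOpen W ∧ y ∈ W ∧ W ≤ Vy ∧ Disjoint W V := by
  let E : Set ↥(Spec Γ(X, Vy)) := hVy.fromSpec ⁻¹' ((V ⊓ Vy : X.Opens) : Set X)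
  have hEo : IsOpen E := (V ⊓ Vy).2.preimage hVy.fromSpec.continuous
  have hEc : IsCompact E := by
    have hemb := hVy.fromSpec.isOpenEmbedding.isEmbedding
    refine hemb.isCompact_iff.2 ?_
    have : hVy.fromSpec '' E = ((V ⊓ Vy : X.Opens) : Set X) := by
      rw [Set.image_preimage_eq_inter_range, IsAffineOpen.range_fromSpec]
      ext x
      simp only [Opens.coe_inf, Set.mem_inter_iff, SetLike.mem_coe]
      tauto
    rw [this]; exact hc
  obtain ⟨t, ht⟩ := (PrimeSpectrum.isCompact_isOpen_iff (R := Γ(X, Vy)) (s := E)).1 ⟨hEc, hEo⟩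
  let q := hVy.primeIdealOf ⟨y, hyVy⟩
  have hqy : hVy.fromSpec q = y := hVy.fromSpec_primeIdealOf ⟨y, hyVy⟩
  have hqE : q ∉ E := by
    intro h
    have : y ∈ V ⊓ Vy := by rw [← hqy]; exact h
    exact hyV this.1
  have htq : ∀ b ∈ t, b ∈ q.asIdeal := by
    intro b hb
    by_contra hbq
    apply hqE
    rw [← ht]
    intro hz
    exact hbq (hz hb)
  let _ : Algebra Γ(X, Vy) (X.presheaf.stalk y) := X.presheaf.algebra_section_stalk ⟨y, hyVy⟩
  have hloc : IsLocalization.AtPrime (X.presheaf.stalk y) q.asIdeal :=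
    hVy.isLocalization_stalk ⟨y, hyVy⟩
  have hdim : ringKrullDim (Localization.AtPrime q.asIdeal) = 0 := by
    rw [← hy]
    exact ringKrullDim_eq_of_ringEquiv
      (IsLocalization.algEquiv q.asIdeal.primeCompl (Localization.AtPrime q.asIdeal)
        (X.presheaf.stalk y)).toRingEquiv
  obtain ⟨c, hcq, hcn⟩ := exists_notMem_mul_nilpotent q.asIdeal hdim t htq
  refine ⟨X.basicOpen c, hVy.basicOpen c, ?_, X.basicOpen_le c, ?_⟩
  · rw [← hqy]
    change q ∈ hVy.fromSpec ⁻¹ᵁ X.basicOpen c
    rw [hVy.fromSpec_preimage_basicOpen]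
    exact hcq
  · rw [disjoint_iff]
    ext x
    simp only [Opens.coe_inf, Set.mem_inter_iff, SetLike.mem_coe, Opens.coe_bot,
      Set.mem_empty_iff_false, iff_false, not_and]
    intro hxc hxV
    have hxVy : x ∈ Vy := X.basicOpen_le c hxc
    let p := hVy.primeIdealOf ⟨x, hxVy⟩
    have hpx : hVy.fromSpec p = x := hVy.fromSpec_primeIdealOf ⟨x, hxVy⟩
    have hpc : c ∉ p.asIdeal := by
      have : p ∈ hVy.fromSpec ⁻¹ᵁ X.basicOpen c := by
        change hVy.fromSpec p ∈ X.basicOpen c
        rw [hpx]; exact hxc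
      rw [hVy.fromSpec_preimage_basicOpen] at this
      exact this
    have hpE : p ∈ E := by
      change hVy.fromSpec p ∈ V ⊓ Vy
      rw [hpx]; exact ⟨hxV, hxVy⟩
    rw [← ht] at hpE
    apply hpE
    intro b hb
    obtain ⟨n, hn⟩ := hcn b hb
    have h0 : (c * b) ^ n ∈ p.asIdeal := by rw [hn]; exact p.asIdeal.zero_mem
    have h1 := p.2.mem_of_pow_mem n h0
    exact (p.2.mem_or_mem h1).resolve_left hpc

/-- A finite set of points with zero dimensional local rings in a quasi-separated scheme is
contained in an affine open. -/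
theorem exists_isAffineOpen_of_finite [QuasiSeparatedSpace X] (T : Set X) (hT : T.Finite)
    (hdim : ∀ y ∈ T, ringKrullDim (X.presheaf.stalk y) = 0) :
    ∃ V : X.Opens, IsAffineOpen V ∧ T ⊆ V := by
  induction T, hT using Set.Finite.induction_on with
  | empty => exact ⟨⊥, isAffineOpen_bot X, Set.empty_subset _⟩
  | @insert y T hy hT ih =>
    obtain ⟨V, hV, hTV⟩ := ih (fun z hz => hdim z (Set.mem_insert_of_mem y hz))
    by_cases hyV : y ∈ V
    · exact ⟨V, hV, Set.insert_subset hyV hTV⟩
    · obtain ⟨_, ⟨Vy, hVy, rfl⟩, hyVy, -⟩ :=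
        X.isBasis_affineOpens.exists_subset_of_mem_open (Set.mem_univ y) isOpen_univ
      have hVy' : IsAffineOpen Vy := hVy
      have hc : IsCompact ((V ⊓ Vy : X.Opens) : Set X) :=
        QuasiSeparatedSpace.inter_isCompact V.1 Vy.1 V.2 hV.isCompact Vy.2 hVy'.isCompact
      obtain ⟨W, hW, hyW, -, hWV⟩ := exists_affine_nbhd_disjoint y
        (hdim y (Set.mem_insert y T)) V Vy hVy' hyVy hyV hc
      refine ⟨W ⊔ V, hW.sup_of_disjoint hV hWV, ?_⟩
      rintro z (rfl | hz)
      · exact Or.inl hyW
      · exact Or.inr (hTV hz)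

end Groth.Agent.H52.AffineNbhdFinite
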