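import Groth.Agent.H52.GeomConn
import Groth.Agent.H52.GeomRed
import Groth.Agent.H52.BaseChangeField
import Groth.Agent.H52.Decent
import Groth.Agent.H51.SpEtReduced

/-!
# Base change of etale charts of a space over a field to a field extension
-/

set_option autoImplicit false
universe u
open CategoryTheory CategoryTheory.Limits AlgebraicGeometry Opposite

namespace Groth.Agent.H52.BCChart

open AlgSp

variable {k : Type u} [Field k]

/-- The morphism `Spec K ⟶ Spec k` of a field extension. -/
noncomputable abbrev ι (k : Type u) [Field k] (K : Type u) [Field K] [Algebra k K] :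
    Spec (CommRingCat.of K) ⟶ Spec (CommRingCat.of k) :=
  Spec.map (CommRingCat.ofHom (algebraMap k K))

/-- The sheaf `h_K` over `Spec k`. -/
noncomputable abbrev hK (k : Type u) [Field k] (K : Type u) [Field K] [Algebra k K] :
    Sp (Spec (CommRingCat.of k)) :=
  (yon (Spec (CommRingCat.of k))).obj (Over.mk (ι k K))

/-- The base change `U_K` of a `k`-scheme, as a scheme over `Spec k`. -/
noncomputable def bcOver (U : Over (Spec (CommRingCat.of k))) (K : Type u) [Field K] [Algebra k K] :
    Over (Spec (CommRingCat.of k)) :=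
  Over.mk (pullback.fst U.hom (ι k K) ≫ U.hom)

/-- The projection `U_K ⟶ U`. -/
noncomputable def bcFst (U : Over (Spec (CommRingCat.of k))) (K : Type u) [Field K] [Algebra k K] :
    bcOver U K ⟶ U :=
  Over.homMk (pullback.fst U.hom (ι k K)) rfl

/-- The projection `U_K ⟶ Spec K`. -/
noncomputable def bcSnd (U : Over (Spec (CommRingCat.of k))) (K : Type u) [Field K] [Algebra k K] :
    bcOver U K ⟶ Over.mk (ι k K) :=
  Over.homMk (pullback.snd U.hom (ι k K)) pullback.condition.symm

theorem bcOver_left (U : Over (Spec (CommRingCat.of k))) (K : Type u) [Field K] [Algebra k K] :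
    (bcOver U K).left = FBase.bc U.hom K := rfl

theorem bcFst_left (U : Over (Spec (CommRingCat.of k))) (K : Type u) [Field K] [Algebra k K] :
    (bcFst U K).left = FBase.bcπ U.hom K := rfl

theorem bcSnd_left (U : Over (Spec (CommRingCat.of k))) (K : Type u) [Field K] [Algebra k K] :
    (bcSnd U K).left = FBase.bcStr U.hom K := rfl

/-- `U_K` is the product of `U` and `Spec K` over `Spec k`. -/
theorem isPullback_bc (U : Over (Spec (CommRingCat.of k))) (K : Type u) [Field K] [Algebra k K] :
    IsPullback (bcFst U K) (bcSnd U K) (Over.mkIdTerminal.from U)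
      (Over.mkIdTerminal.from (Over.mk (ι k K))) := by
  refine IsPullback.of_map (Over.forget _) (Over.mkIdTerminal.hom_ext _ _) ?_
  have h1 : (Over.mkIdTerminal.from U).left = U.hom := by
    have := Over.w (Over.mkIdTerminal.from U)
    exact (Category.comp_id _).symm.trans this
  have h2 : (Over.mkIdTerminal.from (Over.mk (ι k K))).left = ι k K := by
    have := Over.w (Over.mkIdTerminal.from (Over.mk (ι k K)))
    exact (Category.comp_id _).symm.trans this
  change IsPullback (pullback.fst U.hom (ι k K)) (pullback.snd U.hom (ι k K))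
    (Over.mkIdTerminal.from U).left (Over.mkIdTerminal.from (Over.mk (ι k K))).left
  rw [h1, h2]
  exact IsPullback.of_hasPullback _ _

variable {X : Sp (Spec (CommRingCat.of k))}

/-- The base change of a chart `h_U ⟶ X` to a chart `h_{U_K} ⟶ X × h_K`. -/
noncomputable def bcChart {U : Over (Spec (CommRingCat.of k))}
    (a : (yon (Spec (CommRingCat.of k))).obj U ⟶ X) (K : Type u) [Field K] [Algebra k K] :
    (yon (Spec (CommRingCat.of k))).obj (bcOver U K) ⟶ X ⨯ hK k K :=
  prod.lift ((yon _).map (bcFst U K) ≫ a) ((yon _).map (bcSnd U K))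

@[reassoc (attr := simp)]
theorem bcChart_fst {U : Over (Spec (CommRingCat.of k))}
    (a : (yon (Spec (CommRingCat.of k))).obj U ⟶ X) (K : Type u) [Field K] [Algebra k K] :
    bcChart a K ≫ prod.fst = (yon _).map (bcFst U K) ≫ a :=
  prod.lift_fst _ _

@[reassoc (attr := simp)]
theorem bcChart_snd {U : Over (Spec (CommRingCat.of k))}
    (a : (yon (Spec (CommRingCat.of k))).obj U ⟶ X) (K : Type u) [Field K] [Algebra k K] :
    bcChart a K ≫ prod.snd = (yon _).map (bcSnd U K) :=
  prod.lift_snd _ _

/-- The base change square of a chart. -/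
theorem isPullback_bcChart {U : Over (Spec (CommRingCat.of k))}
    (a : (yon (Spec (CommRingCat.of k))).obj U ⟶ X) (K : Type u) [Field K] [Algebra k K] :
    IsPullback (bcChart a K) ((yon _).map (bcFst U K)) prod.fst a := by
  have hT := GeomConn.isTerminalYon (Spec (CommRingCat.of k))
  have sqX : IsPullback (prod.fst : X ⨯ hK k K ⟶ X) prod.snd (hT.from X) (hT.from (hK k K)) :=
    IsPullback.of_is_product' (prodIsProd X (hK k K)) hT
  have sqU := (isPullback_bc U K).map (yon (Spec (CommRingCat.of k)))
  have e1 : (yon _).map (Over.mkIdTerminal.from U) = a ≫ hT.from X := hT.hom_ext _ _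
  have e2 : (yon (Spec (CommRingCat.of k))).map (Over.mkIdTerminal.from (Over.mk (ι k K))) =
      hT.from (hK k K) := hT.hom_ext _ _
  rw [e1, e2] at sqU
  refine IsPullback.of_right ?_ (bcChart_fst a K) sqX.flip
  rw [bcChart_snd]
  exact sqU.flip

theorem repWith_etale_bcChart {U : Over (Spec (CommRingCat.of k))}
    {a : (yon (Spec (CommRingCat.of k))).obj U ⟶ X} (ha : RepWith @Etale a)
    (K : Type u) [Field K] [Algebra k K] : RepWith @Etale (bcChart a K) :=
  MorphismProperty.of_isPullback (P := RepWith @Etale) (isPullback_bcChart a K).flip ha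

theorem repWith_surjective_bcChart {U : Over (Spec (CommRingCat.of k))}
    {a : (yon (Spec (CommRingCat.of k))).obj U ⟶ X} (ha : RepWith @Surjective a)
    (K : Type u) [Field K] [Algebra k K] : RepWith @Surjective (bcChart a K) :=
  MorphismProperty.of_isPullback (P := RepWith @Surjective) (isPullback_bcChart a K).flip ha

/-- The projection `X × h_K ⟶ X` is representable. -/
theorem representable_prod_fst (X : Sp (Spec (CommRingCat.of k))) (K : Type u) [Field K]
    [Algebra k K] : Representable (prod.fst : X ⨯ hK k K ⟶ X) := by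
  have hT := GeomConn.isTerminalYon (Spec (CommRingCat.of k))
  have sqX : IsPullback (prod.fst : X ⨯ hK k K ⟶ X) prod.snd (hT.from X) (hT.from (hK k K)) :=
    IsPullback.of_is_product' (prodIsProd X (hK k K)) hT
  refine MorphismProperty.of_isPullback (P := Representable) sqX.flip ?_
  exact representable_of_yon _

theorem isDecent_prod (X : Sp (Spec (CommRingCat.of k))) (hX : IsDecent X) (K : Type u) [Field K]
    [Algebra k K] : IsDecent (X ⨯ hK k K) :=
  isDecent_of_representable _ (representable_prod_fst X K) hX

/-- Points of `U_K` over a point of `X_K` and a point of `U` with the same image in `X`. -/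
theorem exists_point_bcChart {U : Over (Spec (CommRingCat.of k))}
    (a : (yon (Spec (CommRingCat.of k))).obj U ⟶ X) (K : Type u) [Field K] [Algebra k K]
    (x' : Points (X ⨯ hK k K)) (u : ↥U.left)
    (h : Points.map prod.fst x' = Points.ofPt a u) :
    ∃ u' : ↥(bcOver U K).left, Points.ofPt (bcChart a K) u' = x' ∧ (bcFst U K).left u' = u := by
  rw [Points.ofPt_eq_map_ofScheme] at h
  obtain ⟨z, hz1, hz2⟩ := exists_point_of_isPullback (isPullback_bcChart a K) x' _ h
  obtain ⟨v, rfl⟩ := (Points.schemeEquiv (bcOver U K)).surjective z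
  refine ⟨v, ?_, ?_⟩
  · rw [Points.ofPt_eq_map_ofScheme]; exact hz1
  · have := congrArg (Points.toScheme U) hz2
    rw [Points.toScheme_ofScheme] at this
    rw [← this]
    change _ = Points.toScheme U (Points.map _ (Points.ofPt (𝟙 _) v))
    rw [Points.map_ofPt, Category.id_comp, Points.toScheme_ofPt]

/-- The property "geometrically reduced at `x`" of a space over a field, as used in the statements. -/
def GeomRedAt (X : Sp (Spec (CommRingCat.of k))) (x : Points X) : Prop :=
  ∃ (U : Over (Spec (CommRingCat.of k))) (a : (yon (Spec (CommRingCat.of k))).obj U ⟶ X)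
    (u : ↥U.left), RepWith @Etale a ∧ Points.ofPt a u = x ∧ FBase.IsGeomReducedAt U.hom u

/-- If `X` is geometrically reduced at every point, every base change of an etale chart is
reduced. -/
theorem isReduced_bcOver_of_geomRedAt (hG : ∀ x : Points X, GeomRedAt X x)
    {U : Over (Spec (CommRingCat.of k))} (a : (yon (Spec (CommRingCat.of k))).obj U ⟶ X)
    (ha : RepWith @Etale a) (K : Type u) [Field K] [Algebra k K] :
    IsReduced (bcOver U K).left := by
  have : ∀ x' : ↥(bcOver U K).left, _root_.IsReduced ((bcOver U K).left.presheaf.stalk x') := by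
    intro x'
    obtain ⟨U₁, a₁, u₁, ha₁, hu₁, hG₁⟩ := hG (Points.ofPt a ((bcFst U K).left x'))
    have := (isGeomReducedAt_chart_iff a₁ ha₁ a ha u₁ _ hu₁).1 hG₁
    exact this K x' rfl
  exact isReduced_of_isReduced_stalk _

/-- If `X_K` is reduced, every base change to `K` of an etale chart of `X` is reduced. -/
theorem isReduced_bcOver_of_reduced (K : Type u) [Field K] [Algebra k K]
    (h : EtaleLocally (fun U => IsReduced U) (X ⨯ hK k K))
    {U : Over (Spec (CommRingCat.of k))} (a : (yon (Spec (CommRingCat.of k))).obj U ⟶ X)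
    (ha : RepWith @Etale a) : IsReduced (bcOver U K).left :=
  Groth.Agent.H51.isReduced_of_isReducedSp h (EtOver.mk (bcChart a K) (repWith_etale_bcChart ha K))

/-- If every base change of `X` to a field extension is reduced, `X` is geometrically reduced at
every point of every etale chart. -/
theorem isGeomReducedAt_of_reduced
    (h : ∀ (K : Type u) [Field K] [Algebra k K],
      EtaleLocally (fun U => IsReduced U) (X ⨯ hK k K))
    {U : Over (Spec (CommRingCat.of k))} (a : (yon (Spec (CommRingCat.of k))).obj U ⟶ X)
    (ha : RepWith @Etale a) (u : ↥U.left) : FBase.IsGeomReducedAt U.hom u := by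
  intro K _ _ x' _
  have : IsReduced (bcOver U K).left := isReduced_bcOver_of_reduced K (h K) a ha
  exact (inferInstance : _root_.IsReduced ((bcOver U K).left.presheaf.stalk x'))

/-- `X` geometrically reduced at every point ⇒ every `X_K` is reduced. -/
theorem reduced_of_geomRedAt (hX : IsAlgSpace X) (hG : ∀ x : Points X, GeomRedAt X x)
    (K : Type u) [Field K] [Algebra k K] :
    EtaleLocally (fun U => IsReduced U) (X ⨯ hK k K) := by
  obtain ⟨U, a, ha, has⟩ := hX.atlas
  exact ⟨bcOver U K, bcChart a K, repWith_etale_bcChart ha K, repWith_surjective_bcChart has K,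
    isReduced_bcOver_of_geomRedAt hG a ha K⟩

/-- every `X_K` reduced ⇒ `X` geometrically reduced at every point. -/
theorem geomRedAt_of_reduced (hX : IsAlgSpace X)
    (h : ∀ (K : Type u) [Field K] [Algebra k K],
      EtaleLocally (fun U => IsReduced U) (X ⨯ hK k K)) (x : Points X) : GeomRedAt X x := by
  obtain ⟨U, a, ha, has⟩ := hX.atlas
  obtain ⟨u, hu⟩ := ofPt_surjective_of_repWith_surjective a has x
  exact ⟨U, a, u, ha, hu, isGeomReducedAt_of_reduced h a ha u⟩

end Groth.Agent.H52.BCChart
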