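import Groth.Agent.H52.BCChart
import Groth.Agent.H25.GeomRedAt

/-!
# Criteria for geometric reducedness of spaces over a field: perfect fields, purely inseparable
extensions, algebraic closure
-/

set_option autoImplicit false
set_option linter.style.haveILetI false
universe u
open CategoryTheory CategoryTheory.Limits AlgebraicGeometry Opposite TensorProduct

namespace Groth.Agent.H52.BCChart

open AlgSp
attribute [local instance] Curv2.stalkAlgebra

variable {k : Type u} [Field k]

/-- The two notions of geometric reducedness at a point agree. -/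
theorem isGeomReducedAt_iff_curv2 {U : Scheme.{u}} (f : U ⟶ Spec (CommRingCat.of k)) (u : U) :
    FBase.IsGeomReducedAt f u ↔
      (letI : U.Over (Spec (CommRingCat.of k)) := ⟨f⟩; Curv2.IsGeomReducedAt k U u) :=
  Iff.rfl

/-- Over a perfect field, a reduced local ring is geometrically reduced. -/
theorem isGeomReducedAt_of_perfectField [PerfectField k] {U : Scheme.{u}}
    (f : U ⟶ Spec (CommRingCat.of k)) (u : U) [_root_.IsReduced (U.presheaf.stalk u)] :
    FBase.IsGeomReducedAt f u := by
  letI : U.Over (Spec (CommRingCat.of k)) := ⟨f⟩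
  exact Groth.Agent.H25.GeomRedAt.isGeomReducedAt_of_perfectField k U u

/-- It suffices to test geometric reducedness on finite purely inseparable extensions. -/
theorem isGeomReducedAt_of_purelyInseparable {U : Scheme.{u}}
    (f : U ⟶ Spec (CommRingCat.of k)) (u : U)
    (h : ∀ (k' : Type u) [Field k'] [Algebra k k'] [FiniteDimensional k k']
      [IsPurelyInseparable k k'] (x' : ↥(FBase.bc f k')), (FBase.bcπ f k').base x' = u →
        _root_.IsReduced ((FBase.bc f k').presheaf.stalk x')) :
    FBase.IsGeomReducedAt f u := by
  letI : U.Over (Spec (CommRingCat.of k)) := ⟨f⟩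
  exact (Groth.Agent.H25.GeomRedAt.isGeomReducedAt_iff_purelyInseparable k U u).2 h

/-- It suffices to test geometric reducedness on an algebraic closure. -/
theorem isGeomReducedAt_of_isAlgClosure {U : Scheme.{u}}
    (f : U ⟶ Spec (CommRingCat.of k)) (u : U) (kbar : Type u) [Field kbar] [Algebra k kbar]
    [IsAlgClosure k kbar]
    (h : ∀ (x' : ↥(FBase.bc f kbar)), (FBase.bcπ f kbar).base x' = u →
        _root_.IsReduced ((FBase.bc f kbar).presheaf.stalk x')) :
    FBase.IsGeomReducedAt f u := by
  letI : U.Over (Spec (CommRingCat.of k)) := ⟨f⟩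
  change Curv2.IsGeomReducedAt k U u
  rw [Groth.Agent.H25.GeomRedAt.isGeomReducedAt_iff, Algebra.isGeometricallyReduced_field_iff]
  haveI : Algebra.IsAlgebraic k kbar := IsAlgClosure.isAlgebraic
  haveI : Algebra.IsIntegral k kbar := inferInstance
  haveI : _root_.IsReduced (kbar ⊗[k] U.presheaf.stalk u) :=
    Groth.Agent.H25.GeomRedAt.isReduced_tensor_of_stalks k U u kbar h
  let e : AlgebraicClosure k ≃ₐ[k] kbar := IsAlgClosure.equiv k _ _
  exact isReduced_of_injective _ (Algebra.TensorProduct.congr e AlgEquiv.refl).injective

end Groth.Agent.H52.BCChart
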