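import Groth.Agent.H52.BCChart2

/-!
# Geometric reducedness at a point and base change of the ground field
-/

set_option autoImplicit false
set_option linter.style.haveILetI false
universe u
open CategoryTheory CategoryTheory.Limits AlgebraicGeometry Opposite TensorProduct

namespace Groth.Agent.H52.BCChart

open AlgSp

variable {k : Type u} [Field k]

/-- Geometric reducedness tested against an arbitrary morphism from the spectrum of a field. -/
theorem isReduced_stalk_of_isGeomReducedAt {U : Scheme.{u}} (f : U ⟶ Spec (CommRingCat.of k))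
    (u : U) (h : FBase.IsGeomReducedAt f u) {L : Type u} [Field L]
    (j : Spec (CommRingCat.of L) ⟶ Spec (CommRingCat.of k)) (y : ↥(pullback f j))
    (hy : (pullback.fst f j).base y = u) :
    _root_.IsReduced ((pullback f j).presheaf.stalk y) := by
  obtain ⟨φ, rfl⟩ : ∃ φ : CommRingCat.of k ⟶ CommRingCat.of L, Spec.map φ = j :=
    ⟨_, Spec.map_preimage j⟩
  letI : Algebra k L := φ.hom.toAlgebra
  exact h L y hy

/-- Geometric reducedness passes to the base change to a field extension. -/
theorem isGeomReducedAt_bcSnd {U : Over (Spec (CommRingCat.of k))} (u : ↥U.left)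
    (h : FBase.IsGeomReducedAt U.hom u) (K : Type u) [Field K] [Algebra k K]
    (u' : ↥(bcOver U K).left) (hu' : (bcFst U K).left u' = u) :
    FBase.IsGeomReducedAt (bcSnd U K).left u' := by
  intro L _ _ y hy
  change ↥(pullback (pullback.snd U.hom (ι k K)) (ι K L)) at y
  change _root_.IsReduced ((pullback (pullback.snd U.hom (ι k K)) (ι K L)).presheaf.stalk y)
  have hy' : (pullback.fst (pullback.snd U.hom (ι k K)) (ι K L)) y = u' := hy
  let e := pullbackLeftPullbackSndIso U.hom (ι k K) (ι K L)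
  refine isReduced_stalk_of_etale e.hom y ?_
  refine isReduced_stalk_of_isGeomReducedAt U.hom u h (ι K L ≫ ι k K) (e.hom y) ?_
  have := congrArg (fun φ => φ.base y) (pullbackLeftPullbackSndIso_hom_fst U.hom (ι k K) (ι K L))
  simp only [Scheme.Hom.comp_base, TopCat.comp_app] at this
  refine this.trans ?_
  rw [hy']
  exact hu'

/-- `Spec` of a purely inseparable extension is universally injective. -/
theorem universallyInjective_ι (k' : Type u) [Field k'] [Algebra k k'] [IsPurelyInseparable k k'] :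
    UniversallyInjective (ι k k') := by
  apply ((tfae_universallyInjective (ι k k')).out 0 1).2
  intro K' _ g₁ g₂ hg
  dsimp only at hg
  obtain ⟨ψ₁, rfl⟩ : ∃ ψ, Spec.map ψ = g₁ := ⟨_, Spec.map_preimage g₁⟩
  obtain ⟨ψ₂, rfl⟩ : ∃ ψ, Spec.map ψ = g₂ := ⟨_, Spec.map_preimage g₂⟩
  rw [← Spec.map_comp, ← Spec.map_comp] at hg
  have hg' := Spec.map_injective hg
  have hcomp : ψ₁.hom.comp (algebraMap k k') = ψ₂.hom.comp (algebraMap k k') := by
    ext r
    have := congrArg (fun h => h.hom r) hg'
    simpa using this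
  congr 1
  ext s
  exact congrArg (fun h => h s)
    (IsPurelyInseparable.injective_comp_algebraMap k k' K' hcomp)

/-- Two field extensions of `k` embed in a common field. -/
theorem exists_common_extension (K k' : Type u) [Field K] [Field k'] [Algebra k K] [Algebra k k'] :
    ∃ (Ω : Type u) (_ : Field Ω) (σ : K →+* Ω) (τ : k' →+* Ω),
      σ.comp (algebraMap k K) = τ.comp (algebraMap k k') := by
  have hinj : Function.Injective
      (Algebra.TensorProduct.includeRight : k' →ₐ[k] K ⊗[k] k') :=
    Algebra.TensorProduct.includeRight_injective (RingHom.injective _)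
  haveI : Nontrivial (K ⊗[k] k') := hinj.nontrivial
  obtain ⟨m, hm⟩ := Ideal.exists_maximal (K ⊗[k] k')
  letI : Field ((K ⊗[k] k') ⧸ m) := Ideal.Quotient.field m
  refine ⟨(K ⊗[k] k') ⧸ m, inferInstance,
    (Ideal.Quotient.mk m).comp (Algebra.TensorProduct.includeLeftRingHom),
    (Ideal.Quotient.mk m).comp (Algebra.TensorProduct.includeRight : k' →ₐ[k] K ⊗[k] k').toRingHom,
    ?_⟩
  ext c
  simp only [RingHom.comp_apply]
  congr 1
  change (algebraMap k K c) ⊗ₜ[k] (1 : k') = (1 : K) ⊗ₜ[k] (algebraMap k k' c)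
  rw [Algebra.algebraMap_eq_smul_one, Algebra.algebraMap_eq_smul_one, TensorProduct.smul_tmul]

instance subsingleton_spec_field (L : Type u) [Field L] :
    Subsingleton ↥(Spec (CommRingCat.of L)) :=
  inferInstanceAs (Subsingleton (PrimeSpectrum L))

/-- Geometric reducedness descends from the base change to a field extension. -/
theorem isGeomReducedAt_of_bcSnd {U : Over (Spec (CommRingCat.of k))} (u : ↥U.left)
    (K : Type u) [Field K] [Algebra k K]
    (u' : ↥(bcOver U K).left) (hu' : (bcFst U K).left u' = u)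
    (h : FBase.IsGeomReducedAt (bcSnd U K).left u') : FBase.IsGeomReducedAt U.hom u := by
  refine isGeomReducedAt_of_purelyInseparable U.hom u ?_
  intro k' _ _ _ _ x'' hx''
  change ↥(pullback U.hom (ι k k')) at x''
  change _root_.IsReduced ((pullback U.hom (ι k k')).presheaf.stalk x'')
  have hx2 : (pullback.fst U.hom (ι k k')) x'' = u := hx''
  obtain ⟨Ω, _, σ, τ, hστ⟩ := exists_common_extension (k := k) K k'
  let jK : Spec (CommRingCat.of Ω) ⟶ Spec (CommRingCat.of K) := Spec.map (CommRingCat.ofHom σ)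
  let jk' : Spec (CommRingCat.of Ω) ⟶ Spec (CommRingCat.of k') := Spec.map (CommRingCat.ofHom τ)
  have hj : jK ≫ ι k K = jk' ≫ ι k k' := by
    change Spec.map _ ≫ Spec.map _ = Spec.map _ ≫ Spec.map _
    rw [← Spec.map_comp, ← Spec.map_comp, ← CommRingCat.ofHom_comp, ← CommRingCat.ofHom_comp, hστ]
  let sK := pullback.snd U.hom (ι k K)
  -- a point of `(U_K)_Ω` over `u'`
  obtain ⟨ũ, hũ1, -⟩ := Scheme.Pullback.exists_preimage_pullback (f := sK) (g := jK) u'
    (IsLocalRing.closedPoint Ω) (Subsingleton.elim _ _)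
  have hred : _root_.IsReduced ((pullback sK jK).presheaf.stalk ũ) :=
    isReduced_stalk_of_isGeomReducedAt sK u' h jK ũ hũ1
  -- the morphism to `U_{k'}`
  have hcomm : (pullback.fst sK jK ≫ pullback.fst U.hom (ι k K)) ≫ U.hom =
      (pullback.snd sK jK ≫ jk') ≫ ι k k' := by
    rw [Category.assoc, pullback.condition, ← Category.assoc, pullback.condition, Category.assoc,
      hj, Category.assoc]
  let r : pullback sK jK ⟶ pullback U.hom (ι k k') :=
    pullback.lift (pullback.fst sK jK ≫ pullback.fst U.hom (ι k K)) (pullback.snd sK jK ≫ jk') hcomm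
  have hr1 : r ≫ pullback.fst U.hom (ι k k') = pullback.fst sK jK ≫ pullback.fst U.hom (ι k K) :=
    pullback.lift_fst _ _ _
  have hr2 : r ≫ pullback.snd U.hom (ι k k') = pullback.snd sK jK ≫ jk' :=
    pullback.lift_snd _ _ _
  have sq : IsPullback r (pullback.snd sK jK) (pullback.snd U.hom (ι k k')) jk' := by
    refine IsPullback.of_right ?_ hr2 (IsPullback.of_hasPullback U.hom (ι k k'))
    rw [hr1, ← hj]
    exact (IsPullback.of_hasPullback sK jK).paste_horiz (IsPullback.of_hasPullback U.hom (ι k K))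
  haveI : Flat r := MorphismProperty.of_isPullback (P := @Flat) sq.flip inferInstance
  have hred2 := isReduced_stalk_of_flat r ũ hred
  haveI := universallyInjective_ι (k := k) k'
  haveI : UniversallyInjective (pullback.fst U.hom (ι k k')) :=
    MorphismProperty.pullback_fst (P := @UniversallyInjective) _ _ inferInstance
  have hinj : Function.Injective (pullback.fst U.hom (ι k k')) :=
    (pullback.fst U.hom (ι k k')).injective
  have hpt : r ũ = x'' := by
    apply hinj
    have := congrArg (fun φ => φ.base ũ) hr1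
    simp only [Scheme.Hom.comp_base, TopCat.comp_app] at this
    rw [hx2]
    refine this.trans ?_
    rw [hũ1]
    exact hu'
  rw [hpt] at hred2
  exact hred2

/-- Geometric reducedness over `K` at a point of a space over `h_K` does not depend on the etale
chart through the point. -/
theorem isGeomReducedAt_chart_iff_K {K : Type u} [Field K] [Algebra k K]
    {Y : Sp (Spec (CommRingCat.of k))} (s : Y ⟶ hK k K)
    {U₁ U₂ : Over (Spec (CommRingCat.of k))}
    (a₁ : (yon _).obj U₁ ⟶ Y) (ha₁ : RepWith @Etale a₁) (q₁ : U₁ ⟶ Over.mk (ι k K))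
    (hq₁ : a₁ ≫ s = (yon _).map q₁)
    (a₂ : (yon _).obj U₂ ⟶ Y) (ha₂ : RepWith @Etale a₂) (q₂ : U₂ ⟶ Over.mk (ι k K))
    (hq₂ : a₂ ≫ s = (yon _).map q₂)
    (u₁ : ↥U₁.left) (u₂ : ↥U₂.left) (h : Points.ofPt a₁ u₁ = Points.ofPt a₂ u₂) :
    FBase.IsGeomReducedAt q₁.left u₁ ↔ FBase.IsGeomReducedAt q₂.left u₂ := by
  have sq := ha₁.rep.isPullback a₂
  obtain ⟨φ, hφ⟩ := (yon _).map_surjective (ha₁.rep.fst a₂)
  have sq' : IsPullback ((yon _).map φ) ((yon _).map (ha₁.rep.snd a₂)) a₁ a₂ := by
    rw [hφ]; exact sq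
  obtain ⟨w, hw1, hw2⟩ := (ofPt_eq_iff_of_isPullback sq' u₁ u₂).1 h
  have het2 : Etale (ha₁.rep.snd a₂).left := ha₁.property_snd a₂
  have het1 : Etale φ.left := by
    have h1 : RepWith @Etale ((yon _).map φ) := MorphismProperty.of_isPullback sq'.flip ha₂
    exact (repWith_yon_map_iff @Etale φ).1 h1
  have hq : φ ≫ q₁ = ha₁.rep.snd a₂ ≫ q₂ := by
    apply (yon (Spec (CommRingCat.of k))).map_injective
    rw [Functor.map_comp, Functor.map_comp, ← hq₁, ← hq₂, ← Category.assoc, ← Category.assoc, sq'.w]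
  have hq' : φ.left ≫ q₁.left = (ha₁.rep.snd a₂).left ≫ q₂.left := by
    have := congrArg (fun m => m.left) hq
    simpa using this
  have e1 := isGeomReducedAt_iff_of_etale (k := K) φ.left q₁.left w
  have e2 := isGeomReducedAt_iff_of_etale (k := K) (ha₁.rep.snd a₂).left q₂.left w
  rw [hw1] at e1
  rw [hw2] at e2
  rw [← e1, ← e2, hq']

variable {X : Sp (Spec (CommRingCat.of k))}

/-- The property "geometrically reduced at `x'` over `K`" of a space over `h_K`, as used in the
statements. -/
def GeomRedAtK (K : Type u) [Field K] [Algebra k K] (x' : Points (X ⨯ hK k K)) : Prop :=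
  ∃ (U' : Over (Spec (CommRingCat.of k)))
    (a' : (yon (Spec (CommRingCat.of k))).obj U' ⟶ X ⨯ hK k K)
    (q : U' ⟶ Over.mk (ι k K)) (u' : ↥U'.left),
    RepWith @Etale a' ∧ a' ≫ prod.snd = (yon (Spec (CommRingCat.of k))).map q ∧
      Points.ofPt a' u' = x' ∧ FBase.IsGeomReducedAt q.left u'

/-- **S10479**. -/
theorem geomRedAt_iff_geomRedAtK (hX : IsAlgSpace X) (K : Type u) [Field K] [Algebra k K]
    (x : Points X) (x' : Points (X ⨯ hK k K)) (hx' : Points.map prod.fst x' = x) :
    GeomRedAt X x ↔ GeomRedAtK K x' := by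
  constructor
  · rintro ⟨U, a, u, ha, hu, hG⟩
    obtain ⟨u', hu'1, hu'2⟩ := exists_point_bcChart a K x' u (hx'.trans hu.symm)
    exact ⟨bcOver U K, bcChart a K, bcSnd U K, u', repWith_etale_bcChart ha K, bcChart_snd a K,
      hu'1, isGeomReducedAt_bcSnd u hG K u' hu'2⟩
  · rintro ⟨U', a', q, u', ha', hq, hu', hG⟩
    obtain ⟨U, a, ha, has⟩ := hX.atlas
    obtain ⟨u, hu⟩ := ofPt_surjective_of_repWith_surjective a has x
    obtain ⟨u₂, hu₂1, hu₂2⟩ := exists_point_bcChart a K x' u (hx'.trans hu.symm)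
    refine ⟨U, a, u, ha, hu, isGeomReducedAt_of_bcSnd u K u₂ hu₂2 ?_⟩
    exact (isGeomReducedAt_chart_iff_K prod.snd a' ha' q hq (bcChart a K)
      (repWith_etale_bcChart ha K) (bcSnd U K) (bcChart_snd a K) u' u₂ (hu'.trans hu₂1.symm)).1 hG

/-- The projection `X × h_K ⟶ X` is surjective on points. -/
theorem surjective_points_map_prod_fst (X : Sp (Spec (CommRingCat.of k))) (K : Type u) [Field K]
    [Algebra k K] : Function.Surjective (Points.map (prod.fst : X ⨯ hK k K ⟶ X)) := by
  intro x
  have hT := GeomConn.isTerminalYon (Spec (CommRingCat.of k))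
  have sqX : IsPullback (prod.fst : X ⨯ hK k K ⟶ X) prod.snd (hT.from X) (hT.from (hK k K)) :=
    IsPullback.of_is_product' (prodIsProd X (hK k K)) hT
  obtain ⟨z⟩ := nonempty_points_spec_field (S := Spec (CommRingCat.of k)) (ι k K)
  haveI : Subsingleton (Points ((yon (Spec (CommRingCat.of k))).obj
      (Over.mk (𝟙 (Spec (CommRingCat.of k)))))) :=
    subsingleton_points_spec_field (S := Spec (CommRingCat.of k)) (K := k) (𝟙 _)
  obtain ⟨w, hw, -⟩ := exists_point_of_isPullback sqX x z (Subsingleton.elim _ _)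
  exact ⟨w, hw⟩

/-- **S10502**. -/
theorem forall_geomRedAt_iff (hX : IsAlgSpace X) (K : Type u) [Field K] [Algebra k K] :
    (∀ x : Points X, GeomRedAt X x) ↔ ∀ x' : Points (X ⨯ hK k K), GeomRedAtK K x' := by
  constructor
  · intro h x'
    exact (geomRedAt_iff_geomRedAtK hX K _ x' rfl).1 (h _)
  · intro h x
    obtain ⟨x', hx'⟩ := surjective_points_map_prod_fst X K x
    exact (geomRedAt_iff_geomRedAtK hX K x x' hx').2 (h x')

end Groth.Agent.H52.BCChart
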