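import Mathlib
import Groth.Agent.H52.ClosedAlg

set_option autoImplicit false
universe u
open CategoryTheory CategoryTheory.Limits AlgebraicGeometry TopologicalSpace IsLocalRing

namespace Groth.Agent.H52.Birat

/-- A specialization `z ⤳ z₁` inside a fibre of `h`, where the residue field of `z` is integral over
that of its image, is trivial. -/
theorem eq_of_specializes_of_integral_residueField {U S : Scheme.{u}} (h : U ⟶ S) (z z1 : U)
    (hsp : z ⤳ z1) (heq : h z1 = h z) (hint : (h.residueFieldMap z).hom.IsIntegral) :
    z1 = z := by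
  have hsp' : h z ⤳ h z1 := hsp.map h.continuous
  have hins : Inseparable (h z) (h z1) := heq ▸ Inseparable.refl _
  set σ := U.presheaf.stalkSpecializes hsp with hσ
  have hker : RingHom.ker ((U.residue z).hom.comp σ.hom) =
      IsLocalRing.maximalIdeal (U.presheaf.stalk z1) := by
    refine ClosedAlg.ker_eq_maximalIdeal_of_integral _ (h.residueFieldMap z).hom hint (fun c => ?_)
    obtain ⟨r, rfl⟩ := S.residue_surjective (h z) c
    have hsurj : Function.Surjective (S.presheaf.stalkSpecializes hsp') := by
      have : IsIso (S.presheaf.stalkSpecializes hsp') :=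
        (inferInstance : IsIso (S.presheaf.stalkCongr hins).inv)
      exact ((ConcreteCategory.bijective_of_isIso (S.presheaf.stalkSpecializes hsp'))).2
    obtain ⟨r', rfl⟩ := hsurj r
    refine ⟨h.stalkMap z1 r', ?_⟩
    have h1 := Scheme.Hom.stalkSpecializes_stalkMap_apply h z z1 hsp r'
    have h2 := congrArg (fun φ => φ.hom (S.presheaf.stalkSpecializes hsp' r'))
      (Scheme.residue_residueFieldMap h z)
    simp only [CommRingCat.hom_comp, RingHom.comp_apply] at h2
    rw [RingHom.comp_apply]
    erw [h2, h1]
  have h1 : z = U.fromSpecStalk z (IsLocalRing.closedPoint _) :=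
    Scheme.fromSpecStalk_closedPoint.symm
  rw [← Scheme.SpecMap_stalkSpecializes_fromSpecStalk hsp] at h1
  have h2 : Spec.map σ (IsLocalRing.closedPoint _) = IsLocalRing.closedPoint _ := by
    apply PrimeSpectrum.ext
    change Ideal.comap σ.hom (IsLocalRing.maximalIdeal _) = IsLocalRing.maximalIdeal _
    rw [← hker, ← RingHom.comap_ker]
    congr 1
    exact IsLocalRing.ker_residue.symm
  rw [Scheme.Hom.comp_apply, h2, Scheme.fromSpecStalk_closedPoint] at h1
  exact h1.symm

end Groth.Agent.H52.Birat
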