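import Mathlib
import Groth.Agent.H20.BiratPullback

set_option autoImplicit false
universe u
open CategoryTheory CategoryTheory.Limits AlgebraicGeometry TopologicalSpace IsLocalRing

namespace Groth.Agent.H52.Birat

/-- Let `f : X ⟶ Y` induce an isomorphism of local rings at `x₁`.  If all points of the base change
of `f` to the local scheme of `Y` at `f x₁` map to `x₁`, this base change is an isomorphism. -/
theorem isIso_snd_of_forall_fst_eq {X Y Q : Scheme.{u}} (f : X ⟶ Y) (x₁ : X)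
    [IsIso (f.stalkMap x₁)] (q1 : Q ⟶ X) (q2 : Q ⟶ Spec (Y.presheaf.stalk (f x₁)))
    (sq : IsPullback q1 q2 f (Y.fromSpecStalk (f x₁))) (hpts : ∀ t : Q, q1 t = x₁) :
    IsIso q2 := by
  let e : Y.presheaf.stalk (f x₁) ⟶ X.presheaf.stalk x₁ := f.stalkMap x₁
  have comm : X.fromSpecStalk x₁ ≫ f = Spec.map e ≫ Y.fromSpecStalk (f x₁) :=
    (Scheme.SpecMap_stalkMap_fromSpecStalk f).symm
  let ℓ : Spec (X.presheaf.stalk x₁) ⟶ Q := sq.lift _ _ comm
  have hpre : IsPreimmersion q1 :=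
    MorphismProperty.of_isPullback (P := @IsPreimmersion) sq.flip inferInstance
  have hinj : Function.Injective q1 := q1.isEmbedding.injective
  have hsub : Subsingleton ↥Q := ⟨fun a b => hinj ((hpts a).trans (hpts b).symm)⟩
  have hne : Nonempty ↥Q := ⟨ℓ (closedPoint _)⟩
  have haff : IsAffine Q := by
    obtain ⟨W, hW, hxW, -⟩ :=
      exists_isAffineOpen_mem_and_subset (X := Q) (x := ℓ (closedPoint _)) (U := ⊤) trivial
    have hWtop : W = ⊤ := by
      ext t
      simp only [Opens.coe_top, Set.mem_univ, iff_true]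
      rw [Subsingleton.elim t (ℓ (closedPoint _))]
      exact hxW
    rw [hWtop] at hW
    have : IsAffine (⊤ : Q.Opens).toScheme := hW
    exact .of_isIso (Scheme.topIso Q).inv
  have : Subsingleton (PrimeSpectrum Γ(Q, ⊤)) :=
    Q.isoSpec.inv.homeomorph.injective.subsingleton
  have : Nonempty (PrimeSpectrum Γ(Q, ⊤)) := ⟨Q.isoSpec.hom (ℓ (closedPoint _))⟩
  have : IsLocalRing Γ(Q, ⊤) := H20.isLocalRing_of_subsingleton_primeSpectrum _
  let g : Spec Γ(Q, ⊤) ⟶ X := Q.isoSpec.inv ≫ q1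
  have hg : g (closedPoint _) = x₁ := by
    change (Q.isoSpec.inv ≫ q1) (closedPoint _) = x₁
    rw [Scheme.Hom.comp_apply]
    exact hpts _
  have hsp' : g (closedPoint _) ⤳ x₁ := specializes_of_eq hg
  let q : Q ⟶ Spec (X.presheaf.stalk x₁) :=
    Q.isoSpec.hom ≫ Spec.map (Scheme.stalkClosedPointTo g) ≫
      Spec.map (X.presheaf.stalkSpecializes hsp')
  have hq : q ≫ X.fromSpecStalk x₁ = q1 := by
    change (Q.isoSpec.hom ≫ Spec.map (Scheme.stalkClosedPointTo g) ≫
      Spec.map (X.presheaf.stalkSpecializes hsp')) ≫ X.fromSpecStalk x₁ = _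
    rw [Category.assoc, Category.assoc, Scheme.SpecMap_stalkSpecializes_fromSpecStalk,
      Scheme.Spec_stalkClosedPointTo_fromSpecStalk]
    change Q.isoSpec.hom ≫ Q.isoSpec.inv ≫ q1 = _
    rw [Iso.hom_inv_id_assoc]
  have hq2 : q ≫ Spec.map e = q2 := by
    rw [← cancel_mono (Y.fromSpecStalk (f x₁)), Category.assoc, ← comm, ← Category.assoc, hq,
      sq.w]
  have hℓq : ℓ ≫ q = 𝟙 _ := by
    rw [← cancel_mono (X.fromSpecStalk x₁), Category.assoc, hq, Category.id_comp]
    exact sq.lift_fst _ _ comm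
  have hqℓ : q ≫ ℓ = 𝟙 _ := by
    apply sq.hom_ext
    · rw [Category.assoc, Category.id_comp, sq.lift_fst, hq]
    · rw [Category.assoc, Category.id_comp, sq.lift_snd, hq2]
  have : IsIso q := ⟨ℓ, hqℓ, hℓq⟩
  have : IsIso e := inferInstanceAs (IsIso (f.stalkMap x₁))
  rw [← hq2]
  infer_instance

end Groth.Agent.H52.Birat
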