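import Groth.Agent.H52.Diag
import Groth.Agent.H52.DecentMorLocal

set_option autoImplicit false
universe u
open CategoryTheory CategoryTheory.Limits AlgebraicGeometry Opposite TopologicalSpace

namespace Groth.Agent.H52

open AlgSp

variable {S : Scheme.{u}}

/-- If `W = A ×_X B` and `Q = A ×_Y B` for `i : X ⟶ Y`, then `W ⟶ Q` is a base change of the diagonal of
`i`. -/
theorem isPullback_diagonal_lift {C : Type*} [Category C] [HasPullbacks C] {X Y A B W Q : C}
    (i : X ⟶ Y) {a : A ⟶ X} {b : B ⟶ X} {p₁ : W ⟶ A} {p₂ : W ⟶ B} (h : IsPullback p₁ p₂ a b)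
    {q₁ : Q ⟶ A} {q₂ : Q ⟶ B} (hQ : IsPullback q₁ q₂ (a ≫ i) (b ≫ i)) (l : W ⟶ Q)
    (hl1 : l ≫ q₁ = p₁) (hl2 : l ≫ q₂ = p₂) (d : Q ⟶ pullback i i)
    (hd1 : d ≫ pullback.fst i i = q₁ ≫ a) (hd2 : d ≫ pullback.snd i i = q₂ ≫ b) :
    IsPullback (p₁ ≫ a) l (pullback.diagonal i) d := by
  have w : (p₁ ≫ a) ≫ pullback.diagonal i = l ≫ d := by
    apply pullback.hom_ext
    · rw [Category.assoc, pullback.diagonal_fst, Category.comp_id, Category.assoc, hd1,
        ← Category.assoc, hl1]
    · rw [Category.assoc, pullback.diagonal_snd, Category.comp_id, Category.assoc, hd2,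
        ← Category.assoc, hl2, h.w]
  have key1 : ∀ s : PullbackCone (pullback.diagonal i) d, s.fst = s.snd ≫ q₁ ≫ a := by
    intro s
    have e1 := s.condition =≫ pullback.fst i i
    simpa only [Category.assoc, pullback.diagonal_fst, Category.comp_id, hd1] using e1
  have key2 : ∀ s : PullbackCone (pullback.diagonal i) d, s.fst = s.snd ≫ q₂ ≫ b := by
    intro s
    have e2 := s.condition =≫ pullback.snd i i
    simpa only [Category.assoc, pullback.diagonal_snd, Category.comp_id, hd2] using e2
  refine ⟨⟨w⟩, ⟨PullbackCone.IsLimit.mk _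
    (fun s => h.lift (s.snd ≫ q₁) (s.snd ≫ q₂) ?_)
    (fun s => ?_) (fun s => ?_) (fun s m h1 h2 => ?_)⟩⟩
  · rw [Category.assoc, Category.assoc, ← key1 s, ← key2 s]
  · rw [← Category.assoc, h.lift_fst, Category.assoc, ← key1 s]
  · apply hQ.hom_ext
    · rw [Category.assoc, hl1, h.lift_fst]
    · rw [Category.assoc, hl2, h.lift_snd]
  · apply h.hom_ext
    · rw [h.lift_fst, ← h2, Category.assoc, hl1]
    · rw [h.lift_snd, ← h2, Category.assoc, hl2]

/-- If `P = U ×_X V` for a sheaf `X` over a scheme `T`, then `P ⟶ U ×_T V` is a base change of the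
relative diagonal of `X` over `T`. -/
theorem prop_pullback_lift_of_repWith_diagonal {Q : MorphismProperty Scheme.{u}} {X : Sp S}
    {T : Over S} (i : X ⟶ (yon S).obj T) (hX : RepWith Q (pullback.diagonal i)) {U V P : Over S}
    {a : (yon S).obj U ⟶ X} {b : (yon S).obj V ⟶ X} {fst : P ⟶ U} {snd : P ⟶ V}
    (h : IsPullback ((yon S).map fst) ((yon S).map snd) a b) (u : U ⟶ T) (v : V ⟶ T)
    (hu : (yon S).map u = a ≫ i) (hv : (yon S).map v = b ≫ i) (hw : fst ≫ u = snd ≫ v) :
    Q (pullback.lift fst snd hw).left := by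
  have hQ : IsPullback ((yon S).map (pullback.fst u v)) ((yon S).map (pullback.snd u v)) (a ≫ i)
      (b ≫ i) := by
    rw [← hu, ← hv]
    exact (IsPullback.of_hasPullback u v).map (yon S)
  have sq := isPullback_diagonal_lift i h hQ ((yon S).map (pullback.lift fst snd hw))
    (by rw [← Functor.map_comp, pullback.lift_fst]) (by rw [← Functor.map_comp, pullback.lift_snd])
    (pullback.lift ((yon S).map (pullback.fst u v) ≫ a) ((yon S).map (pullback.snd u v) ≫ b)
      (by simpa only [Category.assoc] using hQ.w))
    (pullback.lift_fst _ _ _) (pullback.lift_snd _ _ _)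
  exact hX.property _ _ _ sq

/-- The projections of a fibre product in `Over S` are base changes. -/
theorem prop_pullback_fst_left (Q : MorphismProperty Scheme.{u}) [Q.IsStableUnderBaseChange]
    {U V T : Over S} (u : U ⟶ T) (v : V ⟶ T) (h : Q v.left) : Q (pullback.fst u v).left := by
  have hpb := (IsPullback.of_hasPullback u v).map (Over.forget S)
  exact MorphismProperty.of_isPullback (P := Q) hpb.flip h

theorem prop_pullback_snd_left (Q : MorphismProperty Scheme.{u}) [Q.IsStableUnderBaseChange]
    {U V T : Over S} (u : U ⟶ T) (v : V ⟶ T) (h : Q u.left) : Q (pullback.snd u v).left := by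
  have hpb := (IsPullback.of_hasPullback u v).map (Over.forget S)
  exact MorphismProperty.of_isPullback (P := Q) hpb h

/-- A representable field-valued point of a sheaf over a scheme `T` with quasi-compact relative diagonal
is quasi-compact. -/
theorem repWith_quasiCompact_of_quasiSeparated_over {X : Sp S} {T : Over S} (i : X ⟶ (yon S).obj T)
    (hX : RepWith @QuasiCompact (pullback.diagonal i)) (p : FieldPt X) (hrep : Representable p.toHom) :
    RepWith @QuasiCompact p.toHom := by
  refine ⟨hrep, fun {T' Y} g fst snd sq => ?_⟩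
  change QuasiCompact snd.left
  obtain ⟨fst', rfl⟩ := (yon S).map_surjective fst
  obtain ⟨u, hu⟩ := (yon S).map_surjective (p.toHom ≫ i)
  obtain ⟨v, hv⟩ := (yon S).map_surjective (g ≫ i)
  have hw : fst' ≫ u = snd ≫ v := by
    apply (yon S).map_injective
    rw [Functor.map_comp, Functor.map_comp, hu, hv, ← Category.assoc, sq.w, Category.assoc]
  have h1 : QuasiCompact (pullback.lift fst' snd hw).left :=
    prop_pullback_lift_of_repWith_diagonal i hX sq u v hu hv hw
  have hstr : QuasiCompact u.left := quasiCompact_of_finite (X := Spec (CommRingCat.of p.K)) u.left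
  have h2 : QuasiCompact (pullback.snd u v).left := prop_pullback_snd_left @QuasiCompact u v hstr
  have e : snd.left = (pullback.lift fst' snd hw).left ≫ (pullback.snd u v).left := by
    rw [← Over.comp_left, pullback.lift_snd]
  rw [e]
  infer_instance

/-- **Relative form of "quasi-separated implies decent".**  An algebraic space with a morphism to a
scheme whose relative diagonal is quasi-compact is decent. -/
theorem isDecent_of_quasiSeparated_over {X : Sp S} (hXs : IsAlgSpace X) {T : Over S}
    (i : X ⟶ (yon S).obj T) (hX : RepWith @QuasiCompact (pullback.diagonal i)) : IsDecent X := by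
  intro x
  obtain ⟨V, ψ, hψ, hψs⟩ := hXs.atlas
  obtain ⟨v, rfl⟩ := ofPt_surjective_of_repWith_surjective ψ hψs x
  have hrep := hXs.representable_from_yon (FieldPt.ofPt ψ v).toHom
  obtain ⟨pr₁, hpr₁⟩ := (yon S).map_surjective (hrep.fst (FieldPt.ofPt ψ v).toHom)
  have sq := hrep.isPullback (FieldPt.ofPt ψ v).toHom
  rw [← hpr₁] at sq
  have hlqf : LocallyQuasiFinite pr₁.left := locallyQuasiFinite_pr_of_chart ψ hψ v pr₁ _ sq
  have hqc : QuasiCompact pr₁.left := by
    obtain ⟨u, hu⟩ := (yon S).map_surjective ((FieldPt.ofPt ψ v).toHom ≫ i)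
    have hw : pr₁ ≫ u = hrep.snd (FieldPt.ofPt ψ v).toHom ≫ u := by
      apply (yon S).map_injective
      rw [Functor.map_comp, Functor.map_comp, hu, ← Category.assoc, sq.w, Category.assoc]
    have h1 : QuasiCompact (pullback.lift pr₁ (hrep.snd (FieldPt.ofPt ψ v).toHom) hw).left :=
      prop_pullback_lift_of_repWith_diagonal i hX sq u u hu hu hw
    have hstr : QuasiCompact u.left :=
      quasiCompact_of_finite (X := Spec (CommRingCat.of (FieldPt.ofPt ψ v).K)) u.left
    have h2 : QuasiCompact (pullback.fst u u).left := prop_pullback_fst_left @QuasiCompact u u hstr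
    have e : pr₁.left = (pullback.lift pr₁ (hrep.snd (FieldPt.ofPt ψ v).toHom) hw).left ≫
        (pullback.fst u u).left := by
      rw [← Over.comp_left, pullback.lift_fst]
    rw [e]
    infer_instance
  have hart : IsLocallyArtinian (FieldPt.ofPt ψ v).pt.left :=
    Scheme.isLocallyArtinianScheme_Spec.2 (inferInstanceAs (IsArtinianRing (FieldPt.ofPt ψ v).K))
  have hfin : IsFinite pr₁.left := IsFinite.of_locallyQuasiFinite pr₁.left
  obtain ⟨p, c, -, hm, -, hp⟩ := exists_mono_point_of_finite _ pr₁ _ sq
  exact ⟨p, hp, hm, repWith_quasiCompact_of_quasiSeparated_over i hX p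
    (hXs.representable_from_yon _)⟩

/-- A quasi-separated morphism of algebraic spaces is decent. -/
theorem isDecentMor_of_isQuasiSeparatedMor {X Y : Sp S} (hX : IsAlgSpace X) (hY : IsAlgSpace Y)
    (f : X ⟶ Y) (hf : IsQuasiSeparatedMor f) : IsDecentMor f := by
  intro T F' g fst snd sq
  have hF' : IsAlgSpace F' := isAlgSpace_of_isPullback_yon hX hY f g fst snd sq
  have hd : RepWith @QuasiCompact (pullback.diagonal snd) :=
    MorphismProperty.of_isPullback (P := RepWith @QuasiCompact)
      (Groth.Agent.H53.isPullback_diagonal_of_isPullback sq) hf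
  exact isDecent_of_quasiSeparated_over hF' snd hd

/-- A representable morphism of sheaves is decent. -/
theorem isDecentMor_of_representable {X Y : Sp S} (f : X ⟶ Y) (hf : Representable f) :
    IsDecentMor f := by
  intro T F' g fst snd sq
  have hsnd : Representable snd := MorphismProperty.of_isPullback (P := Representable) sq hf
  exact isDecent_of_representable snd hsnd (isDecent_yon_obj T)

end Groth.Agent.H52
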