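import Groth.Agent.H52.DimZero

set_option autoImplicit false
universe u
open CategoryTheory CategoryTheory.Limits AlgebraicGeometry Opposite Topology TopologicalSpace

namespace Groth.Agent.H52

open AlgSp

variable {S : Scheme.{u}}

/-- A finite T0 Jacobson space is discrete. -/
theorem discreteTopology_of_finite_of_jacobsonSpace (T : Type*) [TopologicalSpace T] [Finite T]
    [T0Space T] [JacobsonSpace T] : DiscreteTopology T := by
  have : T1Space T := by
    refine ⟨fun x => ?_⟩
    have h1 := JacobsonSpace.closure_inter_closedPoints (isClosed_closure (s := ({x} : Set T)))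
    have h2 : IsClosed (closure ({x} : Set T) ∩ closedPoints T) := by
      have := (Set.toFinite (closure ({x} : Set T) ∩ closedPoints T)).isClosed_biUnion
        (f := fun y => ({y} : Set T)) (fun y hy => hy.2)
      rwa [Set.biUnion_of_singleton] at this
    rw [h2.closure_eq] at h1
    have hx : x ∈ closure ({x} : Set T) ∩ closedPoints T := by
      rw [h1]; exact subset_closure rfl
    exact hx.2
  infer_instance

section main

variable {X : Sp S} (hXa : IsAlgSpace X)
  (hch : ∀ ⦃U : Over S⦄ (a : (yon S).obj U ⟶ X), RepWith @Etale a →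
    IsLocallyNoetherian U.left ∧ JacobsonSpace ↥U.left)

include hXa hch

omit hXa in
theorem discreteTopology_points_of_chart_dim_le_zero {U₀ : Over S} (b : (yon S).obj U₀ ⟶ X)
    (hb : RepWith @Etale b) (hbs : RepWith @Surjective b)
    (h : topologicalKrullDim ↥U₀.left ≤ 0) : DiscreteTopology (Points X) := by
  have := (hch b hb).1
  have : DiscreteTopology ↥U₀.left := discreteTopology_of_topologicalKrullDim_le_zero h
  rw [discreteTopology_iff_isOpen_singleton]
  intro x
  obtain ⟨u, rfl⟩ := ofPt_surjective_of_repWith_surjective b hbs x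
  have := isOpenMap_ofPt_of_repWith_etale b hb {u} (isOpen_discrete _)
  rwa [Set.image_singleton] at this

/-- S10392 (2) ⇔ (4). -/
theorem discreteTopology_points_iff_dim_eq_zero [Nonempty (Points X)] :
    DiscreteTopology (Points X) ↔ AlgSp.dim X = 0 := by
  have hN := isLocNoethSp_of_charts hXa hch
  obtain ⟨U₀, b, hb, hbs⟩ := hXa.atlas
  constructor
  · intro hdisc
    apply le_antisymm
    · unfold AlgSp.dim
      refine iSup_le fun U => iSup_le fun a => iSup_le fun ha => ?_
      have h1 := topologicalKrullDim_le_zero_of_specializes_fibre hN a ha Set.univ isOpen_univ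
        (fun w _ w' _ hsp => ((hsp.map (Points.continuous_ofPt a)).eq).symm)
      rwa [(Homeomorph.Set.univ ↥U.left).isHomeomorph.topologicalKrullDim_eq] at h1
    · obtain ⟨x⟩ := ‹Nonempty (Points X)›
      obtain ⟨u, -⟩ := ofPt_surjective_of_repWith_surjective b hbs x
      have : Nonempty ↥U₀.left := ⟨u⟩
      unfold AlgSp.dim
      exact (topologicalKrullDim_nonneg_of_nonempty ↥U₀.left).trans
        (le_iSup_of_le U₀ (le_iSup_of_le b (le_iSup_of_le hb le_rfl)))
  · intro h
    refine discreteTopology_points_of_chart_dim_le_zero hch b hb hbs ?_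
    rw [← h]
    unfold AlgSp.dim
    exact le_iSup_of_le U₀ (le_iSup_of_le b (le_iSup_of_le hb le_rfl))

/-- S10392 (3) ⇒ (2) for decent spaces. -/
theorem discreteTopology_points_of_dim_points_eq_zero (hd : IsDecent X)
    (h : topologicalKrullDim (Points X) = 0) : DiscreteTopology (Points X) := by
  obtain ⟨U₀, b, hb, hbs⟩ := hXa.atlas
  have : T0Space (Points X) := t0Space_points_of_isDecent hd b hb hbs
  have hle := topologicalKrullDim_le_of_isDiscrete_fibres_t0 (Points.ofPt b)
    (Points.continuous_ofPt b) (isDiscrete_fibre_of_isDecent hd b hb)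
  exact discreteTopology_points_of_chart_dim_le_zero hch b hb hbs (hle.trans h.le)

/-- S10392 (1) ⇒ (4) for decent spaces. -/
theorem dim_eq_zero_of_finite_points [Nonempty (Points X)] (hd : IsDecent X)
    (hfin : Finite (Points X)) : AlgSp.dim X = 0 := by
  obtain ⟨U₀, b, hb, hbs⟩ := hXa.atlas
  have : T0Space (Points X) := t0Space_points_of_isDecent hd b hb hbs
  have : JacobsonSpace (Points X) :=
    (jacobson_iff_jacobsonSpace_points hXa hd).1 ⟨U₀, b, hb, hbs, (hch b hb).2⟩
  have := discreteTopology_of_finite_of_jacobsonSpace (Points X)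
  exact (discreteTopology_points_iff_dim_eq_zero hXa hch).1 this

end main

end Groth.Agent.H52
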