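import Groth.Agent.H53.Charts
import Groth.Agent.H53.ZMT.GeomFibreQF
import Groth.Agent.H52.Chart
import Groth.Agent.H51.SpQc

set_option autoImplicit false
universe u
open CategoryTheory CategoryTheory.Limits AlgebraicGeometry TopologicalSpace

namespace Groth.Agent.H52.Birat
open AlgSp

variable {S : Scheme.{u}}

/-- **Transport of a birational chart datum** to another open subscheme of the target through the
same point. -/
theorem exists_datum_over {X Y : Sp S} (f : X ⟶ Y) {U V₁ : Over S} (a : (yon S).obj U ⟶ X)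
    (b₁ : (yon S).obj V₁ ⟶ Y) (g : U ⟶ V₁) (u : ↥U.left) (ha : RepWith @IsOpenImmersion a)
    (hb₁ : RepWith @IsOpenImmersion b₁) (hcomm : a ≫ f = (yon S).map g ≫ b₁)
    (hiso : IsIso (g.left.stalkMap u)) {V : Over S} (b : (yon S).obj V ⟶ Y)
    (hb : RepWith @IsOpenImmersion b) (v : ↥V.left)
    (hv : Points.ofPt b v = Points.ofPt b₁ (g.left u)) :
    ∃ (U' : Over S) (a' : (yon S).obj U' ⟶ X) (g' : U' ⟶ V) (u' : ↥U'.left),
      RepWith @IsOpenImmersion a' ∧ a' ≫ f = (yon S).map g' ≫ b ∧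
        Points.ofPt a' u' = Points.ofPt a u ∧ g'.left u' = v ∧ IsIso (g'.left.stalkMap u') := by
  obtain ⟨V₂, p, p₁, sq₂⟩ := H53.exists_pullback_yon b b₁ hb₁.rep
  have hp : IsOpenImmersion p.left := H53.prop_of_isPullback_yon sq₂ hb₁
  have hp₁ : IsOpenImmersion p₁.left := H53.prop_of_isPullback_yon sq₂.flip hb
  obtain ⟨v₂, hv₂, hv₂'⟩ := H53.exists_pt_of_isPullback_yon sq₂ v (g.left u) hv
  obtain ⟨U', π₁, π₂, sqO, sqL⟩ := H53.ZMT.exists_over_pullback g p₁
  have hπ₁ : IsOpenImmersion π₁.left :=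
    MorphismProperty.of_isPullback (P := @IsOpenImmersion) sqL.flip hp₁
  obtain ⟨u', hu', hu'₂⟩ := H51.exists_of_isPullback_scheme sqL u v₂ hv₂'.symm
  subst hu'
  refine ⟨U', (yon S).map π₁ ≫ a, π₂ ≫ p, u', ?_, ?_, ?_, ?_, ?_⟩
  · exact (RepWith @IsOpenImmersion).comp_mem _ _ ((repWith_yon_map_iff _ _).2 hπ₁) ha
  · rw [Category.assoc, hcomm, ← Category.assoc, ← Functor.map_comp, sqO.w, Functor.map_comp,
      Category.assoc, ← sq₂.w, Functor.map_comp, Category.assoc]
  · rw [ofPt_yon_map_comp]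
  · change p.left (π₂.left u') = v
    rw [hu'₂, hv₂]
  · have i1 : IsIso (π₁.left.stalkMap u') := inferInstance
    have i2 : IsIso (g.left.stalkMap (π₁.left u')) := hiso
    have h1 : IsIso ((π₁.left ≫ g.left).stalkMap u') := by
      rw [Scheme.Hom.stalkMap_comp]
      exact IsIso.comp_isIso' i2 i1
    rw [sqL.w] at h1
    rw [Scheme.Hom.stalkMap_comp] at h1
    have i3 : IsIso (p₁.left.stalkMap (π₂.left u')) := inferInstance
    have h2 : IsIso (π₂.left.stalkMap u') :=
      @IsIso.of_isIso_comp_left _ _ _ _ _ (p₁.left.stalkMap (π₂.left u')) (π₂.left.stalkMap u') i3 h1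
    have i4 : IsIso (p.left.stalkMap (π₂.left u')) := inferInstance
    change IsIso ((π₂.left ≫ p.left).stalkMap u')
    rw [Scheme.Hom.stalkMap_comp]
    exact IsIso.comp_isIso' i4 h2

end Groth.Agent.H52.Birat
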