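import Groth.Agent.H52.BiratA
import Groth.Agent.H52.BiratC
import Groth.Agent.H52.JacobsonSp
import Groth.Agent.H52.ZarLocal
import Groth.Agent.H50.EffCartierCompl
import Groth.Agent.H51.SpOpen

set_option autoImplicit false
universe u
open CategoryTheory CategoryTheory.Limits AlgebraicGeometry TopologicalSpace

namespace Groth.Agent.H52.Birat
open AlgSp

variable {S : Scheme.{u}}

/-- A monomorphism from a scheme is injective on the points of the scheme. -/
theorem ofPt_injective_of_mono {F : Sp S} {T : Over S} (b : (yon S).obj T ⟶ F) [Mono b] :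
    Function.Injective (Points.ofPt b) := by
  intro t t' h
  rw [Points.ofPt_eq_map_ofScheme, Points.ofPt_eq_map_ofScheme] at h
  exact (Points.schemeEquiv T).injective (H51.injective_map_of_mono b h)

/-- The residue field extension of an etale morphism is integral. -/
theorem isIntegral_residueFieldMap_of_etale {A B : Scheme.{u}} (k : A ⟶ B) [Etale k] (t : A) :
    (k.residueFieldMap t).hom.IsIntegral := by
  let _ : Algebra (B.residueField (k t)) (A.residueField t) := (k.residueFieldMap t).hom.toAlgebra
  have : Algebra.IsSeparable (B.residueField (k t)) (A.residueField t) := inferInstance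
  have : Algebra.IsIntegral (B.residueField (k t)) (A.residueField t) := inferInstance
  exact this.isIntegral

/-- The residue field map at a point where the stalk map is an isomorphism is surjective. -/
theorem surjective_residueFieldMap_of_isIso_stalkMap {A B : Scheme.{u}} (g : A ⟶ B) (t : A)
    (h : IsIso (g.stalkMap t)) : Function.Surjective (g.residueFieldMap t).hom := by
  intro z
  obtain ⟨r, rfl⟩ := A.residue_surjective t z
  obtain ⟨r', rfl⟩ := (ConcreteCategory.bijective_of_isIso (g.stalkMap t)).2 r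
  refine ⟨B.residue (g t) r', ?_⟩
  exact congrArg (fun φ => φ.hom r') (Scheme.residue_residueFieldMap g t)

/-- Integrality of the residue field map of a composite. -/
theorem isIntegral_residueFieldMap_comp_iff {A B C : Scheme.{u}} (p : A ⟶ B) (q : B ⟶ C) (t : A) :
    ((p ≫ q).residueFieldMap t).hom.IsIntegral ↔
      ((p.residueFieldMap t).hom.comp (q.residueFieldMap (p t)).hom).IsIntegral := by
  rw [Scheme.residueFieldMap_comp]
  rfl

/-- **Key lemma.**  Let `f : X ⟶ Y` be a morphism from a decent algebraic space, and suppose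
given open subschemes `U` of `X` and `V` of `Y` with `f` mapping `U` into `V` by `g`, inducing an
isomorphism of local rings at `u`.  Then a specialization `x` of the point `a u` of `X` with the
same image in `Y` is equal to `a u`. -/
theorem eq_of_specializes_of_datum {X Y : AlgSp.Space S} (f : X ⟶ Y) (hX : IsDecent X.obj)
    {U V : Over S} (a : (yon S).obj U ⟶ X.obj) (b : (yon S).obj V ⟶ Y.obj) (g : U ⟶ V)
    (u : ↥U.left) (ha : RepWith @IsOpenImmersion a) (hb : RepWith @IsOpenImmersion b)
    (hcomm : a ≫ f.hom = (yon S).map g ≫ b) (hiso : IsIso (g.left.stalkMap u))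
    (x : Points X.obj) (hsp : Points.ofPt a u ⤳ x)
    (hfx : Points.map f.hom x = Points.map f.hom (Points.ofPt a u)) : x = Points.ofPt a u := by
  have hbm : Mono b := mono_of_repWith_isOpenImmersion b hb
  have ham : Mono a := mono_of_repWith_isOpenImmersion a ha
  obtain ⟨T₀, c₀, hc₀, hc₀s⟩ := X.property.atlas
  obtain ⟨t₀', ht₀'⟩ := ofPt_surjective_of_repWith_surjective c₀ hc₀s x
  -- restrict the chart to the preimage of `V`
  obtain ⟨W, fst, sqW, hW⟩ := H50.exists_opens_isPullback b hb T₀ (c₀ ≫ f.hom)
  obtain ⟨h, rfl⟩ := (yon S).map_surjective fst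
  have hfau : Points.map f.hom (Points.ofPt a u) = Points.ofPt b (g.left u) := by
    rw [Points.map_ofPt, hcomm, ← ofPt_yon_map_comp]
  have ht₀W : t₀' ∈ W := by
    change t₀' ∈ (W : Set T₀.left)
    rw [hW, Set.mem_preimage, ← Points.map_ofPt, ht₀', hfx, hfau, H51.range_map_eq_range_ofPt]
    exact ⟨_, rfl⟩
  let T : Over S := Over.mk (W.ι ≫ T₀.hom)
  let ιW : T ⟶ T₀ := Over.homMk W.ι rfl
  let c : (yon S).obj T ⟶ X.obj := (yon S).map ιW ≫ c₀
  have hc : RepWith @Etale c := repWith_etale_restrict c₀ hc₀ W
  have hhc : (yon S).map h ≫ b = c ≫ f.hom := by rw [sqW.w, Category.assoc]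
  let t₀ : ↥T.left := ⟨t₀', ht₀W⟩
  have hct₀ : Points.ofPt c t₀ = x := by
    change Points.ofPt ((yon S).map ιW ≫ c₀) t₀ = x
    rw [ofPt_yon_map_comp]
    exact ht₀'
  -- lift the generization
  obtain ⟨t₁, ht₁t₀, hct₁⟩ :=
    generalizingMap_ofPt_of_isDecent hX c hc (show Points.ofPt a u ⤳ Points.ofPt c t₀ from hct₀ ▸ hsp)
  have hbh : ∀ t : ↥T.left, Points.ofPt b (h.left t) = Points.map f.hom (Points.ofPt c t) := by
    intro t
    rw [← ofPt_yon_map_comp, hhc, Points.map_ofPt]
  have hh : h.left t₀ = h.left t₁ := by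
    apply ofPt_injective_of_mono b
    rw [hbh, hbh, hct₀, hct₁, hfx]
  -- the preimage of `U` in the chart
  obtain ⟨W', fst', sqW', hW'⟩ := H50.exists_opens_isPullback a ha T c
  obtain ⟨k, rfl⟩ := (yon S).map_surjective fst'
  have ht₁W' : t₁ ∈ W' := by
    change t₁ ∈ (W' : Set T.left)
    rw [hW', Set.mem_preimage, hct₁, H51.range_map_eq_range_ofPt]
    exact ⟨_, rfl⟩
  let T' : Over S := Over.mk (W'.ι ≫ T.hom)
  let ιW' : T' ⟶ T := Over.homMk W'.ι rfl
  have hk : Etale k.left := H53.prop_of_isPullback_yon sqW' hc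
  let t'' : ↥T'.left := ⟨t₁, ht₁W'⟩
  have hkt : k.left t'' = u := by
    apply ofPt_injective_of_mono a
    rw [← ofPt_yon_map_comp, sqW'.w, ofPt_yon_map_comp]
    exact hct₁
  have e : ιW' ≫ h = k ≫ g := by
    apply (yon S).map_injective
    rw [← cancel_mono b]
    calc (yon S).map (ιW' ≫ h) ≫ b = (yon S).map ιW' ≫ ((yon S).map h ≫ b) := by
          rw [Functor.map_comp, Category.assoc]
      _ = (yon S).map ιW' ≫ (c ≫ f.hom) := by rw [hhc]
      _ = ((yon S).map ιW' ≫ c) ≫ f.hom := (Category.assoc _ _ _).symm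
      _ = ((yon S).map k ≫ a) ≫ f.hom := congrArg (· ≫ f.hom) sqW'.w.symm
      _ = (yon S).map k ≫ (a ≫ f.hom) := Category.assoc _ _ _
      _ = (yon S).map k ≫ ((yon S).map g ≫ b) := by rw [hcomm]
      _ = (yon S).map (k ≫ g) ≫ b := by rw [Functor.map_comp, Category.assoc]
  have eL : W'.ι ≫ h.left = k.left ≫ g.left := congrArg (fun φ => φ.left) e
  -- integrality of the residue field extension of `h` at `t₁`
  have hRHS : ((k.left ≫ g.left).residueFieldMap t'').hom.IsIntegral := by
    rw [isIntegral_residueFieldMap_comp_iff]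
    refine RingHom.IsIntegral.trans _ _ ?_ (isIntegral_residueFieldMap_of_etale k.left t'')
    refine RingHom.isIntegral_of_surjective _
      (surjective_residueFieldMap_of_isIso_stalkMap g.left (k.left t'') ?_)
    rw [hkt]
    exact hiso
  have hLHS : ((W'.ι ≫ h.left).residueFieldMap t'').hom.IsIntegral := by
    rw [eL]
    exact hRHS
  rw [isIntegral_residueFieldMap_comp_iff] at hLHS
  have hint : (h.left.residueFieldMap (W'.ι t'')).hom.IsIntegral :=
    RingHom.IsIntegral.tower_bot _ _ (RingHom.injective _) hLHS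
  have ht : t₀ = t₁ :=
    eq_of_specializes_of_integral_residueField h.left t₁ t₀ ht₁t₀ hh hint
  rw [← hct₀, ht, hct₁]

end Groth.Agent.H52.Birat
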