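import Groth.Agent.H52.BiratB
import Groth.Agent.H52.BiratD

set_option autoImplicit false
universe u
open CategoryTheory CategoryTheory.Limits AlgebraicGeometry TopologicalSpace

namespace Groth.Agent.H52.Birat
open AlgSp

/-- Cutting down a pullback square along monomorphisms. -/
theorem isPullback_of_mono {C : Type*} [Category C] {P A A' B B' D : C} {fst : P ⟶ A}
    {snd : P ⟶ B} {f : A ⟶ D} {h : B ⟶ D} (hP : IsPullback fst snd f h) {φ' : P ⟶ A'}
    {a' : A' ⟶ A} [Mono a'] (hφ : φ' ≫ a' = fst) {g'' : A' ⟶ B'} {b : B' ⟶ D} [Mono b]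
    {q : B ⟶ B'} (hq : q ≫ b = h) (hc : a' ≫ f = g'' ≫ b) : IsPullback φ' snd g'' q := by
  have w : φ' ≫ g'' = snd ≫ q := by
    rw [← cancel_mono b, Category.assoc, ← hc, ← Category.assoc, hφ, hP.w, Category.assoc, hq]
  refine ⟨⟨w⟩, ⟨PullbackCone.IsLimit.mk w
    (fun s => hP.lift (s.fst ≫ a') s.snd (by
      rw [Category.assoc, hc, ← Category.assoc, s.condition, Category.assoc, hq]))
    (fun s => by
      rw [← cancel_mono a', Category.assoc, hφ, hP.lift_fst])
    (fun s => hP.lift_snd _ _ _)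
    (fun s m h1 h2 => hP.hom_ext (by rw [hP.lift_fst, ← hφ, ← Category.assoc, h1])
      (by rw [hP.lift_snd, h2]))⟩⟩

variable {S : Scheme.{u}}

/-- **Core of S10434.**  If all points of the base change of `f` to the local scheme of an open
subscheme `V` of `Y` at `g u` map to the point `a u` of `X`, where `g : U ⟶ V` is a morphism of
open subschemes of `X` and `Y` compatible with `f` and inducing an isomorphism of local rings at
`u`, then this base change is an isomorphism. -/
theorem isIso_snd_of_datum {X Y : Sp S} (f : X ⟶ Y) {U V : Over S} (a : (yon S).obj U ⟶ X)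
    (b : (yon S).obj V ⟶ Y) (g : U ⟶ V) (u : ↥U.left) (ha : RepWith @IsOpenImmersion a)
    (hb : RepWith @IsOpenImmersion b) (hcomm : a ≫ f = (yon S).map g ≫ b)
    (hiso : IsIso (g.left.stalkMap u)) {P : Sp S} (fst : P ⟶ X)
    (snd : P ⟶ (yon S).obj (Over.mk (V.left.fromSpecStalk (g.left u) ≫ V.hom)))
    (hP : IsPullback fst snd f
      ((yon S).map (Over.homMk (V.left.fromSpecStalk (g.left u)) rfl) ≫ b))
    (hpts : ∀ t : Points P, Points.map fst t = Points.ofPt a u) : IsIso snd := by
  have hbm : Mono b := mono_of_repWith_isOpenImmersion b hb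
  have ham : Mono a := mono_of_repWith_isOpenImmersion a ha
  -- factor through `U`
  obtain ⟨φ', hφ'⟩ := (H51.exists_factor_iff_of_isOpenImmersion' a ha fst).2 (by
    rintro _ ⟨t, rfl⟩
    rw [hpts t, Points.ofPt_eq_map_ofScheme]
    exact ⟨_, rfl⟩)
  let φ : Over.mk (V.left.fromSpecStalk (g.left u) ≫ V.hom) ⟶ V :=
    Over.homMk (V.left.fromSpecStalk (g.left u)) rfl
  have sq1 : IsPullback φ' snd ((yon S).map g) ((yon S).map φ) :=
    isPullback_of_mono hP hφ' rfl hcomm
  obtain ⟨Q, q₁, q₂, sqO, sqL⟩ := H53.ZMT.exists_over_pullback g φ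
  have sq2 := sqO.map (yon S)
  have hsnd : (sq1.isoIsPullback _ _ sq2).hom ≫ (yon S).map q₂ = snd :=
    sq1.isoIsPullback_hom_snd _ _ sq2
  have hfst : (sq1.isoIsPullback _ _ sq2).inv ≫ φ' = (yon S).map q₁ :=
    sq1.isoIsPullback_inv_fst _ _ sq2
  have hptsQ : ∀ t : ↥Q.left, q₁.left t = u := by
    intro t
    apply ofPt_injective_of_mono a
    rw [← ofPt_yon_map_comp, ← hfst, Category.assoc, hφ', ← Points.map_ofPt]
    exact hpts _
  have hq₂ : IsIso q₂.left := isIso_snd_of_forall_fst_eq g.left u q₁.left q₂.left sqL hptsQ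
  have hq₂'' : IsIso ((Over.forget S).map q₂) := hq₂
  have hq₂' : IsIso q₂ := isIso_of_reflects_iso q₂ (Over.forget S)
  rw [← hsnd]
  infer_instance

end Groth.Agent.H52.Birat
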