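import Groth.Agent.H49.AlgSpCoprod2
import Groth.Agent.H53.Charts
import Groth.Agent.H6.BiratOpen

/-!
# A disjoint union of open subschemes of a sheaf is an open subscheme

If `w : h_{∐ U_i} ⟶ X` restricts on every summand to a representable open immersion and the images
of the summands on points are pairwise disjoint, then `w` is a representable open immersion.
-/

set_option autoImplicit false
universe u
open CategoryTheory CategoryTheory.Limits AlgebraicGeometry TopologicalSpace

namespace Groth.Agent.H52.Birat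
open AlgSp

variable {S : Scheme.{u}} {ι : Type u}

/-- A map out of the sheaf of a coproduct of schemes, which is a representable open immersion on
every summand, with pairwise disjoint images, is a representable open immersion. -/
theorem repWith_isOpenImmersion_of_cofan {X : Sp S} {U : ι → Over S} {d : Cofan U}
    (hd : IsColimit d) (w : (yon S).obj d.pt ⟶ X) (hw : Representable w)
    (ha : ∀ i, RepWith @IsOpenImmersion ((yon S).map (d.inj i) ≫ w))
    (hdisj : ∀ i j (y : ↥(U i).left) (y' : ↥(U j).left),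
      Points.ofPt ((yon S).map (d.inj i) ≫ w) y = Points.ofPt ((yon S).map (d.inj j) ≫ w) y' →
        i = j) :
    RepWith @IsOpenImmersion w := by
  refine ⟨hw, ?_⟩
  intro T P g fst snd sq
  change IsOpenImmersion snd.left
  obtain ⟨φ, rfl⟩ := (yon S).map_surjective fst
  have hinj : ∀ i, RepWith @IsOpenImmersion ((yon S).map (d.inj i)) := fun i =>
    (repWith_yon_map_iff _ _).2 (Groth.Agent.H49.isOpenImmersion_inj_left hd i)
  -- the local pieces
  have key : ∀ (i : ι) (y : ↥(U i).left) (p : ↥P.left), φ.left p = (d.inj i).left y →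
      ∃ (Q : Over S) (q1 : Q ⟶ P), IsOpenImmersion q1.left ∧ IsOpenImmersion (q1 ≫ snd).left ∧
        ∀ p' : ↥P.left, (∃ y', φ.left p' = (d.inj i).left y') → ∃ q : ↥Q.left, q1.left q = p' := by
    intro i y p hp
    obtain ⟨Q, q1, q2, sqQ⟩ := Groth.Agent.H53.exists_pullback_yon ((yon S).map φ)
      ((yon S).map (d.inj i)) (representable_yon_map _)
    have h1 : IsOpenImmersion q1.left := Groth.Agent.H53.prop_of_isPullback_yon sqQ (hinj i)
    have hpaste := sqQ.flip.paste_vert sq
    rw [← Functor.map_comp] at hpaste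
    have h2 : IsOpenImmersion (q1 ≫ snd).left := (ha i).2 g ((yon S).map q2) (q1 ≫ snd) hpaste
    refine ⟨Q, q1, h1, h2, ?_⟩
    rintro p' ⟨y', hy'⟩
    obtain ⟨q, hq1, -⟩ := Groth.Agent.H53.exists_pt_of_isPullback_yon sqQ p' y' (by
      have e1 := Groth.Agent.H53.ofPt_yon_map_comp φ (𝟙 _) p'
      have e2 := Groth.Agent.H53.ofPt_yon_map_comp (d.inj i) (𝟙 _) y'
      rw [Category.comp_id] at e1 e2
      rw [e1, e2, hy'])
    exact ⟨q, hq1⟩
  refine Groth.Agent.H6.BiratOpen.isOpenImmersion_of_injective_of_local snd.left ?_ ?_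
  · intro p
    obtain ⟨i, y, hy⟩ := Groth.Agent.H49.exists_inj_left_eq hd (φ.left p)
    obtain ⟨Q, q1, h1, h2, h3⟩ := key i y p hy.symm
    obtain ⟨q, hq⟩ := h3 p ⟨y, hy.symm⟩
    refine ⟨q1.left.opensRange, ⟨q, hq⟩, ?_⟩
    have e : q1.left.opensRange.ι ≫ snd.left =
        q1.left.isoOpensRange.inv ≫ (q1 ≫ snd).left := by
      rw [Over.comp_left, ← Category.assoc, Scheme.Hom.isoOpensRange_inv_comp]
    rw [e]
    infer_instance
  · intro p p' hpp'
    obtain ⟨i, y, hy⟩ := Groth.Agent.H49.exists_inj_left_eq hd (φ.left p)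
    obtain ⟨j, y', hy'⟩ := Groth.Agent.H49.exists_inj_left_eq hd (φ.left p')
    have hij : i = j := by
      apply hdisj i j y y'
      rw [Groth.Agent.H53.ofPt_yon_map_comp, Groth.Agent.H53.ofPt_yon_map_comp, hy, hy',
        ← Groth.Agent.H53.ofPt_yon_map_comp, ← Groth.Agent.H53.ofPt_yon_map_comp, sq.w,
        Groth.Agent.H53.ofPt_yon_map_comp, Groth.Agent.H53.ofPt_yon_map_comp, hpp']
    subst hij
    obtain ⟨Q, q1, h1, h2, h3⟩ := key i y p hy.symm
    obtain ⟨q, hq⟩ := h3 p ⟨y, hy.symm⟩
    obtain ⟨q', hq'⟩ := h3 p' ⟨y', hy'.symm⟩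
    have hinj2 := (q1 ≫ snd).left.isOpenEmbedding.injective
    have : (q1 ≫ snd).left q = (q1 ≫ snd).left q' := by
      rw [Over.comp_left, Scheme.Hom.comp_apply, Scheme.Hom.comp_apply, hq, hq', hpp']
    rw [← hq, ← hq', hinj2 this]

end Groth.Agent.H52.Birat
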