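import Groth.Agent.H52.SoberSp2
import Groth.Agent.H52.CodimZeroQF

/-!
# Generic points of irreducible components of decent spaces
-/

set_option autoImplicit false
universe u
open CategoryTheory CategoryTheory.Limits AlgebraicGeometry Opposite TopologicalSpace

namespace Groth.Agent.H52.GenericPts

open AlgSp CZ

variable {S : Scheme.{u}}

/-- **S10394**: on a decent space the generic points of irreducible components are the points of
codimension `0`. -/
theorem generic_iff_codimZero (X : AlgSp.Space S) (hX : AlgSp.IsDecent X.obj)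
    (x : AlgSp.Points X.obj) :
    (∃ T ∈ irreducibleComponents (AlgSp.Points X.obj), IsGenericPoint x T) ↔
      AlgSp.HasAt (fun U u => ringKrullDim ↥(U.presheaf.stalk u) = 0) X.obj x := by
  obtain ⟨V, b, hb, hbs⟩ := X.property.atlas
  have hT0 : T0Space (Points X.obj) := t0Space_points_of_isDecent hX b hb hbs
  obtain ⟨v, hv⟩ := H51.surjective_ofPt_of_surjective b hbs x
  constructor
  · rintro ⟨T, hT, hx⟩
    refine ⟨V, b, v, hb, hv, ?_⟩
    change ringKrullDim ↥(V.left.presheaf.stalk v) = 0
    rw [stalk_dim_zero_iff]
    intro v' hv'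
    have hs : Points.ofPt b v' ⤳ x := hv ▸ hv'.map (Points.continuous_ofPt b)
    have hsub : T ⊆ closure {Points.ofPt b v'} := by
      rw [← hx.def]
      exact closure_minimal (Set.singleton_subset_iff.2 (specializes_iff_mem_closure.1 hs))
        isClosed_closure
    have heq : closure {Points.ofPt b v'} = T :=
      (hT.eq_of_subset isIrreducible_singleton.closure hsub).symm
    have hx' : IsGenericPoint (Points.ofPt b v') T := heq
    have : Points.ofPt b v' = x := hx'.eq hx
    exact (eq_of_specializes_of_isDecent hX b hb v v' (hv.trans this.symm) hv').symm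
  · intro h
    have hd := (H51.s10248 X x 0).1 h V b v hb hv
    rw [stalk_dim_zero_iff] at hd
    have hsober : QuasiSober (Points X.obj) := SoberSp.quasiSober_points_of_isDecent X hX
    refine ⟨irreducibleComponent x, irreducibleComponent_mem_irreducibleComponents x, ?_⟩
    obtain ⟨η, hη⟩ := QuasiSober.sober (isIrreducible_irreducibleComponent (x := x))
      isClosed_irreducibleComponent
    have hs : η ⤳ x := by
      rw [specializes_iff_mem_closure, hη.def]
      exact mem_irreducibleComponent
    obtain ⟨p, hp, -, hpq⟩ := hX η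
    obtain ⟨v', hv's, hv'⟩ := exists_specializes_lift x η hs p hp hpq b hb v hv
    have := hd v' hv's
    have hηx : η = x := by rw [← hv', this, hv]
    rw [← hηx]
    exact hηx ▸ hη

/-- **S10395**: étale morphisms preserve and reflect generic points of irreducible components. -/
theorem generic_iff_of_isEtaleMor {X Y : AlgSp.Space S} (hX : AlgSp.IsDecent X.obj) (f : Y ⟶ X)
    (hf : AlgSp.IsEtaleMor f.hom) (hY : AlgSp.IsDecent Y.obj) (y : AlgSp.Points Y.obj) :
    (∃ T ∈ irreducibleComponents (AlgSp.Points Y.obj), IsGenericPoint y T) ↔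
      (∃ T ∈ irreducibleComponents (AlgSp.Points X.obj),
        IsGenericPoint (AlgSp.Points.map f.hom y) T) := by
  rw [generic_iff_codimZero Y hY, generic_iff_codimZero X hX]
  constructor
  · rintro ⟨U, a, u, ha, hu, hd⟩
    exact ⟨U, a ≫ f.hom, u, hf a ha, by rw [← Points.map_ofPt, hu], hd⟩
  · intro h
    obtain ⟨U, a, ha, has⟩ := Y.property.atlas
    obtain ⟨u, hu⟩ := H51.surjective_ofPt_of_surjective a has y
    refine ⟨U, a, u, ha, hu, ?_⟩
    exact (H51.s10248 X _ 0).1 h U (a ≫ f.hom) u (hf a ha) (by rw [← Points.map_ofPt, hu])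

end Groth.Agent.H52.GenericPts
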