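import Groth.Agent.H52.ZarLocal
import Groth.Agent.H52.AtlasLocal
import Groth.Agent.H51.SpOpen
import Groth.Agent.H53.Points

set_option autoImplicit false
universe u
open CategoryTheory CategoryTheory.Limits AlgebraicGeometry Opposite TopologicalSpace

namespace Groth.Agent.H52

open AlgSp

variable {S : Scheme.{u}}

/-- A representable open immersion is representable etale. -/
theorem repWith_etale_of_isOpenImmersion {F G : Sp S} (f : F ⟶ G)
    (hf : RepWith @IsOpenImmersion f) : RepWith @Etale f :=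
  ⟨hf.rep, fun _ _ g fst snd sq => by
    have : IsOpenImmersion snd.left := hf.property _ _ _ sq
    exact (inferInstance : Etale snd.left)⟩

/-- From a Zariski covering with quasi-compact etale atlases to etale charts with quasi-compact
projections. -/
theorem charts_of_zarCover {X : Sp S} {ι : Type u} (Xi : ι → Sp S) (j : ∀ i, Xi i ⟶ X)
    (U : ι → Over S) (a : ∀ i, (yon S).obj (U i) ⟶ Xi i) (hj : IsZarCover Xi j)
    (ha : ∀ i, RepWith @Etale (a i) ∧ RepWith @Surjective (a i) ∧ RepWith @QuasiCompact (a i)) :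
    (∀ i, RepWith @Etale (a i ≫ j i)) ∧
      (∀ x : Points X, ∃ (i : ι) (v : ↥(U i).left), Points.ofPt (a i ≫ j i) v = x) ∧
      ∀ (i : ι) (R : Over S) (s t : R ⟶ U i),
        IsPullback ((yon S).map t) ((yon S).map s) (a i ≫ j i) (a i ≫ j i) →
          QuasiCompact s.left ∧ QuasiCompact t.left := by
  have hjm : ∀ i, Mono (j i) := fun i => mono_of_repWith_isOpenImmersion (j i) (hj.1 i)
  refine ⟨fun i => ?_, fun x => ?_, fun i R s t hR => ?_⟩
  · exact (RepWith @Etale).comp_mem _ _ (ha i).1 (repWith_etale_of_isOpenImmersion _ (hj.1 i))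
  · obtain ⟨i, xi, rfl⟩ := hj.2 x
    obtain ⟨v, rfl⟩ := ofPt_surjective_of_repWith_surjective (a i) (ha i).2.1 xi
    exact ⟨i, v, (Points.map_ofPt _ _ _).symm⟩
  · have hR' : IsPullback ((yon S).map t) ((yon S).map s) (a i) (a i) :=
      Groth.Agent.H49.isPullback_of_comp_mono (j i) hR
    exact ⟨(ha i).2.2.property _ _ _ hR', (ha i).2.2.property _ _ _ hR'.flip⟩

/-- From etale charts with quasi-compact projections to a Zariski covering by open subspaces with
quasi-compact etale atlases. -/
theorem zarCover_of_charts {X : Sp S} (hX : IsAlgSpace X) {ι : Type u} (U : ι → Over S)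
    (φ : ∀ i, (yon S).obj (U i) ⟶ X) (h1 : ∀ i, RepWith @Etale (φ i))
    (h2 : ∀ x : Points X, ∃ (i : ι) (v : ↥(U i).left), Points.ofPt (φ i) v = x)
    (h3 : ∀ (i : ι) (R : Over S) (s t : R ⟶ U i),
      IsPullback ((yon S).map t) ((yon S).map s) (φ i) (φ i) →
        QuasiCompact s.left ∧ QuasiCompact t.left) :
    ∃ (Xi : ι → Sp S) (j : ∀ i, Xi i ⟶ X) (a : ∀ i, (yon S).obj (U i) ⟶ Xi i),
      (∀ i, IsAlgSpace (Xi i)) ∧ IsZarCover Xi j ∧
        ∀ i, RepWith @Etale (a i) ∧ RepWith @Surjective (a i) ∧ RepWith @QuasiCompact (a i) := by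
  have hW : ∀ i, IsOpen (Set.range (Points.ofPt (φ i))) := fun i =>
    (isOpenMap_ofPt_of_repWith_etale (φ i) (h1 i)).isOpen_range
  have hfac : ∀ i, ∃ a : (yon S).obj (U i) ⟶ Groth.Agent.H51.openSubSp X (Set.range (Points.ofPt (φ i))),
      a ≫ Groth.Agent.H51.openSubι X (Set.range (Points.ofPt (φ i))) = φ i := fun i =>
    (Groth.Agent.H51.exists_factor_openSubι_iff _ (φ i)).2 fun t => ⟨t, rfl⟩
  choose a ha using hfac
  have hjo : ∀ i, RepWith @IsOpenImmersion
      (Groth.Agent.H51.openSubι X (Set.range (Points.ofPt (φ i)))) := fun i =>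
    Groth.Agent.H51.repWith_isOpenImmersion_openSubι _ (hW i)
  have hjm : ∀ i, Mono (Groth.Agent.H51.openSubι X (Set.range (Points.ofPt (φ i)))) := fun i =>
    mono_of_repWith_isOpenImmersion _ (hjo i)
  have hae : ∀ i, RepWith @Etale (a i) := fun i =>
    Groth.Agent.H51.repWith_of_comp_mono (a i) _ (by rw [ha i]; exact h1 i)
  have has : ∀ i, RepWith @Surjective (a i) := by
    intro i
    refine Groth.Agent.H53.repWith_surjective_of_points_surjective (a i) (hae i).rep fun y => ?_
    have hy : Points.map (Groth.Agent.H51.openSubι X (Set.range (Points.ofPt (φ i)))) y ∈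
        Set.range (Points.ofPt (φ i)) :=
      (Set.ext_iff.1 (Groth.Agent.H51.range_map_openSubι (Set.range (Points.ofPt (φ i)))) _).1
        ⟨y, rfl⟩
    obtain ⟨v, hv⟩ := hy
    refine ⟨Points.ofScheme (U i) v, ?_⟩
    rw [← Points.ofPt_eq_map_ofScheme]
    apply points_map_injective_of_mono (Groth.Agent.H51.openSubι X (Set.range (Points.ofPt (φ i))))
    rw [Points.map_ofPt, ha i, hv]
  refine ⟨fun i => Groth.Agent.H51.openSubSp X (Set.range (Points.ofPt (φ i))),
    fun i => Groth.Agent.H51.openSubι X (Set.range (Points.ofPt (φ i))), a,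
    fun i => Groth.Agent.H51.isAlgSpace_openSubSp hX _ (hW i), ⟨hjo, fun x => ?_⟩,
    fun i => ⟨hae i, has i, ?_⟩⟩
  · obtain ⟨i, v, rfl⟩ := h2 x
    refine ⟨i, ?_⟩
    rw [Groth.Agent.H51.range_map_openSubι]
    exact ⟨v, rfl⟩
  · -- quasi-compactness, checked on the atlas `a i` itself
    have hrep := hX.representable_from_yon (φ i)
    obtain ⟨t, ht⟩ := (yon S).map_surjective (hrep.fst (φ i))
    have sq := hrep.isPullback (φ i)
    rw [← ht] at sq
    have hqc := (h3 i _ _ _ sq).1
    have sq' : IsPullback ((yon S).map t) ((yon S).map (hrep.snd (φ i))) (a i) (a i) := by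
      refine Groth.Agent.H49.isPullback_of_comp_mono
        (Groth.Agent.H51.openSubι X (Set.range (Points.ofPt (φ i)))) ?_
      rw [ha i]
      exact sq
    exact repWith_of_atlas @QuasiCompact (a i) (hae i).rep (a i) (hae i) (has i) _ _ sq' hqc

end Groth.Agent.H52
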