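import Groth.Agent.H52.BiratF
import Groth.Agent.H52.BiratD
import Groth.Agent.H52.GenericPts
import Groth.Agent.H51.SpEtReduced
import Groth.Agent.H52.QCAtlas
import Groth.Agent.H52.ZarLocal

/-!
# Birational morphisms of decent spaces: local open immersions at generic points
-/

set_option autoImplicit false
universe u
open CategoryTheory CategoryTheory.Limits AlgebraicGeometry TopologicalSpace

namespace Groth.Agent.H52.Birat
open AlgSp

variable {S : Scheme.{u}}

/-- In a quasi-sober space a point without proper generizations is the generic point of an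
irreducible component. -/
theorem mem_gen_of_forall_specializes {T : Type*} [TopologicalSpace T] [QuasiSober T] {v : T}
    (h : ∀ v' : T, v' ⤳ v → v' = v) : closure {v} ∈ irreducibleComponents T := by
  obtain ⟨η, hη, hs⟩ := Groth.Agent.H20.exists_generic_specializes v
  rw [← h η hs]
  exact hη

/-- For an open subscheme `(V, b)` of a decent space, a point of `V` is the generic point of an
irreducible component of `V` iff its image is one of the space. -/
theorem mem_gen_iff_of_isOpenImmersion (Y : AlgSp.Space S) (hY : IsDecent Y.obj) {V : Over S}
    (b : (yon S).obj V ⟶ Y.obj) (hb : RepWith @IsOpenImmersion b) (v : ↥V.left) :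
    v ∈ Groth.Agent.H6.BiratOpen.Gen ↥V.left ↔ Points.ofPt b v ∈ genericPoints (Points Y.obj) := by
  have hbe : RepWith @Etale b := repWith_etale_of_isOpenImmersion b hb
  constructor
  · intro hv
    have h0 : ringKrullDim ↥(V.left.presheaf.stalk v) = 0 := by
      rw [CZ.stalk_dim_zero_iff]
      intro v' hv'
      exact Groth.Agent.H20.eq_of_specializes_of_mem_irreducibleComponents hv hv'
    obtain ⟨T, hT, hgen⟩ := (GenericPts.generic_iff_codimZero Y hY (Points.ofPt b v)).2
      ⟨V, b, v, hbe, rfl, h0⟩
    change closure {Points.ofPt b v} ∈ irreducibleComponents _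
    rw [hgen.def]
    exact hT
  · intro hv
    have h1 := (GenericPts.generic_iff_codimZero Y hY (Points.ofPt b v)).1 ⟨_, hv, rfl⟩
    have h0 := (H51.s10248 Y _ 0).1 h1 V b v hbe rfl
    rw [CZ.stalk_dim_zero_iff] at h0
    exact mem_gen_of_forall_specializes h0

/-- An open subscheme of a decent space with finitely many irreducible components has finitely
many irreducible components. -/
theorem finite_gen_of_isOpenImmersion (Y : AlgSp.Space S) (hY : IsDecent Y.obj)
    (hYf : (genericPoints (Points Y.obj)).Finite) {V : Over S}
    (b : (yon S).obj V ⟶ Y.obj) (hb : RepWith @IsOpenImmersion b) :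
    (Groth.Agent.H6.BiratOpen.Gen ↥V.left).Finite := by
  have : Mono b := mono_of_repWith_isOpenImmersion b hb
  have hinj := ofPt_injective_of_mono b
  refine (hYf.preimage (f := Points.ofPt b) hinj.injOn).subset ?_
  intro v hv
  exact (mem_gen_iff_of_isOpenImmersion Y hY b hb v).1 hv

end Groth.Agent.H52.Birat
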