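import Groth.Agent.H52.BiratG
import Groth.Prelude.Def_W4stk3decentspacesp2Birat
import Groth.Prelude.Def_AlgSp3

/-!
# Birational morphisms of decent spaces: local open immersions at generic points (II)
-/

set_option autoImplicit false
universe u
open CategoryTheory CategoryTheory.Limits AlgebraicGeometry TopologicalSpace

namespace Groth.Agent.H52.Birat
open AlgSp

variable {S : Scheme.{u}}

/-- Around a generic point `x` of `X`, a birational morphism `f : X ⟶ Y` of finite type to a reduced
space (or of finite presentation) is an open immersion on some open subscheme of `X` through `x`,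
which can be chosen with its images inside given open neighbourhoods of `x` and `f x`. -/
theorem exists_local_open {X Y : AlgSp.Space S} (f : X ⟶ Y) (hY : IsDecent Y.obj)
    (hYf : (genericPoints (Points Y.obj)).Finite)
    (hf : W4stk3decentspacesp2.IsBirational f.hom)
    (h : (LocP @LocallyOfFiniteType f.hom ∧ EtaleLocally (fun T => IsReduced T) Y.obj) ∨
      LocP @LocallyOfFinitePresentation f.hom)
    (x : Points X.obj) (hx : x ∈ genericPoints (Points X.obj))
    (OX : Set (Points X.obj)) (hOX : IsOpen OX) (hxO : x ∈ OX)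
    (OY : Set (Points Y.obj)) (hOY : IsOpen OY) (hyO : Points.map f.hom x ∈ OY) :
    ∃ (U : Over S) (a : (yon S).obj U ⟶ X.obj) (u : ↥U.left),
      RepWith @IsOpenImmersion a ∧ RepWith @IsOpenImmersion (a ≫ f.hom) ∧ Points.ofPt a u = x ∧
        Set.range (Points.ofPt a) ⊆ OX ∧ Set.range (Points.ofPt (a ≫ f.hom)) ⊆ OY := by
  obtain ⟨U, V, a, b, g, u, ha, hb, hcomm, hu, hiso⟩ := hf.stalkIso x hx
  have hae : RepWith @Etale a := repWith_etale_of_isOpenImmersion a ha
  have hbe : RepWith @Etale b := repWith_etale_of_isOpenImmersion b hb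
  -- the local open immersion
  have hloc : ∃ U₀ : U.left.Opens, u ∈ U₀ ∧ IsOpenImmersion (U₀.ι ≫ g.left) := by
    rcases h with ⟨h1, h2⟩ | h1
    · have : LocallyOfFiniteType g.left := h1 a b g hae hbe hcomm
      have hred : IsReduced V.left := H51.isReduced_of_isReducedSp h2 (EtOver.mk b hbe)
      have hgen : g.left u ∈ Groth.Agent.H6.BiratOpen.Gen ↥V.left := by
        rw [mem_gen_iff_of_isOpenImmersion Y hY b hb]
        have e : Points.ofPt b (g.left u) = Points.map f.hom x := by
          rw [← hu, Points.map_ofPt, hcomm, Groth.Agent.H53.ofPt_yon_map_comp]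
        rw [e]
        exact hf.bijOn.mapsTo hx
      have := Groth.Agent.H6.BiratOpen.isGermInjectiveAt_of_isReduced_of_mem_gen V.left
        (finite_gen_of_isOpenImmersion Y hY hYf b hb) hgen
      exact Groth.Agent.H6.BiratOpen.exists_isOpenImmersion_of_isIso_stalkMap_of_germInjective
        g.left u
    · have : LocallyOfFinitePresentation g.left := h1 a b g hae hbe hcomm
      exact Groth.Agent.H6.BiratOpen.exists_isOpenImmersion_of_isIso_stalkMap_of_lfp g.left u
  obtain ⟨U₀, huU₀, hU₀⟩ := hloc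
  let U₁ : U.left.Opens := U₀ ⊓ ⟨Points.ofPt a ⁻¹' OX, hOX.preimage (Points.continuous_ofPt a)⟩ ⊓
    ⟨Points.ofPt (a ≫ f.hom) ⁻¹' OY, hOY.preimage (Points.continuous_ofPt _)⟩
  have huU₁ : u ∈ U₁ := by
    refine ⟨⟨huU₀, ?_⟩, ?_⟩
    · change Points.ofPt a u ∈ OX
      rw [hu]; exact hxO
    · change Points.ofPt (a ≫ f.hom) u ∈ OY
      rw [← Points.map_ofPt, hu]; exact hyO
  let U' : Over S := Over.mk (U₁.ι ≫ U.hom)
  let j : U' ⟶ U := Over.homMk U₁.ι rfl
  have hj : RepWith @IsOpenImmersion ((yon S).map j) :=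
    (repWith_yon_map_iff _ _).2 (inferInstanceAs (IsOpenImmersion U₁.ι))
  have hle : U₁ ≤ U₀ := inf_le_left.trans inf_le_left
  have hjg : RepWith @IsOpenImmersion ((yon S).map (j ≫ g)) := by
    rw [repWith_yon_map_iff]
    change IsOpenImmersion (U₁.ι ≫ g.left)
    have e : U₁.ι ≫ g.left = U.left.homOfLE hle ≫ U₀.ι ≫ g.left := by
      rw [Scheme.homOfLE_ι_assoc]
    rw [e]
    infer_instance
  refine ⟨U', (yon S).map j ≫ a, ⟨u, huU₁⟩, (RepWith @IsOpenImmersion).comp_mem _ _ hj ha, ?_, ?_,
    ?_, ?_⟩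
  · rw [Category.assoc, hcomm, ← Category.assoc, ← Functor.map_comp]
    exact (RepWith @IsOpenImmersion).comp_mem _ _ hjg hb
  · rw [Groth.Agent.H53.ofPt_yon_map_comp]
    exact hu
  · rintro _ ⟨t, rfl⟩
    rw [Groth.Agent.H53.ofPt_yon_map_comp]
    exact t.2.1.2
  · rintro _ ⟨t, rfl⟩
    rw [Category.assoc, Groth.Agent.H53.ofPt_yon_map_comp]
    exact t.2.2

end Groth.Agent.H52.Birat
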