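import Groth.Agent.H52.BiratH

/-!
# Birational morphisms of decent spaces: a dense open subscheme on which `f` is an open immersion
-/

set_option autoImplicit false
universe u
open CategoryTheory CategoryTheory.Limits AlgebraicGeometry TopologicalSpace

namespace Groth.Agent.H52.Birat
open AlgSp Groth.Agent.H6.BiratOpen

variable {S : Scheme.{u}}

/-- Two of the pairwise "other complements" of generic points meet only if the points agree. -/
theorem eq_of_mem_otherCompl_of_mem_otherCompl {T : Type*} [TopologicalSpace T] [QuasiSober T]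
    {η η' z : T} (h : z ∈ otherCompl T η) (h' : z ∈ otherCompl T η') : η = η' := by
  obtain ⟨η₀, hη₀, hs⟩ := Groth.Agent.H20.exists_generic_specializes z
  have h1 : η₀ = η := eq_of_mem_otherCompl_of_mem_closure hη₀ h (specializes_iff_mem_closure.mp hs)
  have h2 : η₀ = η' := eq_of_mem_otherCompl_of_mem_closure hη₀ h' (specializes_iff_mem_closure.mp hs)
  exact h1.symm.trans h2

/-- **Core of S10435.**  A birational morphism of decent spaces with finitely many irreducible
components, of finite type to a reduced space or of finite presentation, restricts to an open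
immersion on an open subscheme of `X` containing all generic points. -/
theorem exists_open_subscheme_isOpenImmersion {X Y : AlgSp.Space S} (f : X ⟶ Y)
    (hX : IsDecent X.obj) (hY : IsDecent Y.obj)
    (hXf : (irreducibleComponents (Points X.obj)).Finite)
    (hYf : (irreducibleComponents (Points Y.obj)).Finite)
    (hf : W4stk3decentspacesp2.IsBirational f.hom)
    (h : (LocP @LocallyOfFiniteType f.hom ∧ EtaleLocally (fun T => IsReduced T) Y.obj) ∨
      LocP @LocallyOfFinitePresentation f.hom) :
    ∃ (W : Over S) (w : (yon S).obj W ⟶ X.obj), RepWith @IsOpenImmersion w ∧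
      RepWith @IsOpenImmersion (w ≫ f.hom) ∧ genericPoints (Points X.obj) ⊆ Set.range (Points.ofPt w) ∧
        genericPoints (Points Y.obj) ⊆ Set.range (Points.ofPt (w ≫ f.hom)) := by
  classical
  obtain ⟨A, pa, hpa, hpas⟩ := X.property.atlas
  obtain ⟨B, pb, hpb, hpbs⟩ := Y.property.atlas
  have : T0Space (Points X.obj) := t0Space_points_of_isDecent hX pa hpa hpas
  have : T0Space (Points Y.obj) := t0Space_points_of_isDecent hY pb hpb hpbs
  have : QuasiSober (Points X.obj) := SoberSp.quasiSober_points_of_isDecent X hX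
  have : QuasiSober (Points Y.obj) := SoberSp.quasiSober_points_of_isDecent Y hY
  have hGX : (genericPoints (Points X.obj)).Finite := genericPoints.finite hXf
  have hGY : (genericPoints (Points Y.obj)).Finite := genericPoints.finite hYf
  have := hGX.to_subtype
  obtain ⟨n, ⟨e⟩⟩ := Finite.exists_equiv_fin ↥(genericPoints (Points X.obj))
  let ι : Type u := ULift.{u} (Fin n)
  let xi : ι → Points X.obj := fun i => (e.symm i.down).1
  have hxi : ∀ i, xi i ∈ genericPoints (Points X.obj) := fun i => (e.symm i.down).2
  have hxi_inj : Function.Injective xi := by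
    intro i j hij
    exact ULift.down_injective (e.symm.injective (Subtype.ext hij))
  have hloc := fun i : ι => exists_local_open f hY hGY hf h (xi i) (hxi i)
    (otherCompl (Points X.obj) (xi i)) (isOpen_otherCompl hGX _) (mem_otherCompl (hxi i))
    (otherCompl (Points Y.obj) (Points.map f.hom (xi i))) (isOpen_otherCompl hGY _)
    (mem_otherCompl (hf.bijOn.mapsTo (hxi i)))
  choose U a u ha haf hu hrX hrY using hloc
  let d : Cofan U := Cofan.mk (∐ U) (Sigma.ι U)
  have hd : IsColimit d := coproductIsCoproduct U
  obtain ⟨hc⟩ := Groth.Agent.H49.nonempty_isColimit_yon_mapCocone hd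
  let c : Cocone (Discrete.functor U ⋙ yon S) := ⟨X.obj, Discrete.natTrans fun i => a i.as⟩
  let w : (yon S).obj d.pt ⟶ X.obj := hc.desc c
  have hw : ∀ i, (yon S).map (d.inj i) ≫ w = a i := fun i => hc.fac c ⟨i⟩
  have hwo : RepWith @IsOpenImmersion w := by
    refine repWith_isOpenImmersion_of_cofan hd w (X.property.representable_from_yon w)
      (fun i => by rw [hw i]; exact ha i) ?_
    intro i j y y' hyy'
    rw [hw i, hw j] at hyy'
    have h1 : Points.ofPt (a i) y ∈ otherCompl (Points X.obj) (xi i) := hrX i ⟨y, rfl⟩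
    have h2 : Points.ofPt (a i) y ∈ otherCompl (Points X.obj) (xi j) := by
      rw [hyy']; exact hrX j ⟨y', rfl⟩
    exact hxi_inj (eq_of_mem_otherCompl_of_mem_otherCompl h1 h2)
  have hwfo : RepWith @IsOpenImmersion (w ≫ f.hom) := by
    refine repWith_isOpenImmersion_of_cofan hd (w ≫ f.hom)
      (Y.property.representable_from_yon _)
      (fun i => by rw [← Category.assoc, hw i]; exact haf i) ?_
    intro i j y y' hyy'
    rw [← Category.assoc, ← Category.assoc, hw i, hw j] at hyy'
    have h1 : Points.ofPt (a i ≫ f.hom) y ∈ otherCompl (Points Y.obj) (Points.map f.hom (xi i)) :=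
      hrY i ⟨y, rfl⟩
    have h2 : Points.ofPt (a i ≫ f.hom) y ∈ otherCompl (Points Y.obj) (Points.map f.hom (xi j)) := by
      rw [hyy']; exact hrY j ⟨y', rfl⟩
    exact hxi_inj (hf.bijOn.injOn (hxi i) (hxi j) (eq_of_mem_otherCompl_of_mem_otherCompl h1 h2))
  have hsubX : genericPoints (Points X.obj) ⊆ Set.range (Points.ofPt w) := by
    intro x hx
    let i : ι := ⟨e ⟨x, hx⟩⟩
    have hi : xi i = x := by simp [xi, i]
    refine ⟨(d.inj i).left (u i), ?_⟩
    rw [← Groth.Agent.H53.ofPt_yon_map_comp, hw i, hu i, hi]
  refine ⟨d.pt, w, hwo, hwfo, hsubX, ?_⟩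
  intro y hy
  obtain ⟨x, hx, rfl⟩ := hf.bijOn.surjOn hy
  obtain ⟨p, rfl⟩ := hsubX hx
  exact ⟨p, (Points.map_ofPt w f.hom p).symm⟩

end Groth.Agent.H52.Birat
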