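import Groth.Agent.H52.BiratI
import Groth.Agent.H50.LimOpen

/-!
# Birational morphisms of decent spaces: the fibre over a generic point and sections
-/

set_option autoImplicit false
universe u
open CategoryTheory CategoryTheory.Limits AlgebraicGeometry TopologicalSpace Topology

namespace Groth.Agent.H52.Birat
open AlgSp Groth.Agent.H6.BiratOpen

variable {S : Scheme.{u}}

/-- An open immersion of sheaves is an open embedding on points. -/
theorem isOpenEmbedding_map_of_isOpenImmersion {F G : Sp S} (j : F ⟶ G)
    (hj : RepWith @IsOpenImmersion j) : IsOpenEmbedding (Points.map j) := by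
  have : Mono j := mono_of_repWith_isOpenImmersion j hj
  exact IsOpenEmbedding.of_continuous_injective_isOpenMap (Points.continuous_map j)
    (H51.injective_map_of_mono j) (H50.isOpenMap_points_map_of_isOpenImmersion j hj)

/-- For a birational morphism of decent spaces, the only point over a generic point of the target
is a generic point of the source. -/
theorem mem_genericPoints_of_map_mem {X Y : AlgSp.Space S} (f : X ⟶ Y)
    (hX : IsDecent X.obj) (hY : IsDecent Y.obj)
    (hf : W4stk3decentspacesp2.IsBirational f.hom) (x : Points X.obj)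
    (hx : Points.map f.hom x ∈ genericPoints (Points Y.obj)) : x ∈ genericPoints (Points X.obj) := by
  obtain ⟨B, pb, hpb, hpbs⟩ := Y.property.atlas
  have : T0Space (Points Y.obj) := t0Space_points_of_isDecent hY pb hpb hpbs
  have : QuasiSober (Points X.obj) := SoberSp.quasiSober_points_of_isDecent X hX
  obtain ⟨ξ, hξ, hs⟩ := Groth.Agent.H20.exists_generic_specializes x
  have hfs : Points.map f.hom ξ ⤳ Points.map f.hom x := hs.map (Points.continuous_map f.hom)
  have hfe : Points.map f.hom ξ = Points.map f.hom x :=
    Groth.Agent.H20.eq_of_specializes_of_mem_irreducibleComponents hx hfs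
  obtain ⟨U, V, a, b, g, u, ha, hb, hcomm, hu, hiso⟩ := hf.stalkIso ξ hξ
  have := eq_of_specializes_of_datum f hX a b g u ha hb hcomm hiso x (hu ▸ hs) (by rw [hu, hfe])
  rw [this, hu]
  exact hξ

/-- If the base change of `f` to an open subscheme `(V, b)` of `Y` has all its points in the image
of a section `s` of `f` over `V` which is an open immersion, then the base change is an
isomorphism. -/
theorem isIso_snd_of_section {X Y : Sp S} (f : X ⟶ Y) {V : Over S} (b : (yon S).obj V ⟶ Y)
    (hb : RepWith @IsOpenImmersion b) (s : (yon S).obj V ⟶ X) (hs : RepWith @IsOpenImmersion s)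
    (hsf : s ≫ f = b) {P : Sp S} (fst : P ⟶ X) (snd : P ⟶ (yon S).obj V)
    (sq : IsPullback fst snd f b)
    (hpts : ∀ p : Points P, Points.map fst p ∈ Set.range (Points.ofPt s)) : IsIso snd := by
  have hfst : RepWith @IsOpenImmersion fst := (RepWith @IsOpenImmersion).of_isPullback sq.flip hb
  have : Mono fst := mono_of_repWith_isOpenImmersion fst hfst
  let σ : (yon S).obj V ⟶ P := sq.lift s (𝟙 _) (by rw [hsf, Category.id_comp])
  have hσ1 : σ ≫ fst = s := sq.lift_fst _ _ _
  have hσ2 : σ ≫ snd = 𝟙 _ := sq.lift_snd _ _ _
  have hσo : RepWith @IsOpenImmersion σ := H51.repWith_of_comp_mono σ fst (by rw [hσ1]; exact hs)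
  have hσs : Function.Surjective (Points.map σ) := by
    intro p
    obtain ⟨t, ht⟩ := hpts p
    refine ⟨Points.ofScheme V t, H51.injective_map_of_mono fst ?_⟩
    rw [← Points.map_comp, hσ1, ← Points.ofPt_eq_map_ofScheme, ht]
  have := H51.isIso_of_isOpenImmersion_of_surjective σ hσo hσs
  have e : snd = inv σ := by
    rw [← cancel_epi σ, hσ2, IsIso.hom_inv_id]
  rw [e]
  infer_instance

end Groth.Agent.H52.Birat
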