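import Groth.Agent.H52.BiratJ
import Groth.Agent.H50.SchImageRed
import Groth.Agent.H50.LimEvSep
import Groth.Agent.H53.ZMT.SpLemmas

/-!
# Birational morphisms of decent spaces: the separated case of S10436
-/

set_option autoImplicit false
universe u
open CategoryTheory CategoryTheory.Limits AlgebraicGeometry TopologicalSpace Topology

namespace Groth.Agent.H52.Birat
open AlgSp Groth.Agent.H6.BiratOpen

variable {S : Scheme.{u}}

/-- Separated case: if `f` is separated and restricts to an open immersion on an open subscheme `W`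
of `X` containing all generic points, then `f⁻¹(f(W)) ⟶ f(W)` is an isomorphism. -/
theorem isIso_snd_of_isSeparatedMor {X Y : AlgSp.Space S} (f : X ⟶ Y)
    (hX : IsDecent X.obj) (hsep : IsSeparatedMor f.hom)
    {W : Over S} (w : (yon S).obj W ⟶ X.obj) (hw : RepWith @IsOpenImmersion w)
    (hwf : RepWith @IsOpenImmersion (w ≫ f.hom))
    (hsX : genericPoints (Points X.obj) ⊆ Set.range (Points.ofPt w))
    {P : Sp S} (fst : P ⟶ X.obj) (snd : P ⟶ (yon S).obj W)
    (sq : IsPullback fst snd f.hom (w ≫ f.hom)) : IsIso snd := by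
  have : QuasiSober (Points X.obj) := SoberSp.quasiSober_points_of_isDecent X hX
  refine isIso_snd_of_section f.hom (w ≫ f.hom) hwf w hw rfl fst snd sq ?_
  intro p
  have hfst : RepWith @IsOpenImmersion fst := (RepWith @IsOpenImmersion).of_isPullback sq.flip hwf
  have hemb := isOpenEmbedding_map_of_isOpenImmersion fst hfst
  let σ : (yon S).obj W ⟶ P := sq.lift w (𝟙 _) (by rw [Category.id_comp])
  have hσ1 : σ ≫ fst = w := sq.lift_fst _ _ _
  have hσ2 : σ ≫ snd = 𝟙 _ := sq.lift_snd _ _ _
  have hP : IsAlgSpace P :=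
    H49.isAlgSpace_of_isPullback sq Y.property.diag X.property (IsAlgSpace.yon_obj W)
  have hsnd : IsSeparatedMor snd := H53.ZMT.isSeparatedMor_of_isPullback sq hsep
  have hσc : RepWith @IsClosedImmersion σ :=
    H50.repWith_isClosedImmersion_of_comp_of_isSeparatedMor σ snd
      (by rw [hσ2]; exact repWith_id _ W) hsnd
  have hcl : IsClosed (Set.range (Points.map σ)) :=
    H50.isClosed_range_map_of_isClosedImmersion hP σ hσc
  obtain ⟨ξ, hξ, hs⟩ := Groth.Agent.H20.exists_generic_specializes (Points.map fst p)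
  obtain ⟨t, ht⟩ := hsX hξ
  let p₀ : Points P := Points.map σ (Points.ofScheme W t)
  have hp₀ : Points.map fst p₀ = ξ := by
    change Points.map fst (Points.map σ _) = ξ
    rw [← Points.map_comp, hσ1, ← Points.ofPt_eq_map_ofScheme, ht]
  have hsp : p₀ ⤳ p := by
    rw [← hemb.isInducing.specializes_iff, hp₀]
    exact hs
  have hmem : p ∈ Set.range (Points.map σ) :=
    hcl.closure_subset_iff.2 (Set.singleton_subset_iff.2 ⟨_, rfl⟩) hsp.mem_closure
  obtain ⟨q, rfl⟩ := hmem
  rw [← Points.map_comp, hσ1, ← H51.range_map_eq_range_ofPt]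
  exact ⟨q, rfl⟩

end Groth.Agent.H52.Birat
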