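import Groth.Agent.H52.BiratJ
import Groth.Agent.H6.BiratQC
import Groth.Agent.H50.QCMor
import Groth.Agent.H50.Points

/-!
# Birational morphisms of decent spaces: the quasi-compact case of S10436
-/

set_option autoImplicit false
universe u
open CategoryTheory CategoryTheory.Limits AlgebraicGeometry TopologicalSpace Topology

namespace Groth.Agent.H52.Birat
open AlgSp Groth.Agent.H6.BiratOpen

variable {S : Scheme.{u}}

/-- Quasi-compact case: a generic point of `Y` does not lie in the closure of the image of the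
complement of an open subscheme of `X` containing all generic points. -/
theorem not_mem_closure_image_of_isQuasiCompactMor {X Y : AlgSp.Space S} (f : X ⟶ Y)
    (hX : IsDecent X.obj) (hY : IsDecent Y.obj)
    (hf : W4stk3decentspacesp2.IsBirational f.hom) (hqc : IsQuasiCompactMor f.hom)
    {W : Over S} (w : (yon S).obj W ⟶ X.obj) (hw : RepWith @IsOpenImmersion w)
    (hwf : RepWith @IsOpenImmersion (w ≫ f.hom))
    (hsX : genericPoints (Points X.obj) ⊆ Set.range (Points.ofPt w))
    (t₀ : ↥W.left) (hη : Points.ofPt (w ≫ f.hom) t₀ ∈ genericPoints (Points Y.obj)) :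
    Points.ofPt (w ≫ f.hom) t₀ ∉
      closure (Points.map f.hom '' (Set.range (Points.ofPt w))ᶜ) := by
  intro hcl
  -- an affine open neighbourhood of `t₀`
  have hex : ∃ A : W.left.Opens, IsAffineOpen A ∧ t₀ ∈ A := by
    obtain ⟨_, ⟨A, hA, rfl⟩, ht₀A, -⟩ :=
      W.left.isBasis_affineOpens.exists_subset_of_mem_open (Set.mem_univ t₀) isOpen_univ
    exact ⟨A, hA, ht₀A⟩
  obtain ⟨A, hA', ht₀A⟩ := hex
  let W₀ : Over S := Over.mk (A.ι ≫ W.hom)
  let j₀ : W₀ ⟶ W := Over.homMk A.ι rfl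
  have : IsAffine W₀.left := hA'
  have hj₀ : RepWith @IsOpenImmersion ((yon S).map j₀) :=
    (repWith_yon_map_iff _ _).2 (inferInstanceAs (IsOpenImmersion A.ι))
  let b₀ : (yon S).obj W₀ ⟶ Y.obj := (yon S).map j₀ ≫ w ≫ f.hom
  have hb₀ : RepWith @IsOpenImmersion b₀ := (RepWith @IsOpenImmersion).comp_mem _ _ hj₀ hwf
  have hb₀e : RepWith @Etale b₀ := repWith_etale_of_isOpenImmersion b₀ hb₀
  let t₀' : ↥W₀.left := ⟨t₀, ht₀A⟩
  have ht₀' : Points.ofPt b₀ t₀' = Points.ofPt (w ≫ f.hom) t₀ :=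
    Groth.Agent.H53.ofPt_yon_map_comp j₀ (w ≫ f.hom) t₀'
  -- the base change, quasi-compact
  have sq₀ := IsPullback.of_hasPullback f.hom b₀
  have hP₀ : IsQuasiCompactSp (pullback f.hom b₀) :=
    hqc (IsAlgSpace.yon_obj W₀) (H50.isQuasiCompactSp_yon W₀) b₀ _ _ sq₀
  obtain ⟨Q, q, hq, hqs, hQc⟩ := hP₀
  have : CompactSpace ↥Q.left := hQc
  obtain ⟨ψ, hψ⟩ := (yon S).map_surjective (q ≫ pullback.snd f.hom b₀)
  have : QuasiCompact ψ.left := inferInstance
  let Zc : Set (Points X.obj) := (Set.range (Points.ofPt w))ᶜ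
  have hZc : IsClosed Zc :=
    (isOpenMap_ofPt_of_repWith_etale w
      (repWith_etale_of_isOpenImmersion w hw)).isOpen_range.isClosed_compl
  let a₀ : (yon S).obj Q ⟶ X.obj := q ≫ pullback.fst f.hom b₀
  let Z' : Set ↥Q.left := Points.ofPt a₀ ⁻¹' Zc
  have hZ' : IsClosed Z' := hZc.preimage (Points.continuous_ofPt a₀)
  -- compatibility
  have hcompat : ∀ z' : ↥Q.left, Points.ofPt b₀ (ψ.left z') = Points.map f.hom (Points.ofPt a₀ z') := by
    intro z'
    rw [← Groth.Agent.H53.ofPt_yon_map_comp, hψ, Points.map_ofPt, Category.assoc, Category.assoc,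
      sq₀.w]
  -- `t₀'` has no proper generizations
  have hgen : t₀' ∈ Gen ↥W₀.left := by
    rw [mem_gen_iff_of_isOpenImmersion Y hY b₀ hb₀, ht₀']
    exact hη
  have hnog : ∀ η' : ↥W₀.left, η' ⤳ t₀' → η' = t₀' := fun η' h =>
    Groth.Agent.H20.eq_of_specializes_of_mem_irreducibleComponents hgen h
  -- `t₀'` lies in the closure of the image of `Z'`
  have hsub : Points.ofPt b₀ ⁻¹' (Points.map f.hom '' Zc) ⊆ ψ.left '' Z' := by
    rintro t ⟨x, hx, hxt⟩
    obtain ⟨z, hz1, hz2⟩ := H50.points_exists_of_isPullback sq₀ x (Points.ofScheme W₀ t)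
      (by rw [hxt, Points.ofPt_eq_map_ofScheme])
    obtain ⟨z', rfl⟩ := ofPt_surjective_of_repWith_surjective q hqs z
    refine ⟨z', ?_, ?_⟩
    · change Points.ofPt a₀ z' ∈ Zc
      rw [← Points.map_ofPt, hz1]
      exact hx
    · apply (Points.schemeEquiv W₀).injective
      change Points.ofScheme W₀ (ψ.left z') = Points.ofScheme W₀ t
      rw [← hz2, Points.map_ofPt, ← hψ]
      have := Groth.Agent.H53.ofPt_yon_map_comp ψ (𝟙 _) z'
      rw [Category.comp_id] at this
      rw [this]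
  have hmem : t₀' ∈ closure (ψ.left '' Z') := by
    refine closure_mono hsub ?_
    rw [← (isOpenMap_ofPt_of_repWith_etale b₀ hb₀e).preimage_closure_eq_closure_preimage
      (Points.continuous_ofPt b₀), Set.mem_preimage, ht₀']
    exact hcl
  obtain ⟨z', hz'Z, hz'⟩ := Groth.Agent.H6.BiratQC.mem_image_of_mem_closure_image ψ.left hZ' hnog hmem
  -- the point of `Z` over `η`
  have hx : Points.map f.hom (Points.ofPt a₀ z') ∈ genericPoints (Points Y.obj) := by
    rw [← hcompat, hz', ht₀']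
    exact hη
  exact hz'Z (hsX (mem_genericPoints_of_map_mem f hX hY hf _ hx))

end Groth.Agent.H52.Birat
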