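import Mathlib.AlgebraicGeometry.Stalk
import Mathlib.AlgebraicGeometry.Morphisms.Preimmersion
import Mathlib.AlgebraicGeometry.Pullbacks

/-!
# Stalk isomorphisms are stable under base change

Let `g : U ⟶ V₁` be a morphism of schemes inducing an isomorphism of local rings at `u`, and let
`Q = U ×_{V₁} V'` for a morphism `e : V' ⟶ V₁`.  Then over every pair `(u, v')` with `g u = e v'`
there is exactly one point `q` of `Q`, and the projection `Q ⟶ V'` induces an isomorphism of local
rings at `q`.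
-/

set_option autoImplicit false
universe u
open CategoryTheory CategoryTheory.Limits AlgebraicGeometry TopologicalSpace

namespace Groth.Agent.H52.Birat

variable {Q U V' V₁ : Scheme.{u}} {e' : Q ⟶ U} {g' : Q ⟶ V'} {g : U ⟶ V₁} {e : V' ⟶ V₁}

/-- The ring map `O_{U,u} ⟶ O_{V',v'}` obtained by inverting `g` on local rings at `u`. -/
noncomputable def stalkTheta (g : U ⟶ V₁) (e : V' ⟶ V₁) (u : U) (v' : V') (hpt : e v' ⤳ g u)
    [IsIso (g.stalkMap u)] : U.presheaf.stalk u ⟶ V'.presheaf.stalk v' :=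
  inv (g.stalkMap u) ≫ V₁.presheaf.stalkSpecializes hpt ≫ e.stalkMap v'

lemma stalkTheta_comm (u : U) (v' : V') (hpt : e v' ⤳ g u) [IsIso (g.stalkMap u)] :
    (Spec.map (stalkTheta g e u v' hpt) ≫ U.fromSpecStalk u) ≫ g = V'.fromSpecStalk v' ≫ e := by
  rw [Category.assoc, ← Scheme.SpecMap_stalkMap_fromSpecStalk, ← Spec.map_comp_assoc, stalkTheta,
    IsIso.hom_inv_id_assoc, Spec.map_comp_assoc, Scheme.SpecMap_stalkSpecializes_fromSpecStalk,
    Scheme.SpecMap_stalkMap_fromSpecStalk]

/-- The section `Spec O_{V',v'} ⟶ Q` through the point over `(u, v')`. -/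
noncomputable def stalkSec (sq : IsPullback e' g' g e) (u : U) (v' : V') (hpt : e v' ⤳ g u)
    [IsIso (g.stalkMap u)] : Spec (V'.presheaf.stalk v') ⟶ Q :=
  sq.lift (Spec.map (stalkTheta g e u v' hpt) ≫ U.fromSpecStalk u) (V'.fromSpecStalk v')
    (stalkTheta_comm u v' hpt)

lemma stalkSec_fst (sq : IsPullback e' g' g e) (u : U) (v' : V') (hpt : e v' ⤳ g u)
    [IsIso (g.stalkMap u)] :
    stalkSec sq u v' hpt ≫ e' = Spec.map (stalkTheta g e u v' hpt) ≫ U.fromSpecStalk u :=
  sq.lift_fst _ _ _

lemma stalkSec_snd (sq : IsPullback e' g' g e) (u : U) (v' : V') (hpt : e v' ⤳ g u)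
    [IsIso (g.stalkMap u)] : stalkSec sq u v' hpt ≫ g' = V'.fromSpecStalk v' :=
  sq.lift_snd _ _ _

lemma specializes_of_isPullback (sq : IsPullback e' g' g e) (q : Q) : e (g' q) ⤳ g (e' q) := by
  have : e (g' q) = g (e' q) := by
    rw [← Scheme.Hom.comp_apply, ← Scheme.Hom.comp_apply, sq.w]
  exact (Inseparable.of_eq this).specializes

/-- The canonical morphism `Spec O_{Q,q} ⟶ Q` factors through the section. -/
lemma spec_map_stalkMap_comp_stalkSec (sq : IsPullback e' g' g e) (q : Q)
    [IsIso (g.stalkMap (e' q))] :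
    Spec.map (g'.stalkMap q) ≫ stalkSec sq (e' q) (g' q) (specializes_of_isPullback sq q) =
      Q.fromSpecStalk q := by
  apply sq.hom_ext
  · rw [Category.assoc, stalkSec_fst, ← Spec.map_comp_assoc,
      ← Scheme.SpecMap_stalkMap_fromSpecStalk]
    congr 2
    rw [stalkTheta, Category.assoc, Category.assoc, IsIso.inv_comp_eq,
      ← Scheme.Hom.stalkMap_comp, ← Scheme.Hom.stalkMap_comp,
      Scheme.Hom.stalkMap_congr_hom _ _ sq.w q]
    rfl
  · rw [Category.assoc, stalkSec_snd, Scheme.SpecMap_stalkMap_fromSpecStalk]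

/-- **Uniqueness**: over `(u, v')` there is at most one point of `Q`, namely the image of the
closed point under the section. -/
theorem eq_stalkSec_closedPoint (sq : IsPullback e' g' g e) (u : U) (v' : V') (hpt : e v' ⤳ g u)
    [IsIso (g.stalkMap u)] (q : Q) (hu : e' q = u) (hv : g' q = v') :
    stalkSec sq u v' hpt (IsLocalRing.closedPoint _) = q := by
  subst hu hv
  have h := spec_map_stalkMap_comp_stalkSec sq q
  have h2 := congrArg (fun φ : Spec (Q.presheaf.stalk q) ⟶ Q => φ (IsLocalRing.closedPoint _)) h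
  simp only [Scheme.Hom.comp_apply] at h2
  rw [Scheme.fromSpecStalk_closedPoint, Spec_closedPoint] at h2
  exact h2

theorem eq_of_isPullback_of_isIso_stalkMap (sq : IsPullback e' g' g e) (q q₂ : Q)
    [IsIso (g.stalkMap (e' q))] (hu : e' q₂ = e' q) (hv : g' q₂ = g' q) : q₂ = q := by
  rw [← eq_stalkSec_closedPoint sq (e' q) (g' q) (specializes_of_isPullback sq q) q rfl rfl,
    ← eq_stalkSec_closedPoint sq (e' q) (g' q) (specializes_of_isPullback sq q) q₂ hu hv]

/-- **Stalk isomorphisms are stable under base change.** -/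
theorem isIso_stalkMap_of_isPullback (sq : IsPullback e' g' g e) (q : Q)
    [IsIso (g.stalkMap (e' q))] : IsIso (g'.stalkMap q) := by
  set s := stalkSec sq (e' q) (g' q) (specializes_of_isPullback sq q) with hs
  have hts : Spec.map (g'.stalkMap q) ≫ s = Q.fromSpecStalk q :=
    spec_map_stalkMap_comp_stalkSec sq q
  have hq : s (IsLocalRing.closedPoint _) = q :=
    eq_stalkSec_closedPoint sq (e' q) (g' q) (specializes_of_isPullback sq q) q rfl rfl
  have hsp : s (IsLocalRing.closedPoint _) ⤳ q := (Inseparable.of_eq hq).specializes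
  let β : Q.presheaf.stalk q ⟶ V'.presheaf.stalk (g' q) :=
    Q.presheaf.stalkSpecializes hsp ≫ Scheme.stalkClosedPointTo s
  have hβ : Spec.map β ≫ Q.fromSpecStalk q = s := by
    rw [Spec.map_comp_assoc, Scheme.SpecMap_stalkSpecializes_fromSpecStalk,
      Scheme.Spec_stalkClosedPointTo_fromSpecStalk]
  have h1 : β ≫ g'.stalkMap q = 𝟙 _ := by
    apply Spec.map_injective
    rw [Spec.map_comp, Spec.map_id, ← cancel_mono (Q.fromSpecStalk q), Category.assoc, hβ, hts,
      Category.id_comp]
  have h2 : g'.stalkMap q ≫ β = 𝟙 _ := by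
    apply Spec.map_injective
    rw [Spec.map_comp, Spec.map_id, ← cancel_mono (V'.fromSpecStalk (g' q)), Category.assoc,
      Scheme.SpecMap_stalkMap_fromSpecStalk, ← Category.assoc, hβ, hs, stalkSec_snd,
      Category.id_comp]
  exact ⟨β, h2, h1⟩

end Groth.Agent.H52.Birat
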