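import Groth.Agent.H52.BiratM
import Groth.Agent.H52.BiratJ
import Groth.Agent.H53.ZMT.GeomFibreQF
import Groth.Agent.H50.EffCartierCompl

/-!
# Birational morphisms of decent spaces: base change to an étale chart, local analysis
-/

set_option autoImplicit false
universe u
open CategoryTheory CategoryTheory.Limits AlgebraicGeometry TopologicalSpace Topology

namespace Groth.Agent.H52.Birat
open AlgSp

variable {S : Scheme.{u}}

/-- Points of a fibre product `h_U ×_X P` over a pair of compatible points. -/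
theorem exists_pt_of_isPullback_left {X P : Sp S} {U Q : Over S} {e' : Q ⟶ U}
    {m : (yon S).obj Q ⟶ P} {a : (yon S).obj U ⟶ X} {fst : P ⟶ X}
    (sq : IsPullback ((yon S).map e') m a fst) (u : ↥U.left) (p : Points P)
    (h : Points.ofPt a u = Points.map fst p) :
    ∃ q : ↥Q.left, e'.left q = u ∧ Points.ofPt m q = p := by
  obtain ⟨z, hz1, hz2⟩ := H50.points_exists_of_isPullback sq (Points.ofScheme U u) p
    (by rw [← Points.ofPt_eq_map_ofScheme]; exact h)
  obtain ⟨q, rfl⟩ := (Points.schemeEquiv Q).surjective z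
  refine ⟨q, ?_, ?_⟩
  · apply (Points.schemeEquiv U).injective
    have := Points.map_yon_map_apply e' q
    exact this.symm.trans hz1
  · rw [Points.ofPt_eq_map_ofScheme]
    exact hz2

/-- **Local analysis of the base change of a birational morphism to a chart.**  Let `p` be a point
of `P = X ×_Y V` over a generic point of `X`.  Then `p` lies in an open subscheme `Q` of `P` such
that `Q ⟶ V` induces an isomorphism of local rings at the point over `p`; moreover `p` is the only
point of `P` with its images in `X` and `V`. -/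
theorem exists_chart_of_generic {X Y : AlgSp.Space S} (f : X ⟶ Y)
    (hf : W4stk3decentspacesp2.IsBirational f.hom) {V : Over S} (b : (yon S).obj V ⟶ Y.obj)
    {P : Sp S} (fst : P ⟶ X.obj) (snd : P ⟶ (yon S).obj V) (hP : IsPullback fst snd f.hom b)
    (p : Points P) (hp : Points.map fst p ∈ genericPoints (Points X.obj)) :
    ∃ (Q : Over S) (m : (yon S).obj Q ⟶ P) (γ : Q ⟶ V) (q : ↥Q.left),
      RepWith @IsOpenImmersion m ∧ m ≫ snd = (yon S).map γ ∧ Points.ofPt m q = p ∧
        IsIso (γ.left.stalkMap q) ∧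
          ∀ p' : Points P, Points.map fst p' = Points.map fst p →
            Points.map snd p' = Points.map snd p → p' = p := by
  obtain ⟨U, V₁, a, b₁, g, u, ha, hb₁, hcomm, hu, hiso⟩ := hf.stalkIso _ hp
  obtain ⟨W', k, sqW, -⟩ := H50.exists_opens_isPullback b₁ hb₁ V b
  obtain ⟨κ, rfl⟩ := (yon S).map_surjective k
  set ιW : Over.mk (W'.ι ≫ V.hom) ⟶ V := Over.homMk W'.ι rfl with hιW
  obtain ⟨Q, e', g'', sqQ, sqQl⟩ := H53.ZMT.exists_over_pullback g κ
  have sqQy : IsPullback ((yon S).map e') ((yon S).map g'') ((yon S).map g) ((yon S).map κ) :=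
    sqQ.map (yon S)
  have big := sqQy.paste_vert sqW
  rw [← hcomm] at big
  let m : (yon S).obj Q ⟶ P := hP.lift ((yon S).map e' ≫ a) ((yon S).map g'' ≫ (yon S).map ιW)
    (by rw [Category.assoc]; exact big.w)
  have hm1 : m ≫ fst = (yon S).map e' ≫ a := hP.lift_fst _ _ _
  have hm2 : m ≫ snd = (yon S).map g'' ≫ (yon S).map ιW := hP.lift_snd _ _ _
  have sqm : IsPullback ((yon S).map e') m a fst := by
    refine IsPullback.of_bot ?_ hm1.symm hP
    rw [hm2]
    exact big
  have hmo : RepWith @IsOpenImmersion m := (RepWith @IsOpenImmersion).of_isPullback sqm ha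
  obtain ⟨q, hq1, hq2⟩ := exists_pt_of_isPullback_left sqm u p hu
  subst hq1
  have hstalk : IsIso (g''.left.stalkMap q) := isIso_stalkMap_of_isPullback sqQl q
  refine ⟨Q, m, g'' ≫ ιW, q, hmo, by rw [hm2, Functor.map_comp], hq2, ?_, ?_⟩
  · change IsIso ((g''.left ≫ W'.ι).stalkMap q)
    rw [Scheme.Hom.stalkMap_comp]
    have h5 : IsIso (W'.ι.stalkMap (show ↥(W' : Scheme.{u}) from g''.left q)) := inferInstance
    exact IsIso.comp_isIso' h5 hstalk
  · intro p' h1 h2
    obtain ⟨q', hq'1, hq'2⟩ := exists_pt_of_isPullback_left sqm (e'.left q) p' (hu.trans h1.symm)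
    have hv : g''.left q' = g''.left q := by
      have h3 : Points.ofPt (m ≫ snd) q' = Points.ofPt (m ≫ snd) q := by
        rw [← Points.map_ofPt, ← Points.map_ofPt, hq'2, hq2, h2]
      rw [hm2, ← Functor.map_comp] at h3
      have e1 := Groth.Agent.H53.ofPt_yon_map_comp (g'' ≫ ιW) (𝟙 _) q'
      have e2 := Groth.Agent.H53.ofPt_yon_map_comp (g'' ≫ ιW) (𝟙 _) q
      rw [Category.comp_id] at e1 e2
      rw [e1, e2] at h3
      have h4 : (g'' ≫ ιW).left q' = (g'' ≫ ιW).left q := (Points.schemeEquiv V).injective h3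
      exact W'.ι.isOpenEmbedding.injective h4
    have := eq_of_isPullback_of_isIso_stalkMap sqQl q q' hq'1 hv
    rw [← hq'2, ← hq2, this]

end Groth.Agent.H52.Birat
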