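import Groth.Agent.H52.BiratN
import Groth.Agent.H52.Decent
import Groth.Agent.H53.ZMT.GenFinDense3

/-!
# Birational morphisms of decent spaces: base change to an étale affine chart (S10437)
-/

set_option autoImplicit false
universe u
open CategoryTheory CategoryTheory.Limits AlgebraicGeometry TopologicalSpace Topology

namespace Groth.Agent.H52.Birat
open AlgSp

variable {S : Scheme.{u}}

/-- In a quasi-sober `T0` space with finitely many generic points there are finitely many
irreducible components. -/
theorem finite_irreducibleComponents_of_finite_genericPoints {T : Type*} [TopologicalSpace T]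
    [QuasiSober T] [T0Space T] (h : (genericPoints T).Finite) :
    (irreducibleComponents T).Finite := by
  have := h.to_subtype
  have : Finite ↥(irreducibleComponents T) := Finite.of_equiv _ (genericPoints.equiv (α := T))
  exact Set.toFinite _

/-- Étale morphisms of decent spaces preserve and reflect generic points. -/
theorem mem_genericPoints_iff_of_etale {P X : AlgSp.Space S} (hX : IsDecent X.obj)
    (hP : IsDecent P.obj) (m : P ⟶ X) (hm : RepWith @Etale m.hom) (p : Points P.obj) :
    p ∈ genericPoints (Points P.obj) ↔ Points.map m.hom p ∈ genericPoints (Points X.obj) := by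
  have hme : IsEtaleMor m.hom := fun U φ hφ => (RepWith @Etale).comp_mem _ _ hφ hm
  have := GenericPts.generic_iff_of_isEtaleMor hX m hme hP p
  constructor
  · intro h
    obtain ⟨T, hT, hg⟩ := this.1 ⟨_, h, rfl⟩
    change closure {Points.map m.hom p} ∈ irreducibleComponents _
    rw [hg.def]; exact hT
  · intro h
    obtain ⟨T, hT, hg⟩ := this.2 ⟨_, h, rfl⟩
    change closure {p} ∈ irreducibleComponents _
    rw [hg.def]; exact hT

/-- The space of points of a decent algebraic space is `T0`. -/
theorem t0Space_points_of_space (X : AlgSp.Space S) (hX : IsDecent X.obj) :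
    T0Space (Points X.obj) := by
  obtain ⟨A, pa, hpa, hpas⟩ := X.property.atlas
  exact t0Space_points_of_isDecent hX pa hpa hpas

/-- **S10437.** -/
theorem base_change_etale_affine {X Y : AlgSp.Space S} (f : X ⟶ Y)
    (hX : IsDecent X.obj) (hY : IsDecent Y.obj)
    (hYf : (irreducibleComponents (Points Y.obj)).Finite)
    (hf : W4stk3decentspacesp2.IsBirational f.hom) {V : Over S} [IsAffine V.left]
    (b : (yon S).obj V ⟶ Y.obj) (hb : RepWith @Etale b) {P : Sp S} (fst : P ⟶ X.obj)
    (snd : P ⟶ (yon S).obj V) (hP : IsPullback fst snd f.hom b) :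
    IsDecent P ∧ (irreducibleComponents (Points P)).Finite ∧
      (irreducibleComponents (Points ((yon S).obj V))).Finite ∧
        W4stk3decentspacesp2.IsBirational snd := by
  have hfst : RepWith @Etale fst := (RepWith @Etale).of_isPullback hP.flip hb
  have hPd : IsDecent P := isDecent_of_representable fst hfst.rep hX
  have hPa : IsAlgSpace P :=
    H49.isAlgSpace_of_isPullback hP Y.property.diag X.property (IsAlgSpace.yon_obj V)
  have hVd : IsDecent ((yon S).obj V) := isDecent_yon_obj V
  let PS : AlgSp.Space S := ⟨P, hPa⟩
  let VS : AlgSp.Space S := ⟨(yon S).obj V, IsAlgSpace.yon_obj V⟩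
  let fstS : PS ⟶ X := ObjectProperty.homMk fst
  let bS : VS ⟶ Y := ObjectProperty.homMk b
  have : T0Space (Points P) := t0Space_points_of_space PS hPd
  have : T0Space (Points ((yon S).obj V)) := t0Space_points_of_space VS hVd
  have : T0Space (Points Y.obj) := t0Space_points_of_space Y hY
  have : QuasiSober (Points P) := SoberSp.quasiSober_points_of_isDecent PS hPd
  have : QuasiSober (Points ((yon S).obj V)) := SoberSp.quasiSober_points_of_isDecent VS hVd
  have hGP : ∀ p : Points P, p ∈ genericPoints (Points P) ↔
      Points.map fst p ∈ genericPoints (Points X.obj) :=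
    mem_genericPoints_iff_of_etale hX hPd fstS hfst
  have hGV : ∀ v : Points ((yon S).obj V), v ∈ genericPoints (Points ((yon S).obj V)) ↔
      Points.map b v ∈ genericPoints (Points Y.obj) :=
    mem_genericPoints_iff_of_etale hY hVd bS hb
  have hcommP : ∀ p : Points P,
      Points.map b (Points.map snd p) = Points.map f.hom (Points.map fst p) := fun p => by
    rw [← Points.map_comp, ← Points.map_comp, hP.w]
  -- the bijection on generic points
  have hbij : Set.BijOn (Points.map snd) (genericPoints (Points P))
      (genericPoints (Points ((yon S).obj V))) := by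
    refine ⟨?_, ?_, ?_⟩
    · intro p hp
      rw [hGV, hcommP]
      exact hf.bijOn.mapsTo ((hGP p).1 hp)
    · intro p hp p' hp' hpp'
      have h1 : Points.map fst p' = Points.map fst p := by
        refine hf.bijOn.injOn ((hGP p').1 hp') ((hGP p).1 hp) ?_
        rw [← hcommP, ← hcommP, hpp']
      obtain ⟨Q, m, γ, q, -, -, -, -, huniq⟩ :=
        exists_chart_of_generic f hf b fst snd hP p ((hGP p).1 hp)
      exact (huniq p' h1 hpp'.symm).symm
    · intro v hv
      obtain ⟨ξ, hξ, hξv⟩ := hf.bijOn.surjOn ((hGV v).1 hv)
      obtain ⟨p, hp1, hp2⟩ := H50.points_exists_of_isPullback hP ξ v hξv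
      exact ⟨p, (hGP p).2 (hp1 ▸ hξ), hp2⟩
  -- finiteness
  have hGY : (genericPoints (Points Y.obj)).Finite := genericPoints.finite hYf
  have hGVfin : (genericPoints (Points ((yon S).obj V))).Finite := by
    have hpre : (Points.map b ⁻¹' genericPoints (Points Y.obj)).Finite := by
      refine Set.Finite.preimage' hGY fun y _ => ?_
      have h1 := H53.ZMT.finite_ofPt_preimage_of_isDecent hY b hb y
      refine Set.Finite.of_preimage (f := Points.schemeEquiv V) ?_ (Points.schemeEquiv V).surjective
      convert h1 using 1
      ext t
      simp only [Set.mem_preimage, Set.mem_singleton_iff]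
      rw [Points.ofPt_eq_map_ofScheme]
      rfl
    exact hpre.subset fun v hv => (hGV v).1 hv
  have hGPfin : (genericPoints (Points P)).Finite := (hbij.finite_iff_finite).2 hGVfin
  refine ⟨hPd, finite_irreducibleComponents_of_finite_genericPoints hGPfin,
    finite_irreducibleComponents_of_finite_genericPoints hGVfin, hbij, ?_⟩
  intro p hp
  obtain ⟨Q, m, γ, q, hm, hcomm, hq, hiso, -⟩ :=
    exists_chart_of_generic f hf b fst snd hP p ((hGP p).1 hp)
  exact ⟨Q, V, m, 𝟙 _, γ, q, hm, repWith_id _ V, by rw [hcomm, Category.comp_id], hq, hiso⟩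

end Groth.Agent.H52.Birat
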