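import Groth.Agent.H22.BirNormal
import Groth.Agent.H25.PtIntCount
import Groth.Agent.H6.BiratOpen

set_option autoImplicit false
universe u
open CategoryTheory CategoryTheory.Limits AlgebraicGeometry TopologicalSpace Topology

namespace Groth.Agent.H52.Birat
open Groth.Agent.H6.BiratOpen

/-- An open subscheme of a reduced scheme contained in the closure of one of its points is
integral. -/
theorem isIntegral_opens_of_subset_closure {X : Scheme.{u}} [IsReduced X] (U : X.Opens) (ξ : X)
    (hξ : ξ ∈ U) (hU : (U : Set X) ⊆ closure {ξ}) : IsIntegral U.toScheme := by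
  have hirr : IsIrreducible (U : Set X) :=
    ⟨⟨ξ, hξ⟩, (isIrreducible_singleton (x := ξ)).closure.isPreirreducible.open_subset U.2 hU⟩
  have : IrreducibleSpace U.toScheme := Subtype.irreducibleSpace hirr
  exact isIntegral_of_irreducibleSpace_of_isReduced _

/-- The generic point of such an open subscheme. -/
theorem genericPoint_opens_eq {X : Scheme.{u}} (U : X.Opens) [IsIntegral U.toScheme] (ξ : X)
    (hξ : ξ ∈ U) (hU : (U : Set X) ⊆ closure {ξ}) :
    genericPoint U.toScheme = ⟨ξ, hξ⟩ := by
  refine (genericPoint_spec U.toScheme).eq ?_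
  change closure {(⟨ξ, hξ⟩ : U)} = Set.univ
  rw [Set.eq_univ_iff_forall]
  intro x
  rw [closure_subtype, Set.image_singleton]
  exact hU x.2

/-- A scheme all of whose stalks are domains is reduced. -/
theorem isReduced_of_isDomain_stalk {V : Scheme.{u}}
    (h : ∀ v : V, IsDomain (V.presheaf.stalk v)) : IsReduced V := by
  have : ∀ v : V, _root_.IsReduced (V.presheaf.stalk v) := fun v => by
    have := h v
    infer_instance
  exact isReduced_of_isReduced_stalk V

/-- A point with domain stalk lies in `otherCompl` of any generic point specializing to it. -/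
theorem mem_otherCompl_of_isDomain_stalk {V : Scheme.{u}} (v : V) [IsDomain (V.presheaf.stalk v)]
    {η : V} (hη : η ∈ Gen V) (hs : η ⤳ v) : v ∈ otherCompl V η := by
  simp only [otherCompl, Set.mem_compl_iff, Set.mem_iUnion, not_exists]
  rintro η' ⟨hη', hne⟩ hmem
  have h := H25.PtIntCount.eq_of_mem_of_isDomain_stalk V v ⟨_, hη'⟩ ⟨_, hη⟩ hmem
    (specializes_iff_mem_closure.mp hs)
  have h' : closure {η'} = closure {η} := congrArg Subtype.val h
  have h1 : η' ⤳ η := specializes_iff_closure_subset.mpr h'.ge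
  have h2 : η ⤳ η' := specializes_iff_closure_subset.mpr h'.le
  exact hne (h1.antisymm h2).eq

/-- Local step: over an affine open `U ⊆ otherCompl V η` the restriction of an integral
birational morphism to a normal target is an isomorphism on global sections. -/
theorem isIso_appTop_restrict {W V : Scheme.{u}} (i : W ⟶ V) [IsIntegralHom i]
    (hVn : ∀ v : V, IsDomain (V.presheaf.stalk v) ∧ IsIntegrallyClosed (V.presheaf.stalk v))
    [IsReduced W]
    (hbij : Set.BijOn i (genericPoints W) (genericPoints V))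
    (hiso : ∀ w ∈ genericPoints W, IsIso (i.stalkMap w))
    (U : V.Opens) (hU : IsAffineOpen U) (η : V) (hη : η ∈ genericPoints V) (hηU : η ∈ U)
    (hUη : (U : Set V) ⊆ otherCompl V η) : IsIso (i ∣_ U).appTop := by
  have hVr : IsReduced V := isReduced_of_isDomain_stalk fun v => (hVn v).1
  obtain ⟨ξ, hξ, hξη⟩ := hbij.surjOn hη
  have hξU : ξ ∈ i ⁻¹ᵁ U := by change i ξ ∈ U; rw [hξη]; exact hηU
  have hUcl : (U : Set V) ⊆ closure {η} := hUη.trans (otherCompl_subset_closure η)
  have hWcl : ((i ⁻¹ᵁ U : W.Opens) : Set W) ⊆ closure {ξ} := by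
    intro w hw
    obtain ⟨ξ', hξ', hs⟩ := Groth.Agent.H20.exists_generic_specializes w
    have h1 : i ξ' ⤳ i w := hs.map i.continuous
    have h2 : i ξ' = η := eq_of_mem_otherCompl_of_mem_closure (hbij.mapsTo hξ') (hUη hw)
      (specializes_iff_mem_closure.mp h1)
    have h3 : ξ' = ξ := hbij.injOn hξ' hξ (h2.trans hξη.symm)
    exact h3 ▸ specializes_iff_mem_closure.mp hs
  have hIU : IsIntegral U.toScheme := isIntegral_opens_of_subset_closure U η hηU hUcl
  have hIW : IsIntegral (i ⁻¹ᵁ U).toScheme := isIntegral_opens_of_subset_closure _ ξ hξU hWcl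
  have hgU : genericPoint U.toScheme = ⟨η, hηU⟩ := genericPoint_opens_eq U η hηU hUcl
  have hgW : genericPoint (i ⁻¹ᵁ U).toScheme = ⟨ξ, hξU⟩ := genericPoint_opens_eq _ ξ hξU hWcl
  have hUn : ∀ y : U.toScheme, IsIntegrallyClosed (U.toScheme.presheaf.stalk y) := fun y => by
    have := (hVn y.1).2
    exact IsIntegrallyClosed.of_equiv (U.stalkIso y).commRingCatIsoToRingEquiv.symm
  have hAff : IsAffine U.toScheme := hU
  have hξ' : (i ∣_ U) (genericPoint (i ⁻¹ᵁ U).toScheme) = genericPoint U.toScheme := by
    rw [hgW, hgU]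
    apply Subtype.ext
    rw [morphismRestrict_base_coe]
    exact hξη
  have hb : Function.Bijective ((i ∣_ U).stalkMap (genericPoint (i ⁻¹ᵁ U).toScheme)) := by
    rw [hgW]
    have h1 : IsIso (i.stalkMap ξ) := hiso ξ hξ
    have h2 : IsIso ((i ∣_ U).stalkMap ⟨ξ, hξU⟩) :=
      ((MorphismProperty.isomorphisms CommRingCat).arrow_mk_iso_iff
        (morphismRestrictStalkMap i U ⟨ξ, hξU⟩)).2 h1
    exact (ConcreteCategory.isIso_iff_bijective _).1 h2
  have := H22.BirNormal.bijective_app_of_birational hUn (i ∣_ U) hξ' hb ⊤ (isAffineOpen_top _)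
  exact (ConcreteCategory.isIso_iff_bijective _).2 this

end Groth.Agent.H52.Birat
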