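import Groth.Agent.H52.BiratP

set_option autoImplicit false
universe u
open CategoryTheory CategoryTheory.Limits AlgebraicGeometry TopologicalSpace Topology

namespace Groth.Agent.H52.Birat
open Groth.Agent.H6.BiratOpen

/-- **Scheme-level core of S10438**: an integral birational morphism from a reduced scheme to a
normal scheme with finitely many irreducible components is an isomorphism. -/
theorem isIso_of_isIntegralHom_of_bijOn {W V : Scheme.{u}} (i : W ⟶ V) [IsIntegralHom i]
    (hVn : ∀ v : V, IsDomain (V.presheaf.stalk v) ∧ IsIntegrallyClosed (V.presheaf.stalk v))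
    (hVf : (genericPoints V).Finite) [IsReduced W]
    (hbij : Set.BijOn i (genericPoints W) (genericPoints V))
    (hiso : ∀ w ∈ genericPoints W, IsIso (i.stalkMap w)) : IsIso i := by
  have key : ∀ v : V, ∃ U : V.affineOpens, v ∈ U.1 ∧ ∃ η ∈ genericPoints V, η ∈ U.1 ∧
      (U.1 : Set V) ⊆ otherCompl V η := by
    intro v
    obtain ⟨η, hη, hs⟩ := Groth.Agent.H20.exists_generic_specializes v
    have := (hVn v).1
    have hv : v ∈ otherCompl V η := mem_otherCompl_of_isDomain_stalk v hη hs
    let O : V.Opens := ⟨otherCompl V η, isOpen_otherCompl hVf η⟩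
    have hvO : v ∈ O := hv
    obtain ⟨U, hU, hvU, hUO⟩ := Opens.isBasis_iff_nbhd.mp V.isBasis_affineOpens hvO
    exact ⟨⟨U, hU⟩, hvU, η, hη, hs.mem_open U.2 hvU, hUO⟩
  choose U hvU η hη hηU hUη using key
  have hcov : ⨆ v, (U v : V.Opens) = ⊤ := by
    rw [eq_top_iff]
    intro v _
    exact Opens.mem_iSup.mpr ⟨v, hvU v⟩
  change MorphismProperty.isomorphisms Scheme i
  rw [HasAffineProperty.iff_of_iSup_eq_top (P := MorphismProperty.isomorphisms Scheme) U hcov]
  intro v
  exact ⟨(U v).2.preimage i,
    isIso_appTop_restrict i hVn hbij hiso (U v).1 (U v).2 (η v) (hη v) (hηU v) (hUη v)⟩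

end Groth.Agent.H52.Birat
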