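import Groth.Agent.H52.BiratQ
import Groth.Agent.H52.BiratO
import Groth.Agent.H20.EtaleNormal
import Groth.Agent.H51.SpEtReduced
import Groth.Agent.H53.Charts

set_option autoImplicit false
universe u
open CategoryTheory CategoryTheory.Limits AlgebraicGeometry TopologicalSpace Topology

namespace Groth.Agent.H52.Birat
open AlgSp

variable {S : Scheme.{u}}

/-- The image of an irreducible component under a homeomorphism is an irreducible component. -/
theorem image_mem_irreducibleComponents_of_homeomorph {A B : Type*} [TopologicalSpace A]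
    [TopologicalSpace B] (e : A ≃ₜ B) {Z : Set A} (hZ : Z ∈ irreducibleComponents A) :
    e '' Z ∈ irreducibleComponents B := by
  refine ⟨hZ.1.image e e.continuous.continuousOn, ?_⟩
  intro T hT hle
  have h1 : IsIrreducible (e.symm '' T) := hT.image e.symm e.symm.continuous.continuousOn
  have h2 : Z ≤ e.symm '' T := by
    intro z hz
    exact ⟨e z, hle ⟨z, hz, rfl⟩, e.symm_apply_apply z⟩
  have h3 := hZ.2 h1 h2
  rintro t ht
  have hz : e.symm t ∈ Z := h3 ⟨t, ht, rfl⟩
  exact ⟨e.symm t, hz, e.apply_symm_apply t⟩

/-- Homeomorphisms preserve generic points. -/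
theorem mem_genericPoints_of_homeomorph {A B : Type*} [TopologicalSpace A]
    [TopologicalSpace B] (e : A ≃ₜ B) {a : A} (ha : a ∈ genericPoints A) :
    e a ∈ genericPoints B := by
  change closure {e a} ∈ irreducibleComponents B
  have := image_mem_irreducibleComponents_of_homeomorph e ha
  rwa [e.image_closure, Set.image_singleton] at this

theorem mem_genericPoints_iff_of_homeomorph {A B : Type*} [TopologicalSpace A]
    [TopologicalSpace B] (e : A ≃ₜ B) (a : A) :
    e a ∈ genericPoints B ↔ a ∈ genericPoints A := by
  refine ⟨fun h => ?_, mem_genericPoints_of_homeomorph e⟩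
  have := mem_genericPoints_of_homeomorph e.symm h
  rwa [e.symm_apply_apply] at this

/-- Birationality of `h_i` in scheme terms. -/
theorem bijOn_left_of_isBirational_yon {W V : Over S} (i : W ⟶ V)
    (hbir : W4stk3decentspacesp2.IsBirational ((yon S).map i)) :
    Set.BijOn i.left (genericPoints W.left) (genericPoints V.left) ∧
      ∀ w ∈ genericPoints W.left, IsIso (i.left.stalkMap w) := by
  have hmap : ∀ w : W.left, Points.map ((yon S).map i) (Points.schemeHomeo W w) =
      Points.schemeHomeo V (i.left w) := Points.map_yon_map_apply i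
  refine ⟨⟨?_, ?_, ?_⟩, ?_⟩
  · intro w hw
    have h1 := hbir.bijOn.mapsTo (mem_genericPoints_of_homeomorph (Points.schemeHomeo W) hw)
    rw [hmap] at h1
    exact (mem_genericPoints_iff_of_homeomorph _ _).1 h1
  · intro w hw w' hw' h
    have := hbir.bijOn.injOn (mem_genericPoints_of_homeomorph (Points.schemeHomeo W) hw)
      (mem_genericPoints_of_homeomorph (Points.schemeHomeo W) hw') (by rw [hmap, hmap, h])
    exact (Points.schemeHomeo W).injective this
  · intro v hv
    obtain ⟨p, hp, hpv⟩ := hbir.bijOn.surjOn
      (mem_genericPoints_of_homeomorph (Points.schemeHomeo V) hv)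
    obtain ⟨w, rfl⟩ := (Points.schemeHomeo W).surjective p
    rw [hmap] at hpv
    exact ⟨w, (mem_genericPoints_iff_of_homeomorph _ _).1 hp, (Points.schemeHomeo V).injective hpv⟩
  · intro w hw
    obtain ⟨U', V', a', b', g, u, ha', hb', hcomm, hu, hiso⟩ := hbir.stalkIso _
      (mem_genericPoints_of_homeomorph (Points.schemeHomeo W) hw)
    obtain ⟨α, rfl⟩ := (yon S).map_surjective a'
    obtain ⟨β, rfl⟩ := (yon S).map_surjective b'
    have hα : IsOpenImmersion α.left := (repWith_yon_map_iff _ _).1 ha'
    have hβ : IsOpenImmersion β.left := (repWith_yon_map_iff _ _).1 hb'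
    have hc : α ≫ i = g ≫ β := (yon S).map_injective (by simpa using hcomm)
    have hcl : α.left ≫ i.left = g.left ≫ β.left := by
      rw [← Over.comp_left, ← Over.comp_left, hc]
    have huw : α.left u = w := by
      apply (Points.schemeHomeo W).injective
      rw [← hu, Points.ofPt_eq_map_ofScheme]
      exact (Points.map_yon_map_apply α u).symm
    subst huw
    have e1 : (α.left ≫ i.left).stalkMap u = i.left.stalkMap (α.left u) ≫ α.left.stalkMap u :=
      Scheme.Hom.stalkMap_comp _ _ _
    have e2 : (g.left ≫ β.left).stalkMap u = β.left.stalkMap (g.left u) ≫ g.left.stalkMap u :=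
      Scheme.Hom.stalkMap_comp _ _ _
    have i1 : IsIso (β.left.stalkMap (g.left u)) := inferInstance
    have i2 : IsIso (α.left.stalkMap u) := inferInstance
    have h3 : IsIso ((g.left ≫ β.left).stalkMap u) := by rw [e2]; exact IsIso.comp_isIso' i1 hiso
    have h4 : IsIso ((α.left ≫ i.left).stalkMap u) := by
      have := Scheme.Hom.stalkMap_congr_hom _ _ hcl u
      rw [this]
      exact IsIso.comp_isIso' inferInstance h3
    rw [e1] at h4
    exact @IsIso.of_isIso_comp_right _ _ _ _ _ (i.left.stalkMap (α.left u)) (α.left.stalkMap u) i2 h4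

end Groth.Agent.H52.Birat

namespace Groth.Agent.H52.Birat
open AlgSp

variable {S : Scheme.{u}}

/-- Normality of stalks is independent of the étale chart. -/
theorem normal_stalk_of_etaleLocally {Y : Sp S}
    (hYn : EtaleLocally (fun T => ∀ t : ↥T, IsDomain ↥(T.presheaf.stalk t) ∧
      IsIntegrallyClosed ↥(T.presheaf.stalk t)) Y)
    {V : Over S} (b : (yon S).obj V ⟶ Y) (hb : RepWith @Etale b) (v : ↥V.left) :
    IsDomain ↥(V.left.presheaf.stalk v) ∧ IsIntegrallyClosed ↥(V.left.presheaf.stalk v) := by
  obtain ⟨U, a, hae, has, hP⟩ := hYn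
  obtain ⟨R, p, q, sq⟩ := H53.exists_pullback_yon a b hb.rep
  have hp : Etale p.left := H53.prop_of_isPullback_yon sq hb
  have hq : Etale q.left := H53.prop_of_isPullback_yon sq.flip hae
  have hqs : Surjective q.left := H53.prop_of_isPullback_yon sq.flip has
  obtain ⟨r, rfl⟩ := hqs.surj v
  have h1 := (H20.isDomain_and_isIntegrallyClosed_stalk_iff_of_etale p.left r).2 (hP _)
  exact (H20.isDomain_and_isIntegrallyClosed_stalk_iff_of_etale q.left r).1 h1

/-- **Chart-level core of S10438.** -/
theorem isIso_left_of_chart {X Y : AlgSp.Space S} (f : X ⟶ Y)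
    (hX : IsDecent X.obj) (hY : IsDecent Y.obj)
    (hYf : (irreducibleComponents (Points Y.obj)).Finite)
    (hf : W4stk3decentspacesp2.IsBirational f.hom)
    (hYn : EtaleLocally (fun T => ∀ t : ↥T, IsDomain ↥(T.presheaf.stalk t) ∧
      IsIntegrallyClosed ↥(T.presheaf.stalk t)) Y.obj)
    (hXr : EtaleLocally (fun T => IsReduced T) X.obj)
    {V : Over S} [IsAffine V.left] (b : (yon S).obj V ⟶ Y.obj) (hb : RepWith @Etale b)
    {W : Over S} (i : W ⟶ V) (fst : (yon S).obj W ⟶ X.obj)
    (sq : IsPullback fst ((yon S).map i) f.hom b) [IsIntegralHom i.left] : IsIso i.left := by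
  obtain ⟨-, -, hVf, hbir⟩ := base_change_etale_affine f hX hY hYf hf b hb fst _ sq
  obtain ⟨hbij, hiso⟩ := bijOn_left_of_isBirational_yon i hbir
  have hfst : RepWith @Etale fst := (RepWith @Etale).of_isPullback sq.flip hb
  have hWr : IsReduced W.left := H51.isReduced_of_isReducedSp hXr (EtOver.mk fst hfst)
  have hVd : IsDecent ((yon S).obj V) := isDecent_yon_obj V
  let VS : AlgSp.Space S := ⟨(yon S).obj V, IsAlgSpace.yon_obj V⟩
  have : T0Space (Points ((yon S).obj V)) := t0Space_points_of_space VS hVd
  have hG : (genericPoints (Points ((yon S).obj V))).Finite := genericPoints.finite hVf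
  have hVfin : (genericPoints V.left).Finite := by
    refine (hG.preimage (f := Points.schemeHomeo V)
      (Set.injOn_of_injective (Points.schemeHomeo V).injective)).subset ?_
    intro v hv
    exact mem_genericPoints_of_homeomorph (Points.schemeHomeo V) hv
  exact isIso_of_isIntegralHom_of_bijOn i.left
    (fun v => normal_stalk_of_etaleLocally hYn b hb v) hVfin hbij hiso

end Groth.Agent.H52.Birat
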