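import Groth.Agent.S7577
import Groth.Prelude.Def_W4stk3decentspacesp2Birat
import Groth.Prelude.Def_Found

set_option autoImplicit false
universe u v w
open CategoryTheory Topology TopologicalSpace

namespace Groth.Agent.H52.CatenTop

/-- The two notions of catenary topological space of the prelude: the codimension form implies the
chain form. -/
theorem isCatenarySpace_of_ptTop {X : Type u} [TopologicalSpace X] (h : PtTop.IsCatenarySpace X) :
    W4stk3decentspacesp2.IsCatenarySpace X := by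
  intro T T' hTT'
  obtain ⟨h1, h2⟩ := h T T' hTT'
  obtain ⟨n, hn⟩ := ENat.ne_top_iff_exists.1 h1
  have hle : ∀ p : LTSeries (IrreducibleCloseds X), p.head = T → p.last = T' →
      (p.length : ℕ∞) ≤ PtTop.codim T (T' : Set X) := by
    intro p hp1 hp2
    unfold PtTop.codim
    exact le_iSup₂ (f := fun (s : LTSeries (IrreducibleCloseds X))
      (_ : s.head = T ∧ (s.last : Set X) ⊆ (T' : Set X)) => (s.length : ℕ∞)) p
      ⟨hp1, by rw [hp2]⟩
  refine ⟨⟨n, fun p hp1 hp2 => ?_⟩, fun p q hp1 hp2 hq1 hq2 hps hqs => ?_⟩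
  · have := hle p hp1 hp2
    rw [← hn] at this
    exact_mod_cast this
  · have e1 := h2 p hp1 hp2 hps
    have e2 := h2 q hq1 hq2 hqs
    have : (p.length : ℕ∞) = (q.length : ℕ∞) := e1.trans e2.symm
    exact_mod_cast this

theorem isCatenary_of_isUniversallyCatenary {R : Type u} [CommRing R]
    (h : CAlg.IsUniversallyCatenary R) : CAlg.IsCatenary R :=
  h.2 R inferInstance

theorem isUniversallyCatenary_of_ringEquiv {R R' : Type u} [CommRing R] [CommRing R']
    (e : R ≃+* R') (h : CAlg.IsUniversallyCatenary R) : CAlg.IsUniversallyCatenary R' := by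
  obtain ⟨hN, hC⟩ := h
  refine ⟨isNoetherianRing_of_ringEquiv R e, ?_⟩
  intro A _ _ hA
  let algRR' : Algebra R R' := e.toRingHom.toAlgebra
  let algRA : Algebra R A := ((algebraMap R' A).comp e.toRingHom).toAlgebra
  have : IsScalarTower R R' A := IsScalarTower.of_algebraMap_eq fun x => rfl
  refine hC A ?_
  have : Algebra.FiniteType R R' :=
    Algebra.FiniteType.of_surjective (Algebra.ofId R R') e.surjective
  exact Algebra.FiniteType.trans this hA

/-- A space receiving a generalizing map with open range from a space carrying a dimension function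
constant on the fibres has a catenary open subspace (the range). -/
theorem isCatenarySpace_range {Xp : Type v} {U' : Type w} [TopologicalSpace Xp] [QuasiSober Xp] [T0Space Xp]
    [TopologicalSpace U'] (π : U' → Xp) (hc : Continuous π) (ho : IsOpen (Set.range π))
    (hg : GeneralizingMap π) (δ' : U' → ℤ)
    (hδ : ∀ x y : U', x ⤳ y → x ≠ y →
      δ' y < δ' x ∧ ((∀ z : U', x ⤳ z → z ⤳ y → z = x ∨ z = y) → δ' x = δ' y + 1))
    (hfib : ∀ u u' : U', π u = π u' → δ' u = δ' u') :
    PtTop.IsCatenarySpace ↥(⟨Set.range π, ho⟩ : Opens Xp) := by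
  set V : Opens Xp := ⟨Set.range π, ho⟩ with hV
  have : QuasiSober ↥V := V.isOpenEmbedding'.quasiSober
  let δV : ↥V → ℤ := fun v => δ' (Classical.choose v.2)
  have hδV : ∀ (v : ↥V) (u : U'), π u = v.1 → δV v = δ' u := fun v u hu =>
    hfib _ _ ((Classical.choose_spec v.2).trans hu.symm)
  have hsp : ∀ x y : ↥V, x ⤳ y ↔ x.1 ⤳ y.1 := fun x y =>
    (Topology.IsInducing.subtypeVal.specializes_iff).symm
  have key : ∀ x y : ↥V, x ⤳ y → x ≠ y → ∃ ux uy : U', π ux = x.1 ∧ π uy = y.1 ∧ ux ⤳ uy ∧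
      ux ≠ uy := by
    intro x y hxy hne
    obtain ⟨uy, huy⟩ := y.2
    have h1 : x.1 ⤳ π uy := by rw [huy]; exact (hsp x y).1 hxy
    obtain ⟨ux, hux, hux'⟩ := hg h1
    refine ⟨ux, uy, hux', huy, hux, fun e => hne (Subtype.ext ?_)⟩
    rw [← hux', ← huy, e]
  refine (Groth.Agent.S7577.result δV ⟨?_, ?_⟩).1
  · intro x y hxy hne
    obtain ⟨ux, uy, hx, hy, hs, hn⟩ := key x y hxy hne
    rw [hδV x ux hx, hδV y uy hy]
    exact (hδ ux uy hs hn).1
  · rintro x y ⟨hxy, hne, himm⟩
    obtain ⟨ux, uy, hx, hy, hs, hn⟩ := key x y hxy hne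
    rw [hδV x ux hx, hδV y uy hy]
    refine (hδ ux uy hs hn).2 fun w hw1 hw2 => ?_
    have hwV : π w ∈ V := ⟨w, rfl⟩
    have h1 : x ⤳ (⟨π w, hwV⟩ : ↥V) := (hsp _ _).2 (by rw [← hx]; exact hw1.map hc)
    have h2 : (⟨π w, hwV⟩ : ↥V) ⤳ y := (hsp _ _).2 (by rw [← hy]; exact hw2.map hc)
    rcases himm ⟨π w, hwV⟩ h1 h2 with h | h
    · left
      by_contra hwx
      have h3 := (hδ ux w hw1 (fun e => hwx e.symm)).1
      have h4 : δ' w = δ' ux := hfib _ _ (by rw [hx, ← h])
      omega
    · right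
      by_contra hwy
      have h3 := (hδ w uy hw2 hwy).1
      have h4 : δ' w = δ' uy := hfib _ _ (by rw [hy, ← h])
      omega

end Groth.Agent.H52.CatenTop
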