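import Groth.Agent.S12444
import Groth.Agent.S12446
import Groth.Agent.S12447
import Groth.Agent.H48.DimFunSch
import Groth.Agent.H79.ResFieldEssFT
import Groth.Agent.H51.ResTrdeg2
import Groth.Agent.H52.JacobsonSp
import Groth.Agent.H52.SoberSp2
import Groth.Agent.H52.Special
import Groth.Agent.H52.GeomConn
import Groth.Agent.H52.CatenTop

set_option autoImplicit false
universe u
open CategoryTheory CategoryTheory.Limits AlgebraicGeometry Opposite Topology TopologicalSpace

namespace Groth.Agent.H52.CatenSp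

open AlgSp CatenTop

variable {S : Scheme.{u}}

/-- Around any point of an etale chart (locally of finite type over a universally catenary base)
there is a dimension function which is constant on the fibres of the chart. -/
theorem exists_local_dimfun [IsLocallyNoetherian S]
    (hS : ∀ s : ↥S, CAlg.IsUniversallyCatenary ↥(S.presheaf.stalk s)) (X : Space S)
    (p : X.obj ⟶ (yon S).obj (Over.mk (𝟙 S))) {U : Over S} [LocallyOfFiniteType U.hom]
    (a : (yon S).obj U ⟶ X.obj) (ha : RepWith @Etale a) (u₀ : ↥U.left) :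
    ∃ (U' : U.left.Opens), u₀ ∈ U' ∧ ∃ δ' : ↥U' → ℤ,
      (∀ x y : ↥U', x ⤳ y → x ≠ y → δ' y < δ' x ∧
        ((∀ z : ↥U', x ⤳ z → z ⤳ y → z = x ∨ z = y) → δ' x = δ' y + 1)) ∧
      ∀ u u' : ↥U', Points.ofPt a u.1 = Points.ofPt a u'.1 → δ' u = δ' u' := by
  have hScat : PtTop.IsCatenarySpace S :=
    (Groth.Agent.S12446.result S).2 fun s => isCatenary_of_isUniversallyCatenary (hS s)
  obtain ⟨S', hs₀, δ, hδ⟩ := (Groth.Agent.S12447.result S).1 hScat (U.hom u₀)
  let U' : U.left.Opens := U.hom ⁻¹ᵁ S'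
  let f' : (U' : Scheme) ⟶ (S' : Scheme) := U.hom ∣_ S'
  have hsetup : Cyc.IsSetup (S' : Scheme) δ := by
    refine ⟨inferInstance, fun s => ?_, fun x y hxy hne => ⟨hδ.1 x y hxy hne, fun h =>
      hδ.2 x y ⟨hxy, hne, h⟩⟩⟩
    exact isUniversallyCatenary_of_ringEquiv (S'.stalkIso s).symm.commRingCatIsoToRingEquiv
      (hS s.1)
  choose n hn using
    (fun u : ↥U' => Groth.Agent.H79.ResFieldEssFT.exists_nat_trdeg_residueFieldMap f' u)
  let δ' : ↥U' → ℤ := fun u => δ (f' u) + n u
  have hcompat : Cyc.DeltaCompat f' δ' δ := fun u => ⟨n u, hn u, rfl⟩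
  have hdim : Cyc.IsDimFun (U' : Scheme) δ' :=
    Groth.Agent.H48.DimFunSch.isDimFun_of_deltaCompat f' δ hsetup δ' hcompat
  refine ⟨U', hs₀, δ', hdim, ?_⟩
  intro u u' huu'
  let U'ov : Over S := Over.mk (U'.ι ≫ U.hom)
  let S'ov : Over S := Over.mk S'.ι
  let jU : U'ov ⟶ U := Over.homMk U'.ι rfl
  let h' : U'ov ⟶ S'ov := Over.homMk f' (morphismRestrict_ι U.hom S')
  let jS : S'ov ⟶ Over.mk (𝟙 S) := Over.homMk S'.ι (Category.comp_id _)
  have ha' : RepWith @Etale ((yon S).map jU ≫ a) :=
    (repWith_isMultiplicative (S := S) @Etale).comp_mem _ _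
      ((repWith_yon_map_iff _ _).2 (show Etale U'.ι from inferInstance)) ha
  have hb' : RepWith @Etale ((yon S).map jS) :=
    (repWith_yon_map_iff _ _).2 (show Etale S'.ι from inferInstance)
  let pY : X ⟶ (ofScheme S).obj (Over.mk (𝟙 S)) := ObjectProperty.homMk p
  have e' : ((yon S).map jU ≫ a) ≫ pY.hom = (yon S).map h' ≫ (yon S).map jS :=
    (GeomConn.isTerminalYon S).hom_ext _ _
  have e'' : ((yon S).map jU ≫ a) ≫ p = (yon S).map h' ≫ (yon S).map jS :=
    (GeomConn.isTerminalYon S).hom_ext _ _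
  have hu : Points.ofPt ((yon S).map jU ≫ a) u = Points.ofPt ((yon S).map jU ≫ a) u' := by
    rw [ofPt_yon_map_comp, ofPt_yon_map_comp]
    exact huu'
  have hres : Dual3.resTrdeg f' u = Dual3.resTrdeg f' u' :=
    Groth.Agent.H51.resTrdeg_chart_indep pY _ _ h' _ _ h' ha' hb' ha' hb' e' e' u u' hu
  have hnn : n u = n u' := by
    have h1 := hn u
    have h2 := hn u'
    unfold Dual3.resTrdeg at hres
    rw [h1, h2] at hres
    exact_mod_cast hres
  have hff : f' u = f' u' := by
    have h1 : Points.ofPt (((yon S).map jU ≫ a) ≫ p) u =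
        Points.ofPt (((yon S).map jU ≫ a) ≫ p) u' := congrArg (Points.map p) hu
    rw [e'', ofPt_yon_map_comp, ofPt_yon_map_comp, ofPt_yon_map, ofPt_yon_map] at h1
    have h2 := (Points.schemeEquiv (Over.mk (𝟙 S))).injective h1
    exact S'.ι.isOpenEmbedding.injective h2
  change δ (f' u) + n u = δ (f' u') + n u'
  rw [hff, hnn]

/-- **The space of points of a decent algebraic space locally of finite type over a universally
catenary locally Noetherian base is catenary.** -/
theorem isCatenarySpace_points [IsLocallyNoetherian S]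
    (hS : ∀ s : ↥S, CAlg.IsUniversallyCatenary ↥(S.presheaf.stalk s)) (X : Space S)
    (hX : IsDecent X.obj) (p : X.obj ⟶ (yon S).obj (Over.mk (𝟙 S)))
    (hp : LocP @LocallyOfFiniteType p) :
    W4stk3decentspacesp2.IsCatenarySpace (Points X.obj) := by
  obtain ⟨U, a, ha, has⟩ := X.property.atlas
  have hlft : LocallyOfFiniteType U.hom :=
    hp a (𝟙 _) (Over.homMk U.hom (Category.comp_id _) : U ⟶ Over.mk (𝟙 S)) ha
      (repWith_id _ _) ((GeomConn.isTerminalYon S).hom_ext _ _)
  have hT0 : T0Space (Points X.obj) := t0Space_points_of_isDecent hX a ha has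
  have hsober : QuasiSober (Points X.obj) := SoberSp.quasiSober_points_of_isDecent X hX
  apply isCatenarySpace_of_ptTop
  refine (Groth.Agent.S12444.result _).1.2 fun x₀ => ?_
  obtain ⟨u₀, rfl⟩ := ofPt_surjective_of_repWith_surjective a has x₀
  obtain ⟨U', hu₀, δ', hδ', hfib⟩ := exists_local_dimfun hS X p a ha u₀
  let π : ↥U' → Points X.obj := fun u => Points.ofPt a u.1
  have hc : Continuous π := (Points.continuous_ofPt a).comp continuous_subtype_val
  have ho : IsOpen (Set.range π) := by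
    have : Set.range π = Points.ofPt a '' (U' : Set ↥U.left) := by
      ext y
      constructor
      · rintro ⟨u, rfl⟩
        exact ⟨u.1, u.2, rfl⟩
      · rintro ⟨u, hu, rfl⟩
        exact ⟨⟨u, hu⟩, rfl⟩
    rw [this]
    exact isOpenMap_ofPt_of_repWith_etale a ha _ U'.isOpen
  have hg : GeneralizingMap π := by
    intro u y hy
    obtain ⟨u', hu', rfl⟩ := generalizingMap_ofPt_of_isDecent hX a ha hy
    have hmem : u' ∈ U' := hu'.mem_open U'.isOpen u.2
    exact ⟨⟨u', hmem⟩, (Topology.IsInducing.subtypeVal.specializes_iff).1 hu', rfl⟩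
  exact ⟨⟨Set.range π, ho⟩, ⟨⟨u₀, hu₀⟩, rfl⟩, isCatenarySpace_range π hc ho hg δ' hδ' hfib⟩

end Groth.Agent.H52.CatenSp
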