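import Groth.Agent.H52.QCPoint

set_option autoImplicit false
universe u
open CategoryTheory CategoryTheory.Limits AlgebraicGeometry Opposite TopologicalSpace

namespace Groth.Agent.H52

open AlgSp

variable {S : Scheme.{u}}

/-- For a point `u` of an etale chart and any morphism `g` from a scheme to the sheaf, the projection from
the fibre product of `Spec κ(u)` and the scheme to the scheme is locally quasi-finite. -/
theorem locallyQuasiFinite_pr_of_chart_gen {F : Sp S} {U : Over S} (φ : (yon S).obj U ⟶ F)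
    (hφ : RepWith @Etale φ) (u : ↥U.left) {T : Over S} (g : (yon S).obj T ⟶ F) {R : Over S}
    (pr₁ : R ⟶ T) (pr₂ : R ⟶ (FieldPt.ofPt φ u).pt)
    (hR : IsPullback ((yon S).map pr₁) ((yon S).map pr₂) g (FieldPt.ofPt φ u).toHom) :
    LocallyQuasiFinite pr₁.left := by
  -- the fibre product `T ×_F U`
  have sq := hφ.rep.isPullback g
  have hae : Etale (hφ.rep.snd g).left := hφ.property _ _ _ sq
  have hq : (FieldPt.ofPt φ u).toHom = (yon S).map (ofPtHom φ u) ≫ φ := toHom_ofPt' φ u
  -- the lift `R ⟶ W`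
  let l : (yon S).obj R ⟶ (yon S).obj (hφ.rep.pullback g) :=
    sq.lift ((yon S).map (pr₂ ≫ ofPtHom φ u)) ((yon S).map pr₁) (by
      rw [Functor.map_comp, Category.assoc, ← hq, hR.w])
  have hl1 : l ≫ hφ.rep.fst g = (yon S).map (pr₂ ≫ ofPtHom φ u) := sq.lift_fst _ _ _
  have hl2 : l ≫ (yon S).map (hφ.rep.snd g) = (yon S).map pr₁ := sq.lift_snd _ _ _
  obtain ⟨l', hl'⟩ := (yon S).map_surjective l
  -- the upper square is a pullback
  have houter : IsPullback (l ≫ (yon S).map (hφ.rep.snd g)) ((yon S).map pr₂)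
      g ((yon S).map (ofPtHom φ u) ≫ φ) := by
    rw [hl2, ← hq]
    exact hR
  have hup : IsPullback l ((yon S).map pr₂) (hφ.rep.fst g) ((yon S).map (ofPtHom φ u)) :=
    IsPullback.of_right houter (by rw [hl1, Functor.map_comp]) sq.flip
  rw [← hl'] at hup
  have hlqf0 : LocallyQuasiFinite (ofPtHom φ u).left := by
    change LocallyQuasiFinite (U.left.fromSpecResidueField u)
    infer_instance
  have hlqf1 : LocallyQuasiFinite l'.left :=
    ((repWith_yon_map_iff @LocallyQuasiFinite (ofPtHom φ u)).2 hlqf0).property _ _ _ hup.flip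
  have hlqf2 : LocallyQuasiFinite (hφ.rep.snd g).left := etale_locallyQuasiFinite _
  have hpr : pr₁ = l' ≫ hφ.rep.snd g := by
    apply (yon S).map_injective
    rw [Functor.map_comp, hl', hl2]
  rw [hpr, Over.comp_left]
  infer_instance

/-- **(1) ⇒ (4).**  If two points `u`, `u'` of an etale chart of an algebraic space have the same image and
the relation `U ×_X U` has finitely many points over `(u, u')`, the point is represented by a monomorphism
from the spectrum of a field. -/
theorem exists_mono_point_of_chart₂ {X : Sp S} (hX : IsAlgSpace X) {U : Over S}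
    (φ : (yon S).obj U ⟶ X) (hφ : RepWith @Etale φ) (u u' : ↥U.left)
    (he : Points.ofPt φ u = Points.ofPt φ u') {R : Over S} (s t : R ⟶ U)
    (hR : IsPullback ((yon S).map t) ((yon S).map s) φ φ)
    (hfin : {r : ↥R.left | t.left r = u ∧ s.left r = u'}.Finite) :
    ∃ (p : FieldPt X) (c : (FieldPt.ofPt φ u).pt ⟶ p.pt),
      (yon S).map c ≫ p.toHom = (FieldPt.ofPt φ u).toHom ∧ Mono p.toHom ∧ IsFinite c.left ∧
        Points.mk p = Points.ofPt φ u := by
  have hrep := hX.representable_from_yon (FieldPt.ofPt φ u).toHom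
  -- a common field extension
  have he' : Points.mk (FieldPt.ofPt φ u) = Points.mk (FieldPt.ofPt φ u') := he
  rw [Points.mk_eq_mk_iff, rel_iff_toHom] at he'
  obtain ⟨Ω, _, w, a₀, b₀, hab⟩ := he'
  -- `B = Spec κ(u) ×_X Spec κ(u')`
  obtain ⟨a, ha⟩ := (yon S).map_surjective (hrep.fst (FieldPt.ofPt φ u').toHom)
  have sqB := hrep.isPullback (FieldPt.ofPt φ u').toHom
  rw [← ha] at sqB
  have hBfin : Finite ↥(hrep.pullback (FieldPt.ofPt φ u').toHom).left :=
    finite_fibreprod_of_finite_rel φ u u' s t hR hfin a _ sqB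
  have hblqf : LocallyQuasiFinite (hrep.snd (FieldPt.ofPt φ u').toHom).left :=
    locallyQuasiFinite_pr_of_chart_gen φ hφ u (FieldPt.ofPt φ u').toHom _ a sqB.flip
  have hbfin : IsFinite (hrep.snd (FieldPt.ofPt φ u').toHom).left :=
    isFinite_of_lqf_of_finite (K := (FieldPt.ofPt φ u').K) _
  -- `W = Spec κ(u) ×_X Spec Ω`
  obtain ⟨c, hc⟩ := (yon S).map_surjective
    (hrep.fst ((yon S).map b₀ ≫ (FieldPt.ofPt φ u').toHom))
  have sqW := hrep.isPullback ((yon S).map b₀ ≫ (FieldPt.ofPt φ u').toHom)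
  rw [← hc] at sqW
  -- `W ⟶ B`
  obtain ⟨m, hm1, hm2⟩ := exists_lift_of_isPullback_yon sqB c
    (hrep.snd ((yon S).map b₀ ≫ (FieldPt.ofPt φ u').toHom) ≫ b₀) (by
      rw [Functor.map_comp, Category.assoc]; exact sqW.w)
  have sqWB : IsPullback ((yon S).map m)
      ((yon S).map (hrep.snd ((yon S).map b₀ ≫ (FieldPt.ofPt φ u').toHom)))
      ((yon S).map (hrep.snd (FieldPt.ofPt φ u').toHom)) ((yon S).map b₀) := by
    refine IsPullback.of_right ?_ ?_ sqB
    · rw [← Functor.map_comp, hm1]; exact sqW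
    · rw [← Functor.map_comp, ← Functor.map_comp, hm2]
  have hdfin : IsFinite (hrep.snd ((yon S).map b₀ ≫ (FieldPt.ofPt φ u').toHom)).left :=
    ((repWith_yon_map_iff @IsFinite (hrep.snd (FieldPt.ofPt φ u').toHom)).2 hbfin).property
      _ _ _ sqWB
  have hWfin : Finite ↥(hrep.pullback ((yon S).map b₀ ≫ (FieldPt.ofPt φ u').toHom)).left :=
    finite_of_isFinite_of_finite (W := Spec (CommRingCat.of Ω))
      (hrep.snd ((yon S).map b₀ ≫ (FieldPt.ofPt φ u').toHom)).left
  -- `A = Spec κ(u) ×_X Spec κ(u)`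
  obtain ⟨pr₁, hpr₁⟩ := (yon S).map_surjective (hrep.fst (FieldPt.ofPt φ u).toHom)
  have sqA := hrep.isPullback (FieldPt.ofPt φ u).toHom
  rw [← hpr₁] at sqA
  obtain ⟨n, hn1, hn2⟩ := exists_lift_of_isPullback_yon sqA c
    (hrep.snd ((yon S).map b₀ ≫ (FieldPt.ofPt φ u').toHom) ≫ a₀) (by
      rw [Functor.map_comp, Category.assoc, hab]; exact sqW.w)
  have sqWA : IsPullback ((yon S).map n)
      ((yon S).map (hrep.snd ((yon S).map b₀ ≫ (FieldPt.ofPt φ u').toHom)))
      ((yon S).map (hrep.snd (FieldPt.ofPt φ u).toHom)) ((yon S).map a₀) := by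
    refine IsPullback.of_right ?_ ?_ sqA
    · rw [← Functor.map_comp, hn1, hab]; exact sqW
    · rw [← Functor.map_comp, ← Functor.map_comp, hn2]
  have hsurj0 : Surjective a₀.left := by
    refine ⟨fun x => ?_⟩
    obtain ⟨z⟩ : Nonempty ↥(Spec (CommRingCat.of Ω)) :=
      inferInstanceAs (Nonempty (PrimeSpectrum Ω))
    exact ⟨z, Subsingleton.elim (α := PrimeSpectrum (FieldPt.ofPt φ u).K) _ _⟩
  have hnsurj : Surjective n.left :=
    ((repWith_yon_map_iff @Surjective a₀).2 hsurj0).property _ _ _ sqWA.flip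
  have hAfin : Finite ↥(hrep.pullback (FieldPt.ofPt φ u).toHom).left :=
    Finite.of_surjective _ hnsurj.surj
  have hfin₁ : IsFinite pr₁.left := isFinite_pr_of_chart φ hφ u pr₁ _ sqA
  exact exists_mono_point_of_finite (FieldPt.ofPt φ u) pr₁ _ sqA

end Groth.Agent.H52
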