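import Groth.Agent.H52.GenericPts

/-!
# Codimension and dimension on decent spaces via specialization chains
-/

set_option autoImplicit false
universe u
open CategoryTheory CategoryTheory.Limits AlgebraicGeometry Opposite TopologicalSpace

namespace Groth.Agent.H52.CodimSp

open AlgSp

variable {S : Scheme.{u}}

/-- The coheight of a point of a chart equals the coheight of its image in `|X|`, for the
specialization orders (decent `X`). -/
theorem coheight_ofPt_eq (X : AlgSp.Space S) (hX : AlgSp.IsDecent X.obj)
    [T0Space (Points X.obj)] {U : Over S}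
    (a : (AlgSp.yon S).obj U ⟶ X.obj) (ha : AlgSp.RepWith @Etale a) (u : ↥U.left) :
    Order.coheight u = @Order.coheight _ (specializationOrder (Points X.obj)).toPreorder
      (Points.ofPt a u) := by
  let _ : PartialOrder (Points X.obj) := specializationOrder _
  have hmono : StrictMono (Points.ofPt a) := by
    intro u₁ u₂ h
    have hs : u₂ ⤳ u₁ := Scheme.le_iff_specializes.1 h.le
    have hle : Points.ofPt a u₁ ≤ Points.ofPt a u₂ := hs.map (Points.continuous_ofPt a)
    refine lt_of_le_of_ne hle fun heq => ?_
    have := eq_of_specializes_of_isDecent hX a ha u₁ u₂ heq hs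
    exact h.ne this
  refine Order.coheight_eq_of_strictMono (Points.ofPt a) hmono (fun u₁ y hy => ?_) u
  have hs : y ⤳ Points.ofPt a u₁ := hy.le
  obtain ⟨p, hp, -, hpq⟩ := hX y
  obtain ⟨u', hu's, hu'⟩ := exists_specializes_lift _ y hs p hp hpq a ha u₁ rfl
  refine ⟨u', lt_of_le_not_ge (Scheme.le_iff_specializes.2 hu's) fun hge => ?_, hu'⟩
  have hs' : Points.ofPt a u₁ ⤳ Points.ofPt a u' :=
    (Scheme.le_iff_specializes.1 hge).map (Points.continuous_ofPt a)
  rw [hu'] at hs'
  exact hy.ne (hs'.antisymm hs).eq

/-- **S10396**. -/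
theorem coheight_irreducibleCloseds_eq (X : AlgSp.Space S)
    (hX : AlgSp.IsDecent X.obj) (T : TopologicalSpace.IrreducibleCloseds (AlgSp.Points X.obj))
    (ξ : AlgSp.Points X.obj)
    (hξ : IsGenericPoint ξ (T : Set (AlgSp.Points X.obj))) {U : Over S}
    (a : (AlgSp.yon S).obj U ⟶ X.obj)
    (ha : AlgSp.RepWith @Etale a) (u : ↥U.left) (hu : AlgSp.Points.ofPt a u = ξ) :
    (Order.coheight T : WithBot ℕ∞) = ringKrullDim ↥(U.left.presheaf.stalk u) := by
  obtain ⟨V, b, hb, hbs⟩ := X.property.atlas
  have hT0 : T0Space (Points X.obj) := t0Space_points_of_isDecent hX b hb hbs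
  have hsober : QuasiSober (Points X.obj) := SoberSp.quasiSober_points_of_isDecent X hX
  let _ : PartialOrder (Points X.obj) := specializationOrder _
  rw [ringKrullDim_stalk_eq_coheight, coheight_ofPt_eq X hX a ha u, hu]
  have h1 : (irreducibleSetEquivPoints (α := Points X.obj)) T = ξ :=
    (T.2.isGenericPoint_genericPoint T.3).eq hξ
  rw [← h1, Order.coheight_orderIso]

end Groth.Agent.H52.CodimSp
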