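import Groth.Agent.H52.FinEtSchematic
import Groth.Agent.H49.AlgSpBasic

/-!
# Restricting the relation of an etale chart to an invariant open, and a variant of the finite
etale quotient with finiteness only of the relation
-/

set_option autoImplicit false
universe u
open CategoryTheory CategoryTheory.Limits AlgebraicGeometry Opposite

namespace Groth.Agent.H52.CodimZeroSchematic

open AlgSp Groth.Agent.H50 Groth.Agent.H51 Groth.Agent.H53.ZMT

variable {S : Scheme.{u}}

/-- A sheaf with an etale surjective chart from a scheme whose relation is finite, such that every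
fibre of the chart lies in an affine open, is a scheme, and the chart is finite over it. -/
theorem exists_scheme_quot' {F : Sp S} {V R : Over S}
    (q : (yon S).obj V ⟶ F) (hqe : RepWith @Etale q) (hqs : RepWith @Surjective q)
    (s t : R ⟶ V) (sq : IsPullback ((yon S).map t) ((yon S).map s) q q) (hsfin : IsFinite s.left)
    (horb : ∀ x : V.left, ∃ V₀ : V.left.Opens, IsAffineOpen V₀ ∧
      ∀ x' : V.left, Points.ofPt q x' = Points.ofPt q x → x' ∈ V₀) :
    ∃ (M : Over S) (e : (yon S).obj M ≅ F) (π : V ⟶ M),
      (yon S).map π ≫ e.hom = q ∧ IsFinite π.left := by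
  have heq : IsEtaleEqvRel s t := isEtaleEqvRel_of_isPullback s t q hqe sq
  have hset : Etale s.left := heq.etale_left
  have i4 : Flat s.left := inferInstance
  have i5 : LocallyOfFinitePresentation s.left := inferInstance
  obtain ⟨M, π, hπfin, hπfl, hπlfp, hπsurj, hpb, -⟩ :=
    Groth.Agent.H40.GQ.exists_quotient_of_isEqvRel s t heq.toIsEqvRel (by
      intro x
      obtain ⟨V₀, hV₀, h⟩ := horb x
      refine ⟨V₀, hV₀, fun r hr => h _ ?_⟩
      rw [← hr, ← Groth.Agent.H52.ofPt_yon_map_comp, ← Groth.Agent.H52.ofPt_yon_map_comp, sq.w])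
  have hpbO : IsPullback t s π π := by
    refine IsPullback.of_map (Over.forget S) ?_ hpb
    ext1
    exact hpb.w
  have sqM : IsPullback ((yon S).map t) ((yon S).map s) ((yon S).map π) ((yon S).map π) :=
    hpbO.map (yon S)
  have hπls : Sheaf.IsLocallySurjective ((yon S).map π) := isLocallySurjective_yon_map_of_fppf π
  have hπepi : Epi ((yon S).map π) := (Sheaf.isLocallySurjective_iff_epi _).1 hπls
  have hqls : Sheaf.IsLocallySurjective q :=
    Groth.Agent.H53.isLocallySurjective_of_repWith q
      (Groth.Agent.H51.repWith_mono etale_le_flat hqe)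
      (Groth.Agent.H51.repWith_mono etale_le_lfp hqe) hqs
  have hqepi : Epi q := (Sheaf.isLocallySurjective_iff_epi _).1 hqls
  obtain ⟨d, hd⟩ := exists_iso_of_kernelPair_eq ((yon S).map π) q sqM sq
  exact ⟨M, d, π, hd, hπfin⟩

/-- The relation of the restriction of a chart to the preimage of a subsheaf is the base change of
the relation. -/
theorem exists_isPullback_restrict_relation {X X' : Sp S} {U R U' R' : Over S}
    (a : (yon S).obj U ⟶ X) (s t : R ⟶ U)
    (sq : IsPullback ((yon S).map t) ((yon S).map s) a a)
    (ι : X' ⟶ X) (j : U' ⟶ U) (a' : (yon S).obj U' ⟶ X')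
    (sqV : IsPullback a' ((yon S).map j) ι a)
    (s' t' : R' ⟶ U') (sq' : IsPullback ((yon S).map t') ((yon S).map s') a' a') :
    ∃ k : R' ⟶ R, IsPullback k.left s'.left s.left j.left := by
  have outer : IsPullback ((yon S).map t' ≫ (yon S).map j) ((yon S).map s') a (a' ≫ ι) :=
    sq'.paste_horiz sqV.flip
  have hw : (yon S).map (t' ≫ j) ≫ a = (yon S).map (s' ≫ j) ≫ a := by
    rw [Functor.map_comp, Functor.map_comp, Category.assoc, Category.assoc, ← sqV.w,
      ← Category.assoc, ← Category.assoc, sq'.w]
  obtain ⟨k, hk⟩ := (yon S).map_surjective (sq.lift _ _ hw)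
  have hk1 : (yon S).map k ≫ (yon S).map t = (yon S).map t' ≫ (yon S).map j := by
    rw [hk, sq.lift_fst, Functor.map_comp]
  have hk2 : (yon S).map k ≫ (yon S).map s = (yon S).map s' ≫ (yon S).map j := by
    rw [hk, sq.lift_snd, Functor.map_comp]
  have outer' : IsPullback ((yon S).map k ≫ (yon S).map t) ((yon S).map s') a
      ((yon S).map j ≫ a) := by
    rw [hk1, ← sqV.w]
    exact outer
  have left : IsPullback ((yon S).map k) ((yon S).map s') ((yon S).map s) ((yon S).map j) :=
    IsPullback.of_right outer' hk2 sq
  have hcomm : k ≫ s = s' ≫ j := by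
    apply (yon S).map_injective
    rw [Functor.map_comp, Functor.map_comp, hk2]
  have leftO : IsPullback k s' s j := IsPullback.of_map (yon S) hcomm left
  exact ⟨k, leftO.map (Over.forget S)⟩

end Groth.Agent.H52.CodimZeroSchematic
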