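import Groth.Agent.H52.CodimZeroSchematicA
import Groth.Agent.H53.ZMT.GenFinSch2
import Groth.Agent.H53.ZMT.GenFinLocal

/-!
# A point of an algebraic space whose fibre in an affine etale chart with quasi-compact separated
relation consists of codimension zero points has an open neighbourhood which is a scheme
-/

set_option autoImplicit false
universe u
open CategoryTheory CategoryTheory.Limits AlgebraicGeometry Opposite

namespace Groth.Agent.H52.CodimZeroSchematic

open AlgSp Groth.Agent.H50 Groth.Agent.H51 Groth.Agent.H53.ZMT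

variable {S : Scheme.{u}}

/-- If `f` is a closed map over the open `W₀`, then `W₀ \ f(C)` is open for closed `C`. -/
theorem isOpen_diff_image {A B : Type*} [TopologicalSpace A] [TopologicalSpace B] (f : A → B)
    (W₀ : Set B) (hW₀ : IsOpen W₀) (h : IsClosedMap (W₀.restrictPreimage f))
    (C : Set A) (hC : IsClosed C) : IsOpen (W₀ \ f '' C) := by
  have hcl : IsClosed (W₀.restrictPreimage f '' (Subtype.val ⁻¹' C)) :=
    h _ (hC.preimage continuous_subtype_val)
  have : W₀ \ f '' C = Subtype.val '' (W₀.restrictPreimage f '' (Subtype.val ⁻¹' C))ᶜ := by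
    ext b
    constructor
    · rintro ⟨hb, hbC⟩
      refine ⟨⟨b, hb⟩, ?_, rfl⟩
      rintro ⟨⟨a, ha⟩, haC, e⟩
      apply hbC
      refine ⟨a, haC, ?_⟩
      simpa using congrArg Subtype.val e
    · rintro ⟨⟨b', hb'⟩, hb'C, rfl⟩
      refine ⟨hb', ?_⟩
      rintro ⟨a, haC, e⟩
      apply hb'C
      exact ⟨⟨a, by simpa [e] using hb'⟩, haC, Subtype.ext e⟩
  rw [this]
  exact hW₀.isOpenEmbedding_subtypeVal.isOpenMap _ hcl.isOpen_compl

/-- Finiteness over each member of a family of opens implies finiteness over their union. -/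
theorem isFinite_morphismRestrict_iSup {X Y : Scheme.{u}} (f : X ⟶ Y) {ι : Type*}
    (D : ι → Y.Opens) (h : ∀ i, IsFinite (f ∣_ D i)) : IsFinite (f ∣_ ⨆ i, D i) := by
  refine IsZariskiLocalAtTarget.of_forall_exists_morphismRestrict (P := @IsFinite) ?_
  intro x
  obtain ⟨i, hi⟩ := TopologicalSpace.Opens.mem_iSup.1 x.2
  refine ⟨(⨆ i, D i).ι ⁻¹ᵁ D i, hi, ?_⟩
  rw [MorphismProperty.arrow_mk_iso_iff @IsFinite (morphismRestrictRestrict f _ _)]
  refine isFinite_morphismRestrict_of_le f ?_ (h i)
  rintro _ ⟨y, hy, rfl⟩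
  exact hy

/-- Let `a : h_U ⟶ X` be an etale chart from an affine scheme with quasi-compact and separated
relation `R = U ×_X U`, and `u` a point of `U` such that all points of `U` equivalent to `u` have
zero dimensional local rings.  Then the image of `u` has an open neighbourhood in `X` which is a
scheme. -/
theorem exists_schematic_nbhd_of_relation {X : Sp S} {U R : Over S} [IsAffine U.left]
    (a : (yon S).obj U ⟶ X) (he : RepWith @Etale a) (s t : R ⟶ U)
    (sq : IsPullback ((yon S).map t) ((yon S).map s) a a)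
    [CompactSpace ↥R.left] [IsSeparated s.left] (u : U.left)
    (hu : ∀ u' : U.left, Points.ofPt a u' = Points.ofPt a u →
      ringKrullDim (U.left.presheaf.stalk u') = 0) :
    ∃ (W : Set (Points X)) (_ : IsOpen W) (M : Over S),
      Nonempty ((yon S).obj M ≅ openSubSp X W) ∧ Points.ofPt a u ∈ W := by
  classical
  have heq : IsEtaleEqvRel s t := isEtaleEqvRel_of_isPullback s t a he sq
  have hset : Etale s.left := heq.etale_left
  have htet : Etale t.left := heq.etale_right
  have hsqc : QuasiCompact s.left := inferInstance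
  have htqc : QuasiCompact t.left := inferInstance
  have horbit : ∀ A : Set U.left,
      Points.ofPt a ⁻¹' (Points.ofPt a '' A) = s.left '' (t.left ⁻¹' A) :=
    fun A => preimage_ofPt_image_ofPt sq A
  have hfin : ∀ u : U.left, {u' | Points.ofPt a u' = Points.ofPt a u}.Finite := by
    intro u
    have : {u' | Points.ofPt a u' = Points.ofPt a u} = s.left '' (t.left ⁻¹' {u}) := by
      rw [← horbit]; ext u'; simp [eq_comm]
    rw [this]
    exact (Scheme.Hom.finite_preimage_singleton t.left u).image _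
  -- finiteness of `s` near the fibre
  let T : Set U.left := {u' | Points.ofPt a u' = Points.ofPt a u}
  have hex : ∀ u' : T, ∃ f : Γ(U.left, ⊤), u'.1 ∈ U.left.basicOpen f ∧
      IsFinite (s.left ∣_ U.left.basicOpen f) := fun u' =>
    exists_basicOpen_isFinite_of_compact s.left u'.1 (hu u'.1 u'.2)
      (Scheme.Hom.finite_preimage_singleton s.left u'.1)
  choose f hf1 hf2 using hex
  let W₀ : U.left.Opens := ⨆ u' : T, U.left.basicOpen (f u')
  have hTW₀ : T ⊆ W₀ := fun u' hu' =>
    TopologicalSpace.Opens.mem_iSup.2 ⟨⟨u', hu'⟩, hf1 ⟨u', hu'⟩⟩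
  have hfinW₀ : IsFinite (s.left ∣_ W₀) := isFinite_morphismRestrict_iSup s.left _ hf2
  -- the invariant open
  let Wset : Set U.left := {x | ∀ y, Points.ofPt a y = Points.ofPt a x → y ∈ W₀}
  have hWsub : Wset ⊆ W₀ := fun x hx => hx x rfl
  have hWinv : ∀ x ∈ Wset, ∀ y, Points.ofPt a y = Points.ofPt a x → y ∈ Wset :=
    fun x hx y hy z hz => hx z (hz.trans hy)
  have hTW : T ⊆ Wset := fun x hx y hy => hTW₀ (hy.trans hx)
  have hWeq : Wset = (W₀ : Set U.left) \ s.left '' (t.left ⁻¹' (W₀ : Set U.left)ᶜ) := by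
    rw [← horbit]
    ext x
    constructor
    · intro hx
      refine ⟨hWsub hx, ?_⟩
      rintro ⟨y, hy, e⟩
      exact hy (hx y e)
    · rintro ⟨-, hx⟩ y hy
      by_contra hc
      exact hx ⟨y, hc, hy⟩
  have hWopen : IsOpen Wset := by
    rw [hWeq]
    refine isOpen_diff_image _ _ W₀.2 ?_ _
      (W₀.2.isClosed_compl.preimage t.left.continuous)
    have := (s.left ∣_ W₀).isClosedMap
    rwa [morphismRestrict_base] at this
  let W : Set (Points X) := Points.ofPt a '' Wset
  have hW : IsOpen W := isOpenMap_ofPt_of_repWith_etale a he Wset hWopen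
  have hpre : Points.ofPt a ⁻¹' W = Wset := by
    ext x; constructor
    · rintro ⟨x₁, hx₁, e⟩; exact hWinv x₁ hx₁ x e.symm
    · intro hx; exact ⟨x, hx, rfl⟩
  obtain ⟨V, fst, hV, sqV⟩ := exists_isPullback_openSubι W hW a
  rw [hpre] at hV
  have hfst_e : RepWith @Etale fst := (RepWith @Etale).of_isPullback sqV.flip he
  have hι := repWith_isOpenImmersion_openSubι W hW
  have hm : Mono (openSubι X W) :=
    Groth.Agent.H49.mono_of_repWith_mono Groth.Agent.H51.isOpenImmersion_le_mono _ hι
  have hfstpt : ∀ x : (overOpen U V).left,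
      Points.map (openSubι X W) (Points.ofPt fst x) = Points.ofPt a (V.ι x) := by
    intro x
    rw [Points.map_ofPt, sqV.w, ofPt_yon_map_comp]; rfl
  have hfst_s : RepWith @Surjective fst := by
    refine repWith_surjective_of_surjective_ofPt fst hfst_e.rep ?_
    intro x'
    have hx' : Points.map (openSubι X W) x' ∈ W := (range_map_openSubι W).subset ⟨_, rfl⟩
    obtain ⟨w, hw, e⟩ := hx'
    have hwV : w ∈ V := by rw [← SetLike.mem_coe, hV]; exact hw
    refine ⟨⟨w, hwV⟩, injective_map_of_mono (openSubι X W) ?_⟩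
    rw [hfstpt, ← e]; rfl
  -- the relation of the restricted chart
  have hrep' : Representable fst := hfst_e.rep
  have sq' := hrep'.isPullback fst
  obtain ⟨t', ht'⟩ := (yon S).map_surjective (hrep'.fst fst)
  set s' := hrep'.snd fst with hs'
  rw [← ht'] at sq'
  obtain ⟨k, hk⟩ := exists_isPullback_restrict_relation a s t sq (openSubι X W)
    (overOpenι U V) fst sqV s' t' sq'
  have hVW₀ : V ≤ W₀ := fun x hx => hWsub (by rw [← hV]; exact hx)
  have hfinV : IsFinite (s.left ∣_ V) := isFinite_morphismRestrict_of_le s.left hVW₀ hfinW₀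
  have hs'fin : IsFinite s'.left := by
    have pb2 := (isPullback_morphismRestrict s.left V).flip
    have e : s'.left = (hk.isoIsPullback _ _ pb2).hom ≫ s.left ∣_ V :=
      (IsPullback.isoIsPullback_hom_snd _ _ hk pb2).symm
    rw [e]
    infer_instance
  obtain ⟨M, e, -, -, -⟩ := exists_scheme_quot' fst hfst_e hfst_s s' t' sq' hs'fin (by
    intro x
    let T' : Set U.left := {u' | Points.ofPt a u' = Points.ofPt a (V.ι x)}
    have hxW : V.ι x ∈ Wset := by rw [← hV]; exact x.2
    have hT'V : T' ⊆ V := fun u' hu' => by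
      rw [hV]; exact hWinv _ hxW u' hu'
    obtain ⟨g, hgV, hTg⟩ :=
      Groth.Agent.H40.GQ.exists_basicOpen_le_of_finite (isAffineOpen_top U.left) V T' (hfin _)
        (fun _ _ => trivial) hT'V
    refine ⟨V.ι ⁻¹ᵁ (U.left.basicOpen g),
      ((isAffineOpen_top U.left).basicOpen g).preimage_of_isOpenImmersion V.ι (by
        rw [Scheme.Opens.opensRange_ι]; exact hgV), ?_⟩
    intro x' hx'
    apply hTg
    change Points.ofPt a (V.ι x') = Points.ofPt a (V.ι x)
    rw [← hfstpt, ← hfstpt, hx'])
  exact ⟨W, hW, M, ⟨e⟩, u, hTW rfl, rfl⟩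

end Groth.Agent.H52.CodimZeroSchematic
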