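import Groth.Agent.H52.CodimZeroSchematicB
import Groth.Agent.H52.Diag
import Groth.Agent.H50.LimOpen

/-!
# Codimension zero points of a (Zariski locally) quasi-separated algebraic space have open
neighbourhoods which are schemes
-/

set_option autoImplicit false
universe u
open CategoryTheory CategoryTheory.Limits AlgebraicGeometry Opposite

namespace Groth.Agent.H52.CodimZeroSchematic

open AlgSp Groth.Agent.H50 Groth.Agent.H51 Groth.Agent.H53.ZMT

variable {S : Scheme.{u}}

/-- The self product over `S` of an affine scheme whose structure morphism factors through an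
affine open of `S` is affine. -/
theorem isAffine_prod_left_of_le (U : Over S) [IsAffine U.left] (S₀ : S.Opens)
    (hS₀ : IsAffineOpen S₀) (hr : Set.range U.hom ⊆ S₀) : IsAffine (U ⨯ U).left := by
  have hS₀' : IsAffine S₀.toScheme := hS₀
  have hr' : Set.range U.hom ⊆ Set.range S₀.ι := by
    rw [Scheme.Opens.range_ι]; exact hr
  let g : U.left ⟶ S₀.toScheme := IsOpenImmersion.lift S₀.ι U.hom hr'
  have hg : g ≫ S₀.ι = U.hom := IsOpenImmersion.lift_fac _ _ _
  have hpb : IsPullback (prod.fst : U ⨯ U ⟶ U).left (prod.snd : U ⨯ U ⟶ U).left U.hom U.hom :=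
    Over.isPullback_of_binaryFan_isLimit (BinaryFan.mk prod.fst prod.snd) (prodIsProd U U)
  have hkp : IsPullback (pullback.fst g g) (pullback.snd g g) (g ≫ S₀.ι) (g ≫ S₀.ι) :=
    IsKernelPair.comp_of_mono (IsPullback.of_hasPullback g g)
  rw [hg] at hkp
  exact IsAffine.of_isIso (hpb.isoIsPullback _ _ hkp).hom

/-- A codimension zero point of a sheaf lying in an open subsheaf with quasi-compact diagonal
has an open neighbourhood which is a scheme. -/
theorem exists_schematic_nbhd_of_open {X X₀ : Sp S} (ι : X₀ ⟶ X)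
    (hι : RepWith @IsOpenImmersion ι) (hqs : IsQuasiSeparatedSp X₀) (x : Points X)
    (hxι : x ∈ Set.range (Points.map ι))
    (hx : HasAt (fun U u => ringKrullDim ↥(U.presheaf.stalk u) = 0) X x) :
    ∃ (W : Set (Points X)) (_ : IsOpen W) (M : Over S),
      Nonempty ((yon S).obj M ≅ openSubSp X W) ∧ x ∈ W := by
  have hx' : HasAt (fun U u => ringKrullDim ↥(U.presheaf.stalk u) ≤ 0) X x := by
    obtain ⟨V₁, b₁, v₁, hb₁, hv₁, hd⟩ := hx
    exact ⟨V₁, b₁, v₁, hb₁, hv₁, hd.le⟩
  have hmι : Mono ι :=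
    Groth.Agent.H49.mono_of_repWith_mono Groth.Agent.H51.isOpenImmersion_le_mono _ hι
  have hιo : IsOpen (Set.range (Points.map ι)) :=
    (isOpenMap_points_map_of_isOpenImmersion ι hι).isOpen_range
  obtain ⟨V₁, b₁, v₁, hb₁, hv₁, -⟩ := hx
  obtain ⟨S₀, hS₀, hmem, -⟩ :=
    exists_isAffineOpen_mem_and_subset (x := V₁.hom v₁) (U := ⊤) trivial
  let O : V₁.left.Opens :=
    ⟨Points.ofPt b₁ ⁻¹' Set.range (Points.map ι), hιo.preimage (Points.continuous_ofPt b₁)⟩
  have hv₁O : v₁ ∈ O := by
    change Points.ofPt b₁ v₁ ∈ Set.range (Points.map ι)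
    rw [hv₁]; exact hxι
  obtain ⟨U₀, hU₀, hv₁U₀, hU₀le⟩ :=
    exists_isAffineOpen_mem_and_subset (x := v₁) (U := V₁.hom ⁻¹ᵁ S₀ ⊓ O) ⟨hmem, hv₁O⟩
  let U : Over S := overOpen V₁ U₀
  let a : (yon S).obj U ⟶ X := (yon S).map (overOpenι V₁ U₀) ≫ b₁
  have he : RepWith @Etale a := repWith_etale_restrict b₁ hb₁ U₀
  let u : U.left := ⟨v₁, hv₁U₀⟩
  have hau : Points.ofPt a u = x := by
    rw [← hv₁]
    exact ofPt_restrict b₁ U₀ u
  have hUaff : IsAffine U.left := hU₀
  have hr : Set.range U.hom ⊆ S₀ := by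
    rintro _ ⟨y, rfl⟩
    exact (hU₀le y.2).1
  have hUUaff : IsAffine (U ⨯ U).left := isAffine_prod_left_of_le U S₀ hS₀ hr
  -- the chart factors through the open subsheaf
  obtain ⟨a₀, ha₀⟩ := (exists_factor_iff_of_isOpenImmersion' ι hι a).2 (by
    rw [range_map_eq_range_ofPt]
    rintro _ ⟨y, rfl⟩
    have : Points.ofPt a y = Points.ofPt b₁ (U₀.ι y) := ofPt_restrict b₁ U₀ y
    rw [this]
    exact (hU₀le y.2).2)
  have hrep : Representable a := he.rep
  have sq := hrep.isPullback a
  obtain ⟨t, ht⟩ := (yon S).map_surjective (hrep.fst a)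
  set s := hrep.snd a with hs
  rw [← ht] at sq
  have sq₀ : IsPullback ((yon S).map t) ((yon S).map s) a₀ a₀ := by
    refine Groth.Agent.H49.isPullback_of_comp_mono ι ?_
    rw [ha₀]; exact sq
  have hδqc : QuasiCompact (prod.lift t s).left := prop_prod_lift_of_repWith_diag hqs sq₀
  have hRc : CompactSpace ↥(hrep.pullback a).left :=
    QuasiCompact.compactSpace_of_compactSpace (prod.lift t s).left
  have hδmono : Mono (prod.lift t s) := by
    refine ⟨fun {Z} g₁ g₂ hg => ?_⟩
    apply (yon S).map_injective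
    apply sq.hom_ext
    · rw [← Functor.map_comp, ← Functor.map_comp]
      congr 1
      have := hg =≫ prod.fst
      rwa [Category.assoc, Category.assoc, prod.lift_fst] at this
    · rw [← Functor.map_comp, ← Functor.map_comp]
      congr 1
      have := hg =≫ prod.snd
      rwa [Category.assoc, Category.assoc, prod.lift_snd] at this
  have hδmono' : Mono (prod.lift t s).left := inferInstance
  have hssep : IsSeparated s.left := by
    have e : s.left = (prod.lift t s).left ≫ (prod.snd : U ⨯ U ⟶ U).left := by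
      rw [← Over.comp_left, prod.lift_snd]
    rw [e]
    infer_instance
  obtain ⟨W, hW, M, hM, hmemW⟩ := exists_schematic_nbhd_of_relation a he s t sq u (by
    intro u' hu'
    apply le_antisymm
    · exact QFCodimOne.ringKrullDim_le_of_hasAt _ 0 hx' a he u' (hu'.trans hau)
    · exact ringKrullDim_nonneg_of_nontrivial)
  exact ⟨W, hW, M, hM, hau ▸ hmemW⟩

/-- A codimension zero point of a sheaf with quasi-compact diagonal has an open neighbourhood
which is a scheme. -/
theorem exists_schematic_nbhd {X : Sp S} (hqs : IsQuasiSeparatedSp X) (x : Points X)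
    (hx : HasAt (fun U u => ringKrullDim ↥(U.presheaf.stalk u) = 0) X x) :
    ∃ (W : Set (Points X)) (_ : IsOpen W) (M : Over S),
      Nonempty ((yon S).obj M ≅ openSubSp X W) ∧ x ∈ W :=
  exists_schematic_nbhd_of_open (𝟙 X) ((RepWith @IsOpenImmersion).id_mem X) hqs x
    ⟨x, by rw [Points.map_id]⟩ hx

end Groth.Agent.H52.CodimZeroSchematic
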