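import Groth.Agent.H52.EtDegB

/-!
# Bounded degree implies finite fibres
-/

set_option autoImplicit false
universe u
open CategoryTheory CategoryTheory.Limits AlgebraicGeometry

namespace Groth.Agent.H52.EtDeg

open Groth.Agent.H53.ZMT

/-- Finitely many points of a fibre give a field valued point with that many lifts. -/
theorem mem_strat_of_finset {Y U : Scheme.{u}} (e : Y ⟶ U) (u : U) (F : Finset Y)
    (hF : ∀ r ∈ F, e r = u) : u ∈ Strat e F.card := by
  classical
  suffices h : ∃ (K : Type u) (_ : Field K) (y : Spec (.of K) ⟶ U)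
      (s : Finset (Spec (.of K) ⟶ Y)), y (IsLocalRing.closedPoint K) = u ∧
      (∀ x ∈ s, x ≫ e = y) ∧ s.card = F.card ∧ ∀ x ∈ s, x (IsLocalRing.closedPoint K) ∈ F by
    obtain ⟨K, _, y, s, hy, hs, hc, -⟩ := h
    exact ⟨K, inferInstance, y, s, hy, hs, hc⟩
  induction F using Finset.induction_on with
  | empty =>
    refine ⟨U.residueField u, inferInstance, U.fromSpecResidueField u, ∅, ?_, by simp, by simp,
      by simp⟩
    exact U.fromSpecResidueField_apply u _
  | insert r₀ F hr₀ ih =>
    obtain ⟨K, _, y, s, hy, hs, hc, hsF⟩ := ih (fun r hr => hF r (Finset.mem_insert_of_mem hr))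
    have hr₀u : e r₀ = u := hF r₀ (Finset.mem_insert_self _ _)
    obtain ⟨K', _, c₁, c₂, hcc⟩ := exists_common_field y (Y.fromSpecResidueField r₀ ≫ e) (by
      rw [hy, Scheme.Hom.comp_apply, ← hr₀u]
      exact congrArg e (Y.fromSpecResidueField_apply r₀ _).symm)
    have hepi : Epi c₁ := epi_of_fields c₁
    let x₀ : Spec (.of K') ⟶ Y := c₂ ≫ Y.fromSpecResidueField r₀
    have hx₀pt : x₀ (IsLocalRing.closedPoint K') = r₀ := by
      rw [Scheme.Hom.comp_apply]
      exact Y.fromSpecResidueField_apply r₀ _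
    have hx₀e : x₀ ≫ e = c₁ ≫ y := by rw [hcc, Category.assoc]
    let s₁ : Finset (Spec (.of K') ⟶ Y) := s.image (fun x => c₁ ≫ x)
    have hs₁pt : ∀ x ∈ s₁, x (IsLocalRing.closedPoint K') ∈ F := by
      intro x hx
      obtain ⟨x', hx', rfl⟩ := Finset.mem_image.1 hx
      rw [Scheme.Hom.comp_apply]
      have : c₁ (IsLocalRing.closedPoint K') = IsLocalRing.closedPoint K :=
        Subsingleton.elim (α := PrimeSpectrum K) _ _
      rw [this]
      exact hsF x' hx'
    have hx₀s₁ : x₀ ∉ s₁ := fun h => hr₀ (hx₀pt ▸ hs₁pt x₀ h)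
    refine ⟨K', inferInstance, c₁ ≫ y, insert x₀ s₁, ?_, ?_, ?_, ?_⟩
    · rw [Scheme.Hom.comp_apply]
      have : c₁ (IsLocalRing.closedPoint K') = IsLocalRing.closedPoint K :=
        Subsingleton.elim (α := PrimeSpectrum K) _ _
      rw [this, hy]
    · intro x hx
      rcases Finset.mem_insert.1 hx with rfl | hx
      · exact hx₀e
      · obtain ⟨x', hx', rfl⟩ := Finset.mem_image.1 hx
        rw [Category.assoc, hs x' hx']
    · rw [Finset.card_insert_of_notMem hx₀s₁, Finset.card_insert_of_notMem hr₀,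
        Finset.card_image_of_injective _ (fun x x' h => (cancel_epi c₁).1 h), hc]
    · intro x hx
      rcases Finset.mem_insert.1 hx with rfl | hx
      · rw [hx₀pt]; exact Finset.mem_insert_self _ _
      · exact Finset.mem_insert_of_mem (hs₁pt x hx)

/-- A morphism of bounded degree has finite fibres. -/
theorem finite_fibre_of_strat_eq_empty {Y U : Scheme.{u}} (e : Y ⟶ U) (N : ℕ)
    (h : ∀ u, u ∉ Strat e (N + 1)) (u : U) : (e ⁻¹' {u}).Finite := by
  by_contra hinf
  obtain ⟨F, hFsub, hFc⟩ := Set.Infinite.exists_subset_card_eq hinf (N + 1)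
  exact h u (hFc ▸ mem_strat_of_finset e u F (fun r hr => hFsub hr))

end Groth.Agent.H52.EtDeg
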