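import Mathlib.Topology.Irreducible
import Mathlib.Topology.Sober
import Mathlib.Topology.Separation.Basic

/-!
# Finiteness of the set of irreducible components under open embeddings and dense maps
-/

set_option autoImplicit false
open Set Topology

namespace Groth.Agent.H52.IrredComp

variable {A T : Type*} [TopologicalSpace A] [TopologicalSpace T]

/-- An irreducible component of the source of an open embedding is the preimage of an irreducible
component of the target. -/
theorem exists_eq_preimage_of_isOpenEmbedding {f : A → T} (hf : IsOpenEmbedding f) (Z : Set A)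
    (hZ : Z ∈ irreducibleComponents A) : ∃ C ∈ irreducibleComponents T, Z = f ⁻¹' C := by
  have hZirr : IsIrreducible Z := hZ.1
  have himg : IsIrreducible (f '' Z) := hZirr.image f hf.continuous.continuousOn
  obtain ⟨C, hCpre, hsub, hmax⟩ := exists_preirreducible (f '' Z) himg.2
  have hCne : C.Nonempty := himg.1.mono hsub
  have hCirr : IsIrreducible C := ⟨hCne, hCpre⟩
  have hCcomp : C ∈ irreducibleComponents T := by
    refine ⟨hCirr, fun u hu hCu => ?_⟩
    exact (hmax u hu.2 hCu).le
  refine ⟨C, hCcomp, ?_⟩
  have hne : (C ∩ range f).Nonempty := by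
    obtain ⟨z, hz⟩ := hZirr.1
    exact ⟨f z, hsub ⟨z, hz, rfl⟩, z, rfl⟩
  have hpre : IsIrreducible (f ⁻¹' C) := hCirr.preimage hf hne
  have hZsub : Z ⊆ f ⁻¹' C := fun z hz => hsub ⟨z, hz, rfl⟩
  exact (hZ.eq_of_le hpre hZsub)

/-- The source of an open embedding into a space with finitely many irreducible components has
finitely many irreducible components. -/
theorem finite_of_isOpenEmbedding {f : A → T} (hf : IsOpenEmbedding f)
    (h : (irreducibleComponents T).Finite) : (irreducibleComponents A).Finite := by
  refine (h.image (fun C => f ⁻¹' C)).subset ?_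
  intro Z hZ
  obtain ⟨C, hC, rfl⟩ := exists_eq_preimage_of_isOpenEmbedding hf Z hZ
  exact ⟨C, hC, rfl⟩

/-- The target of a continuous map with dense range from a space with finitely many irreducible
components has finitely many irreducible components. -/
theorem finite_of_denseRange {f : A → T} (hf : Continuous f) (hd : DenseRange f)
    (h : (irreducibleComponents A).Finite) : (irreducibleComponents T).Finite := by
  classical
  refine (h.image (fun Z => closure (f '' Z))).subset ?_
  intro C hC
  have hcover : (Set.univ : Set T) ⊆ ⋃ Z ∈ irreducibleComponents A, closure (f '' Z) := by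
    have h1 : closure (range f) = Set.univ := hd.closure_range
    have h2 : range f = ⋃ Z ∈ irreducibleComponents A, f '' Z := by
      rw [← image_univ, ← sUnion_irreducibleComponents, sUnion_eq_biUnion, image_iUnion₂]
    rw [← h1, h2, h.closure_biUnion]
  let t : Finset (Set T) := (h.image (fun Z => closure (f '' Z))).toFinset
  have hCirr : IsIrreducible C := hC.1
  obtain ⟨z, hz, hCz⟩ := (isIrreducible_iff_sUnion_isClosed.1 hCirr) t (by
    intro z hz
    rw [Finite.mem_toFinset] at hz
    obtain ⟨Z, -, rfl⟩ := hz
    exact isClosed_closure) (by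
    intro c _
    obtain ⟨Z, hZ, hcZ⟩ := mem_iUnion₂.1 (hcover (mem_univ c))
    exact ⟨closure (f '' Z), by
      rw [Finset.mem_coe, Finite.mem_toFinset]; exact ⟨Z, hZ, rfl⟩, hcZ⟩)
  rw [Finite.mem_toFinset] at hz
  obtain ⟨Z, hZ, rfl⟩ := hz
  refine ⟨Z, hZ, ?_⟩
  have hirr : IsIrreducible (closure (f '' Z)) :=
    (hZ.1.image f hf.continuousOn).closure
  exact (hC.eq_of_le hirr hCz).symm

/-- In a quasi-sober `T₀` space with finitely many irreducible components there are finitely many
generic points of irreducible components. -/
theorem finite_genericPoints [T0Space A] (h : (irreducibleComponents A).Finite) :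
    {x : A | ∃ Z ∈ irreducibleComponents A, IsGenericPoint x Z}.Finite := by
  refine Set.Finite.of_finite_image (f := fun x => closure {x}) (h.subset ?_) ?_
  · rintro _ ⟨x, ⟨Z, hZ, hx⟩, rfl⟩
    change closure {x} ∈ irreducibleComponents A
    rw [show closure {x} = Z from hx]
    exact hZ
  · rintro x ⟨Z, hZ, hx⟩ y ⟨Z', hZ', hy⟩ hxy
    have h1 : closure {x} = closure {y} := hxy
    exact ((inseparable_iff_closure_eq).2 h1).eq

end Groth.Agent.H52.IrredComp
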