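import Groth.Agent.H52.CodimZeroQF
import Groth.Agent.H52.Special

set_option autoImplicit false
universe u
open CategoryTheory CategoryTheory.Limits AlgebraicGeometry Opposite

namespace Groth.Agent.H52.CZ

open AlgSp QFAt

/-- A point where `h` is quasi-finite has no proper specialization within its fibre. -/
theorem eq_of_specializes_of_quasiFiniteAt {W V : Scheme.{u}} (h : W ⟶ V) [LocallyOfFiniteType h]
    (w' w : W) (hq : h.QuasiFiniteAt w') (hs : w' ⤳ w) (h1 : h w = h w') : w = w' := by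
  have hcl := hq.isClopen_singleton_asFiber.1
  have hw : w ∈ h ⁻¹' {h w'} := h1
  have hmem : (h.fiberHomeo (h w')).symm ⟨w, hw⟩ ∈ ({h.asFiber w'} : Set (h.fiber (h w'))) := by
    rw [← hcl.closure_eq]
    rw [← specializes_iff_mem_closure]
    have hs' : (⟨w', rfl⟩ : h ⁻¹' {h w'}) ⤳ ⟨w, hw⟩ :=
      Topology.IsEmbedding.subtypeVal.specializes_iff.1 hs
    exact hs'.map (h.fiberHomeo (h w')).symm.continuous
  have h2 := congrArg (fun z => h.fiberι (h w') z) (Set.mem_singleton_iff.1 hmem)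
  simp only [Scheme.Hom.fiberι_fiberHomeo_symm, Scheme.Hom.fiberι_asFiber] at h2
  exact h2

variable {S : Scheme.{u}}

/-- The statement of S10485. -/
theorem s10485 {X Y : AlgSp.Space S} (hXi : AlgSp.IsIntegralSp X.obj)
    (hYi : AlgSp.IsIntegralSp Y.obj)
    (f : X ⟶ Y) (hft : AlgSp.LocP @LocallyOfFiniteType f.hom) (hd : AlgSp.IsDominantMor f.hom)
    (x : AlgSp.Points X.obj) (hx : IsGenericPoint x (Set.univ : Set (AlgSp.Points X.obj)))
    (y : AlgSp.Points Y.obj) (hy : IsGenericPoint y (Set.univ : Set (AlgSp.Points Y.obj))) :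
    AlgSp.HasAtMor QFNear f.hom x ↔
      (∀ x' : AlgSp.Points X.obj, AlgSp.Points.map f.hom x' = y → x' = x) := by
  obtain ⟨U, a, ha, has⟩ := X.property.atlas
  obtain ⟨V, b, hb, hbs⟩ := Y.property.atlas
  obtain ⟨W, a', h, ha', has', e⟩ := exists_chart_diagram f.hom a ha has b hb hbs
  have hlft : LocallyOfFiniteType h.left := hft a' b h ha' hb e
  have hsurj := H51.surjective_ofPt_of_surjective a' has'
  have hXd : IsDecent X.obj := hXi.2.1
  have hYd : IsDecent Y.obj := hYi.2.1
  have hT0X : T0Space (Points X.obj) := t0Space_points_of_isDecent hXd a ha has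
  have hT0Y : T0Space (Points Y.obj) := t0Space_points_of_isDecent hYd b hb hbs
  -- f x = y
  have hfx : Points.map f.hom x = y := by
    refine IsGenericPoint.eq ?_ hy
    change closure {Points.map f.hom x} = Set.univ
    rw [← Set.univ_subset_iff, ← hd.closure_range]
    refine closure_minimal ?_ isClosed_closure
    rintro _ ⟨x', rfl⟩
    have hs : x ⤳ x' := by
      rw [specializes_iff_mem_closure, hx.def]; trivial
    exact specializes_iff_mem_closure.1 (hs.map (Points.continuous_map f.hom))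
  constructor
  · rintro ⟨U₂, V₂, a₂, b₂, h₂, u₂, ha₂, hb₂, e₂, hu₂, hq⟩ x' hx'
    obtain ⟨w', rfl⟩ := hsurj x'
    have hs : x ⤳ Points.ofPt a' w' := by
      rw [specializes_iff_mem_closure, hx.def]; trivial
    obtain ⟨p, hp, -, hpq⟩ := hXd x
    obtain ⟨w₁, hw₁s, hw₁⟩ := exists_specializes_lift _ x hs p hp hpq a' ha' w' rfl
    have hv : h.left w' = h.left w₁ := by
      refine eq_of_specializes_of_isDecent hYd b hb _ _ ?_ (hw₁s.map h.left.continuous)
      rw [← map_ofPt_chart f.hom a' b h e, ← map_ofPt_chart f.hom a' b h e, hw₁, hx', hfx]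
    have hq₁ : h.left.QuasiFiniteAt w₁ :=
      quasiFiniteAt_chart_indep f.hom a' b h ha' hb e a₂ b₂ h₂ ha₂ hb₂ e₂ w₁ u₂
        (hw₁.trans hu₂.symm) (quasiFiniteAt_of_qfNear h₂.left u₂ hq)
    rw [eq_of_specializes_of_quasiFiniteAt h.left w₁ w' hq₁ hw₁s hv, hw₁]
  · intro huniq
    obtain ⟨w, rfl⟩ := hsurj x
    refine ⟨W, V, a', b, h, w, ha', hb, e, rfl, ?_⟩
    refine qfNear_of_quasiFiniteAt h.left w ?_
    refine quasiFiniteAt_of_fibre_generic h.left (h.left w) (fun w₁ hw₁ => ?_) w rfl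
    have hx₁ : Points.ofPt a' w₁ = Points.ofPt a' w := by
      apply huniq
      rw [map_ofPt_chart f.hom a' b h e, hw₁, ← map_ofPt_chart f.hom a' b h e, hfx]
    rw [stalk_dim_zero_iff]
    intro w₂ hw₂
    have h1 : Points.ofPt a' w₂ ⤳ Points.ofPt a' w := by
      rw [← hx₁]; exact hw₂.map (Points.continuous_ofPt a')
    have h2 : Points.ofPt a' w ⤳ Points.ofPt a' w₂ := by
      rw [specializes_iff_mem_closure, hx.def]; trivial
    have h3 : Points.ofPt a' w₂ = Points.ofPt a' w := (h1.antisymm h2).eq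
    exact (eq_of_specializes_of_isDecent hXd a' ha' w₁ w₂ (hx₁.trans h3.symm) hw₂).symm

end Groth.Agent.H52.CZ
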