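import Groth.Agent.H52.QFAt
import Groth.Agent.H51.SpDim
import Mathlib.AlgebraicGeometry.ZariskisMainTheorem

set_option autoImplicit false
universe u
open CategoryTheory CategoryTheory.Limits AlgebraicGeometry Opposite

namespace Groth.Agent.H52

open AlgSp QFAt

/-- The pointed property used in the statements for "quasi-finite at a point". -/
def QFNear : ∀ (U V : Scheme.{u}), (U ⟶ V) → ↥U → Prop :=
  fun U _ h u => ∃ W : U.Opens, u ∈ W ∧ LocallyQuasiFinite (W.ι ≫ h) ∧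
    LocallyOfFiniteType (W.ι ≫ h)

theorem quasiFiniteAt_of_qfNear {U V : Scheme.{u}} (h : U ⟶ V) (u : U) (hq : QFNear U V h u) :
    h.QuasiFiniteAt u := by
  obtain ⟨W, hu, hlqf, -⟩ := hq
  have h1 : (W.ι ≫ h).QuasiFiniteAt ⟨u, hu⟩ := (W.ι ≫ h).quasiFiniteAt _
  rw [Scheme.Hom.quasiFiniteAt_comp_iff_of_isOpenImmersion] at h1
  exact h1

theorem qfNear_of_quasiFiniteAt {U V : Scheme.{u}} (h : U ⟶ V) [LocallyOfFiniteType h] (u : U)
    (hq : h.QuasiFiniteAt u) : QFNear U V h u :=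
  ⟨h.quasiFiniteLocus, hq, inferInstance, inferInstance⟩

variable {S : Scheme.{u}}

/-- **Chart independence** of quasi-finiteness at a point. -/
theorem quasiFiniteAt_chart_indep {X Y : Sp S} (f : X ⟶ Y) {U₁ V₁ U₂ V₂ : Over S}
    (a₁ : (yon S).obj U₁ ⟶ X) (b₁ : (yon S).obj V₁ ⟶ Y) (h₁ : U₁ ⟶ V₁)
    (ha₁ : RepWith @Etale a₁) (hb₁ : RepWith @Etale b₁) (e₁ : a₁ ≫ f = (yon S).map h₁ ≫ b₁)
    (a₂ : (yon S).obj U₂ ⟶ X) (b₂ : (yon S).obj V₂ ⟶ Y) (h₂ : U₂ ⟶ V₂)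
    (ha₂ : RepWith @Etale a₂) (hb₂ : RepWith @Etale b₂) (e₂ : a₂ ≫ f = (yon S).map h₂ ≫ b₂)
    (u₁ : ↥U₁.left) (u₂ : ↥U₂.left) (hu : Points.ofPt a₁ u₁ = Points.ofPt a₂ u₂)
    [LocallyOfFiniteType h₁.left] (hq : h₂.left.QuasiFiniteAt u₂) :
    h₁.left.QuasiFiniteAt u₁ := by
  obtain ⟨P, p₁, p₂, p, hp₁, hp₂, hpu₁, hpu₂, hcomm⟩ :=
    H51.exists_common_etale_refinement a₁ ha₁ a₂ ha₂ u₁ u₂ hu
  have sqV := hb₁.rep.isPullback b₂
  obtain ⟨q₁, hq₁⟩ := (yon S).map_surjective (hb₁.rep.fst b₂)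
  rw [← hq₁] at sqV
  have hq₂e : Etale (hb₁.rep.snd b₂).left := hb₁.property_snd b₂
  have hq₁e : Etale q₁.left := hb₂.2 b₁ ((yon S).map (hb₁.rep.snd b₂)) q₁ sqV.flip
  have hw : (yon S).map (p₁ ≫ h₁) ≫ b₁ = (yon S).map (p₂ ≫ h₂) ≫ b₂ := by
    rw [Functor.map_comp, Functor.map_comp, Category.assoc, Category.assoc, ← e₁, ← e₂,
      ← Category.assoc, ← Category.assoc, hcomm]
  obtain ⟨k, hk⟩ := (yon S).map_surjective (sqV.lift _ _ hw)
  have hk1 : k ≫ q₁ = p₁ ≫ h₁ := (yon S).map_injective (by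
    rw [Functor.map_comp, hk]; exact sqV.lift_fst _ _ hw)
  have hk2 : k ≫ hb₁.rep.snd b₂ = p₂ ≫ h₂ := (yon S).map_injective (by
    rw [Functor.map_comp, hk]; exact sqV.lift_snd _ _ hw)
  have hk1l : k.left ≫ q₁.left = p₁.left ≫ h₁.left := congrArg (fun m => m.left) hk1
  have hk2l : k.left ≫ (hb₁.rep.snd b₂).left = p₂.left ≫ h₂.left :=
    congrArg (fun m => m.left) hk2
  have : LocallyQuasiFinite q₁.left := H50.locallyQuasiFinite_of_etale _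
  have : LocallyQuasiFinite (hb₁.rep.snd b₂).left := H50.locallyQuasiFinite_of_etale _
  have : LocallyQuasiFinite p₂.left := H50.locallyQuasiFinite_of_etale _
  -- transport along the chain
  have s1 : (p₂.left ≫ h₂.left).QuasiFiniteAt p :=
    quasiFiniteAt_comp p₂.left h₂.left p (p₂.left.quasiFiniteAt p) (by rw [hpu₂]; exact hq)
  rw [← hk2l, Scheme.Hom.quasiFiniteAt_comp_iff] at s1
  have s2 : (k.left ≫ q₁.left).QuasiFiniteAt p := by
    rw [Scheme.Hom.quasiFiniteAt_comp_iff]; exact s1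
  rw [hk1l] at s2
  have := quasiFiniteAt_of_comp_of_isOpenMap p₁.left h₁.left p₁.left.isOpenMap p s2
  rwa [hpu₁] at this

end Groth.Agent.H52
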