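import Groth.Agent.S1608
import Groth.Agent.H51.SpDim
import Groth.Agent.H51.ResTrdeg2
import Groth.Agent.H52.QFAtSp
import Groth.Agent.H52.CodimZeroQF
import Groth.Agent.H52.GenericQF

/-!
# Quasi-finiteness over points of codimension at most one (algebraic spaces)
-/

set_option autoImplicit false
set_option linter.style.haveILetI false
universe u

open CategoryTheory CategoryTheory.Limits AlgebraicGeometry Opposite

namespace Groth.Agent.H52.QFCodimOne

open AlgSp

variable {S : Scheme.{u}}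

/-- The generic point of an irreducible component has a zero-dimensional local ring. -/
theorem stalk_dim_zero_of_isGenericPoint {U : Scheme.{u}} (Z : Set ↥U)
    (hZ : Z ∈ irreducibleComponents (U : Type u)) (η : U) (hη : IsGenericPoint η Z) :
    ringKrullDim (U.presheaf.stalk η) = 0 := by
  rw [CZ.stalk_dim_zero_iff]
  intro η' hs
  have h1 : Z ⊆ closure {η'} := by
    rw [← hη.def]
    exact closure_minimal (Set.singleton_subset_iff.2 hs.mem_closure) isClosed_closure
  have h2 : closure {η'} = Z := (hZ.eq_of_le isIrreducible_singleton.closure h1).symm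
  exact (IsGenericPoint.eq (show IsGenericPoint η' Z from h2) hη)

open TopologicalSpace in
/-- In a Noetherian sober space an open set whose closure contains a maximal point contains it. -/
theorem mem_of_mem_closure_of_maximal {α : Type*} [TopologicalSpace α] [NoetherianSpace α]
    [QuasiSober α] [T0Space α]
    (u : α) (hu : ∀ u' : α, u' ⤳ u → u' = u) (Q : Set α) (hQ : IsOpen Q) (huQ : u ∈ closure Q) :
    u ∈ Q := by
  classical
  have hfin := NoetherianSpace.finite_irreducibleComponents (α := α)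
  have hcomp : ∀ Z ∈ irreducibleComponents α, u ∈ Z → Z = closure {u} := by
    intro Z hZ huZ
    have hZc : IsClosed Z := isClosed_of_mem_irreducibleComponents Z hZ
    obtain ⟨ξ, hξ⟩ := QuasiSober.sober hZ.1 hZc
    have : ξ ⤳ u := hξ.specializes huZ
    rw [hu ξ this] at hξ
    exact hξ.def.symm
  let O := (⋃₀ {Z | Z ∈ irreducibleComponents α ∧ u ∉ Z})ᶜ
  have hOopen : IsOpen O := by
    refine IsClosed.isOpen_compl (self := ?_)
    have hfin' : {Z | Z ∈ irreducibleComponents α ∧ u ∉ Z}.Finite :=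
      Set.Finite.subset hfin (fun Z hZ => hZ.1)
    rw [Set.sUnion_eq_biUnion]
    exact Set.Finite.isClosed_biUnion hfin'
      (fun Z hZ => isClosed_of_mem_irreducibleComponents Z hZ.1)
  have huO : u ∈ O := by
    rintro ⟨Z, ⟨hZ, huZ⟩, h⟩
    exact huZ h
  obtain ⟨q, hqO, hqQ⟩ := mem_closure_iff.1 huQ O hOopen huO
  have hq : q ∈ closure {u} := by
    have hq := mem_irreducibleComponent (x := q)
    have hmem := irreducibleComponent_mem_irreducibleComponents q
    by_cases hu' : u ∈ irreducibleComponent q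
    · rw [← hcomp _ hmem hu']; exact hq
    · exact absurd ⟨_, ⟨hmem, hu'⟩, hq⟩ hqO
  exact (specializes_iff_mem_closure.2 hq).mem_open hQ hqQ

/-- In a locally Noetherian scheme an open set whose closure contains a point of codimension zero
contains that point. -/
theorem mem_of_mem_closure_of_dim_zero {U : Scheme.{u}} [IsLocallyNoetherian U] (u : U)
    (hu : ringKrullDim (U.presheaf.stalk u) = 0) (Q : Set ↥U) (hQ : IsOpen Q)
    (huQ : u ∈ closure Q) : u ∈ Q := by
  obtain ⟨N₀, hN₀, huN₀, -⟩ := (TopologicalSpace.Opens.isBasis_iff_nbhd.1 U.isBasis_affineOpens)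
    (show u ∈ (⊤ : U.Opens) from trivial)
  have hN₀' : IsAffineOpen N₀ := hN₀
  haveI : IsNoetherianRing Γ(U, N₀) := IsLocallyNoetherian.component_noetherian ⟨N₀, hN₀'⟩
  haveI : TopologicalSpace.NoetherianSpace ↥N₀ := noetherianSpace_of_isAffineOpen N₀ hN₀'
  haveI : QuasiSober ↥N₀ := inferInstanceAs (QuasiSober ↥(N₀ : Scheme.{u}))
  haveI : T0Space ↥N₀ := inferInstanceAs (T0Space ↥(N₀ : Scheme.{u}))
  rw [CZ.stalk_dim_zero_iff] at hu
  have key := mem_of_mem_closure_of_maximal (α := ↥N₀) ⟨u, huN₀⟩ ?_ (Subtype.val ⁻¹' Q)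
    (hQ.preimage continuous_subtype_val) ?_
  · exact key
  · rintro ⟨u', hu'⟩ hs
    have : u' ⤳ u := (subtype_specializes_iff (⟨u', hu'⟩ : ↥N₀) ⟨u, huN₀⟩).1 hs
    exact Subtype.ext (hu u' this)
  · rw [mem_closure_iff]
    intro O hO huO
    obtain ⟨O', hO', rfl⟩ := isOpen_induced_iff.1 hO
    obtain ⟨q, ⟨hqO, hqN⟩, hqQ⟩ := mem_closure_iff.1 huQ (O' ∩ N₀) (hO'.inter N₀.2) ⟨huO, huN₀⟩
    exact ⟨⟨q, hqN⟩, hqO, hqQ⟩

/-- Chart independence of "the local ring has dimension at most one". -/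
theorem ringKrullDim_le_of_hasAt {Y : Sp S} (y : Points Y) (d : WithBot ℕ∞)
    (hy : HasAt (fun U u => ringKrullDim ↥(U.presheaf.stalk u) ≤ d) Y y)
    {V : Over S} (b : (yon S).obj V ⟶ Y) (hb : RepWith @Etale b) (v : ↥V.left)
    (hv : Points.ofPt b v = y) : ringKrullDim (V.left.presheaf.stalk v) ≤ d := by
  obtain ⟨V₁, b₁, v₁, hb₁, hv₁, hd⟩ := hy
  obtain ⟨W, p₁, p₂, w, hp₁, hp₂, hw1, hw2, -⟩ :=
    H51.exists_common_etale_refinement b₁ hb₁ b hb v₁ v (hv₁.trans hv.symm)
  rw [← hw2, ← H51.ringKrullDim_stalk_eq_of_etale p₂.left w,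
    H51.ringKrullDim_stalk_eq_of_etale p₁.left w, hw1]
  exact hd

/-- **S10503**: quasi-finite at all codimension 0 points implies quasi-finite over points of
codimension at most one. -/
theorem s10503 {X Y : AlgSp.Space S} (f : X ⟶ Y)
    (hf : AlgSp.LocP @LocallyOfFiniteType f.hom) (hY : AlgSp.IsLocNoethSp Y.obj)
    (y : AlgSp.Points Y.obj)
    (hy : AlgSp.HasAt (fun U u => ringKrullDim ↥(U.presheaf.stalk u) ≤ 1) Y.obj y)
    (h : ∀ x : AlgSp.Points X.obj,
      AlgSp.HasAt (fun U u => ringKrullDim ↥(U.presheaf.stalk u) = 0) X.obj x →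
        AlgSp.HasAtMor QFNear f.hom x)
    (x : AlgSp.Points X.obj) (hx : AlgSp.Points.map f.hom x = y) :
    AlgSp.HasAtMor QFNear f.hom x := by
  obtain ⟨V, b, hb, hbs, hVN⟩ := hY
  obtain ⟨U, a, h', ha, has, e⟩ := Groth.Agent.H49.exists_chart_lift X.property f.hom b hb hbs
  obtain ⟨u, hu⟩ := H51.surjective_ofPt_of_surjective a has x
  haveI : LocallyOfFiniteType h'.left := hf a b h' ha hb e
  haveI : IsLocallyNoetherian V.left := hVN
  have hv : Points.ofPt b (h'.left u) = y := by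
    rw [← CZ.map_ofPt_chart f.hom a b h' e u, hu, hx]
  have hdim := ringKrullDim_le_of_hasAt y 1 hy b hb (h'.left u) hv
  have hgen : ∀ Z ∈ irreducibleComponents (U.left : Type u), ∀ η : U.left,
      IsGenericPoint η Z → h'.left.QuasiFiniteAt η := by
    intro Z hZ η hη
    have hd0 := stalk_dim_zero_of_isGenericPoint Z hZ η hη
    obtain ⟨U₂, V₂, a₂, b₂, h₂, u₂, ha₂, hb₂, e₂, hu₂, hq⟩ :=
      h (Points.ofPt a η) ⟨U, a, η, ha, rfl, hd0⟩
    exact quasiFiniteAt_chart_indep f.hom a b h' ha hb e a₂ b₂ h₂ ha₂ hb₂ e₂ η u₂ hu₂.symm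
      (quasiFiniteAt_of_qfNear _ _ hq)
  have hq := Groth.Agent.S1608.result h'.left (h'.left u) hdim hgen u rfl
  exact ⟨U, V, a, b, h', u, ha, hb, e, hu, qfNear_of_quasiFiniteAt _ _ hq⟩

/-- If the quasi-finite locus of `f` is dense and the target is locally Noetherian, `f` is
quasi-finite at every point of codimension zero. -/
theorem hasAtMor_qfNear_of_dense {X Y : AlgSp.Space S} (f : X ⟶ Y)
    (hf : AlgSp.LocP @LocallyOfFiniteType f.hom) (hY : AlgSp.IsLocNoethSp Y.obj)
    (h : Dense {x : AlgSp.Points X.obj | AlgSp.HasAtMor QFNear f.hom x})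
    (x : AlgSp.Points X.obj)
    (hx : AlgSp.HasAt (fun U u => ringKrullDim ↥(U.presheaf.stalk u) = 0) X.obj x) :
    AlgSp.HasAtMor QFNear f.hom x := by
  obtain ⟨V, b, hb, hbs, hVN⟩ := hY
  obtain ⟨U, a, h', ha, has, e⟩ := Groth.Agent.H49.exists_chart_lift X.property f.hom b hb hbs
  obtain ⟨u, hu⟩ := H51.surjective_ofPt_of_surjective a has x
  haveI : LocallyOfFiniteType h'.left := hf a b h' ha hb e
  haveI : IsLocallyNoetherian V.left := hVN
  haveI : IsLocallyNoetherian U.left := LocallyOfFiniteType.isLocallyNoetherian h'.left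
  have hd0 : ringKrullDim (U.left.presheaf.stalk u) = 0 := (H51.s10248 X x 0).1 hx U a u ha hu
  have hcl : u ∈ closure (h'.left.quasiFiniteLocus : Set ↥U.left) := by
    rw [mem_closure_iff]
    intro M hM huM
    have hopen : IsOpen (Points.ofPt a '' M) := H51.isOpenMap_ofPt_of_etale a ha M hM
    obtain ⟨_, ⟨m, hmM, rfl⟩, hmD⟩ := h.inter_open_nonempty _ hopen ⟨_, u, huM, rfl⟩
    obtain ⟨U₂, V₂, a₂, b₂, h₂, u₂, ha₂, hb₂, e₂, hu₂, hq⟩ := hmD
    refine ⟨m, hmM, ?_⟩
    exact quasiFiniteAt_chart_indep f.hom a b h' ha hb e a₂ b₂ h₂ ha₂ hb₂ e₂ m u₂ hu₂.symm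
      (quasiFiniteAt_of_qfNear _ _ hq)
  have hq : h'.left.QuasiFiniteAt u :=
    mem_of_mem_closure_of_dim_zero u hd0 _ h'.left.quasiFiniteLocus.2 hcl
  exact ⟨U, V, a, b, h', u, ha, hb, e, hu, qfNear_of_quasiFiniteAt _ _ hq⟩

end Groth.Agent.H52.QFCodimOne
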