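import Groth.Agent.H52.EtDegF
import Groth.Agent.H52.EtDegG
import Groth.Agent.H52.IrredCompFinite
import Groth.Agent.H52.QFCodimOne
import Groth.Agent.H52.Decent
import Groth.Agent.H51.SpGlue2

/-!
# A space with a dense open subscheme with finitely many irreducible components whose generic
points are quasi-compact is decent
-/

set_option autoImplicit false
universe u
open CategoryTheory CategoryTheory.Limits AlgebraicGeometry Opposite

namespace Groth.Agent.H52.DecentGeneric

open AlgSp Groth.Agent.H52 Groth.Agent.H52.EtDeg Groth.Agent.H50 Groth.Agent.H51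

variable {S : Scheme.{u}}

/-- A point of a scheme with zero dimensional local ring is the generic point of an irreducible
component. -/
theorem exists_isGenericPoint_of_stalk_dim_zero {Y : Scheme.{u}} (y : Y)
    (h : ringKrullDim (Y.presheaf.stalk y) = 0) :
    ∃ Z ∈ irreducibleComponents ↥Y, IsGenericPoint y Z := by
  have hZ : irreducibleComponent y ∈ irreducibleComponents (Y : Type u) :=
    irreducibleComponent_mem_irreducibleComponents y
  have hirr : IsIrreducible (irreducibleComponent y) := isIrreducible_irreducibleComponent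
  have hcl : IsClosed (irreducibleComponent y) := isClosed_irreducibleComponent
  have hη : IsGenericPoint hirr.genericPoint (irreducibleComponent y) :=
    hirr.isGenericPoint_genericPoint hcl
  have hs : hirr.genericPoint ⤳ y := hη.specializes mem_irreducibleComponent
  have : hirr.genericPoint = y := (CZ.stalk_dim_zero_iff y).1 h _ hs
  exact ⟨irreducibleComponent y, hZ,
    Eq.subst (motive := fun z => IsGenericPoint z (irreducibleComponent y)) this hη⟩

/-- Every point of a scheme is a specialization of a point with zero dimensional local ring. -/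
theorem exists_specializes_stalk_dim_zero {Y : Scheme.{u}} (y : Y) :
    ∃ η : Y, η ⤳ y ∧ ringKrullDim (Y.presheaf.stalk η) = 0 := by
  have hZ : irreducibleComponent y ∈ irreducibleComponents (Y : Type u) :=
    irreducibleComponent_mem_irreducibleComponents y
  have hirr : IsIrreducible (irreducibleComponent y) := isIrreducible_irreducibleComponent
  have hcl : IsClosed (irreducibleComponent y) := isClosed_irreducibleComponent
  have hη : IsGenericPoint hirr.genericPoint (irreducibleComponent y) :=
    hirr.isGenericPoint_genericPoint hcl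
  exact ⟨_, hη.specializes mem_irreducibleComponent,
    QFCodimOne.stalk_dim_zero_of_isGenericPoint _ hZ _ hη⟩

section

variable {X : Sp S} {X' : Over S} (j : (yon S).obj X' ⟶ X) (hj : RepWith @IsOpenImmersion j)
  (hd : Dense (Set.range (Points.ofPt j))) (hfin : (irreducibleComponents ↥X'.left).Finite)
  (hq : ∀ x' : ↥X'.left, (∃ T ∈ irreducibleComponents ↥X'.left, IsGenericPoint x' T) →
    RepWith @QuasiCompact (FieldPt.ofPt j x').toHom)

include hj hd hfin hq in
/-- The relation of an affine etale chart has finite fibres. -/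
theorem finite_fibre_relation {V R : Over S} [IsAffine V.left] (φ : (yon S).obj V ⟶ X)
    (hφ : RepWith @Etale φ) (s t : R ⟶ V)
    (sq : IsPullback ((yon S).map t) ((yon S).map s) φ φ) (v : V.left) :
    (s.left ⁻¹' {v}).Finite := by
  classical
  have hje : RepWith @Etale j := repWith_mono isOpenImmersion_le_etale hj
  have hjm : Mono j := Groth.Agent.H49.mono_of_repWith_mono isOpenImmersion_le_mono j hj
  have heq : IsEtaleEqvRel s t := isEtaleEqvRel_of_isPullback s t φ hφ sq
  have hset : Etale s.left := heq.etale_left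
  have hssep : IsSeparated s.left := isSeparated_of_isPullback_chart φ s t sq
  let G' : Set ↥X'.left := {x' | ∃ T ∈ irreducibleComponents ↥X'.left, IsGenericPoint x' T}
  have hG'fin : G'.Finite := IrredComp.finite_genericPoints hfin
  let W : Set (Points X) := Set.range (Points.ofPt j)
  let D' : Set ↥V.left := {v | ringKrullDim (V.left.presheaf.stalk v) = 0 ∧ Points.ofPt φ v ∈ W}
  -- every point of `D'` lies over a generic point of `X'`
  have hD'G' : ∀ η ∈ D', ∃ x' ∈ G', Points.ofPt j x' = Points.ofPt φ η := by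
    rintro η ⟨hdim, x', hx'⟩
    refine ⟨x', ?_, hx'⟩
    apply exists_isGenericPoint_of_stalk_dim_zero
    apply le_antisymm
    · exact QFCodimOne.ringKrullDim_le_of_hasAt (Points.ofPt φ η) 0
        ⟨V, φ, η, hφ, rfl, hdim.le⟩ j hje x' hx'
    · exact ringKrullDim_nonneg_of_nontrivial
  have hD'fin : D'.Finite := by
    have hsub : D' ⊆ ⋃ x' ∈ G', Points.ofPt φ ⁻¹' {Points.ofPt j x'} := by
      intro η hη
      obtain ⟨x', hx'G, hx'⟩ := hD'G' η hη
      exact Set.mem_iUnion₂.2 ⟨x', hx'G, hx'.symm⟩
    refine (hG'fin.biUnion (fun x' hx' => ?_)).subset hsub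
    exact finite_fibre_of_quasiCompact_point (FieldPt.ofPt j x') (hq x' hx') φ hφ
  -- every point is a specialization of a point of `D'`
  have hspec : ∀ v : V.left, ∃ η ∈ D', η ⤳ v := by
    intro v
    let C : Set ↥V.left := ⋃ η ∈ D', closure {η}
    have hCcl : IsClosed C := hD'fin.isClosed_biUnion (fun _ _ => isClosed_closure)
    have hV' : ∀ v' : V.left, Points.ofPt φ v' ∈ W → v' ∈ C := by
      intro v' hv'
      obtain ⟨η, hηs, hηd⟩ := exists_specializes_stalk_dim_zero v'
      have hopen : IsOpen (Points.ofPt φ ⁻¹' W) :=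
        ((isOpenMap_ofPt_of_repWith_etale j hje).isOpen_range).preimage
          (Points.continuous_ofPt φ)
      have hηW : Points.ofPt φ η ∈ W := hηs.mem_open hopen hv'
      exact Set.mem_iUnion₂.2 ⟨η, ⟨hηd, hηW⟩, hηs.mem_closure⟩
    have hvC : v ∈ C := by
      by_contra hvC
      have hO : IsOpen (Points.ofPt φ '' Cᶜ) :=
        isOpenMap_ofPt_of_repWith_etale φ hφ _ hCcl.isOpen_compl
      obtain ⟨_, ⟨v'', hv''C, rfl⟩, hv''W⟩ := hd.inter_open_nonempty _ hO ⟨_, v, hvC, rfl⟩
      exact hv''C (hV' v'' hv''W)
    obtain ⟨η, hη, hvη⟩ := Set.mem_iUnion₂.1 hvC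
    exact ⟨η, hη, specializes_iff_mem_closure.2 hvη⟩
  -- the degree bound
  have hbound : ∀ η ∈ D', ∃ N, η ∉ Strat s.left (N + 1) := by
    intro η hη
    obtain ⟨x', hx'G, hx'⟩ := hD'G' η hη
    have hm : Mono (FieldPt.ofPt j x').toHom := by
      rw [FieldPt.toHom_ofPt]
      exact @mono_comp _ _ _ _ _ _ (mono_yon_map (ptHom X' x')) _ hjm
    exact exists_notMem_strat_of_point φ hφ s t sq η (FieldPt.ofPt j x') hx' hm (hq x' hx'G)
  choose N hN using hbound
  let N' : ↥V.left → ℕ := fun η => if h : η ∈ D' then N η h else 0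
  let N₀ : ℕ := hD'fin.toFinset.sup N'
  have hall : ∀ v : V.left, v ∉ Strat s.left (N₀ + 1) := by
    intro v hv
    obtain ⟨η, hη, hηv⟩ := hspec v
    have h1 : η ∈ Strat s.left (N₀ + 1) := hηv.mem_open (isOpen_strat _ s.left) hv
    have h2 : N η hη ≤ N₀ := by
      have : N' η ≤ N₀ := Finset.le_sup (f := N') (hD'fin.mem_toFinset.2 hη)
      simpa [N', hη] using this
    exact hN η hη (strat_anti s.left (by omega) h1)
  exact finite_fibre_of_strat_eq_empty s.left N₀ hall v

include hj hd hfin hq in
/-- A space with a dense open subscheme with finitely many irreducible components whose generic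
points are quasi-compact is decent. -/
theorem isDecent_of_dense_open_subscheme (hX : IsAlgSpace X) : IsDecent X := by
  intro x
  obtain ⟨V₀, ψ, hψ, hψs⟩ := hX.atlas
  obtain ⟨v₀, rfl⟩ := ofPt_surjective_of_repWith_surjective ψ hψs x
  obtain ⟨V₁, hV₁, hv₀V₁, -⟩ := exists_isAffineOpen_mem_and_subset (x := v₀) (U := ⊤) trivial
  let V : Over S := overOpen V₀ V₁
  let φ : (yon S).obj V ⟶ X := (yon S).map (overOpenι V₀ V₁) ≫ ψ
  have hφ : RepWith @Etale φ := Groth.Agent.H51.repWith_etale_restrict ψ hψ V₁
  let v : V.left := ⟨v₀, hv₀V₁⟩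
  have hφv : Points.ofPt φ v = Points.ofPt ψ v₀ := ofPt_restrict ψ V₁ v
  have hVaff : IsAffine V.left := hV₁
  have hrep : Representable φ := hφ.rep
  have sq := hrep.isPullback φ
  obtain ⟨t, ht⟩ := (yon S).map_surjective (hrep.fst φ)
  set s := hrep.snd φ with hs
  rw [← ht] at sq
  have hfin_s := finite_fibre_relation j hj hd hfin hq φ hφ s t sq v
  have hfin_uu : {r : ↥(hrep.pullback φ).left | t.left r = v ∧ s.left r = v}.Finite :=
    hfin_s.subset (fun r hr => hr.2)
  obtain ⟨p, c, -, hm, -, hp⟩ := exists_mono_point_of_chart hX φ hφ v s t sq hfin_uu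
  refine ⟨p, hp.trans hφv, hm, repWith_quasiCompact_of_finite_fibres hX p hm ?_⟩
  intro V' φ' hV' hφ'
  by_cases hex : ∃ v' : V'.left, Points.ofPt φ' v' = Points.mk p
  · obtain ⟨v', hv'⟩ := hex
    have hrep' : Representable φ' := hφ'.rep
    have sq' := hrep'.isPullback φ'
    obtain ⟨t', ht'⟩ := (yon S).map_surjective (hrep'.fst φ')
    set s' := hrep'.snd φ' with hs'
    rw [← ht'] at sq'
    have hV'aff : IsAffine V'.left := hV'
    have hfin_t := finite_fibre_relation j hj hd hfin hq φ' hφ' t' s' sq'.flip v'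
    have horbit : Points.ofPt φ' ⁻¹' (Points.ofPt φ' '' {v'}) = s'.left '' (t'.left ⁻¹' {v'}) :=
      preimage_ofPt_image_ofPt sq' {v'}
    have : Points.ofPt φ' ⁻¹' {Points.mk p} = s'.left '' (t'.left ⁻¹' {v'}) := by
      rw [← horbit, Set.image_singleton, hv']
    rw [this]
    exact hfin_t.image _
  · have : Points.ofPt φ' ⁻¹' {Points.mk p} = ∅ := by
      ext v'
      simp only [Set.mem_preimage, Set.mem_singleton_iff, Set.mem_empty_iff_false, iff_false]
      exact fun h => hex ⟨v', h⟩
    rw [this]
    exact Set.finite_empty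

end

end Groth.Agent.H52.DecentGeneric
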