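import Groth.Agent.H52.Decent

set_option autoImplicit false
universe u
open CategoryTheory CategoryTheory.Limits AlgebraicGeometry Opposite

namespace Groth.Agent.H52

open AlgSp

variable {S : Scheme.{u}}

/-- Decent morphisms are stable under base change. -/
theorem isDecentMor_of_isPullback {F G F' G' : Sp S} {f : F ⟶ G} {g : G' ⟶ G} {fst : F' ⟶ F}
    {snd : F' ⟶ G'} (sq : IsPullback fst snd f g) (hf : IsDecentMor f) : IsDecentMor snd := by
  intro T P t a b hP
  exact hf (t ≫ g) (a ≫ fst) b (hP.paste_horiz sq)

/-- The source of a decent morphism with decent target is decent. -/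
theorem isDecent_of_isDecentMor {F G : Sp S} (f : F ⟶ G) (hf : IsDecentMor f) (hG : IsDecent G) :
    IsDecent F := by
  intro x
  obtain ⟨q, hq, hm, hqc⟩ := hG (Points.map f x)
  have hpb : IsPullback (pullback.fst f q.toHom) (pullback.snd f q.toHom) f q.toHom :=
    IsPullback.of_hasPullback _ _
  have hP : IsDecent (pullback f q.toHom) := hf q.toHom _ _ hpb
  obtain ⟨z, hz1, -⟩ := exists_point_of_isPullback hpb x
    (Points.ofScheme q.pt (IsLocalRing.closedPoint q.K)) (by
      rw [← hq, ← Points.ofPt_eq_map_ofScheme, Points.ofPt_toHom])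
  obtain ⟨r, hr, hrm, hrq⟩ := hP z
  have hmono_fst : Mono (pullback.fst f q.toHom) := hpb.mono_fst_of_mono
  refine ⟨r.map (pullback.fst f q.toHom), ?_, ?_, ?_⟩
  · rw [← Points.map_mk, hr, hz1]
  · rw [FieldPt.toHom_map]
    exact @mono_comp _ _ _ _ _ _ hrm _ hmono_fst
  · rw [FieldPt.toHom_map]
    refine (RepWith @QuasiCompact).comp_mem _ _ hrq ?_
    exact (RepWith @QuasiCompact).of_isPullback hpb.flip hqc

/-- A morphism of sheaves to an algebraic space whose source is decent is a decent morphism. -/
theorem isDecentMor_of_isDecent_source {F G : Sp S} (f : F ⟶ G) (hG : IsAlgSpace G)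
    (hF : IsDecent F) : IsDecentMor f := by
  intro T P t a b hP
  have hrep : Representable a :=
    (Representable (S := S)).of_isPullback hP.flip (hG.representable_from_yon t)
  exact isDecent_of_representable a hrep hF

/-- Decent morphisms are stable under composition. -/
theorem isDecentMor_comp {F G H : Sp S} (f : F ⟶ G) (g : G ⟶ H) (hf : IsDecentMor f)
    (hg : IsDecentMor g) : IsDecentMor (f ≫ g) := by
  intro T P t a b hP
  have hpb : IsPullback (pullback.fst g t) (pullback.snd g t) g t := IsPullback.of_hasPullback _ _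
  have hGT : IsDecent (pullback g t) := hg t _ _ hpb
  let c : P ⟶ pullback g t := pullback.lift (a ≫ f) b (by rw [Category.assoc]; exact hP.w)
  have hc1 : c ≫ pullback.fst g t = a ≫ f := pullback.lift_fst _ _ _
  have hc2 : c ≫ pullback.snd g t = b := pullback.lift_snd _ _ _
  have sq : IsPullback a c f (pullback.fst g t) := by
    refine IsPullback.of_bot ?_ hc1.symm hpb
    rw [hc2]
    exact hP
  have hcd : IsDecentMor c := isDecentMor_of_isPullback sq hf
  exact isDecent_of_isDecentMor c hcd hGT

end Groth.Agent.H52
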