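import Groth.Agent.H52.UBF9
import Groth.Agent.H52.NoSpec
import Groth.Agent.H52.Special
import Groth.Agent.H49.AlgSpClosed
import Groth.Agent.H24.LiftChains

set_option autoImplicit false
universe u
open CategoryTheory CategoryTheory.Limits AlgebraicGeometry Opposite

namespace Groth.Agent.H52

open AlgSp

variable {S : Scheme.{u}}

/-- A finite morphism of algebraic spaces is closed on points. -/
theorem isClosedMap_points_of_isFiniteMor {Y X : Sp S} (hX : IsAlgSpace X) (f : Y ⟶ X)
    (hf : IsFiniteMor f) : IsClosedMap (Points.map f) := by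
  obtain ⟨J, V, ψ, hVaff, hψ, hcov⟩ := exists_affine_etale_cover hX
  choose W i fst sq hWaff hfin using fun j => hf (hVaff j) (ψ j)
  refine H49.isClosedMap_points_of_squares f V (fun j => (yon S).obj (W j)) ψ fst
    (fun j => (yon S).map (i j)) sq hψ ?_ ?_
  · intro y
    obtain ⟨j, z, hz⟩ := hcov y
    exact ⟨j, Points.ofScheme (V j) z, by rw [← Points.ofPt_eq_map_ofScheme]; exact hz⟩
  · intro j
    rw [H49.isClosedMap_points_yon_map_iff]
    have : IsFinite (i j).left := hfin j
    exact (i j).left.isClosedMap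

/-- Specializations inside a discrete fibre are trivial. -/
theorem eq_of_specializes_of_isDiscrete_fibre {A B : Type*} [TopologicalSpace A]
    [TopologicalSpace B] (g : A → B) (b : B) (hd : IsDiscrete (g ⁻¹' {b})) {w w' : A}
    (hw : g w = b) (hw' : g w' = b) (hs : w' ⤳ w) : w' = w := by
  have := hd.to_subtype
  have h2 : (⟨w', hw'⟩ : g ⁻¹' {b}) ⤳ ⟨w, hw⟩ := (subtype_specializes_iff _ _).mpr hs
  exact congrArg Subtype.val h2.eq

/-- A finite morphism of algebraic spaces has no nontrivial specializations in its fibres. -/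
theorem eq_of_specializes_of_isFiniteMor {Y X : Sp S} (hX : IsAlgSpace X) (hXN : IsLocNoethSp X)
    (hY : IsDecent Y) (f : Y ⟶ X) (hf : IsFiniteMor f) (y y' : Points Y) (hs : y' ⤳ y)
    (he : Points.map f y' = Points.map f y) : y' = y := by
  obtain ⟨J, V, ψ, hVaff, hψ, hcov⟩ := exists_affine_etale_cover hX
  obtain ⟨j, v, hv⟩ := hcov (Points.map f y)
  obtain ⟨W, i, fst, sq, hWaff, hfin⟩ := hf (hVaff j) (ψ j)
  have hfst : RepWith @Etale fst :=
    MorphismProperty.of_isPullback (P := RepWith @Etale) sq.flip (hψ j)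
  rw [Points.ofPt_eq_map_ofScheme (ψ j)] at hv
  obtain ⟨w₀, hw1, hw2⟩ := exists_point_of_isPullback sq y _ hv.symm
  obtain ⟨w, rfl⟩ := (Points.schemeEquiv W).surjective w₀
  have hw : Points.ofPt fst w = y := by
    rw [Points.ofPt_eq_map_ofScheme]; exact hw1
  have hiw : (i.left) w = v := by
    have hw2' : Points.map ((yon S).map i) (Points.ofScheme W w) = Points.ofScheme (V j) v := hw2
    rw [← Points.ofPt_eq_map_ofScheme, ofPt_yon_map] at hw2'
    exact (Points.schemeEquiv (V j)).injective hw2'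
  obtain ⟨p, hp, -, hpq⟩ := hY y'
  obtain ⟨w', hw's, hw'⟩ := exists_specializes_lift y y' hs p hp hpq fst hfst w hw
  -- the images in `V j`
  have hsV : i.left w' ⤳ i.left w := hw's.map i.left.continuous
  have hptV : Points.ofPt (ψ j) (i.left w) = Points.ofPt (ψ j) (i.left w') := by
    rw [← ofPt_yon_map_comp, ← ofPt_yon_map_comp, ← sq.w, ← Points.map_ofPt, ← Points.map_ofPt,
      hw, hw', he]
  have hVeq : i.left w = i.left w' :=
    eq_of_specializes_of_ofPt_eq_of_isLocNoethSp hXN (ψ j) (hψ j) _ _ hptV hsV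
  have : IsFinite i.left := hfin
  have hww' : w' = w := eq_of_specializes_of_isDiscrete_fibre i.left (i.left w)
    (i.left.isDiscrete_preimage_singleton _) rfl hVeq.symm hw's
  rw [← hw', ← hw, hww']

/-- S10406 for sheaves. -/
theorem isDimensionFunction_of_finite_surjective {Y X : Sp S} (hX : IsAlgSpace X)
    (hXN : IsLocNoethSp X) (hY : IsDecent Y) (f : Y ⟶ X) (hf : IsFiniteMor f)
    (hs : IsSurjectiveMor f) (δ : Points X → ℤ)
    (hδ : ∀ a b : Points Y, a ⤳ b → a ≠ b → (δ ∘ Points.map f) b < (δ ∘ Points.map f) a ∧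
      ((∀ c : Points Y, a ⤳ c → c ⤳ b → c = a ∨ c = b) →
        (δ ∘ Points.map f) a = (δ ∘ Points.map f) b + 1)) :
    ∀ a b : Points X, a ⤳ b → a ≠ b → δ b < δ a ∧
      ((∀ c : Points X, a ⤳ c → c ⤳ b → c = a ∨ c = b) → δ a = δ b + 1) := by
  intro a b hab hne
  obtain ⟨a', rfl⟩ := hs a
  obtain ⟨b', hab', rfl⟩ := H24.exists_specializes_of_isClosedMap
    (isClosedMap_points_of_isFiniteMor hX f hf) a' b hab
  have hne' : a' ≠ b' := fun h => hne (by rw [h])
  obtain ⟨h1, h2⟩ := hδ a' b' hab' hne'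
  refine ⟨h1, fun himm => h2 fun c' hac' hc'b' => ?_⟩
  have hc := himm (Points.map f c') (hac'.map (Points.continuous_map f))
    (hc'b'.map (Points.continuous_map f))
  rcases hc with hc | hc
  · left
    exact eq_of_specializes_of_isFiniteMor hX hXN hY f hf c' a' hac' hc.symm |>.symm
  · right
    exact eq_of_specializes_of_isFiniteMor hX hXN hY f hf b' c' hc'b' hc

end Groth.Agent.H52
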