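import Groth.Agent.H52.UBF8

set_option autoImplicit false
universe u
open CategoryTheory CategoryTheory.Limits AlgebraicGeometry Opposite

namespace Groth.Agent.H52

open AlgSp UBF

variable {S : Scheme.{u}}

/-- An algebraic space has a jointly surjective family of étale charts by affine schemes. -/
theorem exists_affine_etale_cover {Y : Sp S} (hY : IsAlgSpace Y) :
    ∃ (J : Type u) (V : J → Over S) (ψ : ∀ j, (yon S).obj (V j) ⟶ Y),
      (∀ j, IsAffine (V j).left) ∧ (∀ j, RepWith @Etale (ψ j)) ∧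
      ∀ y : Points Y, ∃ (j : J) (z : ↥(V j).left), Points.ofPt (ψ j) z = y := by
  obtain ⟨U₀, p, hpe, hps⟩ := hY.atlas
  let 𝒰 := U₀.left.affineCover
  let V : 𝒰.I₀ → Over S := fun j => Over.mk (𝒰.f j ≫ U₀.hom)
  let v : ∀ j, V j ⟶ U₀ := fun j => Over.homMk (𝒰.f j) rfl
  refine ⟨𝒰.I₀, V, fun j => (yon S).map (v j) ≫ p, fun j => ?_, fun j => ?_, fun y => ?_⟩
  · exact Scheme.isAffine_affineCover U₀.left j
  · refine (RepWith (S := S) @Etale).comp_mem _ _ ?_ hpe
    rw [repWith_yon_map_iff]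
    change Etale (𝒰.f j)
    infer_instance
  · obtain ⟨u₀, rfl⟩ := ofPt_surjective_of_repWith_surjective p hps y
    obtain ⟨z, hz⟩ := 𝒰.covers u₀
    refine ⟨𝒰.idx u₀, z, ?_⟩
    rw [ofPt_yon_map_comp]
    congr 1

/-- Base change of universally bounded fibres (S10425 for sheaves). -/
theorem hasUnivBddFibres_of_isPullback {X Y : Sp S} (p : Y ⟶ X) {U V : Over S}
    (g : (yon S).obj U ⟶ X) (hg : W4dec.HasUnivBddFibres g)
    (fst : (yon S).obj V ⟶ (yon S).obj U) (snd : (yon S).obj V ⟶ Y)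
    (h : IsPullback fst snd g p) : W4dec.HasUnivBddFibres snd := by
  obtain ⟨n, hn⟩ := hg
  refine ⟨n, ?_⟩
  intro q T c snd' hsq
  have hpaste : IsPullback ((yon S).map c) (snd' ≫ fst) (q.toHom ≫ p) g :=
    (hsq.flip.paste_horiz h).flip
  exact hn (q.map p) T c (snd' ≫ fst) (by rw [FieldPt.toHom_map]; exact hpaste)

/-- S10431 for sheaves. -/
theorem hasUnivBddFibres_of_representable {X Y : Sp S} (hX : IsAlgSpace X) (hYa : IsAlgSpace Y)
    (f : X ⟶ Y) (hf : Representable f)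
    (hY : ∀ (V : Over S) (ψ : (yon S).obj V ⟶ Y), IsAffine V.left → RepWith @Etale ψ →
      W4dec.HasUnivBddFibres ψ)
    (U : Over S) (φ : (yon S).obj U ⟶ X) [CompactSpace ↥U.left] (hφ : RepWith @Etale φ) :
    W4dec.HasUnivBddFibres φ := by
  obtain ⟨J, V, ψ, hVaff, hψ, hcov⟩ := exists_affine_etale_cover hYa
  have sq : ∀ j, IsPullback (hf.fst (ψ j)) ((yon S).map (hf.snd (ψ j))) f (ψ j) :=
    fun j => hf.isPullback (ψ j)
  refine hasUnivBddFibres_of_etale_cover hX (fun j => hf.pullback (ψ j)) (fun j => hf.fst (ψ j))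
    (fun j => MorphismProperty.of_isPullback (P := RepWith @Etale) (sq j).flip (hψ j)) ?_
    (fun j => hasUnivBddFibres_of_isPullback f (ψ j) (hY (V j) (ψ j) (hVaff j) (hψ j)) _ _
      (sq j).flip) φ hφ
  intro x
  obtain ⟨j, z, hz⟩ := hcov (Points.map f x)
  rw [Points.ofPt_eq_map_ofScheme] at hz
  obtain ⟨w, hw1, -⟩ := exists_point_of_isPullback (sq j) x _ hz.symm
  obtain ⟨t, rfl⟩ := (Points.schemeEquiv (hf.pullback (ψ j))).surjective w
  refine ⟨j, t, ?_⟩
  rw [Points.ofPt_eq_map_ofScheme]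
  exact hw1

end Groth.Agent.H52
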