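import Groth.Agent.H52.DimLQF
import Groth.Agent.H52.UBF9
import Groth.Agent.H50.LocPClass

set_option autoImplicit false
universe u
open CategoryTheory CategoryTheory.Limits AlgebraicGeometry Opposite

namespace Groth.Agent.H52

open AlgSp

/-- The dimension of a scheme is bounded by `D` if every point has a flat neighbourhood of
dimension at most `D`. -/
theorem topologicalKrullDim_le_of_flat_nbhds {U : Scheme.{u}} (D : WithBot ℕ∞)
    (h : ∀ u : U, ∃ (P : Scheme.{u}) (g : P ⟶ U), Flat g ∧ u ∈ Set.range g ∧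
      topologicalKrullDim ↥P ≤ D) : topologicalKrullDim ↥U ≤ D := by
  rw [H24.topologicalKrullDim_eq_krullDim_specializationOrder]
  let _ := specializationOrder ↥U
  unfold Order.krullDim
  refine iSup_le fun p => ?_
  obtain ⟨P, g, hg, ⟨w, hw⟩, hD⟩ := h p.head
  refine le_trans ?_ hD
  rw [H24.topologicalKrullDim_eq_krullDim_specializationOrder]
  let _ := specializationOrder ↥P
  have hmono : Monotone g := fun a b hab => Specializes.map hab g.continuous
  have hlift : ∀ (a : ↥P) (b : ↥U), g a < b → ∃ a', a ≤ a' ∧ g a' = b := by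
    intro a b hab
    have h1 : b ⤳ g a := hab.le
    obtain ⟨a', ha', hfa'⟩ := Flat.generalizingMap g h1
    exact ⟨a', ha', hfa'⟩
  obtain ⟨q, hq, -⟩ := H24.exists_ltSeries_head_of_lift g hmono hlift p w hw
  rw [← hq]
  exact Order.LTSeries.length_le_krullDim q

/-- Integral ring maps do not raise the Krull dimension. -/
theorem ringKrullDim_le_of_isIntegral {A B : Type*} [CommRing A] [CommRing B] (φ : A →+* B)
    (hφ : φ.IsIntegral) : ringKrullDim B ≤ ringKrullDim A := by
  algebraize [φ]
  have : Algebra.IsIntegral A B := ⟨hφ⟩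
  refine Order.krullDim_le_of_strictMono (fun q : PrimeSpectrum B => q.comap (algebraMap A B)) ?_
  intro q q' hqq'
  exact Ideal.IsIntegral.comap_lt_comap (R := A) hqq'

theorem topologicalKrullDim_eq_ringKrullDim_of_isAffine (W : Scheme.{u}) [IsAffine W] :
    topologicalKrullDim ↥W = ringKrullDim Γ(W, ⊤) := by
  rw [← PrimeSpectrum.topologicalKrullDim_eq_ringKrullDim]
  exact IsHomeomorph.topologicalKrullDim_eq _ W.isoSpec.hom.homeomorph.isHomeomorph

/-- Integral morphisms of affine schemes do not raise dimension. -/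
theorem topologicalKrullDim_le_of_isIntegralHom {W Z : Scheme.{u}} [IsAffine W] [IsAffine Z]
    (i : W ⟶ Z) [IsIntegralHom i] : topologicalKrullDim ↥W ≤ topologicalKrullDim ↥Z := by
  rw [topologicalKrullDim_eq_ringKrullDim_of_isAffine, topologicalKrullDim_eq_ringKrullDim_of_isAffine]
  exact ringKrullDim_le_of_isIntegral i.appTop.hom
    (IsIntegralHom.isIntegral_app i ⊤ (isAffineOpen_top Z))

/-- Integral surjective morphisms do not lower dimension. -/
theorem topologicalKrullDim_le_of_isIntegralHom_surjective {W Z : Scheme.{u}}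
    (i : W ⟶ Z) [IsIntegralHom i] (hs : Function.Surjective i) :
    topologicalKrullDim ↥Z ≤ topologicalKrullDim ↥W :=
  H24.topologicalKrullDim_le_of_isClosedMap_of_surjective i i.continuous i.isClosedMap hs

variable {S : Scheme.{u}}

/-- S10448 for sheaves. -/
theorem dim_le_of_isIntegralMor {X Y : Sp S} (hY : IsAlgSpace Y) (f : X ⟶ Y)
    (hf : IsIntegralMor f) : dim X ≤ dim Y := by
  unfold dim
  refine iSup_le fun U => iSup_le fun a => iSup_le fun ha => ?_
  obtain ⟨J, V, ψ, hVaff, hψ, hcov⟩ := exists_affine_etale_cover hY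
  refine topologicalKrullDim_le_of_flat_nbhds _ fun u => ?_
  obtain ⟨j, v, hv⟩ := hcov (Points.map f (Points.ofPt a u))
  obtain ⟨W, i, fst, sq, hWaff, hint⟩ := hf (hVaff j) (ψ j)
  have hfst : RepWith @Etale fst :=
    MorphismProperty.of_isPullback (P := RepWith @Etale) sq.flip (hψ j)
  -- a point of `W` over `(x, v)`
  rw [Points.ofPt_eq_map_ofScheme (ψ j)] at hv
  obtain ⟨w', hw1, -⟩ := exists_point_of_isPullback sq (Points.ofPt a u) _ hv.symm
  obtain ⟨w, rfl⟩ := (Points.schemeEquiv W).surjective w'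
  have hw : Points.ofPt fst w = Points.ofPt a u := by
    rw [Points.ofPt_eq_map_ofScheme]; exact hw1
  -- the fibre product `U ×_X W`
  obtain ⟨b, hb⟩ := (yon S).map_surjective (hfst.rep.fst a)
  have sqP : IsPullback ((yon S).map b) ((yon S).map (hfst.rep.snd a)) fst a := by
    rw [hb]; exact hfst.rep.isPullback a
  have hetU : Etale (hfst.rep.snd a).left := hfst.property_snd a
  have hetW : Etale b.left := ha.2 fst ((yon S).map (hfst.rep.snd a)) b sqP.flip
  obtain ⟨p, -, hp2⟩ := (ofPt_eq_iff_of_isPullback sqP w u).1 hw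
  refine ⟨(hfst.rep.pullback a).left, (hfst.rep.snd a).left, inferInstance, ⟨p, hp2⟩, ?_⟩
  have : LocallyQuasiFinite b.left := Groth.Agent.H50.locallyQuasiFinite_of_etale b.left
  have : IsAffine W.left := hWaff
  have : IsAffine (V j).left := hVaff j
  have : IsIntegralHom i.left := hint
  calc topologicalKrullDim ↥(hfst.rep.pullback a).left ≤ topologicalKrullDim ↥W.left :=
        topologicalKrullDim_le_of_locallyQuasiFinite b.left
    _ ≤ topologicalKrullDim ↥(V j).left := topologicalKrullDim_le_of_isIntegralHom i.left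
    _ ≤ _ := le_iSup_of_le (V j) (le_iSup_of_le (ψ j)
        (le_iSup_of_le (f := fun _ : RepWith @Etale (ψ j) =>
        topologicalKrullDim ↥(V j).left) (hψ j) le_rfl))

/-- S10449 for sheaves. -/
theorem dim_le_of_isIntegralMor_of_isSurjectiveMor {X Y : Sp S} (f : X ⟶ Y)
    (hf : IsIntegralMor f) (hs : IsSurjectiveMor f) : dim Y ≤ dim X := by
  unfold dim
  refine iSup_le fun V => iSup_le fun b => iSup_le fun hb => ?_
  refine topologicalKrullDim_le_of_flat_nbhds _ fun v => ?_
  let 𝒰 := V.left.affineCover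
  obtain ⟨z, hz⟩ := 𝒰.covers v
  let V₀ : Over S := Over.mk (𝒰.f (𝒰.idx v) ≫ V.hom)
  let ι : V₀ ⟶ V := Over.homMk (𝒰.f (𝒰.idx v)) rfl
  have hV₀ : IsAffine V₀.left := Scheme.isAffine_affineCover V.left _
  have hψ : RepWith @Etale ((yon S).map ι ≫ b) := by
    refine (RepWith (S := S) @Etale).comp_mem _ _ ?_ hb
    rw [repWith_yon_map_iff]
    change Etale (𝒰.f (𝒰.idx v))
    infer_instance
  obtain ⟨W, i, fst, sq, hWaff, hint⟩ := hf hV₀ ((yon S).map ι ≫ b)
  have hfst : RepWith @Etale fst :=
    MorphismProperty.of_isPullback (P := RepWith @Etale) sq.flip hψ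
  have hsurj : Function.Surjective i.left := by
    intro v₀
    obtain ⟨x, hx⟩ := hs (Points.ofPt ((yon S).map ι ≫ b) v₀)
    rw [Points.ofPt_eq_map_ofScheme ((yon S).map ι ≫ b)] at hx
    obtain ⟨w', -, hw2⟩ := exists_point_of_isPullback sq x _ hx
    obtain ⟨w, rfl⟩ := (Points.schemeEquiv W).surjective w'
    refine ⟨w, ?_⟩
    have hw2' : Points.map ((yon S).map i) (Points.ofScheme W w) = Points.ofScheme V₀ v₀ := hw2
    rw [← Points.ofPt_eq_map_ofScheme, ofPt_yon_map] at hw2'
    exact (Points.schemeEquiv V₀).injective hw2'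
  have : IsIntegralHom i.left := hint
  refine ⟨V₀.left, 𝒰.f (𝒰.idx v), inferInstance, ⟨z, hz⟩, ?_⟩
  calc topologicalKrullDim ↥V₀.left ≤ topologicalKrullDim ↥W.left :=
        topologicalKrullDim_le_of_isIntegralHom_surjective i.left hsurj
    _ ≤ _ := le_iSup_of_le W (le_iSup_of_le fst
        (le_iSup_of_le (f := fun _ : RepWith @Etale fst =>
        topologicalKrullDim ↥W.left) hfst le_rfl))

end Groth.Agent.H52
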