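import Groth.Agent.H52.Atlas
import Groth.Agent.H24.LiftChains
import Groth.Agent.H52.StalkDim
import Groth.Agent.H52.Chart
import Groth.Prelude.Def_AlgSpDec
import Mathlib.AlgebraicGeometry.Morphisms.QuasiFinite
import Mathlib.AlgebraicGeometry.Morphisms.Flat

set_option autoImplicit false
universe u
open CategoryTheory CategoryTheory.Limits AlgebraicGeometry Opposite

namespace Groth.Agent.H52

open AlgSp

/-- A flat surjective morphism of schemes does not lower the dimension of the target. -/
theorem topologicalKrullDim_le_of_flat_surjective {W U : Scheme.{u}} (g : W ⟶ U) [Flat g]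
    [Surjective g] : topologicalKrullDim ↥U ≤ topologicalKrullDim ↥W := by
  rw [H24.topologicalKrullDim_eq_krullDim_specializationOrder,
    H24.topologicalKrullDim_eq_krullDim_specializationOrder]
  let _ := specializationOrder ↥W
  let _ := specializationOrder ↥U
  have hmono : Monotone g := fun a b hab => Specializes.map hab g.continuous
  refine H24.krullDim_le_of_surjective_of_lift_head g g.surjective hmono ?_
  intro a b hab
  have h1 : b ⤳ g a := hab.le
  obtain ⟨a', ha', hfa'⟩ := Flat.generalizingMap g h1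
  exact ⟨a', ha', hfa'⟩

/-- A locally quasi-finite morphism of schemes does not raise dimension. -/
theorem topologicalKrullDim_le_of_locallyQuasiFinite {W V : Scheme.{u}} (h : W ⟶ V)
    [LocallyQuasiFinite h] : topologicalKrullDim ↥W ≤ topologicalKrullDim ↥V :=
  H24.topologicalKrullDim_le_of_isDiscrete_fibres h h.continuous
    h.isDiscrete_preimage_singleton

variable {S : Scheme.{u}}

theorem dim_le_dim_of_locP_lqf {X Y : Sp S} (hY : IsAlgSpace Y) (f : X ⟶ Y)
    (hf : LocP (@LocallyQuasiFinite ⊓ @LocallyOfFiniteType) f) : dim X ≤ dim Y := by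
  unfold dim
  refine iSup_le fun U => iSup_le fun a => iSup_le fun ha => ?_
  obtain ⟨V, b, hb, hbs⟩ := hY.atlas
  obtain ⟨W, a', h, ha', has', hcomm⟩ := exists_chart_diagram (a ≫ f) (𝟙 ((yon S).obj U))
    (repWith_id _ U) (repWith_id _ U) b hb hbs
  obtain ⟨g, rfl⟩ := (yon S).map_surjective a'
  have hg : Etale g.left := (repWith_yon_map_iff @Etale g).1 ha'
  have hgs : Surjective g.left := (repWith_yon_map_iff @Surjective g).1 has'
  have hP : (@LocallyQuasiFinite ⊓ @LocallyOfFiniteType) h.left := by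
    refine hf ((yon S).map g ≫ a) b h ?_ hb ?_
    · exact (RepWith @Etale).comp_mem _ _ ha' ha
    · rw [Category.assoc]; exact hcomm
  have := hP.1
  calc topologicalKrullDim ↥U.left ≤ topologicalKrullDim ↥W.left :=
        topologicalKrullDim_le_of_flat_surjective g.left
    _ ≤ topologicalKrullDim ↥V.left := topologicalKrullDim_le_of_locallyQuasiFinite h.left
    _ ≤ _ := le_iSup_of_le V (le_iSup_of_le b (le_iSup_of_le (f := fun _ : RepWith @Etale b =>
        topologicalKrullDim ↥V.left) hb le_rfl))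

theorem stalkDim_le_of_locP_lqf {X Y : Sp S} (f : X ⟶ Y)
    (hf : LocP (@LocallyQuasiFinite ⊓ @LocallyOfFiniteType) f) (x : Points X)
    (d e : WithBot ℕ∞)
    (hx : HasAt (fun U u => ringKrullDim ↥(U.presheaf.stalk u) = d) X x)
    (hy : HasAt (fun V v => ringKrullDim ↥(V.presheaf.stalk v) = e) Y (Points.map f x)) :
    d ≤ e := by
  obtain ⟨U, a, u, ha, hau, hd⟩ := hx
  obtain ⟨V, b, v, hb, hbv, he⟩ := hy
  have sq := hb.rep.isPullback (a ≫ f)
  obtain ⟨φ, hφ⟩ := (yon S).map_surjective (hb.rep.fst (a ≫ f))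
  have sq' : IsPullback ((yon S).map φ) ((yon S).map (hb.rep.snd (a ≫ f))) b (a ≫ f) := by
    rw [hφ]; exact sq
  have hpt : Points.ofPt b v = Points.ofPt (a ≫ f) u := by
    rw [hbv, ← hau, Points.map_ofPt]
  obtain ⟨w, hw1, hw2⟩ := (ofPt_eq_iff_of_isPullback sq' v u).1 hpt
  have het : Etale (hb.rep.snd (a ≫ f)).left := hb.property_snd (a ≫ f)
  have hP : (@LocallyQuasiFinite ⊓ @LocallyOfFiniteType) φ.left := by
    refine hf ((yon S).map (hb.rep.snd (a ≫ f)) ≫ a) b φ ?_ hb ?_
    · refine (RepWith @Etale).comp_mem _ _ ?_ ha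
      rw [repWith_yon_map_iff]; exact het
    · rw [Category.assoc]; exact sq'.w.symm
  have := hP.1
  subst hd he
  rw [← hw1, ← hw2]
  exact (ringKrullDim_stalk_le_of_flat (hb.rep.snd (a ≫ f)).left w).trans
    (ringKrullDim_stalk_le_of_isDiscrete_fibres φ.left
      φ.left.isDiscrete_preimage_singleton w)

end Groth.Agent.H52
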