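import Groth.Agent.H52.CodimSp
import Groth.Agent.H24.LiftChains
import Groth.Agent.H51.SpDim2

/-!
# Dimension and local dimension of decent spaces via `|X|`
-/

set_option autoImplicit false
universe u
open CategoryTheory CategoryTheory.Limits AlgebraicGeometry Opposite TopologicalSpace

namespace Groth.Agent.H52.DimSp

open AlgSp CodimSp

/-- Coheights for the specialization order are preserved by open embeddings. -/
theorem coheight_eq_of_isOpenEmbedding {Z Y : Type*} [TopologicalSpace Z] [TopologicalSpace Y]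
    [T0Space Z] [T0Space Y] (f : Z → Y) (hf : Topology.IsOpenEmbedding f) (z : Z) :
    @Order.coheight Z (specializationOrder Z).toPreorder z =
      @Order.coheight Y (specializationOrder Y).toPreorder (f z) := by
  let _ : PartialOrder Z := specializationOrder Z
  let _ : PartialOrder Y := specializationOrder Y
  have hmono : StrictMono f := by
    intro y₁ y₂ h
    have hs : y₂ ⤳ y₁ := h.le
    have hle : f y₁ ≤ f y₂ := hs.map hf.continuous
    exact lt_of_le_of_ne hle fun heq => h.ne (hf.injective heq)
  refine Order.coheight_eq_of_strictMono f hmono (fun y₁ b hb => ?_) z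
  have hs : b ⤳ f y₁ := hb.le
  have hbO : b ∈ Set.range f := hs.mem_open hf.isOpen_range ⟨y₁, rfl⟩
  obtain ⟨b', rfl⟩ := hbO
  have hs' : b' ⤳ y₁ := hf.isInducing.specializes_iff.1 hs
  exact ⟨b', lt_of_le_of_ne hs' fun heq => hb.ne (congrArg f heq), rfl⟩

/-- Krull dimension of a sober `T0` space via coheights of points. -/
theorem topologicalKrullDim_eq_iSup_coheight_top (Z : Type*) [TopologicalSpace Z] [T0Space Z]
    [QuasiSober Z] : topologicalKrullDim Z =
      ⨆ z : Z, ((@Order.coheight Z (specializationOrder Z).toPreorder z : ℕ∞) : WithBot ℕ∞) := by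
  rw [H24.topologicalKrullDim_eq_krullDim_specializationOrder]
  let _ : PartialOrder Z := specializationOrder Z
  exact Order.krullDim_eq_iSup_coheight

/-- Krull dimension of an open subset of a sober `T0` space via coheights of points. -/
theorem topologicalKrullDim_opens_eq_iSup (Y : Type*) [TopologicalSpace Y] [T0Space Y]
    [QuasiSober Y] (O : Opens Y) :
    topologicalKrullDim ↥(O : Set Y) = ⨆ y : Y, ⨆ _ : y ∈ O,
      ((@Order.coheight _ (specializationOrder Y).toPreorder y : ℕ∞) : WithBot ℕ∞) := by
  have hemb : Topology.IsOpenEmbedding (Subtype.val : ↥(O : Set Y) → Y) :=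
    O.isOpen.isOpenEmbedding_subtypeVal
  have hsob : QuasiSober ↥(O : Set Y) := hemb.quasiSober
  rw [topologicalKrullDim_eq_iSup_coheight_top]
  apply le_antisymm
  · refine iSup_le fun y => ?_
    rw [coheight_eq_of_isOpenEmbedding _ hemb]
    exact le_iSup_of_le y.1 (le_iSup_of_le y.2 le_rfl)
  · refine iSup_le fun y => iSup_le fun hy => ?_
    have := coheight_eq_of_isOpenEmbedding _ hemb (⟨y, hy⟩ : ↥(O : Set Y))
    rw [← this]
    exact le_iSup (fun z : ↥(O : Set Y) =>
      ((@Order.coheight _ (specializationOrder _).toPreorder z : ℕ∞) : WithBot ℕ∞)) ⟨y, hy⟩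

variable {S : Scheme.{u}}

/-- **S10345**. -/
theorem topologicalKrullDim_points_eq_dim (X : AlgSp.Space S) (hX : AlgSp.IsDecent X.obj) :
    topologicalKrullDim (AlgSp.Points X.obj) = AlgSp.dim X.obj := by
  obtain ⟨V, b, hb, hbs⟩ := X.property.atlas
  have hT0 : T0Space (Points X.obj) := t0Space_points_of_isDecent hX b hb hbs
  have hsober : QuasiSober (Points X.obj) := SoberSp.quasiSober_points_of_isDecent X hX
  rw [topologicalKrullDim_eq_iSup_coheight_top]
  unfold AlgSp.dim
  apply le_antisymm
  · refine iSup_le fun x => ?_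
    obtain ⟨v, rfl⟩ := H51.surjective_ofPt_of_surjective b hbs x
    rw [← coheight_ofPt_eq X hX b hb v]
    refine le_iSup_of_le V (le_iSup_of_le b (le_iSup_of_le hb ?_))
    rw [H51.topologicalKrullDim_eq_iSup_coheight]
    exact le_iSup (fun y : ↥V.left => ((Order.coheight y : ℕ∞) : WithBot ℕ∞)) v
  · refine iSup_le fun U => iSup_le fun a => iSup_le fun ha => ?_
    rw [H51.topologicalKrullDim_eq_iSup_coheight]
    refine iSup_le fun u => ?_
    rw [coheight_ofPt_eq X hX a ha u]
    exact le_iSup (fun y : Points X.obj =>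
      ((@Order.coheight _ (specializationOrder _).toPreorder y : ℕ∞) : WithBot ℕ∞)) _

/-- **S10346**. -/
theorem localDim_eq_localDim_points (X : AlgSp.Space S)
    (hX : AlgSp.IsDecent X.obj) {U : Over S} (a : (AlgSp.yon S).obj U ⟶ X.obj)
    (ha : AlgSp.RepWith @Etale a) (u : ↥U.left) :
    FlatMor.localDim ↥U.left u =
      FlatMor.localDim (AlgSp.Points X.obj) (AlgSp.Points.ofPt a u) := by
  obtain ⟨V, b, hb, hbs⟩ := X.property.atlas
  have hT0 : T0Space (Points X.obj) := t0Space_points_of_isDecent hX b hb hbs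
  have hsober : QuasiSober (Points X.obj) := SoberSp.quasiSober_points_of_isDecent X hX
  unfold FlatMor.localDim
  apply le_antisymm
  · refine le_iInf fun O => ?_
    let O' : U.left.Opens := ⟨Points.ofPt a ⁻¹' (O.1 : Set (Points X.obj)),
      O.1.isOpen.preimage (Points.continuous_ofPt a)⟩
    have hw : u ∈ O' := O.2
    refine (iInf_le _ (⟨O', hw⟩ : {O : TopologicalSpace.Opens ↥U.left // u ∈ O})).trans ?_
    change topologicalKrullDim ↥(O' : Set ↥U.left) ≤ topologicalKrullDim ↥(O.1 : Set (Points X.obj))
    rw [H51.topologicalKrullDim_opens U.left O', topologicalKrullDim_opens_eq_iSup _ O.1]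
    refine iSup_le fun y => iSup_le fun hy => ?_
    rw [coheight_ofPt_eq X hX a ha y]
    exact le_iSup_of_le (Points.ofPt a y) (le_iSup_of_le hy le_rfl)
  · refine le_iInf fun O' => ?_
    let O : Opens (Points X.obj) := ⟨Points.ofPt a '' (O'.1 : Set ↥U.left),
      H51.isOpenMap_ofPt_of_etale a ha _ O'.1.isOpen⟩
    have hw : Points.ofPt a u ∈ O := ⟨u, O'.2, rfl⟩
    refine (iInf_le _ (⟨O, hw⟩ : {O : TopologicalSpace.Opens (Points X.obj) //
      Points.ofPt a u ∈ O})).trans ?_
    change topologicalKrullDim ↥(O : Set (Points X.obj)) ≤ topologicalKrullDim ↥(O'.1 : Set ↥U.left)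
    rw [H51.topologicalKrullDim_opens U.left O'.1, topologicalKrullDim_opens_eq_iSup _ O]
    refine iSup_le fun y => iSup_le fun hy => ?_
    obtain ⟨y', hy', rfl⟩ := hy
    rw [← coheight_ofPt_eq X hX a ha y']
    exact le_iSup_of_le y' (le_iSup_of_le hy' le_rfl)

end Groth.Agent.H52.DimSp
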