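import Groth.Agent.H52.JacobsonTop
import Mathlib.Topology.KrullDimension
import Mathlib.Topology.Sober
import Mathlib.Topology.NoetherianSpace

set_option autoImplicit false

namespace Groth.Agent.H52

open Topology TopologicalSpace

variable {A B : Type*} [TopologicalSpace A] [TopologicalSpace B]

/-- A continuous map with discrete fibres from a quasi-sober space to a T0 space does not lower
the Krull dimension. -/
theorem topologicalKrullDim_le_of_isDiscrete_fibres_t0 [QuasiSober A] [T0Space B] (g : A → B)
    (hg : Continuous g) (hd : ∀ y, _root_.IsDiscrete (g ⁻¹' {y})) :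
    topologicalKrullDim A ≤ topologicalKrullDim B := by
  have key : ∀ (Z : IrreducibleCloseds A) (z : A), IsGenericPoint z (Z : Set A) →
      closure (g '' (Z : Set A)) = closure {g z} := by
    intro Z z hz
    apply le_antisymm
    · apply closure_minimal _ isClosed_closure
      rw [← hz.def]
      refine (image_closure_subset_closure_image hg).trans ?_
      rw [Set.image_singleton]
    · apply closure_mono
      rw [Set.singleton_subset_iff]
      exact ⟨z, hz.mem, rfl⟩
  refine Order.krullDim_le_of_strictMono
    (f := fun Z : IrreducibleCloseds A =>
      (⟨closure (g '' (Z : Set A)), (Z.isIrreducible'.image g hg.continuousOn).closure,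
        isClosed_closure⟩ : IrreducibleCloseds B)) ?_
  intro Z Z' hlt
  refine lt_of_le_of_ne ?_ ?_
  · change closure (g '' (Z : Set A)) ⊆ closure (g '' (Z' : Set A))
    exact closure_mono (Set.image_mono hlt.le)
  · intro heq
    have heq' : closure (g '' (Z : Set A)) = closure (g '' (Z' : Set A)) :=
      congrArg (fun W : IrreducibleCloseds B => (W : Set B)) heq
    have hz := Z.isIrreducible'.isGenericPoint_genericPoint Z.isClosed'
    have hz' := Z'.isIrreducible'.isGenericPoint_genericPoint Z'.isClosed'
    set z := Z.isIrreducible'.genericPoint
    set z' := Z'.isIrreducible'.genericPoint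
    rw [key Z z hz, key Z' z' hz'] at heq'
    have hgz : g z = g z' := (inseparable_iff_closure_eq.2 heq').eq
    have hsp : z' ⤳ z := by
      rw [specializes_iff_mem_closure, hz'.def]
      exact hlt.le hz.mem
    have := eq_of_specializes_of_isDiscrete_fibre hd hsp hgz.symm
    apply hlt.ne
    apply IrreducibleCloseds.ext
    change Z.carrier = Z'.carrier
    rw [← hz.def, ← hz'.def, this]

/-- In a Noetherian quasi-sober space a closed set stable under generalization is open. -/
theorem isOpen_of_isClosed_of_stableUnderGeneralization [NoetherianSpace A] [QuasiSober A]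
    {F : Set A} (hF : IsClosed F) (hg : StableUnderGeneralization F) : IsOpen F := by
  rw [← isClosed_compl_iff]
  have hfin := NoetherianSpace.finite_irreducibleComponents (α := A)
  have : Fᶜ = ⋃ C ∈ {C ∈ irreducibleComponents A | ¬ C ⊆ F}, C := by
    ext t
    simp only [Set.mem_compl_iff, Set.mem_ofPred_eq, Set.mem_iUnion, exists_prop]
    constructor
    · intro ht
      refine ⟨irreducibleComponent t, ⟨irreducibleComponent_mem_irreducibleComponents t, ?_⟩,
        mem_irreducibleComponent⟩
      exact fun h => ht (h mem_irreducibleComponent)
    · rintro ⟨C, ⟨hC, hCF⟩, htC⟩ htF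
      apply hCF
      have hirr : IsIrreducible C := hC.1
      have hcl : IsClosed C := isClosed_of_mem_irreducibleComponents C hC
      have hη := hirr.isGenericPoint_genericPoint hcl
      have hsp : hirr.genericPoint ⤳ t := by
        rw [specializes_iff_mem_closure, hη.def]; exact htC
      have hηF : hirr.genericPoint ∈ F := hg hsp htF
      rw [← hη.def]
      exact hF.closure_subset_iff.2 (Set.singleton_subset_iff.2 hηF)
  rw [this]
  exact (hfin.subset (fun C hC => hC.1)).isClosed_biUnion
    (fun C hC => isClosed_of_mem_irreducibleComponents C hC.1)

end Groth.Agent.H52
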