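import Groth.Agent.H52.FibreFinite

set_option autoImplicit false
universe u
open CategoryTheory CategoryTheory.Limits AlgebraicGeometry Opposite TopologicalSpace

namespace Groth.Agent.H52

open AlgSp

variable {S : Scheme.{u}}

/-- Two elementary etale neighbourhoods are dominated by a third. -/
theorem elemNbhd_dominate {F : Sp S} (hF : IsAlgSpace F) (x : Points F) {U₁ U₂ : Over S}
    (a₁ : (yon S).obj U₁ ⟶ F) (a₂ : (yon S).obj U₂ ⟶ F) (u₁ : ↥U₁.left) (u₂ : ↥U₂.left)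
    (h1 : IsElemEtaleNbhd a₁ u₁ x) (h2 : IsElemEtaleNbhd a₂ u₂ x) :
    ∃ (U : Over S) (a : (yon S).obj U ⟶ F) (v : ↥U.left) (h₁ : U ⟶ U₁) (h₂ : U ⟶ U₂),
      IsElemEtaleNbhd a v x ∧ (yon S).map h₁ ≫ a₁ = a ∧ (yon S).map h₂ ≫ a₂ = a ∧
        h₁.left v = u₁ ∧ h₂.left v = u₂ := by
  have hmk : Points.mk (FieldPt.ofPt a₁ u₁) = Points.mk (FieldPt.ofPt a₂ u₂) :=
    h1.ofPt_eq.trans h2.ofPt_eq.symm
  obtain ⟨c, hc⟩ := exists_factor_of_mono _ _ h2.mono (hF.representable_from_yon _) hmk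
  -- the fibre product
  obtain ⟨φ, hφ⟩ := (yon S).map_surjective (h1.etale.rep.fst a₂)
  have hpb : IsPullback ((yon S).map φ) ((yon S).map (h1.etale.rep.snd a₂)) a₁ a₂ := by
    rw [hφ]; exact h1.etale.rep.isPullback a₂
  generalize h1.etale.rep.snd a₂ = ψ at hpb
  clear hφ
  generalize h1.etale.rep.pullback a₂ = U at φ ψ hpb
  have hcomm : (yon S).map (ofPtHom a₁ u₁) ≫ a₁ = (yon S).map (c ≫ ofPtHom a₂ u₂) ≫ a₂ := by
    rw [Functor.map_comp, Category.assoc, ← toHom_ofPt', ← toHom_ofPt', hc]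
  obtain ⟨l, hl⟩ := (yon S).map_surjective (hpb.lift _ _ hcomm)
  have hl1 : l ≫ φ = ofPtHom a₁ u₁ := by
    apply (yon S).map_injective
    rw [Functor.map_comp, hl, hpb.lift_fst]
  have hl2 : l ≫ ψ = c ≫ ofPtHom a₂ u₂ := by
    apply (yon S).map_injective
    rw [Functor.map_comp, hl, hpb.lift_snd]
  have hla : (yon S).map l ≫ (yon S).map φ ≫ a₁ = (FieldPt.ofPt a₁ u₁).toHom := by
    rw [← Category.assoc, ← Functor.map_comp, hl1, toHom_ofPt']
  obtain ⟨hmono, hpt⟩ := mono_ofPt_of_lift (FieldPt.ofPt a₁ u₁) h1.mono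
    (hF.representable_from_yon _) ((yon S).map φ ≫ a₁) l hla
  have het : Etale φ.left := h2.etale.property a₁ ((yon S).map ψ) φ hpb.flip
  have hv1 : φ.left (l.left (IsLocalRing.closedPoint (FieldPt.ofPt a₁ u₁).K)) = u₁ := by
    have h : l.left ≫ φ.left = (ofPtHom a₁ u₁).left := congrArg (fun m => m.left) hl1
    calc φ.left (l.left (IsLocalRing.closedPoint (FieldPt.ofPt a₁ u₁).K))
        = (l.left ≫ φ.left) (IsLocalRing.closedPoint (FieldPt.ofPt a₁ u₁).K) := rfl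
      _ = (ofPtHom a₁ u₁).left (IsLocalRing.closedPoint (FieldPt.ofPt a₁ u₁).K) := by rw [h]
      _ = u₁ := ofPtHom_left_apply _ _ _
  have hv2 : ψ.left (l.left (IsLocalRing.closedPoint (FieldPt.ofPt a₁ u₁).K)) = u₂ := by
    have h : l.left ≫ ψ.left = c.left ≫ (ofPtHom a₂ u₂).left := congrArg (fun m => m.left) hl2
    calc ψ.left (l.left (IsLocalRing.closedPoint (FieldPt.ofPt a₁ u₁).K))
        = (l.left ≫ ψ.left) (IsLocalRing.closedPoint (FieldPt.ofPt a₁ u₁).K) := rfl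
      _ = (c.left ≫ (ofPtHom a₂ u₂).left) (IsLocalRing.closedPoint (FieldPt.ofPt a₁ u₁).K) := by
          rw [h]
      _ = (ofPtHom a₂ u₂).left (c.left (IsLocalRing.closedPoint (FieldPt.ofPt a₁ u₁).K)) := rfl
      _ = u₂ := ofPtHom_left_apply _ _ _
  generalize l.left (IsLocalRing.closedPoint (FieldPt.ofPt a₁ u₁).K) = v at hmono hpt hv1 hv2
  have hE : IsElemEtaleNbhd ((yon S).map φ ≫ a₁) v x :=
    ⟨(RepWith @Etale).comp_mem _ _ ((repWith_yon_map_iff _ _).2 het) h1.etale,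
      hpt.trans h1.ofPt_eq, hmono⟩
  exact ⟨U, (yon S).map φ ≫ a₁, v, φ, ψ, hE, rfl, hpb.w.symm, hv1, hv2⟩

/-- The identity of `Spec κ(u)`, between the schemes underlying the field valued points defined by
`u` and two maps out of the chart. -/
noncomputable def ofPtId {F F' : Sp S} {U : Over S} (a : (yon S).obj U ⟶ F)
    (a' : (yon S).obj U ⟶ F') (u : ↥U.left) : (FieldPt.ofPt a u).pt ⟶ (FieldPt.ofPt a' u).pt :=
  𝟙 (Over.mk (U.left.fromSpecResidueField u ≫ U.hom))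

theorem ofPtId_ofPtHom {F F' : Sp S} {U : Over S} (a : (yon S).obj U ⟶ F)
    (a' : (yon S).obj U ⟶ F') (u : ↥U.left) : ofPtId a a' u ≫ ofPtHom a' u = ofPtHom a u :=
  Category.id_comp (ptHom U u)

instance isIso_ofPtId_left {F F' : Sp S} {U : Over S} (a : (yon S).obj U ⟶ F)
    (a' : (yon S).obj U ⟶ F') (u : ↥U.left) : IsIso (ofPtId a a' u).left :=
  inferInstanceAs (IsIso (𝟙 (Spec (U.left.residueField u))))

/-- For a monomorphic point `u` of a chart, there is only one point of `U ×_F U` over `(u, u)`. -/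
theorem eq_of_fst_eq_of_snd_eq_of_mono {F : Sp S} {U R : Over S} (a : (yon S).obj U ⟶ F)
    (u : ↥U.left) (hm : Mono (FieldPt.ofPt a u).toHom) (pr₁ pr₂ : R ⟶ U)
    (hR : IsPullback ((yon S).map pr₁) ((yon S).map pr₂) a a) (r r' : ↥R.left)
    (h1 : pr₁.left r = u) (h2 : pr₂.left r = u) (h1' : pr₁.left r' = u) (h2' : pr₂.left r' = u) :
    r = r' := by
  have ha : (yon S).map (ofPtId (𝟙 _) a u) ≫ (FieldPt.ofPt a u).toHom =
      (FieldPt.ofPt (𝟙 ((yon S).obj U)) u).toHom ≫ a := by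
    rw [toHom_ofPt', toHom_ofPt', ← Category.assoc, ← Functor.map_comp, ofPtId_ofPtHom,
      Category.comp_id]
  have key := subsingleton_points_over_of_mono hR (FieldPt.ofPt a u) hm
    (FieldPt.ofPt (𝟙 _) u) (FieldPt.ofPt (𝟙 _) u) (ofPtId (𝟙 _) a u) (ofPtId (𝟙 _) a u) ha ha
    inferInstance
  have hmem : ∀ s : ↥R.left, pr₁.left s = u → pr₂.left s = u → Points.ofScheme R s ∈
      {w : Points ((yon S).obj R) | Points.map ((yon S).map pr₁) w =
        Points.mk (FieldPt.ofPt (𝟙 _) u) ∧ Points.map ((yon S).map pr₂) w =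
        Points.mk (FieldPt.ofPt (𝟙 _) u)} := by
    intro s hs1 hs2
    refine ⟨?_, ?_⟩
    · change Points.map _ (Points.ofPt (𝟙 _) s) = _
      rw [Points.map_ofPt, Category.id_comp, ofPt_yon_map, hs1]
      rfl
    · change Points.map _ (Points.ofPt (𝟙 _) s) = _
      rw [Points.map_ofPt, Category.id_comp, ofPt_yon_map, hs2]
      rfl
  exact (Points.schemeEquiv R).injective (key (hmem r h1 h2) (hmem r' h1' h2'))

/-- Two morphisms of elementary etale neighbourhoods are equalized by a third neighbourhood. -/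
theorem elemNbhd_equalize {F : Sp S} (hF : IsAlgSpace F) (x : Points F) {U₁ U₂ : Over S}
    (a₁ : (yon S).obj U₁ ⟶ F) (a₂ : (yon S).obj U₂ ⟶ F) (u₁ : ↥U₁.left) (u₂ : ↥U₂.left)
    (b c : U₁ ⟶ U₂) (h1 : IsElemEtaleNbhd a₁ u₁ x) (h2 : IsElemEtaleNbhd a₂ u₂ x)
    (hb : (yon S).map b ≫ a₂ = a₁) (hc : (yon S).map c ≫ a₂ = a₁) (hbu : b.left u₁ = u₂)
    (hcu : c.left u₁ = u₂) :
    ∃ (U : Over S) (a : (yon S).obj U ⟶ F) (v : ↥U.left) (h : U ⟶ U₁),
      IsElemEtaleNbhd a v x ∧ (yon S).map h ≫ a₁ = a ∧ h.left v = u₁ ∧ h ≫ b = h ≫ c := by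
  -- the fibre product `U₂ ×_F U₂`
  obtain ⟨pr₁, hφ⟩ := (yon S).map_surjective (h2.etale.rep.fst a₂)
  have hR : IsPullback ((yon S).map pr₁) ((yon S).map (h2.etale.rep.snd a₂)) a₂ a₂ := by
    rw [hφ]; exact h2.etale.rep.isPullback a₂
  generalize h2.etale.rep.snd a₂ = pr₂ at hR
  clear hφ
  generalize h2.etale.rep.pullback a₂ = R at pr₁ pr₂ hR
  obtain ⟨m, hm⟩ := (yon S).map_surjective (hR.lift ((yon S).map b) ((yon S).map c) (by rw [hb, hc]))
  have hm1 : m ≫ pr₁ = b := by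
    apply (yon S).map_injective
    rw [Functor.map_comp, hm, hR.lift_fst]
  have hm2 : m ≫ pr₂ = c := by
    apply (yon S).map_injective
    rw [Functor.map_comp, hm, hR.lift_snd]
  obtain ⟨δ, hδ⟩ := (yon S).map_surjective (hR.lift (𝟙 _) (𝟙 _) rfl)
  have hδ1 : δ ≫ pr₁ = 𝟙 _ := by
    apply (yon S).map_injective
    rw [Functor.map_comp, hδ, hR.lift_fst, CategoryTheory.Functor.map_id]
  have hδ2 : δ ≫ pr₂ = 𝟙 _ := by
    apply (yon S).map_injective
    rw [Functor.map_comp, hδ, hR.lift_snd, CategoryTheory.Functor.map_id]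
  have het : Etale pr₁.left := h2.etale.property a₂ ((yon S).map pr₂) pr₁ hR.flip
  have hδ1' : δ.left ≫ pr₁.left = 𝟙 _ := congrArg (fun k => k.left) hδ1
  have hδ2' : δ.left ≫ pr₂.left = 𝟙 _ := congrArg (fun k => k.left) hδ2
  have hδet : Etale δ.left := by
    refine MorphismProperty.of_postcomp (W := @Etale) (W' := @Etale) δ.left pr₁.left het ?_
    rw [hδ1']; infer_instance
  have hδmono : Mono δ.left := mono_of_mono_fac hδ1'
  have hδoi : IsOpenImmersion δ.left := IsOpenImmersion.of_flat_of_mono δ.left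
  -- the point `m u₁` lies on the diagonal
  have hpt : m.left u₁ = δ.left u₂ := by
    refine eq_of_fst_eq_of_snd_eq_of_mono a₂ u₂ h2.mono pr₁ pr₂ hR _ _ ?_ ?_ ?_ ?_
    · rw [← hbu, ← hm1]; rfl
    · rw [← hcu, ← hm2]; rfl
    · change (δ.left ≫ pr₁.left) u₂ = u₂
      rw [hδ1']; rfl
    · change (δ.left ≫ pr₂.left) u₂ = u₂
      rw [hδ2']; rfl
  let W : U₁.left.Opens := m.left ⁻¹ᵁ δ.left.opensRange
  have hu₁W : u₁ ∈ W := by
    change m.left u₁ ∈ δ.left.opensRange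
    rw [hpt]
    exact ⟨u₂, rfl⟩
  -- the two morphisms agree on `W`
  have hrange : Set.range (W.ι ≫ m.left) ⊆ Set.range δ.left := by
    rintro _ ⟨y, rfl⟩
    exact y.2
  have hk := IsOpenImmersion.lift_fac δ.left (W.ι ≫ m.left) hrange
  have hbc : openIncl U₁ W ≫ b = openIncl U₁ W ≫ c := by
    apply Over.OverMorphism.ext
    change W.ι ≫ b.left = W.ι ≫ c.left
    have e1 : b.left = m.left ≫ pr₁.left := (congrArg (fun k => k.left) hm1).symm
    have e2 : c.left = m.left ≫ pr₂.left := (congrArg (fun k => k.left) hm2).symm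
    rw [e1, e2, ← Category.assoc, ← Category.assoc, ← hk, Category.assoc, Category.assoc, hδ1',
      hδ2']
  -- lift the point
  have hrange' : Set.range (ofPtHom a₁ u₁).left ⊆ Set.range W.ι := by
    rintro _ ⟨y, rfl⟩
    rw [ofPtHom_left_apply, Scheme.Opens.range_ι]
    exact hu₁W
  have hl := IsOpenImmersion.lift_fac W.ι (ofPtHom a₁ u₁).left hrange'
  let l : (FieldPt.ofPt a₁ u₁).pt ⟶ Over.mk (W.ι ≫ U₁.hom) :=
    Over.homMk (IsOpenImmersion.lift W.ι (ofPtHom a₁ u₁).left hrange') (by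
      change _ ≫ W.ι ≫ U₁.hom = _
      rw [← Category.assoc, hl]
      exact Over.w (ofPtHom a₁ u₁))
  have hl' : l ≫ openIncl U₁ W = ofPtHom a₁ u₁ := Over.OverMorphism.ext hl
  have hla : (yon S).map l ≫ (yon S).map (openIncl U₁ W) ≫ a₁ = (FieldPt.ofPt a₁ u₁).toHom := by
    rw [← Category.assoc, ← Functor.map_comp, hl', toHom_ofPt']
  obtain ⟨hmono, hptx⟩ := mono_ofPt_of_lift (FieldPt.ofPt a₁ u₁) h1.mono
    (hF.representable_from_yon _) ((yon S).map (openIncl U₁ W) ≫ a₁) l hla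
  have hv : (openIncl U₁ W).left (l.left (IsLocalRing.closedPoint (FieldPt.ofPt a₁ u₁).K)) = u₁ := by
    have h : l.left ≫ (openIncl U₁ W).left = (ofPtHom a₁ u₁).left := congrArg (fun k => k.left) hl'
    calc (openIncl U₁ W).left (l.left (IsLocalRing.closedPoint (FieldPt.ofPt a₁ u₁).K))
        = (l.left ≫ (openIncl U₁ W).left) (IsLocalRing.closedPoint (FieldPt.ofPt a₁ u₁).K) := rfl
      _ = (ofPtHom a₁ u₁).left (IsLocalRing.closedPoint (FieldPt.ofPt a₁ u₁).K) := by rw [h]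
      _ = u₁ := ofPtHom_left_apply _ _ _
  generalize l.left (IsLocalRing.closedPoint (FieldPt.ofPt a₁ u₁).K) = v at hmono hptx hv
  have hE : IsElemEtaleNbhd ((yon S).map (openIncl U₁ W) ≫ a₁) v x :=
    ⟨repWith_etale_restrict a₁ h1.etale W, hptx.trans h1.ofPt_eq, hmono⟩
  exact ⟨_, _, v, openIncl U₁ W, hE, rfl, hv, hbc⟩

end Groth.Agent.H52
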