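import Mathlib.Algebra.Algebra.Epi
import Mathlib.Algebra.Category.Ring.Epi
import Mathlib.Algebra.Module.Torsion.Basic
import Mathlib.RingTheory.LocalRing.ResidueField.Basic
import Mathlib.LinearAlgebra.FreeModule.Basic
import Mathlib.LinearAlgebra.Basis.VectorSpace
import Mathlib.RingTheory.Artinian.Ring

/-!
# Ring epimorphisms from a local ring with nilpotent maximal ideal are surjective
-/

set_option autoImplicit false
open TensorProduct

namespace Groth.Agent.H52.EpiArtin

variable {R : Type*} [CommRing R]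

/-- If `I • ⊤ = ⊤` for a nilpotent ideal `I` then the module is trivial. -/
theorem subsingleton_of_smul_top_eq_top {Q : Type*} [AddCommGroup Q] [Module R Q] (I : Ideal R)
    (hI : IsNilpotent I) (h : I • (⊤ : Submodule R Q) = ⊤) : Subsingleton Q := by
  obtain ⟨n, hn⟩ := hI
  have key : ∀ k : ℕ, I ^ k • (⊤ : Submodule R Q) = ⊤ := by
    intro k
    induction k with
    | zero => simp
    | succ k ih => rw [pow_succ, Submodule.mul_smul, h, ih]
  have h0 : (⊤ : Submodule R Q) = ⊥ := by
    rw [← key n, hn]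
    simp
  exact (Submodule.subsingleton_iff R).1 ⟨fun a b => by
    have : ∀ x : Submodule R Q, x = ⊥ := fun x => le_bot_iff.1 (h0 ▸ le_top)
    rw [this a, this b]⟩

/-- A module `Q` over a local ring with nilpotent maximal ideal with `Q ⊗ Q = 0` is trivial. -/
theorem subsingleton_of_subsingleton_tensor [IsLocalRing R]
    (hm : IsNilpotent (IsLocalRing.maximalIdeal R)) {Q : Type*} [AddCommGroup Q] [Module R Q]
    (h : Subsingleton (Q ⊗[R] Q)) : Subsingleton Q := by
  set m := IsLocalRing.maximalIdeal R with hmdef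
  by_cases htop : m • (⊤ : Submodule R Q) = ⊤
  · exact subsingleton_of_smul_top_eq_top m hm htop
  exfalso
  let κ := R ⧸ m
  let _ : Field κ := Ideal.Quotient.field m
  let V := Q ⧸ m • (⊤ : Submodule R Q)
  have hV : Nontrivial V := Submodule.Quotient.nontrivial_iff.2 htop
  let b := Module.Free.chooseBasis κ V
  obtain ⟨i⟩ : Nonempty (Module.Free.ChooseBasisIndex κ V) := b.index_nonempty
  obtain ⟨q₀, hq₀⟩ := Submodule.mkQ_surjective (m • (⊤ : Submodule R Q)) (b i)
  let ψ : Q →ₗ[R] κ := ((b.coord i).restrictScalars R).comp (m • (⊤ : Submodule R Q)).mkQ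
  have hψ : ψ q₀ = 1 := by
    change b.coord i ((m • (⊤ : Submodule R Q)).mkQ q₀) = 1
    rw [hq₀]
    simp
  let Φ : Q ⊗[R] Q →ₗ[R] κ := TensorProduct.lift ((LinearMap.mul R κ).compl₁₂ ψ ψ)
  have h1 : Φ (q₀ ⊗ₜ q₀) = 1 := by
    simp [Φ, hψ]
  have h2 : q₀ ⊗ₜ[R] q₀ = 0 := Subsingleton.elim _ _
  rw [h2, map_zero] at h1
  exact zero_ne_one h1

/-- An epimorphism of rings out of a local ring with nilpotent maximal ideal is surjective. -/
theorem surjective_of_isEpi [IsLocalRing R] (hm : IsNilpotent (IsLocalRing.maximalIdeal R))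
    {B : Type*} [CommRing B] [Algebra R B] [h : Algebra.IsEpi R B] :
    Function.Surjective (algebraMap R B) := by
  let R' := (Algebra.linearMap R B).range
  have hsub : Subsingleton ((B ⧸ R') ⊗[R] (B ⧸ R')) := by
    refine subsingleton_of_forall_eq 0 fun y ↦ ?_
    induction y with
    | zero => rfl
    | add a b e₁ e₂ => rwa [e₁, zero_add]
    | tmul x y =>
      obtain ⟨x, rfl⟩ := R'.mkQ_surjective x
      obtain ⟨y, rfl⟩ := R'.mkQ_surjective y
      obtain ⟨s, hs⟩ : ∃ s, 1 ⊗ₜ[R] s = x ⊗ₜ[R] y := by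
        use x * y
        trans x ⊗ₜ 1 * 1 ⊗ₜ y
        · simp [(Algebra.isEpi_iff_forall_one_tmul_eq R B).mp]
        · simp
      have : R'.mkQ 1 = 0 := (Submodule.Quotient.mk_eq_zero R').mpr ⟨1, map_one (algebraMap R B)⟩
      rw [← map_tmul R'.mkQ R'.mkQ, ← hs, map_tmul, this, zero_tmul]
  have hQ : Subsingleton (B ⧸ R') := subsingleton_of_subsingleton_tensor hm hsub
  rwa [Submodule.Quotient.subsingleton_iff, LinearMap.range_eq_top] at hQ

end Groth.Agent.H52.EpiArtin
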