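import Mathlib

set_option autoImplicit false
universe u
open TensorProduct

namespace Groth.Agent.H52

section Indep

variable {k K B : Type u} [Field k] [Field K] [CommRing B] [Algebra k K] [Algebra K B]

/-- `B` with the `K`-algebra structure given by a second ring homomorphism `t`. -/
def Bt (_t : K →+* B) : Type u := B

instance (t : K →+* B) : CommRing (Bt t) := inferInstanceAs (CommRing B)

instance (t : K →+* B) : Algebra K (Bt t) := t.toAlgebra

/-- The ring of functions on `R ×_{s,U,t} R`. -/
abbrev TT (t : K →+* B) : Type u := Bt t ⊗[K] B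

/-- first projection -/
def inl (t : K →+* B) : B →+* TT t :=
  (Algebra.TensorProduct.includeLeft : Bt t →ₐ[K] TT t).toRingHom

/-- second projection -/
def inr (t : K →+* B) : B →+* TT t :=
  (Algebra.TensorProduct.includeRight : B →ₐ[K] TT t).toRingHom

theorem inl_comp_t (t : K →+* B) : (inl t).comp t = (inr t).comp (algebraMap K B) := by
  ext x
  change (Algebra.TensorProduct.includeLeft : Bt t →ₐ[K] TT t) (algebraMap K (Bt t) x) =
    (Algebra.TensorProduct.includeRight : B →ₐ[K] TT t) (algebraMap K B x)
  rw [AlgHom.commutes, AlgHom.commutes]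

/-- view an element of `B` in `Bt t` -/
def toBt (t : K →+* B) (c : B) : Bt t := c

theorem inl_mul_inr (t : K →+* B) (c y : B) :
    inl t c * inr t y = (toBt t c) • ((1 : Bt t) ⊗ₜ[K] y) := by
  change ((toBt t c) ⊗ₜ[K] (1 : B)) * ((1 : Bt t) ⊗ₜ[K] y) = _
  rw [Algebra.TensorProduct.tmul_mul_tmul, mul_one, one_mul, TensorProduct.smul_tmul']
  congr 1
  exact (mul_one (toBt t c)).symm

variable (t : K →+* B) (e : B →+* K)

include e in
open Finset in
/-- Artin's lemma for an equivalence relation on the spectrum of a field: elements of `K` that are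
linearly independent over the field of invariants have `K`-linearly independent images under `t`. -/
theorem linearIndepOn_t
    (hk : ∀ a : K, algebraMap K B a = t a → a ∈ Set.range (algebraMap k K))
    (hes : ∀ a, e (algebraMap K B a) = a) (het : ∀ a, e (t a) = a)
    (htrans : ∀ (A : Type u) [CommRing A] (χ ρ : B →+* A), χ.comp t = ρ.comp (algebraMap K B) →
      ∃ ρ' : B →+* A, ρ'.comp (algebraMap K B) = χ.comp (algebraMap K B) ∧ ρ'.comp t = ρ.comp t)
    (σ : Finset K) (hσ : LinearIndepOn k id (σ : Set K)) :
    LinearIndepOn K (fun a => t a) (σ : Set K) := by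
  classical
  induction σ using Finset.induction_on with
  | empty =>
    have : IsEmpty ((∅ : Finset K) : Set K) := by simp
    exact linearIndependent_empty_type
  | insert a σ has ih =>
    rw [coe_insert] at hσ ⊢
    rw [linearIndepOn_insert (mt mem_coe.1 has)] at hσ
    rw [linearIndepOn_insert (mt mem_coe.1 has)]
    refine ⟨ih hσ.1, fun ha => ?_⟩
    rw [Finsupp.mem_span_image_iff_linearCombination] at ha
    obtain ⟨l, hl, hla⟩ := ha
    rw [Finsupp.linearCombination_apply_of_mem_supported K hl] at hla
    -- hla : ∑ i ∈ σ, l i • t i = t a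
    have hla' : ∑ i ∈ σ, algebraMap K B (l i) * t i = t a := by
      rw [← hla]
      exact Finset.sum_congr rfl fun i _ => (Algebra.smul_def _ _).symm
    have hfix : ∀ i ∈ σ, algebraMap K B (l i) = t (l i) := by
      obtain ⟨ρ', h1, h2⟩ := htrans (TT t) (inl t) (inr t) (inl_comp_t t)
      have hρ1 : ∀ x, ρ' (algebraMap K B x) = inl t (algebraMap K B x) := RingHom.congr_fun h1
      have hρ2 : ∀ x, ρ' (t x) = inr t (t x) := RingHom.congr_fun h2
      have hlr : ∀ x, inr t (algebraMap K B x) = inl t (t x) := fun x =>
        (RingHom.congr_fun (inl_comp_t t) x).symm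
      have e1 : ∑ i ∈ σ, inl t (algebraMap K B (l i)) * inr t (t i) = inr t (t a) := by
        have := congrArg ρ' hla'
        simp only [map_sum, map_mul, hρ1, hρ2] at this
        exact this
      have e2 : ∑ i ∈ σ, inl t (t (l i)) * inr t (t i) = inr t (t a) := by
        have := congrArg (inr t) hla'
        simp only [map_sum, map_mul, hlr] at this
        exact this
      have e3 : ∑ i ∈ σ, toBt t (algebraMap K B (l i) - t (l i)) • ((1 : Bt t) ⊗ₜ[K] (t i)) = 0 := by
        have : ∑ i ∈ σ, inl t (algebraMap K B (l i) - t (l i)) * inr t (t i) = 0 := by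
          simp only [map_sub, sub_mul, Finset.sum_sub_distrib]
          rw [e1, e2, sub_self]
        rw [← this]
        exact Finset.sum_congr rfl fun i _ => (inl_mul_inr t _ _).symm
      have hli : LinearIndependent (Bt t) (fun i : (σ : Set K) => (1 : Bt t) ⊗ₜ[K] (t i)) :=
        Module.Flat.linearIndependent_one_tmul (ih hσ.1)
      intro i hi
      have := linearIndependent_iff'.1 hli σ.attach
        (fun i => toBt t (algebraMap K B (l i) - t (l i)))
        ((Finset.sum_attach σ fun i => toBt t (algebraMap K B (l i) - t (l i)) •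
          ((1 : Bt t) ⊗ₜ[K] (t i))).trans e3) ⟨i, hi⟩ (mem_attach _ _)
      exact sub_eq_zero.mp this
    -- now apply `e`
    have hmem : ∀ i ∈ σ, ∃ c : k, algebraMap k K c = l i := fun i hi => hk _ (hfix i hi)
    choose! c hc using hmem
    apply hσ.2
    have hsum : a = ∑ i ∈ σ, c i • i := by
      have := congrArg e hla'
      rw [map_sum, het] at this
      rw [← this]
      refine Finset.sum_congr rfl fun i hi => ?_
      rw [map_mul, hes, het, Algebra.smul_def, hc i hi]
    rw [id, hsum]
    refine Submodule.sum_mem _ fun i hi => Submodule.smul_mem _ _ (Submodule.subset_span ?_)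
    exact ⟨i, hi, rfl⟩

end Indep

section Main

variable {k K B : Type u} [Field k] [Field K] [CommRing B] [Algebra k K] [Algebra K B]
  [Module.Finite K B] (t : K →+* B) (e : B →+* K)

include e in
/-- Family version of `linearIndepOn_t`. -/
theorem linearIndependent_t
    (hk : ∀ a : K, algebraMap K B a = t a → a ∈ Set.range (algebraMap k K))
    (hes : ∀ a, e (algebraMap K B a) = a) (het : ∀ a, e (t a) = a)
    (htrans : ∀ (A : Type u) [CommRing A] (χ ρ : B →+* A), χ.comp t = ρ.comp (algebraMap K B) →
      ∃ ρ' : B →+* A, ρ'.comp (algebraMap K B) = χ.comp (algebraMap K B) ∧ ρ'.comp t = ρ.comp t)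
    {ι : Type*} (b : ι → K) (hb : LinearIndependent k b) :
    LinearIndependent K (fun i => t (b i)) := by
  classical
  rw [linearIndependent_iff_finset_linearIndependent]
  intro s
  have hinj : Function.Injective b := hb.injective
  have h1 : LinearIndepOn k id ((s.image b : Finset K) : Set K) := by
    rw [Finset.coe_image]
    exact (hb.linearIndepOn (s : Set ι)).id_image
  have h2 := linearIndepOn_t t e hk hes het htrans (s.image b) h1
  let f : s → ((s.image b : Finset K) : Set K) := fun i =>
    ⟨b i, Finset.mem_coe.2 (Finset.mem_image_of_mem b i.2)⟩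
  have hf : Function.Injective f := fun i j hij => Subtype.ext (hinj (congrArg Subtype.val hij))
  exact h2.comp f hf

include e in
/-- The field `K` is finite over the field of invariants. -/
theorem finite_of_trans
    (hk : ∀ a : K, algebraMap K B a = t a → a ∈ Set.range (algebraMap k K))
    (hes : ∀ a, e (algebraMap K B a) = a) (het : ∀ a, e (t a) = a)
    (htrans : ∀ (A : Type u) [CommRing A] (χ ρ : B →+* A), χ.comp t = ρ.comp (algebraMap K B) →
      ∃ ρ' : B →+* A, ρ'.comp (algebraMap K B) = χ.comp (algebraMap K B) ∧ ρ'.comp t = ρ.comp t) :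
    Module.Finite k K := by
  rw [← Module.rank_lt_aleph0_iff]
  have : Module.rank k K ≤ (Module.finrank K B : ℕ) := by
    refine rank_le fun σ hσ => ?_
    have h := linearIndependent_t t e hk hes het htrans (fun i : σ => (i : K)) hσ
    have := h.fintype_card_le_finrank
    simpa using this
  exact this.trans_lt (Cardinal.natCast_lt_aleph0)

variable [Algebra k B] [IsScalarTower k K B]

/-- The comparison map `K ⊗[k] K ⟶ B`. -/
noncomputable def mu (t' : K →ₐ[k] B) : K ⊗[k] K →ₐ[K] B :=
  Algebra.TensorProduct.lift (Algebra.ofId K B) t' (fun _ _ => Commute.all _ _)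

include e in
/-- The comparison map `K ⊗[k] K ⟶ B` is bijective. -/
theorem bijective_mu (t' : K →ₐ[k] B)
    (hk : ∀ a : K, algebraMap K B a = t' a → a ∈ Set.range (algebraMap k K))
    (hes : ∀ a, e (algebraMap K B a) = a) (het : ∀ a, e (t' a) = a)
    (htrans : ∀ (A : Type u) [CommRing A] (χ ρ : B →+* A),
      χ.comp (t' : K →+* B) = ρ.comp (algebraMap K B) →
      ∃ ρ' : B →+* A, ρ'.comp (algebraMap K B) = χ.comp (algebraMap K B) ∧
        ρ'.comp (t' : K →+* B) = ρ.comp (t' : K →+* B))
    (hmono : ∀ (A : Type u) [CommRing A] (f g : B →+* A),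
      f.comp (algebraMap K B) = g.comp (algebraMap K B) →
      f.comp (t' : K →+* B) = g.comp (t' : K →+* B) → f = g) :
    Function.Bijective (mu t') := by
  constructor
  · -- injectivity
    let b := Module.Free.chooseBasis k K
    let 𝔟 := Algebra.TensorProduct.basis K b
    have hli : LinearIndependent K (fun i => t' (b i)) :=
      linearIndependent_t (t' : K →+* B) e hk hes het htrans b b.linearIndependent
    have heq : (mu t').toLinearMap = 𝔟.constr ℕ (fun i => t' (b i)) := by
      refine 𝔟.ext fun i => ?_
      rw [Module.Basis.constr_basis, Algebra.TensorProduct.basis_apply]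
      simp [mu]
    have := 𝔟.injective_constr_of_linearIndependent (R₂ := ℕ) hli
    rw [← heq] at this
    exact this
  · -- surjectivity
    have hfin : (mu t').toRingHom.Finite := by
      have : ((mu t').toRingHom.comp (algebraMap K (K ⊗[k] K))).Finite := by
        have h : (mu t').toRingHom.comp (algebraMap K (K ⊗[k] K)) = algebraMap K B := by
          ext x
          exact (mu t').commutes x
        rw [h]
        exact RingHom.finite_algebraMap.mpr inferInstance
      exact RingHom.Finite.of_comp_finite this
    have hepi : CategoryTheory.Epi (CommRingCat.ofHom (mu t').toRingHom) := by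
      refine ⟨fun {A} f g hfg => ?_⟩
      have hfg' : ∀ x, f.hom (mu t' x) = g.hom (mu t' x) := fun x =>
        congrArg (fun m => m.hom x) hfg
      apply CommRingCat.hom_ext
      refine hmono A f.hom g.hom ?_ ?_
      · ext a
        have := hfg' (a ⊗ₜ 1)
        simpa [mu] using this
      · ext a
        have := hfg' (1 ⊗ₜ a)
        simpa [mu] using this
    exact RingHom.surjective_of_epi_of_finite (CommRingCat.ofHom (mu t').toRingHom) hfin

end Main

end Groth.Agent.H52
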