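import Groth.Agent.H52.Epi
import Groth.Agent.H52.EqvRelAlg
import Groth.Agent.H52.MonoPoint

set_option autoImplicit false
universe u
open CategoryTheory CategoryTheory.Limits AlgebraicGeometry Opposite TensorProduct

namespace Groth.Agent.H52

open AlgSp

variable {S : Scheme.{u}}

/-- Lifting scheme-valued points into a scheme representing a fibre product of sheaves. -/
theorem exists_lift_of_isPullback_yon {F : Sp S} {R U V T : Over S} {f : (yon S).obj U ⟶ F}
    {g : (yon S).obj V ⟶ F} {p1 : R ⟶ U} {p2 : R ⟶ V}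
    (hR : IsPullback ((yon S).map p1) ((yon S).map p2) f g) (a : T ⟶ U) (b : T ⟶ V)
    (h : (yon S).map a ≫ f = (yon S).map b ≫ g) : ∃ c : T ⟶ R, c ≫ p1 = a ∧ c ≫ p2 = b := by
  obtain ⟨c, hc⟩ := (yon S).map_surjective (hR.lift _ _ h)
  refine ⟨c, (yon S).map_injective ?_, (yon S).map_injective ?_⟩
  · rw [Functor.map_comp, hc, hR.lift_fst]
  · rw [Functor.map_comp, hc, hR.lift_snd]

theorem hom_ext_of_isPullback_yon {F : Sp S} {R U V T : Over S} {f : (yon S).obj U ⟶ F}
    {g : (yon S).obj V ⟶ F} {p1 : R ⟶ U} {p2 : R ⟶ V}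
    (hR : IsPullback ((yon S).map p1) ((yon S).map p2) f g) (c c' : T ⟶ R)
    (h1 : c ≫ p1 = c' ≫ p1) (h2 : c ≫ p2 = c' ≫ p2) : c = c' := by
  apply (yon S).map_injective
  apply hR.hom_ext
  · rw [← Functor.map_comp, ← Functor.map_comp, h1]
  · rw [← Functor.map_comp, ← Functor.map_comp, h2]

/-- The equalizer of two ring maps out of a field, as a subfield. -/
def eqField {K B : Type*} [Field K] [CommRing B] (s t : K →+* B) : Subfield K where
  __ := s.eqLocus t
  inv_mem' := by
    intro a ha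
    change s a = t a at ha
    change s a⁻¹ = t a⁻¹
    by_cases h0 : a = 0
    · simp [h0]
    · have h1 : s a⁻¹ * s a = 1 := by rw [← map_mul, inv_mul_cancel₀ h0, map_one]
      have h2 : t a * t a⁻¹ = 1 := by rw [← map_mul, mul_inv_cancel₀ h0, map_one]
      calc s a⁻¹ = s a⁻¹ * (t a * t a⁻¹) := by rw [h2, mul_one]
        _ = (s a⁻¹ * s a) * t a⁻¹ := by rw [← ha, mul_assoc]
        _ = t a⁻¹ := by rw [h1, one_mul]

theorem mem_eqField {K B : Type*} [Field K] [CommRing B] (s t : K →+* B) (a : K) :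
    a ∈ eqField s t ↔ s a = t a := Iff.rfl

section Affine

variable {F : Sp S} (q : FieldPt F) {B : CommRingCat.{u}} {w : Spec B ⟶ S}

/-- The ring map underlying a morphism from an affine scheme to the spectrum of the field of a point. -/
noncomputable def ringOf (p : Over.mk w ⟶ q.pt) : q.K →+* B := (Spec.preimage p.left).hom

theorem specMap_comp_ringOf (p : Over.mk w ⟶ q.pt) {A : Type u} [CommRing A] (χ : B →+* A) :
    Spec.map (CommRingCat.ofHom (χ.comp (ringOf q p))) = Spec.map (CommRingCat.ofHom χ) ≫ p.left := by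
  have : CommRingCat.ofHom (χ.comp (ringOf q p)) = Spec.preimage p.left ≫ CommRingCat.ofHom χ := rfl
  rw [this, Spec.map_comp, Spec.map_preimage]

theorem specMap_comp_w (p : Over.mk w ⟶ q.pt) {A : Type u} [CommRing A] (χ : B →+* A) :
    Spec.map (CommRingCat.ofHom χ) ≫ w =
      Spec.map (CommRingCat.ofHom (χ.comp (ringOf q p))) ≫ q.str := by
  rw [specMap_comp_ringOf, Category.assoc]
  congr 1
  exact (Over.w p).symm

/-- The `A`-valued point of `Spec B` defined by a ring map. -/
noncomputable abbrev ptA {A : Type u} [CommRing A] (χ : B →+* A) :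
    Over.mk (Spec.map (CommRingCat.ofHom χ) ≫ w) ⟶ Over.mk w :=
  Over.homMk (Spec.map (CommRingCat.ofHom χ)) rfl

theorem ringHom_eq_of_ptA_comp {A : Type u} [CommRing A] {χ ρ : B →+* A}
    (h : Spec.map (CommRingCat.ofHom ρ) ≫ w = Spec.map (CommRingCat.ofHom χ) ≫ w)
    (p p' : Over.mk w ⟶ q.pt)
    (hh : (Over.homMk (Spec.map (CommRingCat.ofHom ρ)) h :
      Over.mk (Spec.map (CommRingCat.ofHom χ) ≫ w) ⟶ Over.mk w) ≫ p = ptA χ ≫ p') :
    ρ.comp (ringOf q p) = χ.comp (ringOf q p') := by
  have h1 := congrArg (fun m => m.left) hh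
  simp only [Over.comp_left, Over.homMk_left] at h1
  rw [← specMap_comp_ringOf, ← specMap_comp_ringOf] at h1
  exact congrArg CommRingCat.Hom.hom (Spec.map_injective h1)

theorem ptA_comp_eq {A : Type u} [CommRing A] {χ ρ : B →+* A}
    (p p' : Over.mk w ⟶ q.pt) (hh : ρ.comp (ringOf q p) = χ.comp (ringOf q p')) :
    ∃ h : Spec.map (CommRingCat.ofHom ρ) ≫ w = Spec.map (CommRingCat.ofHom χ) ≫ w,
      (Over.homMk (Spec.map (CommRingCat.ofHom ρ)) h :
        Over.mk (Spec.map (CommRingCat.ofHom χ) ≫ w) ⟶ Over.mk w) ≫ p = ptA χ ≫ p' := by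
  have h : Spec.map (CommRingCat.ofHom ρ) ≫ w = Spec.map (CommRingCat.ofHom χ) ≫ w := by
    rw [specMap_comp_w q p, specMap_comp_w q p', hh]
  refine ⟨h, ?_⟩
  ext1
  simp only [Over.comp_left, Over.homMk_left]
  rw [← specMap_comp_ringOf, ← specMap_comp_ringOf, hh]

end Affine

section AlgFacts

variable {F : Sp S} (q : FieldPt F) {B : CommRingCat.{u}} {w : Spec B ⟶ S}
  (p1 p2 : Over.mk w ⟶ q.pt)
  (hR : IsPullback ((yon S).map p1) ((yon S).map p2) q.toHom q.toHom)

include hR

theorem exists_retraction :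
    ∃ e : B →+* q.K, (∀ a, e (ringOf q p1 a) = a) ∧ (∀ a, e (ringOf q p2 a) = a) := by
  obtain ⟨d, hd1, hd2⟩ := exists_lift_of_isPullback_yon hR (𝟙 q.pt) (𝟙 q.pt) rfl
  have h1 : Spec.preimage p1.left ≫ Spec.preimage d.left = 𝟙 _ := by
    apply Spec.map_injective
    rw [Spec.map_comp, Spec.map_preimage, Spec.map_preimage, ← Over.comp_left, hd1]
    simp
  have h2 : Spec.preimage p2.left ≫ Spec.preimage d.left = 𝟙 _ := by
    apply Spec.map_injective
    rw [Spec.map_comp, Spec.map_preimage, Spec.map_preimage, ← Over.comp_left, hd2]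
    simp
  refine ⟨(Spec.preimage d.left).hom, fun a => ?_, fun a => ?_⟩
  · exact congrArg (fun m => m.hom a) h1
  · exact congrArg (fun m => m.hom a) h2

theorem ringHom_ext_of_isPullback {A : Type u} [CommRing A] (f g : B →+* A)
    (h1 : f.comp (ringOf q p1) = g.comp (ringOf q p1))
    (h2 : f.comp (ringOf q p2) = g.comp (ringOf q p2)) : f = g := by
  obtain ⟨h, e1⟩ := ptA_comp_eq q p1 p1 h1.symm
  obtain ⟨h', e2⟩ := ptA_comp_eq q p2 p2 h2.symm
  have := hom_ext_of_isPullback_yon hR _ _ e1 e2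
  have h3 := congrArg (fun m => m.left) this
  simp only [Over.homMk_left] at h3
  exact (congrArg CommRingCat.Hom.hom (Spec.map_injective h3)).symm

theorem exists_trans {A : Type u} [CommRing A] (χ ρ : B →+* A)
    (h : χ.comp (ringOf q p2) = ρ.comp (ringOf q p1)) :
    ∃ ρ' : B →+* A, ρ'.comp (ringOf q p1) = χ.comp (ringOf q p1) ∧
      ρ'.comp (ringOf q p2) = ρ.comp (ringOf q p2) := by
  obtain ⟨hw, e1⟩ := ptA_comp_eq q p1 p2 h.symm
  let aρ : Over.mk (Spec.map (CommRingCat.ofHom χ) ≫ w) ⟶ Over.mk w :=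
    Over.homMk (Spec.map (CommRingCat.ofHom ρ)) hw
  have e1' : aρ ≫ p1 = ptA χ ≫ p2 := e1
  have hcond : (yon S).map (ptA χ ≫ p1) ≫ q.toHom = (yon S).map (aρ ≫ p2) ≫ q.toHom := by
    calc (yon S).map (ptA χ ≫ p1) ≫ q.toHom
        = (yon S).map (ptA χ) ≫ (yon S).map p1 ≫ q.toHom := by
          rw [Functor.map_comp, Category.assoc]
      _ = (yon S).map (ptA χ) ≫ (yon S).map p2 ≫ q.toHom := by rw [hR.w]
      _ = (yon S).map (aρ ≫ p1) ≫ q.toHom := by
          rw [e1', Functor.map_comp, Category.assoc]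
      _ = (yon S).map aρ ≫ (yon S).map p1 ≫ q.toHom := by
          rw [Functor.map_comp, Category.assoc]
      _ = (yon S).map aρ ≫ (yon S).map p2 ≫ q.toHom := by rw [hR.w]
      _ = (yon S).map (aρ ≫ p2) ≫ q.toHom := by
          rw [Functor.map_comp, Category.assoc]
  obtain ⟨c, hc1, hc2⟩ := exists_lift_of_isPullback_yon hR _ _ hcond
  let ρ' : B →+* A := (Spec.preimage c.left).hom
  have hρ' : Spec.map (CommRingCat.ofHom ρ') = c.left := Spec.map_preimage c.left
  refine ⟨ρ', ?_, ?_⟩
  · have h1 := congrArg (fun m => m.left) hc1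
    simp only [Over.comp_left, Over.homMk_left] at h1
    rw [← hρ', ← specMap_comp_ringOf, ← specMap_comp_ringOf] at h1
    exact congrArg CommRingCat.Hom.hom (Spec.map_injective h1)
  · have h2 := congrArg (fun m => m.left) hc2
    simp only [Over.comp_left, Over.homMk_left, aρ] at h2
    rw [← hρ', ← specMap_comp_ringOf, ← specMap_comp_ringOf] at h2
    exact congrArg CommRingCat.Hom.hom (Spec.map_injective h2)

end AlgFacts

/-- If `ε = h_c` is an epimorphism of sheaves, `f = ε ≫ p'`, and `R` represents `Q ×_F Q` with both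
projections equalized by `c`, then `p'` is a monomorphism. -/
theorem mono_of_epi_of_isPullback {F : Sp S} {Q P R : Over S} (c : Q ⟶ P) [Epi ((yon S).map c)]
    (f : (yon S).obj Q ⟶ F) (p' : (yon S).obj P ⟶ F) (h : (yon S).map c ≫ p' = f)
    (p1 p2 : R ⟶ Q) (hR : IsPullback ((yon S).map p1) ((yon S).map p2) f f)
    (hc : p1 ≫ c = p2 ≫ c) : Mono p' := by
  refine mono_of_yon_injective p' fun T x y hxy => ?_
  obtain ⟨Wx, hWx, hx⟩ := exists_local_lift_of_epi ((yon S).map c) x
  obtain ⟨Wy, hWy, hy⟩ := exists_local_lift_of_epi ((yon S).map c) y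
  refine hom_ext_of_covering x y (Wx ⊓ Wy) ((J S).intersection_covering hWx hWy) ?_
  rintro T' g ⟨hgx, hgy⟩
  obtain ⟨x', hx'⟩ := hx g hgx
  obtain ⟨y', hy'⟩ := hy g hgy
  obtain ⟨a, rfl⟩ := (yon S).map_surjective x'
  obtain ⟨b, rfl⟩ := (yon S).map_surjective y'
  have hab : (yon S).map a ≫ f = (yon S).map b ≫ f := by
    rw [← h, reassoc_of% hx', reassoc_of% hy', hxy]
  obtain ⟨r, hr1, hr2⟩ := exists_lift_of_isPullback_yon hR a b hab
  rw [← hx', ← hy', ← Functor.map_comp, ← Functor.map_comp, ← hr1, ← hr2, Category.assoc,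
    Category.assoc, hc]


section Main

variable {F : Sp S} (q : FieldPt F) {B : CommRingCat.{u}} {w : Spec B ⟶ S}
  (p1 p2 : Over.mk w ⟶ q.pt)
  (hR : IsPullback ((yon S).map p1) ((yon S).map p2) q.toHom q.toHom)

include hR

/-- **Theorem Q, affine form.**  A field-valued point whose self fibre product is finite over it factors
through a monomorphic field-valued point by a finite morphism. -/
theorem exists_mono_point_affine (hfin : (ringOf q p1).Finite) :
    ∃ (p : FieldPt F) (c : q.pt ⟶ p.pt), (yon S).map c ≫ p.toHom = q.toHom ∧ Mono p.toHom ∧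
      IsFinite c.left := by
  classical
  let s : q.K →+* B := ringOf q p1
  let t : q.K →+* B := ringOf q p2
  obtain ⟨e, hes, het⟩ := exists_retraction q p1 p2 hR
  let k : Subfield q.K := eqField s t
  let algKB : Algebra q.K B := s.toAlgebra
  have finKB : Module.Finite q.K B := hfin
  let algkK : Algebra k q.K := k.subtype.toAlgebra
  let algkB : Algebra k B := (s.comp k.subtype).toAlgebra
  have tower : @IsScalarTower k q.K B algkK.toSMul algKB.toSMul algkB.toSMul :=
    IsScalarTower.of_algebraMap_eq (fun _ => rfl)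
  let t' : q.K →ₐ[k] B := { t with commutes' := fun a => ((mem_eqField s t a).1 a.2).symm }
  have hk : ∀ a : q.K, algebraMap q.K B a = t' a → a ∈ Set.range (algebraMap k q.K) :=
    fun a ha => ⟨⟨a, ha⟩, rfl⟩
  have htr : ∀ (A : Type u) [CommRing A] (χ ρ : B →+* A),
      χ.comp (t' : q.K →+* B) = ρ.comp (algebraMap q.K B) →
      ∃ ρ' : B →+* A, ρ'.comp (algebraMap q.K B) = χ.comp (algebraMap q.K B) ∧
        ρ'.comp (t' : q.K →+* B) = ρ.comp (t' : q.K →+* B) :=
    fun A _ χ ρ h => exists_trans q p1 p2 hR χ ρ h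
  have hmo : ∀ (A : Type u) [CommRing A] (f g : B →+* A),
      f.comp (algebraMap q.K B) = g.comp (algebraMap q.K B) →
      f.comp (t' : q.K →+* B) = g.comp (t' : q.K →+* B) → f = g :=
    fun A _ f g h1 h2 => ringHom_ext_of_isPullback q p1 p2 hR f g h1 h2
  have hfinK : Module.Finite k q.K := finite_of_trans (t' : q.K →+* B) e hk hes het htr
  have hbij : Function.Bijective (mu t') := bijective_mu e t' hk hes het htr hmo
  -- the structure morphism of `Spec k`
  let σ₀ : S := q.str (IsLocalRing.closedPoint q.K)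
  let ν : S.residueField σ₀ ⟶ CommRingCat.of q.K :=
    Scheme.descResidueField (Scheme.stalkClosedPointTo q.str)
  have hν : Spec.map ν ≫ S.fromSpecResidueField σ₀ = q.str :=
    Scheme.descResidueField_stalkClosedPointTo_fromSpecResidueField q.K S q.str
  have hs : Spec.map (CommRingCat.ofHom s) = p1.left := Spec.map_preimage p1.left
  have ht : Spec.map (CommRingCat.ofHom t) = p2.left := Spec.map_preimage p2.left
  have hνk : ∀ x, ν.hom x ∈ k := by
    intro x
    have h1 : Spec.map (ν ≫ CommRingCat.ofHom s) ≫ S.fromSpecResidueField σ₀ =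
        Spec.map (ν ≫ CommRingCat.ofHom t) ≫ S.fromSpecResidueField σ₀ := by
      rw [Spec.map_comp, Spec.map_comp, Category.assoc, Category.assoc, hν, hs, ht]
      exact (Over.w p1).trans (Over.w p2).symm
    have h2 := Spec.map_injective ((cancel_mono _).1 h1)
    exact congrArg (fun m => m.hom x) h2
  let νk : S.residueField σ₀ →+* k := ν.hom.codRestrict k hνk
  let ι : k →+* q.K := k.subtype
  let wk : Spec (CommRingCat.of k) ⟶ S :=
    Spec.map (CommRingCat.ofHom νk) ≫ S.fromSpecResidueField σ₀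
  have hι : Spec.map (CommRingCat.ofHom ι) ≫ wk = q.str := by
    rw [← hν]
    simp only [wk]
    rw [← Category.assoc, ← Spec.map_comp]
    rfl
  let c : q.pt ⟶ Over.mk wk := Over.homMk (Spec.map (CommRingCat.ofHom ι)) hι
  -- the pushout square of rings
  have hpo : IsPushout (CommRingCat.ofHom ι) (CommRingCat.ofHom ι) (CommRingCat.ofHom s)
      (CommRingCat.ofHom t) := by
    have h0 := CommRingCat.isPushout_tensorProduct k q.K q.K
    let E := (RingEquiv.ofBijective (mu t') hbij).toCommRingCatIso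
    refine h0.of_iso (Iso.refl _) (Iso.refl _) (Iso.refl _) E ?_ ?_ ?_ ?_
    · rfl
    · rfl
    · ext a
      change mu t' (a ⊗ₜ 1) = s a
      simp [mu]
      rfl
    · ext a
      change mu t' (1 ⊗ₜ a) = t a
      simp [mu]
      rfl
  have hpb := isPullback_SpecMap_of_isPushout _ _ _ _ hpo
  have hpbO : IsPullback p1 p2 c c := by
    have comm : p1 ≫ c = p2 ≫ c := by
      ext1
      simp only [Over.comp_left, c, Over.homMk_left]
      rw [← hs, ← ht]
      exact hpb.w
    refine IsPullback.of_map (Over.forget S) comm ?_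
    simp only [Over.forget_map]
    rw [← hs, ← ht]
    exact hpb
  have hflat : Flat c.left := by
    change Flat (Spec.map (CommRingCat.ofHom ι))
    rw [Flat.SpecMap_iff]
    exact (inferInstance : Module.Flat k q.K)
  have hfinc : IsFinite c.left := by
    change IsFinite (Spec.map (CommRingCat.ofHom ι))
    rw [IsFinite.SpecMap_iff]
    exact hfinK
  have hlfp : LocallyOfFinitePresentation c.left := by
    change LocallyOfFinitePresentation (Spec.map (CommRingCat.ofHom ι))
    rw [LocallyOfFinitePresentation.SpecMap_iff]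
    exact RingHom.FinitePresentation.of_finiteType.1 (RingHom.Finite.finiteType hfinK)
  have hsurj : Surjective c.left := by
    have : Subsingleton ↥(Over.mk wk).left := inferInstanceAs (Subsingleton (PrimeSpectrum k))
    exact ⟨fun x => ⟨IsLocalRing.closedPoint q.K, Subsingleton.elim _ _⟩⟩
  have : Epi ((yon S).map c) := epi_yon_map_of_fppf c hflat hlfp hsurj
  have hkp : IsKernelPair ((yon S).map c) ((yon S).map p1) ((yon S).map p2) := hpbO.map (yon S)
  obtain ⟨p', hp'⟩ := exists_desc_of_epi_of_isKernelPair ((yon S).map c) hkp q.toHom hR.w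
  refine ⟨fieldPtOfHom wk p', c, ?_, ?_, hfinc⟩
  · rw [toHom_fieldPtOfHom]
    exact hp'
  · rw [toHom_fieldPtOfHom]
    exact mono_of_epi_of_isPullback c q.toHom p' hp' p1 p2 hR hpbO.w

end Main

/-- A field-valued point factoring through another one defines the same point. -/
theorem mk_eq_of_factor {F : Sp S} (p q : FieldPt F) (c : q.pt ⟶ p.pt)
    (h : (yon S).map c ≫ p.toHom = q.toHom) : Points.mk p = Points.mk q := by
  rw [Points.mk_eq_mk_iff, rel_iff_toHom]
  refine ⟨q.K, inferInstance, q.str, c, 𝟙 _, ?_⟩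
  rw [h, CategoryTheory.Functor.map_id, Category.id_comp]

/-- **Theorem Q.**  A field-valued point `q` of a sheaf whose self fibre product is a scheme finite over
`Spec K` factors through a monomorphic field-valued point by a finite morphism. -/
theorem exists_mono_point_of_finite {F : Sp S} (q : FieldPt F) {R : Over S} (pr₁ pr₂ : R ⟶ q.pt)
    (hR : IsPullback ((yon S).map pr₁) ((yon S).map pr₂) q.toHom q.toHom) [IsFinite pr₁.left] :
    ∃ (p : FieldPt F) (c : q.pt ⟶ p.pt), (yon S).map c ≫ p.toHom = q.toHom ∧ Mono p.toHom ∧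
      IsFinite c.left ∧ Points.mk p = Points.mk q := by
  have haff : IsAffine R.left := isAffine_of_isAffineHom pr₁.left
  let B : CommRingCat.{u} := Γ(R.left, ⊤)
  let φ : R.left ≅ Spec B := R.left.isoSpec
  let w : Spec B ⟶ S := φ.inv ≫ R.hom
  let E : Over.mk w ≅ R := Over.isoMk φ.symm (by simp [w])
  let p1 : Over.mk w ⟶ q.pt := E.hom ≫ pr₁
  let p2 : Over.mk w ⟶ q.pt := E.hom ≫ pr₂
  have hR' : IsPullback ((yon S).map p1) ((yon S).map p2) q.toHom q.toHom := by
    refine IsPullback.of_iso hR ((yon S).mapIso E.symm) (Iso.refl _) (Iso.refl _) (Iso.refl _)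
      ?_ ?_ ?_ ?_
    · simp only [Functor.mapIso_hom, Iso.symm_hom, Iso.refl_hom, Category.comp_id, p1]
      rw [← Functor.map_comp, Iso.inv_hom_id_assoc]
    · simp only [Functor.mapIso_hom, Iso.symm_hom, Iso.refl_hom, Category.comp_id, p2]
      rw [← Functor.map_comp, Iso.inv_hom_id_assoc]
    · simp
    · simp
  have hfin : (ringOf q p1).Finite := by
    have h1 : IsFinite p1.left := by
      simp only [p1, Over.comp_left]
      infer_instance
    rw [← Spec.map_preimage p1.left, IsFinite.SpecMap_iff] at h1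
    exact h1
  obtain ⟨p, c, h1, h2, h3⟩ := exists_mono_point_affine q p1 p2 hR' hfin
  exact ⟨p, c, h1, h2, h3, mk_eq_of_factor p q c h1⟩

end Groth.Agent.H52
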