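import Groth.Agent.H53.ZMT.Deg
import Mathlib.AlgebraicGeometry.Morphisms.Separated
import Mathlib.AlgebraicGeometry.Morphisms.UniversallyOpen

/-!
# The degree stratification of an etale separated morphism of schemes

`Strat e d` is the set of points `u` of the target such that some field valued point over `u` has
`d` distinct lifts along `e`.  For `e` etale and separated these sets are open.
-/

set_option autoImplicit false
universe u
open CategoryTheory CategoryTheory.Limits AlgebraicGeometry

namespace Groth.Agent.H52.EtDeg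

open Groth.Agent.H53.ZMT

/-- The points over which some field valued point has `d` distinct lifts along `e`. -/
def Strat {Y U : Scheme.{u}} (e : Y ⟶ U) (d : ℕ) : Set U :=
  {u | ∃ (K : Type u) (_ : Field K) (y : Spec (.of K) ⟶ U) (s : Finset (Spec (.of K) ⟶ Y)),
    y (IsLocalRing.closedPoint K) = u ∧ (∀ x ∈ s, x ≫ e = y) ∧ s.card = d}

theorem strat_zero {Y U : Scheme.{u}} (e : Y ⟶ U) : Strat e 0 = Set.univ := by
  ext u
  simp only [Set.mem_univ, iff_true]
  refine ⟨U.residueField u, inferInstance, U.fromSpecResidueField u, ∅, ?_, by simp, by simp⟩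
  exact U.fromSpecResidueField_apply u _

theorem strat_anti {Y U : Scheme.{u}} (e : Y ⟶ U) {d d' : ℕ} (h : d ≤ d') :
    Strat e d' ⊆ Strat e d := by
  rintro u ⟨K, _, y, s, hy, hs, hc⟩
  obtain ⟨s', hs's, hs'c⟩ := Finset.exists_subset_card_eq (hc ▸ h : d ≤ s.card)
  exact ⟨K, _, y, s', hy, fun x hx => hs x (hs's hx), hs'c⟩

/-- A morphism from the spectrum of a field has range contained in a set as soon as the closed
point is mapped into it. -/
theorem range_subset_of_field {K : Type u} [Field K] {Z : Scheme.{u}} (z : Spec (.of K) ⟶ Z)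
    (A : Set Z) (h : z (IsLocalRing.closedPoint K) ∈ A) : Set.range z ⊆ A := by
  rintro _ ⟨q, rfl⟩
  have : q = IsLocalRing.closedPoint K := Subsingleton.elim (α := PrimeSpectrum K) _ _
  rw [this]; exact h

/-- A field valued point of `Y ×_U Y` landing in the diagonal has equal components. -/
theorem eq_of_mem_range_diagonal {Y U : Scheme.{u}} (e : Y ⟶ U)
    [IsOpenImmersion (pullback.diagonal e)] {K : Type u} [Field K] (x x₀ : Spec (.of K) ⟶ Y)
    (h : x ≫ e = x₀ ≫ e)
    (hm : (pullback.lift x x₀ h) (IsLocalRing.closedPoint K) ∈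
      Set.range (pullback.diagonal e)) : x = x₀ := by
  have hr := range_subset_of_field (pullback.lift x x₀ h) _ hm
  let w := IsOpenImmersion.lift (pullback.diagonal e) (pullback.lift x x₀ h) hr
  have hw : w ≫ pullback.diagonal e = pullback.lift x x₀ h := IsOpenImmersion.lift_fac _ _ _
  have h1 : w = x := by
    have := hw =≫ pullback.fst e e
    rw [Category.assoc, pullback.diagonal_fst, Category.comp_id, pullback.lift_fst] at this
    exact this
  have h2 : w = x₀ := by
    have := hw =≫ pullback.snd e e
    rw [Category.assoc, pullback.diagonal_snd, Category.comp_id, pullback.lift_snd] at this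
    exact this
  rw [← h1, h2]

variable {Y U : Scheme.{u}} (e : Y ⟶ U) [Etale e] [IsSeparated e]

/-- The complement of the diagonal in `Y ×_U Y`. -/
def diagCompl : (pullback e e).Opens :=
  ⟨(Set.range (pullback.diagonal e))ᶜ,
    (pullback.diagonal e).isClosedEmbedding.isClosed_range.isOpen_compl⟩

/-- The second projection from the complement of the diagonal. -/
noncomputable def sndCompl : (diagCompl e).toScheme ⟶ Y := (diagCompl e).ι ≫ pullback.snd e e

instance : Etale (sndCompl e) := by unfold sndCompl; infer_instance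

instance : IsSeparated (sndCompl e) := by unfold sndCompl; infer_instance

omit [Etale e] in
theorem disjoint_diagCompl :
    Disjoint ((diagCompl e : (pullback e e).Opens) : Set ↥(pullback e e))
      (Set.range (pullback.diagonal e)) :=
  disjoint_compl_left

/-- Given `d + 1` lifts of a field valued point, the `d` lifts other than a chosen one `x₀` give
`d` lifts of `x₀` to the complement of the diagonal. -/
theorem exists_lifts_sndCompl {K : Type u} [Field K] (x₀ : Spec (.of K) ⟶ Y)
    (s : Finset (Spec (.of K) ⟶ Y)) (hx₀ : x₀ ∈ s) (hs : ∀ x ∈ s, x ≫ e = x₀ ≫ e) {d : ℕ}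
    (hc : s.card = d + 1) :
    ∃ s' : Finset (Spec (.of K) ⟶ (diagCompl e).toScheme),
      (∀ z ∈ s', z ≫ sndCompl e = x₀) ∧ s'.card = d := by
  classical
  let p : ↥(Spec (.of K)) := IsLocalRing.closedPoint K
  have hcond : ∀ x : {x // x ∈ s.erase x₀}, x.1 ≫ e = x₀ ≫ e := fun x =>
    hs x.1 (Finset.mem_of_mem_erase x.2)
  have hmem : ∀ x : {x // x ∈ s.erase x₀},
      (pullback.lift x.1 x₀ (hcond x)) p ∈ (diagCompl e : Set ↥(pullback e e)) := by
    intro x hm
    exact (Finset.ne_of_mem_erase x.2) (eq_of_mem_range_diagonal e x.1 x₀ (hcond x) hm)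
  let z : {x // x ∈ s.erase x₀} → (Spec (.of K) ⟶ (diagCompl e).toScheme) := fun x =>
    IsOpenImmersion.lift (diagCompl e).ι (pullback.lift x.1 x₀ (hcond x)) (by
      rw [Scheme.Opens.range_ι]
      exact range_subset_of_field _ _ (hmem x))
  have hz : ∀ x, z x ≫ (diagCompl e).ι = pullback.lift x.1 x₀ (hcond x) := fun x =>
    IsOpenImmersion.lift_fac _ _ _
  have hzinj : Function.Injective z := by
    intro x x' hxx'
    apply Subtype.ext
    have h1 : z x ≫ (diagCompl e).ι ≫ pullback.fst e e = x.1 := by
      rw [← Category.assoc, hz, pullback.lift_fst]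
    have h2 : z x' ≫ (diagCompl e).ι ≫ pullback.fst e e = x'.1 := by
      rw [← Category.assoc, hz, pullback.lift_fst]
    rw [← h1, ← h2, hxx']
  refine ⟨(Finset.univ : Finset _).image z, ?_, ?_⟩
  · intro w hw
    obtain ⟨x, -, rfl⟩ := Finset.mem_image.1 hw
    unfold sndCompl
    rw [← Category.assoc, hz, pullback.lift_snd]
  · rw [Finset.card_image_of_injective _ hzinj, Finset.card_univ, Fintype.card_coe,
      Finset.card_erase_of_mem hx₀, hc]
    rfl

theorem strat_succ (d : ℕ) : Strat e (d + 1) = e '' Strat (sndCompl e) d := by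
  classical
  ext u
  constructor
  · rintro ⟨K, _, y, s, hy, hs, hc⟩
    have hne : s.Nonempty := Finset.card_pos.1 (by omega)
    obtain ⟨x₀, hx₀⟩ := hne
    obtain ⟨s', hs', hc'⟩ := exists_lifts_sndCompl e x₀ s hx₀
      (fun x hx => by rw [hs x hx, hs x₀ hx₀]) hc
    refine ⟨x₀ (IsLocalRing.closedPoint K), ⟨K, inferInstance, x₀, s', rfl, hs', hc'⟩, ?_⟩
    rw [← hy, ← hs x₀ hx₀, Scheme.Hom.comp_apply]
  · rintro ⟨y₀, ⟨K, _, x₀, s', hx₀, hs', hc⟩, rfl⟩
    let F : (Spec (.of K) ⟶ (diagCompl e).toScheme) → (Spec (.of K) ⟶ Y) := fun z =>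
      z ≫ (diagCompl e).ι ≫ pullback.fst e e
    have hs'' : ∀ z ∈ s', z ≫ (diagCompl e).ι ≫ pullback.snd e e = x₀ := hs'
    have hinj : Set.InjOn F (s' : Set (Spec (.of K) ⟶ (diagCompl e).toScheme)) := by
      intro z hz z' hz' hzz'
      rw [← cancel_mono (diagCompl e).ι]
      apply pullback.hom_ext
      · simpa [F, Category.assoc] using hzz'
      · have h1 := hs'' z hz
        have h2 := hs'' z' hz'
        simp only [Category.assoc] at h1 h2 ⊢
        rw [h1, h2]
    have hne : x₀ ∉ s'.image F := by
      intro hy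
      obtain ⟨z, hz, hzy⟩ := Finset.mem_image.1 hy
      have h1 := hs'' z hz
      have hzΔ : z ≫ (diagCompl e).ι = x₀ ≫ pullback.diagonal e := by
        apply pullback.hom_ext
        · simpa [F, Category.assoc] using hzy
        · simpa [Category.assoc] using h1
      let p : ↥(Spec (.of K)) := IsLocalRing.closedPoint K
      have hmem : (z ≫ (diagCompl e).ι) p ∈ ((diagCompl e : (pullback e e).Opens) :
          Set ↥(pullback e e)) := by
        rw [Scheme.Hom.comp_apply]
        exact (z p).2
      have hmem' : (z ≫ (diagCompl e).ι) p ∈ Set.range (pullback.diagonal e) := by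
        rw [hzΔ, Scheme.Hom.comp_apply]
        exact ⟨_, rfl⟩
      exact Set.disjoint_left.1 (disjoint_diagCompl e) hmem hmem'
    refine ⟨K, inferInstance, x₀ ≫ e, insert x₀ (s'.image F), ?_, ?_, ?_⟩
    · rw [Scheme.Hom.comp_apply, hx₀]
    · intro x hx
      rcases Finset.mem_insert.1 hx with rfl | hx
      · rfl
      · obtain ⟨z, hz, rfl⟩ := Finset.mem_image.1 hx
        have h1 := hs'' z hz
        simp only [F, Category.assoc]
        rw [pullback.condition, ← h1]
        simp only [Category.assoc]
    · rw [Finset.card_insert_of_notMem hne, Finset.card_image_of_injOn hinj, hc]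

omit [Etale e] [IsSeparated e] in
theorem not_mem_strat_succ_of_degLE {d : ℕ} (h : DegLE e d) (u : U) : u ∉ Strat e (d + 1) := by
  rintro ⟨K, _, y, s, -, hs, hc⟩
  have := h K y s hs
  omega

omit [Etale e] [IsSeparated e] in
theorem degLE_of_strat_succ_eq_empty {d : ℕ} (h : Strat e (d + 1) = ∅) : DegLE e d := by
  intro K _ y s hs
  by_contra hc
  have hlt : d + 1 ≤ s.card := by omega
  have : y (IsLocalRing.closedPoint K) ∈ Strat e (d + 1) :=
    strat_anti e hlt ⟨K, inferInstance, y, s, rfl, hs, rfl⟩
  rw [h] at this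
  exact this

end Groth.Agent.H52.EtDeg

namespace Groth.Agent.H52.EtDeg

/-- The strata of an etale separated morphism are open. -/
theorem isOpen_strat (d : ℕ) : ∀ {Y U : Scheme.{u}} (e : Y ⟶ U) [Etale e] [IsSeparated e],
    IsOpen (Strat e d) := by
  induction d with
  | zero =>
    intro Y U e _ _
    rw [strat_zero]; exact isOpen_univ
  | succ d ih =>
    intro Y U e _ _
    rw [strat_succ]
    exact e.isOpenMap _ (ih (sndCompl e))

end Groth.Agent.H52.EtDeg
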