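import Groth.Agent.H52.EtDegA
import Groth.Agent.H1.Descent
import Groth.Agent.H50.Charts
import Mathlib.AlgebraicGeometry.PullbackCarrier
import Mathlib.AlgebraicGeometry.Morphisms.Flat
import Mathlib.AlgebraicGeometry.Morphisms.Finite

/-!
# An etale separated morphism of constant degree is finite
-/

set_option autoImplicit false
universe u
open CategoryTheory CategoryTheory.Limits AlgebraicGeometry

namespace Groth.Agent.H52.EtDeg

open Groth.Agent.H53.ZMT

/-- Two field valued points with the same image point have a common field extension. -/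
theorem exists_common_field {U : Scheme.{u}} {K₁ K₂ : Type u} [Field K₁] [Field K₂]
    (y₁ : Spec (.of K₁) ⟶ U) (y₂ : Spec (.of K₂) ⟶ U)
    (h : y₁ (IsLocalRing.closedPoint K₁) = y₂ (IsLocalRing.closedPoint K₂)) :
    ∃ (K' : Type u) (_ : Field K') (c₁ : Spec (.of K') ⟶ Spec (.of K₁))
      (c₂ : Spec (.of K') ⟶ Spec (.of K₂)), c₁ ≫ y₁ = c₂ ≫ y₂ := by
  obtain ⟨π, -, -⟩ := Scheme.Pullback.exists_preimage_pullback (f := y₁) (g := y₂) _ _ h
  refine ⟨(pullback y₁ y₂).residueField π, inferInstance,
    (pullback y₁ y₂).fromSpecResidueField π ≫ pullback.fst y₁ y₂,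
    (pullback y₁ y₂).fromSpecResidueField π ≫ pullback.snd y₁ y₂, ?_⟩
  rw [Category.assoc, Category.assoc, pullback.condition]

/-- A morphism between spectra of fields is an epimorphism of schemes. -/
theorem epi_of_fields {K K' : Type u} [Field K] [Field K'] (c : Spec (.of K') ⟶ Spec (.of K)) :
    Epi c := by
  have hflat : Flat c := by
    rw [← Spec.map_preimage c, HasRingHomProperty.Spec_iff (P := @Flat)]
    let φ : K →+* K' := (Spec.preimage c).hom
    change φ.Flat
    algebraize [φ]
    exact (inferInstance : Module.Flat K K')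
  have hsurj : Surjective c := by
    refine ⟨fun x => ⟨IsLocalRing.closedPoint K', Subsingleton.elim (α := PrimeSpectrum K) _ _⟩⟩
  exact Flat.epi_of_flat_of_surjective c

/-- A morphism whose source is the disjoint union of two open subschemes over which it is finite
is finite. -/
theorem isFinite_of_isCompl {A B Z T : Scheme.{u}} (i : A ⟶ Z) (j : B ⟶ Z) [IsOpenImmersion i]
    [IsOpenImmersion j] (h : IsCompl i.opensRange j.opensRange) (g : Z ⟶ T)
    [IsFinite (i ≫ g)] [IsFinite (j ≫ g)] : IsFinite g := by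
  obtain ⟨H⟩ := nonempty_isColimit_binaryCofanMk_of_isCompl i j h
  let φ : A ⨿ B ≅ Z := (colimit.isColimit _).coconePointUniqueUpToIso H
  have h1 : coprod.inl ≫ φ.hom = i :=
    (colimit.isColimit (pair A B)).comp_coconePointUniqueUpToIso_hom H ⟨.left⟩
  have h2 : coprod.inr ≫ φ.hom = j :=
    (colimit.isColimit (pair A B)).comp_coconePointUniqueUpToIso_hom H ⟨.right⟩
  have e : g = φ.inv ≫ coprod.desc (i ≫ g) (j ≫ g) := by
    rw [Iso.eq_inv_comp]
    apply coprod.hom_ext
    · rw [← Category.assoc, h1, coprod.inl_desc]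
    · rw [← Category.assoc, h2, coprod.inr_desc]
  rw [e]
  infer_instance

variable {Y U : Scheme.{u}} (e : Y ⟶ U) [Etale e] [IsSeparated e]

theorem isCompl_diagonal_diagCompl :
    IsCompl (pullback.diagonal e).opensRange (diagCompl e).ι.opensRange := by
  rw [Scheme.Opens.opensRange_ι]
  constructor
  · rw [disjoint_iff_inf_le]
    rintro x ⟨hx1, hx2⟩
    exact (hx2 hx1).elim
  · rw [codisjoint_iff_le_sup]
    intro x _
    by_cases hx : x ∈ Set.range (pullback.diagonal e)
    · exact Or.inl hx
    · exact Or.inr hx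

/-- If `e` has exact degree `d + 1`, the projection from the complement of the diagonal has exact
degree `d`. -/
theorem strat_sndCompl_eq_univ (d : ℕ) (h1 : Strat e (d + 1) = Set.univ) (h2 : DegLE e (d + 1)) :
    Strat (sndCompl e) d = Set.univ := by
  classical
  ext y₀
  simp only [Set.mem_univ, iff_true]
  obtain ⟨K, _, y, s, hy, hs, hc⟩ : e y₀ ∈ Strat e (d + 1) := h1 ▸ Set.mem_univ _
  obtain ⟨K', _, c₁, c₂, hcc⟩ := exists_common_field y (Y.fromSpecResidueField y₀ ≫ e) (by
    rw [hy, Scheme.Hom.comp_apply]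
    exact congrArg e (Y.fromSpecResidueField_apply y₀ _).symm)
  have hepi : Epi c₁ := epi_of_fields c₁
  let x₀ : Spec (.of K') ⟶ Y := c₂ ≫ Y.fromSpecResidueField y₀
  have hx₀e : x₀ ≫ e = c₁ ≫ y := by rw [hcc, Category.assoc]
  let s₁ : Finset (Spec (.of K') ⟶ Y) := s.image (fun x => c₁ ≫ x)
  have hs₁c : s₁.card = d + 1 := by
    rw [Finset.card_image_of_injective _ (fun x x' h => (cancel_epi c₁).1 h), hc]
  have hs₁ : ∀ x ∈ s₁, x ≫ e = c₁ ≫ y := by
    intro x hx
    obtain ⟨x', hx', rfl⟩ := Finset.mem_image.1 hx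
    rw [Category.assoc, hs x' hx']
  have hx₀s : x₀ ∈ s₁ := by
    by_contra hn
    have := h2 K' (c₁ ≫ y) (insert x₀ s₁) (by
      intro x hx
      rcases Finset.mem_insert.1 hx with rfl | hx
      · exact hx₀e
      · exact hs₁ x hx)
    rw [Finset.card_insert_of_notMem hn, hs₁c] at this
    omega
  obtain ⟨s', hs', hc'⟩ := exists_lifts_sndCompl e x₀ s₁ hx₀s
    (fun x hx => by rw [hs₁ x hx, hx₀e]) hs₁c
  refine ⟨K', inferInstance, x₀, s', ?_, hs', hc'⟩
  rw [Scheme.Hom.comp_apply]
  exact Y.fromSpecResidueField_apply y₀ _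

omit [Etale e] [IsSeparated e] in
theorem surjective_of_strat_succ_eq_univ (d : ℕ) (h1 : Strat e (d + 1) = Set.univ) :
    Surjective e := by
  refine ⟨fun u => ?_⟩
  obtain ⟨K, _, y, s, hy, hs, hc⟩ : u ∈ Strat e (d + 1) := h1 ▸ Set.mem_univ _
  have hne : s.Nonempty := Finset.card_pos.1 (by omega)
  obtain ⟨x₀, hx₀⟩ := hne
  exact ⟨x₀ (IsLocalRing.closedPoint K), by rw [← hy, ← hs x₀ hx₀, Scheme.Hom.comp_apply]⟩

end Groth.Agent.H52.EtDeg

namespace Groth.Agent.H52.EtDeg

open Groth.Agent.H53.ZMT

/-- An etale separated morphism of exact degree `d` is finite. -/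
theorem isFinite_of_exactDeg (d : ℕ) : ∀ {Y U : Scheme.{u}} (e : Y ⟶ U) [Etale e] [IsSeparated e],
    Strat e d = Set.univ → DegLE e d → IsFinite e := by
  induction d with
  | zero =>
    intro Y U e _ _ _ h2
    have : IsEmpty ↥Y := isEmpty_of_degLE_zero h2
    infer_instance
  | succ d ih =>
    intro Y U e _ _ h1 h2
    have h2' : DegLE (sndCompl e) d := degLE_pred e d h2 (diagCompl e) (disjoint_diagCompl e)
    have hfin' : IsFinite (sndCompl e) := ih (sndCompl e) (strat_sndCompl_eq_univ e d h1 h2) h2'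
    have hfinΔ : IsFinite (pullback.diagonal e ≫ pullback.snd e e) := by
      rw [pullback.diagonal_snd]; infer_instance
    have hfin'' : IsFinite ((diagCompl e).ι ≫ pullback.snd e e) := hfin'
    have hsnd : IsFinite (pullback.snd e e) :=
      isFinite_of_isCompl (pullback.diagonal e) (diagCompl e).ι (isCompl_diagonal_diagCompl e) _
    have hsurj : Surjective e := surjective_of_strat_succ_eq_univ e d h1
    have := Groth.Agent.H1.isFinite_descendsAlong_fpqc.{u}
    exact Groth.Agent.H50.descends_etale_of_descendsAlong @IsFinite e e (pullback.fst e e)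
      (pullback.snd e e) (IsPullback.of_hasPullback e e) inferInstance hsurj hsnd

end Groth.Agent.H52.EtDeg
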