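import Groth.Agent.H52.EtDegB
import Groth.Prelude.Def_AlgSp

/-!
# Degree strata: base change and invariance under an equivalence relation
-/

set_option autoImplicit false
universe u
open CategoryTheory CategoryTheory.Limits AlgebraicGeometry

namespace Groth.Agent.H52.EtDeg

open Groth.Agent.H53.ZMT AlgSp

/-- The strata are compatible with base change. -/
theorem strat_of_isPullback {R' R U' U : Scheme.{u}} {k : R' ⟶ R} {s' : R' ⟶ U'} {s : R ⟶ U}
    {j : U' ⟶ U} (sq : IsPullback k s' s j) (d : ℕ) : Strat s' d = j ⁻¹' Strat s d := by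
  classical
  ext u'
  constructor
  · rintro ⟨K, _, y', s₀, hy', hs₀, hc⟩
    refine ⟨K, inferInstance, y' ≫ j, s₀.image (fun x => x ≫ k), ?_, ?_, ?_⟩
    · rw [Scheme.Hom.comp_apply, hy']
    · intro x hx
      obtain ⟨x', hx', rfl⟩ := Finset.mem_image.1 hx
      rw [Category.assoc, sq.w, ← Category.assoc, hs₀ x' hx']
    · rw [Finset.card_image_of_injOn, hc]
      intro x hx x' hx' hxx'
      apply sq.hom_ext hxx'
      rw [hs₀ x hx, hs₀ x' hx']
  · rintro ⟨K, _, y, s₀, hy, hs₀, hc⟩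
    obtain ⟨K', _, c₁, c₂, hcc⟩ := exists_common_field y (U'.fromSpecResidueField u' ≫ j) (by
      rw [hy, Scheme.Hom.comp_apply]
      exact congrArg j (U'.fromSpecResidueField_apply u' _).symm)
    have hepi : Epi c₁ := epi_of_fields c₁
    let y' : Spec (.of K') ⟶ U' := c₂ ≫ U'.fromSpecResidueField u'
    have hy'j : y' ≫ j = c₁ ≫ y := by rw [hcc, Category.assoc]
    have hcond : ∀ x : {x // x ∈ s₀}, (c₁ ≫ x.1) ≫ s = y' ≫ j := fun x => by
      rw [Category.assoc, hs₀ x.1 x.2, hy'j]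
    let z : {x // x ∈ s₀} → (Spec (.of K') ⟶ R') := fun x => sq.lift (c₁ ≫ x.1) y' (hcond x)
    have hzinj : Function.Injective z := by
      intro x x' hxx'
      apply Subtype.ext
      have h1 : z x ≫ k = c₁ ≫ x.1 := sq.lift_fst _ _ _
      have h2 : z x' ≫ k = c₁ ≫ x'.1 := sq.lift_fst _ _ _
      rw [← cancel_epi c₁, ← h1, ← h2, hxx']
    refine ⟨K', inferInstance, y', (Finset.univ : Finset _).image z, ?_, ?_, ?_⟩
    · rw [Scheme.Hom.comp_apply]
      exact U'.fromSpecResidueField_apply u' _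
    · intro w hw
      obtain ⟨x, -, rfl⟩ := Finset.mem_image.1 hw
      exact sq.lift_snd _ _ _
    · rw [Finset.card_image_of_injective _ hzinj, Finset.card_univ, Fintype.card_coe, hc]

theorem degLE_of_isPullback {R' R U' U : Scheme.{u}} {k : R' ⟶ R} {s' : R' ⟶ U'} {s : R ⟶ U}
    {j : U' ⟶ U} (sq : IsPullback k s' s j) (d : ℕ)
    (h : ∀ u', j u' ∉ Strat s (d + 1)) : DegLE s' d := by
  apply degLE_of_strat_succ_eq_empty
  rw [strat_of_isPullback sq]
  ext u'
  simp only [Set.mem_preimage, Set.mem_empty_iff_false, iff_false]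
  exact h u'

variable {S : Scheme.{u}}

/-- The strata of an equivalence relation are invariant: one direction. -/
theorem strat_invariant_aux {R U : Over S} (s t : R ⟶ U) (h : IsEqvRel s t) (d : ℕ)
    (r₀ : R.left) (hr : s.left r₀ ∈ Strat s.left d) : t.left r₀ ∈ Strat s.left d := by
  classical
  obtain ⟨K, _, y, s₀, hy, hs₀, hc⟩ := hr
  obtain ⟨K', _, c₁, c₂, hcc⟩ :=
    exists_common_field y (R.left.fromSpecResidueField r₀ ≫ s.left) (by
      rw [hy, Scheme.Hom.comp_apply]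
      exact congrArg s.left (R.left.fromSpecResidueField_apply r₀ _).symm)
  have hepi : Epi c₁ := epi_of_fields c₁
  let ρ' : Spec (.of K') ⟶ R.left := c₂ ≫ R.left.fromSpecResidueField r₀
  have hρs : ρ' ≫ s.left = c₁ ≫ y := by rw [hcc, Category.assoc]
  let T : Over S := Over.mk ((c₁ ≫ y) ≫ U.hom)
  let yT : T ⟶ U := Over.homMk (c₁ ≫ y) rfl
  let ρ : T ⟶ R := Over.homMk ρ' (by
    change ρ' ≫ R.hom = (c₁ ≫ y) ≫ U.hom
    rw [← Over.w s, ← Category.assoc, hρs])
  have hρs' : ρ ≫ s = yT := by ext1; exact hρs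
  let xT : {x // x ∈ s₀} → (T ⟶ R) := fun x => Over.homMk (c₁ ≫ x.1) (by
    change (c₁ ≫ x.1) ≫ R.hom = (c₁ ≫ y) ≫ U.hom
    rw [← Over.w s, Category.assoc, ← Category.assoc x.1, hs₀ x.1 x.2, Category.assoc])
  have hxTs : ∀ x, xT x ≫ s = yT := fun x => by
    ext1
    change (c₁ ≫ x.1) ≫ s.left = c₁ ≫ y
    rw [Category.assoc, hs₀ x.1 x.2]
  have heq := h.equivalence T
  have hrel : ∀ x : {x // x ∈ s₀}, ∃ r : T ⟶ R, r ≫ t = xT x ≫ t ∧ r ≫ s = ρ ≫ t := by
    intro x
    have h1 : ∃ r : T ⟶ R, r ≫ t = xT x ≫ t ∧ r ≫ s = yT := ⟨xT x, rfl, hxTs x⟩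
    have h2 : ∃ r : T ⟶ R, r ≫ t = ρ ≫ t ∧ r ≫ s = yT := ⟨ρ, rfl, hρs'⟩
    exact heq.trans h1 (heq.symm h2)
  choose r hr1 hr2 using hrel
  have hrinj : Function.Injective (fun x => (r x).left) := by
    intro x x' hxx'
    have hrr : r x = r x' := by ext1; exact hxx'
    have h1 : xT x ≫ t = xT x' ≫ t := by rw [← hr1, ← hr1, hrr]
    have h2 : xT x ≫ s = xT x' ≫ s := by rw [hxTs, hxTs]
    have h3 := h.injective T _ _ h1 h2
    have h4 : c₁ ≫ x.1 = c₁ ≫ x'.1 := congrArg (fun m => m.left) h3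
    exact Subtype.ext ((cancel_epi c₁).1 h4)
  refine ⟨K', inferInstance, ρ' ≫ t.left, (Finset.univ : Finset _).image (fun x => (r x).left),
    ?_, ?_, ?_⟩
  · rw [Scheme.Hom.comp_apply, Scheme.Hom.comp_apply]
    exact congrArg t.left (R.left.fromSpecResidueField_apply r₀ _)
  · intro w hw
    obtain ⟨x, -, rfl⟩ := Finset.mem_image.1 hw
    exact congrArg (fun m => m.left) (hr2 x)
  · rw [Finset.card_image_of_injective _ hrinj, Finset.card_univ, Fintype.card_coe, hc]

/-- The strata of an equivalence relation are invariant. -/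
theorem strat_invariant {R U : Over S} (s t : R ⟶ U) (h : IsEqvRel s t) (d : ℕ)
    (r₀ : R.left) : s.left r₀ ∈ Strat s.left d ↔ t.left r₀ ∈ Strat s.left d := by
  refine ⟨strat_invariant_aux s t h d r₀, fun hr => ?_⟩
  have h1 : ∃ r : R ⟶ R, r ≫ t = t ∧ r ≫ s = s := ⟨𝟙 R, Category.id_comp _, Category.id_comp _⟩
  obtain ⟨σ, hσt, hσs⟩ := (h.equivalence R).symm h1
  have e1 : s.left (σ.left r₀) = t.left r₀ := by
    rw [← Scheme.Hom.comp_apply, ← Over.comp_left, hσs]
  have e2 : t.left (σ.left r₀) = s.left r₀ := by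
    rw [← Scheme.Hom.comp_apply, ← Over.comp_left, hσt]
  rw [← e2]
  exact strat_invariant_aux s t h d (σ.left r₀) (e1 ▸ hr)

end Groth.Agent.H52.EtDeg
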