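import Groth.Agent.H52.EtDegC
import Groth.Agent.H52.Special
import Groth.Agent.H52.MonoPoint
import Groth.Agent.H52.ChartFinite
import Groth.Agent.H52.EqvRelGeom
import Groth.Agent.H53.ZMT.DegSch
import Groth.Agent.H51.SpOpen

/-!
# Decent points have finite degree in etale charts
-/

set_option autoImplicit false
universe u
open CategoryTheory CategoryTheory.Limits AlgebraicGeometry

namespace Groth.Agent.H52.EtDeg

open Groth.Agent.H53.ZMT AlgSp Groth.Agent.H52

variable {S : Scheme.{u}}

/-- A point of a quasi-compact etale chart lying over a point represented by a quasi-compact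
monomorphism from the spectrum of a field lies outside a degree stratum of the relation. -/
theorem exists_notMem_strat_of_point {X : Sp S} {U R : Over S} [CompactSpace ↥U.left]
    (a : (yon S).obj U ⟶ X) (he : RepWith @Etale a) (s t : R ⟶ U)
    (sq : IsPullback ((yon S).map t) ((yon S).map s) a a) (u : U.left)
    (p : FieldPt X) (hp : Points.mk p = Points.ofPt a u) (hm : Mono p.toHom)
    (hq : RepWith @QuasiCompact p.toHom) : ∃ N, u ∉ Strat s.left (N + 1) := by
  classical
  have heq : IsEtaleEqvRel s t := Groth.Agent.H51.isEtaleEqvRel_of_isPullback s t a he sq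
  obtain ⟨Z, φ, ψ, hpb, -⟩ := exists_fibre_scheme p a he.rep
  have hqc : QuasiCompact φ.left := hq.property a _ φ hpb.flip
  have het : Etale ψ.left := he.property p.toHom _ ψ hpb
  have hZc : CompactSpace ↥Z.left := QuasiCompact.compactSpace_of_compactSpace φ.left
  have hψqc : QuasiCompact ψ.left :=
    quasiCompact_of_compactSpace (Y := Spec (CommRingCat.of p.K)) ψ.left
  have hψfin : IsFinite ψ.left := isFinite_of_etale_of_quasiCompact (K := p.K) ψ.left
  have hZaff : IsAffine Z.left := isAffine_of_isAffineHom (Y := Spec (CommRingCat.of p.K)) ψ.left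
  have hKaff : IsAffine p.pt.left := inferInstanceAs (IsAffine (Spec (CommRingCat.of p.K)))
  obtain ⟨N, hN⟩ := exists_degLE_of_etale ψ.left
  refine ⟨N, ?_⟩
  rintro ⟨K, _, y, s₀, hy, hs₀, hc⟩
  let str : Spec (CommRingCat.of K) ⟶ S := y ≫ U.hom
  let T : Over S := Over.mk str
  let yT : T ⟶ U := Over.homMk y rfl
  let q : FieldPt X := fieldPtOfHom str ((yon S).map yT ≫ a)
  have hqp : Points.mk q = Points.mk p := by
    rw [hp, ← Points.ofPt_toHom q (IsLocalRing.closedPoint K), toHom_fieldPtOfHom,
      ofPt_yon_map_comp]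
    exact congrArg (Points.ofPt a) hy
  obtain ⟨c, hc'⟩ := exists_factor_of_mono p q hm hq.rep hqp
  rw [toHom_fieldPtOfHom] at hc'
  let xT : {x // x ∈ s₀} → (T ⟶ R) := fun x => Over.homMk x.1 (by
    change x.1 ≫ R.hom = y ≫ U.hom
    rw [← Over.w s, ← Category.assoc, hs₀ x.1 x.2])
  have hxTs : ∀ x, xT x ≫ s = yT := fun x => by
    ext1
    exact hs₀ x.1 x.2
  have hcond : ∀ x, (yon S).map (xT x ≫ t) ≫ a = (yon S).map c ≫ p.toHom := by
    intro x
    rw [hc', Functor.map_comp, Category.assoc, sq.w, ← Category.assoc, ← Functor.map_comp, hxTs]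
  choose ζ hζ1 hζ2 using fun x => exists_lift_of_isPullback_yon hpb (xT x ≫ t) c (hcond x)
  have hζinj : Function.Injective (fun x => (ζ x).left) := by
    intro x x' hxx'
    have hζζ : ζ x = ζ x' := by ext1; exact hxx'
    have h1 : xT x ≫ t = xT x' ≫ t := by rw [← hζ1, ← hζ1, hζζ]
    have h2 : xT x ≫ s = xT x' ≫ s := by rw [hxTs, hxTs]
    have h3 := heq.toIsEqvRel.injective T _ _ h1 h2
    exact Subtype.ext (congrArg (fun m => m.left) h3)
  have hcard := hN K c.left ((Finset.univ : Finset _).image (fun x => (ζ x).left)) (by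
    intro w hw
    obtain ⟨x, -, rfl⟩ := Finset.mem_image.1 hw
    exact congrArg (fun m => m.left) (hζ2 x))
  rw [Finset.card_image_of_injective _ hζinj, Finset.card_univ, Fintype.card_coe, hc] at hcard
  omega

/-- In a decent sheaf, every point of a quasi-compact etale chart lies outside some degree stratum
of the relation. -/
theorem exists_notMem_strat_of_isDecent {X : Sp S} (hX : IsDecent X) {U R : Over S}
    [CompactSpace ↥U.left] (a : (yon S).obj U ⟶ X) (he : RepWith @Etale a) (s t : R ⟶ U)
    (sq : IsPullback ((yon S).map t) ((yon S).map s) a a) (u : U.left) :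
    ∃ N, u ∉ Strat s.left (N + 1) := by
  obtain ⟨p, hp, hm, hq⟩ := hX (Points.ofPt a u)
  exact exists_notMem_strat_of_point a he s t sq u p hp hm hq

end Groth.Agent.H52.EtDeg
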