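import Mathlib.AlgebraicGeometry.AffineScheme
import Mathlib.RingTheory.Spectrum.Prime.Topology
import Mathlib.RingTheory.Ideal.Maximal

/-!
# A Baire type property of affine schemes

A decreasing sequence of open subsets of an affine scheme, each dense in the previous one in the
sense that it meets every nonempty open subset of it, has nonempty intersection.
-/

set_option autoImplicit false
universe u
open AlgebraicGeometry

namespace Groth.Agent.H52.EtDeg

/-- A divisibility chain of non-nilpotent elements avoids a common prime. -/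
theorem exists_prime_forall_notMem {A : Type*} [CommRing A] (g : ℕ → A)
    (hdiv : ∀ n, g n ∣ g (n + 1)) (hnil : ∀ n, ¬ IsNilpotent (g n)) :
    ∃ P : PrimeSpectrum A, ∀ n, g n ∉ P.asIdeal := by
  have hmono : ∀ n m, n ≤ m → g n ∣ g m := by
    intro n m h
    induction m, h using Nat.le_induction with
    | base => exact dvd_rfl
    | succ m _ ih => exact ih.trans (hdiv m)
  let M : Submonoid A :=
    { carrier := {x | ∃ n k, x ∣ g n ^ k}
      one_mem' := ⟨0, 0, one_dvd _⟩
      mul_mem' := by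
        rintro x y ⟨n, k, hx⟩ ⟨m, l, hy⟩
        refine ⟨max n m, k + l, ?_⟩
        rw [pow_add]
        exact mul_dvd_mul (hx.trans (pow_dvd_pow_of_dvd (hmono _ _ (le_max_left n m)) k))
          (hy.trans (pow_dvd_pow_of_dvd (hmono _ _ (le_max_right n m)) l)) }
  have hdisj : Disjoint ((⊥ : Ideal A) : Set A) (M : Set A) := by
    rw [Set.disjoint_left]
    rintro x hx ⟨n, k, hxd⟩
    have hx0 : x = 0 := hx
    rw [hx0, zero_dvd_iff] at hxd
    exact hnil n ⟨k, hxd⟩
  obtain ⟨P, hP, -, hPM⟩ := Ideal.exists_le_prime_disjoint ⊥ M hdisj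
  refine ⟨⟨P, hP⟩, fun n hn => ?_⟩
  exact Set.disjoint_left.1 hPM hn ⟨n, 1, by rw [pow_one]⟩

/-- The Baire type property for prime spectra. -/
theorem exists_mem_iInter_primeSpectrum {A : Type*} [CommRing A] [Nontrivial A]
    (B : ℕ → Set (PrimeSpectrum A)) (h0 : B 0 = Set.univ)
    (hdense : ∀ d (W : Set (PrimeSpectrum A)), IsOpen W → W.Nonempty → W ⊆ B d →
      ∃ W' : Set (PrimeSpectrum A), IsOpen W' ∧ W'.Nonempty ∧ W' ⊆ W ∩ B (d + 1)) :
    ∃ x, ∀ n, x ∈ B n := by
  classical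
  -- the set of good elements at stage `n`
  let Good : ℕ → A → Prop := fun n f =>
    ((PrimeSpectrum.basicOpen f : Set (PrimeSpectrum A))).Nonempty ∧
      (PrimeSpectrum.basicOpen f : Set (PrimeSpectrum A)) ⊆ B n
  have hstep : ∀ n (f : A), Good n f → ∃ f' : A, Good (n + 1) (f' * f) := by
    rintro n f ⟨hne, hsub⟩
    obtain ⟨W', hW'o, ⟨x, hx⟩, hW'sub⟩ :=
      hdense n _ (PrimeSpectrum.basicOpen f).2 hne hsub
    obtain ⟨_, ⟨_, ⟨f', rfl⟩, rfl⟩, hxf', hf'W'⟩ :=
      PrimeSpectrum.isBasis_basic_opens.exists_subset_of_mem_open hx hW'o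
    refine ⟨f', ⟨x, ?_⟩, ?_⟩
    · rw [PrimeSpectrum.basicOpen_mul]
      exact ⟨hxf', (hW'sub hx).1⟩
    · rw [PrimeSpectrum.basicOpen_mul]
      intro z hz
      exact (hW'sub (hf'W' hz.1)).2
  have hgood0 : Good 0 (1 : A) := by
    refine ⟨?_, by rw [h0]; exact Set.subset_univ _⟩
    rw [PrimeSpectrum.basicOpen_one]
    exact ⟨Classical.arbitrary _, trivial⟩
  let seq : (n : ℕ) → {f : A // Good n f} := fun n =>
    Nat.rec ⟨1, hgood0⟩ (fun n ih => ⟨(hstep n ih.1 ih.2).choose * ih.1,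
      (hstep n ih.1 ih.2).choose_spec⟩) n
  let g : ℕ → A := fun n => (seq n).1
  have hg : ∀ n, g (n + 1) = (hstep n (seq n).1 (seq n).2).choose * g n := fun n => rfl
  obtain ⟨P, hP⟩ := exists_prime_forall_notMem g (fun n => by rw [hg]; exact dvd_mul_left _ _)
    (fun n hnil => by
      obtain ⟨x, hx⟩ := (seq n).2.1
      obtain ⟨k, hk⟩ := hnil
      have hmem : g n ^ k ∈ x.asIdeal := hk ▸ x.asIdeal.zero_mem
      exact hx (x.2.mem_of_pow_mem k hmem))
  exact ⟨P, fun n => (seq n).2.2 (hP n)⟩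

/-- The Baire type property for affine schemes: if a decreasing sequence of subsets has empty
intersection, then some nonempty open subset of one of them misses the next one. -/
theorem exists_open_subset_diff {U : Scheme.{u}} [IsAffine U] [Nonempty ↥U] (B : ℕ → Set ↥U)
    (hBo : ∀ n, IsOpen (B n)) (h0 : B 0 = Set.univ) (hfin : ∀ x, ∃ N, x ∉ B N) :
    ∃ (d : ℕ) (W : Set ↥U), IsOpen W ∧ W.Nonempty ∧ W ⊆ B d ∧ W ∩ B (d + 1) = ∅ := by
  by_contra hcon
  push Not at hcon
  let h : ↥U ≃ₜ PrimeSpectrum Γ(U, ⊤) := U.isoSpec.hom.homeomorph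
  have hnt : Nontrivial Γ(U, ⊤) := by
    have : Nonempty (PrimeSpectrum Γ(U, ⊤)) := ⟨h (Classical.arbitrary _)⟩
    exact (PrimeSpectrum.nonempty_iff_nontrivial).1 this
  obtain ⟨x, hx⟩ := exists_mem_iInter_primeSpectrum (fun n => h.symm ⁻¹' B n)
    (by simp [h0]) (by
      intro d W hWo hWne hWsub
      have h1 : IsOpen (h ⁻¹' W) := hWo.preimage h.continuous
      have h2 : (h ⁻¹' W).Nonempty := by
        obtain ⟨w, hw⟩ := hWne
        exact ⟨h.symm w, by simpa using hw⟩
      have h3 : h ⁻¹' W ⊆ B d := by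
        intro z hz
        have := hWsub hz
        simpa using this
      have h4 := hcon d (h ⁻¹' W) h1 h2 h3
      refine ⟨W ∩ h.symm ⁻¹' (B (d + 1)), ?_, ?_, subset_rfl⟩
      · exact hWo.inter ((hBo (d + 1)).preimage h.symm.continuous)
      · obtain ⟨z, hz1, hz2⟩ := h4
        exact ⟨h z, hz1, by simpa using hz2⟩)
  obtain ⟨N, hN⟩ := hfin (h.symm x)
  exact hN (hx N)

end Groth.Agent.H52.EtDeg
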