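import Groth.Agent.H52.EtDegD
import Groth.Agent.H52.EtDegE
import Groth.Agent.H52.CodimZeroSchematicA
import Groth.Agent.H50.LimSysY
import Groth.Agent.H52.Diag

/-!
# A nonempty affine etale chart of a decent space contains a nonempty open subscheme
-/

set_option autoImplicit false
universe u
open CategoryTheory CategoryTheory.Limits AlgebraicGeometry Opposite

namespace Groth.Agent.H52.EtDeg

open Groth.Agent.H53.ZMT AlgSp Groth.Agent.H52 Groth.Agent.H50 Groth.Agent.H51

variable {S : Scheme.{u}}

/-- The relation of an etale chart from an affine scheme is separated over the chart. -/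
theorem isSeparated_of_isPullback_chart {X : Sp S} {U R : Over S} [IsAffine U.left]
    (a : (yon S).obj U ⟶ X) (s t : R ⟶ U)
    (sq : IsPullback ((yon S).map t) ((yon S).map s) a a) : IsSeparated s.left := by
  have hδmono : Mono (prod.lift t s) := by
    refine ⟨fun {Z} g₁ g₂ hg => ?_⟩
    apply (yon S).map_injective
    apply sq.hom_ext
    · rw [← Functor.map_comp, ← Functor.map_comp]
      congr 1
      have := hg =≫ prod.fst
      rwa [Category.assoc, Category.assoc, prod.lift_fst] at this
    · rw [← Functor.map_comp, ← Functor.map_comp]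
      congr 1
      have := hg =≫ prod.snd
      rwa [Category.assoc, Category.assoc, prod.lift_snd] at this
  have hδmono' : Mono (prod.lift t s).left := inferInstance
  have hUsep : IsSeparated U.hom := inferInstance
  have hsnd : IsSeparated (prod.snd : U ⨯ U ⟶ U).left := prop_prod_snd_left @IsSeparated U U hUsep
  have e : s.left = (prod.lift t s).left ≫ (prod.snd : U ⨯ U ⟶ U).left := by
    rw [← Over.comp_left, prod.lift_snd]
  rw [e]
  infer_instance

/-- A nonempty affine etale chart of a decent sheaf contains, in its image, a nonempty open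
subsheaf which is a scheme. -/
theorem exists_open_subscheme_of_isDecent {X : Sp S} (hX : IsDecent X) {U : Over S}
    [IsAffine U.left] [Nonempty ↥U.left] (a : (yon S).obj U ⟶ X) (he : RepWith @Etale a) :
    ∃ (M : Over S) (j : (yon S).obj M ⟶ X), RepWith @IsOpenImmersion j ∧ Nonempty ↥M.left ∧
      Set.range (Points.map j) ⊆ Set.range (Points.ofPt a) := by
  classical
  have hrep : Representable a := he.rep
  have sq := hrep.isPullback a
  obtain ⟨t, ht⟩ := (yon S).map_surjective (hrep.fst a)
  set s := hrep.snd a with hs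
  rw [← ht] at sq
  have heq : IsEtaleEqvRel s t := isEtaleEqvRel_of_isPullback s t a he sq
  have hset : Etale s.left := heq.etale_left
  have hssep : IsSeparated s.left := isSeparated_of_isPullback_chart a s t sq
  -- the strata
  obtain ⟨d, W', hW'o, hW'ne, hW'd, hW'd1⟩ := exists_open_subset_diff
    (fun n => Strat s.left n) (fun n => isOpen_strat n s.left) (strat_zero s.left) (by
      intro x
      obtain ⟨N, hN⟩ := exists_notMem_strat_of_isDecent hX a he s t sq x
      exact ⟨N + 1, hN⟩)
  -- the saturation
  let W'' : Set U.left := Points.ofPt a ⁻¹' (Points.ofPt a '' W')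
  have hW''eq : W'' = s.left '' (t.left ⁻¹' W') := preimage_ofPt_image_ofPt sq W'
  have hW''d : W'' ⊆ Strat s.left d := by
    rw [hW''eq]
    rintro _ ⟨r, hr, rfl⟩
    exact (strat_invariant s t heq.toIsEqvRel d r).2 (hW'd hr)
  have hW''d1 : ∀ w ∈ W'', w ∉ Strat s.left (d + 1) := by
    rw [hW''eq]
    rintro _ ⟨r, hr, rfl⟩ hmem
    have := (strat_invariant s t heq.toIsEqvRel (d + 1) r).1 hmem
    have : t.left r ∈ W' ∩ Strat s.left (d + 1) := ⟨hr, this⟩
    rw [hW'd1] at this
    exact this
  let W : Set (Points X) := Points.ofPt a '' W'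
  have hW : IsOpen W := isOpenMap_ofPt_of_repWith_etale a he W' hW'o
  obtain ⟨V, fst, hV, sqV⟩ := exists_isPullback_openSubι W hW a
  have hfst_e : RepWith @Etale fst := (RepWith @Etale).of_isPullback sqV.flip he
  have hι := repWith_isOpenImmersion_openSubι W hW
  have hm : Mono (openSubι X W) :=
    Groth.Agent.H49.mono_of_repWith_mono Groth.Agent.H51.isOpenImmersion_le_mono _ hι
  have hfstpt : ∀ x : (overOpen U V).left,
      Points.map (openSubι X W) (Points.ofPt fst x) = Points.ofPt a (V.ι x) := by
    intro x
    rw [Points.map_ofPt, sqV.w, ofPt_yon_map_comp]; rfl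
  have hfst_s : RepWith @Surjective fst := by
    refine repWith_surjective_of_surjective_ofPt fst hfst_e.rep ?_
    intro x'
    have hx' : Points.map (openSubι X W) x' ∈ W := (range_map_openSubι W).subset ⟨_, rfl⟩
    obtain ⟨w, hw, e⟩ := hx'
    have hwV : w ∈ V := by
      rw [← SetLike.mem_coe, hV]
      exact ⟨w, hw, rfl⟩
    refine ⟨⟨w, hwV⟩, injective_map_of_mono (openSubι X W) ?_⟩
    rw [hfstpt, ← e]; rfl
  -- the relation of the restricted chart
  have hrep' : Representable fst := hfst_e.rep
  have sq' := hrep'.isPullback fst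
  obtain ⟨t', ht'⟩ := (yon S).map_surjective (hrep'.fst fst)
  set s' := hrep'.snd fst with hs'
  rw [← ht'] at sq'
  obtain ⟨k, hk⟩ := CodimZeroSchematic.exists_isPullback_restrict_relation a s t sq
    (openSubι X W) (overOpenι U V) fst sqV s' t' sq'
  have heq' : IsEtaleEqvRel s' t' := isEtaleEqvRel_of_isPullback s' t' fst hfst_e sq'
  have hs'et : Etale s'.left := heq'.etale_left
  have hs'sep : IsSeparated s'.left := MorphismProperty.of_isPullback (P := @IsSeparated) hk hssep
  have hVW'' : ∀ x : (overOpen U V).left, V.ι x ∈ W'' := fun x => by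
    have : V.ι x ∈ (V : Set U.left) := x.2
    rwa [hV] at this
  have hstrat : Strat s'.left d = Set.univ := by
    rw [strat_of_isPullback hk]
    ext x
    simp only [Set.mem_preimage, Set.mem_univ, iff_true]
    exact hW''d (hVW'' x)
  have hdeg : DegLE s'.left d := degLE_of_isPullback hk d (fun x => hW''d1 _ (hVW'' x))
  have hs'fin : IsFinite s'.left := isFinite_of_exactDeg d s'.left hstrat hdeg
  have hdesc := Groth.Agent.H1.isFinite_descendsAlong_fpqc.{u}
  have hfst_f : RepWith @IsFinite fst :=
    repWith_of_etale_cover @IsFinite (fun g hg => inferInstance) fst fst hfst_e hfst_s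
      ((yon S).map t') ((yon S).map s') sq' ((repWith_yon_map_iff _ _).2 hs'fin)
  have hVqs : QuasiSeparatedSpace ↥(overOpen U V).left :=
    quasiSeparatedSpace_of_quasiSeparated (Y := U.left) V.ι
  obtain ⟨W₂, hW₂, M, ⟨e⟩, hdense, -⟩ :=
    FinEtSchematic.exists_open_subscheme fst hfst_f hfst_e hfst_s
  have hι₂ := repWith_isOpenImmersion_openSubι W₂ hW₂
  refine ⟨M, e.hom ≫ openSubι (openSubSp X W) W₂ ≫ openSubι X W, ?_, ?_, ?_⟩
  · exact MorphismProperty.RespectsIso.precomp _ e.hom _
      ((RepWith @IsOpenImmersion).comp_mem _ _ hι₂ hι)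
  · obtain ⟨w, hw⟩ := hW'ne
    have hne : Nonempty (Points (openSubSp X W)) := by
      have : Points.ofPt a w ∈ Set.range (Points.map (openSubι X W)) := by
        rw [range_map_openSubι]; exact ⟨w, hw, rfl⟩
      obtain ⟨z, -⟩ := this
      exact ⟨z⟩
    obtain ⟨z, hz⟩ := hdense.nonempty
    rw [← range_map_openSubι W₂] at hz
    obtain ⟨z', -⟩ := hz
    exact ⟨(Points.schemeHomeo M).symm (Points.map e.inv z')⟩
  · rintro _ ⟨z, rfl⟩
    have h1 : Points.map (e.hom ≫ openSubι (openSubSp X W) W₂ ≫ openSubι X W) z =
        Points.map (openSubι X W) (Points.map (e.hom ≫ openSubι (openSubSp X W) W₂) z) := by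
      rw [← Points.map_comp, Category.assoc]
    rw [h1]
    have h2 : Points.map (openSubι X W) (Points.map (e.hom ≫ openSubι (openSubSp X W) W₂) z) ∈
        W := (range_map_openSubι W).subset ⟨_, rfl⟩
    obtain ⟨w, -, hw⟩ := h2
    exact ⟨w, hw⟩

end Groth.Agent.H52.EtDeg
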