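import Groth.Agent.H52.QFDescent
import Groth.Agent.H52.QFAtSp
import Groth.Agent.H52.FibreProdFinite
import Groth.Agent.H52.DimZero2
import Groth.Agent.H53.ZMT.GeomFibreQF
import Groth.Agent.H53.Charts
import Groth.Agent.H52.Atlas

set_option autoImplicit false
universe u
open CategoryTheory CategoryTheory.Limits AlgebraicGeometry TopologicalSpace Topology

namespace Groth.Agent.H52.FibChart
open AlgSp

variable {S : Scheme.{u}}

/-- **Charts of a fibre.**  Given a chart diagram `(U, V, a, b, h)` of `f : X ⟶ Y` and a field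
valued point `r` of `Y` with fibre `Xk`, the scheme `U' = U ×_V (V ×_Y Spec k)` is an étale chart
of `Xk`, equal to `U ×_X Xk`. -/
theorem exists_fibre_chart {X Y Xk : Sp S} (f : X ⟶ Y) (r : FieldPt Y) (fst : Xk ⟶ X)
    (snd : Xk ⟶ (yon S).obj r.pt) (hsq : IsPullback fst snd f r.toHom)
    {U V : Over S} (a : (yon S).obj U ⟶ X) (b : (yon S).obj V ⟶ Y) (h : U ⟶ V)
    (ha : RepWith @Etale a) (hb : RepWith @Etale b) (e : a ≫ f = (yon S).map h ≫ b) :
    ∃ (T U' : Over S) (t : T ⟶ V) (τ : T ⟶ r.pt) (s : U' ⟶ U) (h' : U' ⟶ T)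
      (a' : (yon S).obj U' ⟶ Xk),
      Etale τ.left ∧ IsPullback s.left h'.left h.left t.left ∧ RepWith @Etale a' ∧
        a' ≫ snd = (yon S).map (h' ≫ τ) ∧ IsPullback ((yon S).map s) a' a fst := by
  obtain ⟨T, τ, t, sqT⟩ := H53.exists_pullback_yon r.toHom b hb.rep
  have hτ : Etale τ.left := H53.prop_of_isPullback_yon sqT hb
  obtain ⟨U', s, h', sqU, sqUl⟩ := H53.ZMT.exists_over_pullback h t
  have sqUy : IsPullback ((yon S).map s) ((yon S).map h') ((yon S).map h) ((yon S).map t) :=
    sqU.map (yon S)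
  have big := sqUy.paste_vert sqT.flip
  rw [← e] at big
  let a' : (yon S).obj U' ⟶ Xk :=
    hsq.lift ((yon S).map s ≫ a) ((yon S).map h' ≫ (yon S).map τ)
      (by rw [Category.assoc]; exact big.w)
  have h1 : a' ≫ fst = (yon S).map s ≫ a := hsq.lift_fst _ _ _
  have h2 : a' ≫ snd = (yon S).map h' ≫ (yon S).map τ := hsq.lift_snd _ _ _
  have sqA : IsPullback ((yon S).map s) a' a fst := by
    refine IsPullback.of_bot ?_ h1.symm hsq
    rw [h2]
    exact big
  refine ⟨T, U', t, τ, s, h', a', hτ, sqUl, (RepWith @Etale).of_isPullback sqA ha, ?_, sqA⟩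
  rw [h2, Functor.map_comp]

end Groth.Agent.H52.FibChart

namespace Groth.Agent.H52.FibChart
open AlgSp

variable {S : Scheme.{u}}

/-- Points of a pullback `U' = U ×_X Xk` with `U`, `U'` schemes. -/
theorem exists_pt_over {X Xk : Sp S} {U U' : Over S} {s : U' ⟶ U} {a' : (yon S).obj U' ⟶ Xk}
    {a : (yon S).obj U ⟶ X} {fst : Xk ⟶ X} (sqA : IsPullback ((yon S).map s) a' a fst)
    (u : ↥U.left) (xt : Points Xk) (hx : Points.map fst xt = Points.ofPt a u) :
    ∃ u' : ↥U'.left, s.left u' = u ∧ Points.ofPt a' u' = xt := by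
  obtain ⟨z, hz1, hz2⟩ := H50.points_exists_of_isPullback sqA (Points.schemeHomeo U u) xt
    (by rw [hx, Points.ofPt_eq_map_ofScheme]; rfl)
  obtain ⟨u', rfl⟩ := (Points.schemeHomeo U').surjective z
  refine ⟨u', ?_, ?_⟩
  · rw [Points.map_yon_map_apply] at hz1
    exact (Points.schemeHomeo U).injective hz1
  · rw [Points.ofPt_eq_map_ofScheme]
    exact hz2

/-- A point is open iff the local dimension there is zero, in a locally Noetherian scheme. -/
theorem isOpen_singleton_iff_localDim_eq_zero {T : Scheme.{u}} [IsLocallyNoetherian T] (t : T) :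
    IsOpen ({t} : Set T) ↔ FlatMor.localDim T t = 0 := by
  constructor
  · intro h
    refine le_antisymm ?_ (localDim_nonneg t)
    refine (iInf_le _ (⟨⟨{t}, h⟩, rfl⟩ : {U : Opens T // t ∈ U})).trans ?_
    change topologicalKrullDim ↥({t} : Set T) ≤ 0
    have : Subsingleton ↥({t} : Set T) := Set.subsingleton_singleton.coe_sort
    have : Subsingleton (IrreducibleCloseds ↥({t} : Set T)) := by
      refine ⟨fun A B => IrreducibleCloseds.ext (Set.ext fun z => ?_)⟩
      obtain ⟨a, ha⟩ := A.isIrreducible.nonempty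
      obtain ⟨b, hb⟩ := B.isIrreducible.nonempty
      constructor
      · intro _; rwa [Subsingleton.elim z b]
      · intro _; rwa [Subsingleton.elim z a]
    exact Order.krullDim_nonpos_of_subsingleton
  · intro h
    obtain ⟨W, htW, hW⟩ := exists_open_dim_le_zero_of_localDim t h.le
    let W' : T.Opens := W
    have : IsLocallyNoetherian W'.toScheme := inferInstance
    have hd : DiscreteTopology ↥(W : Set T) :=
      discreteTopology_of_topologicalKrullDim_le_zero (W := W'.toScheme) hW
    have h1 : IsOpen ({⟨t, htW⟩} : Set ↥(W : Set T)) := isOpen_discrete _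
    have := W.2.isOpenMap_subtype_val _ h1
    rwa [Set.image_singleton] at this

end Groth.Agent.H52.FibChart
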