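import Groth.Agent.H52.FibChartA
import Groth.Agent.H50.LocPBase

set_option autoImplicit false
universe u
open CategoryTheory CategoryTheory.Limits AlgebraicGeometry TopologicalSpace Topology

namespace Groth.Agent.H52.FibChart
open AlgSp Groth.Agent.H52.QFAt

variable {S : Scheme.{u}}

/-- For a morphism to a scheme étale over a field, quasi-finiteness at a point means the point is
isolated. -/
theorem quasiFiniteAt_iff_isOpen_singleton_of_etale_field {K : Type u} [Field K]
    {U' T : Scheme.{u}} (h' : U' ⟶ T) (τ : T ⟶ Spec (CommRingCat.of K)) [Etale τ]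
    [LocallyOfFiniteType h'] (u' : U') : h'.QuasiFiniteAt u' ↔ IsOpen ({u'} : Set U') := by
  have hfib : (h' ≫ τ) ⁻¹' {(h' ≫ τ) u'} = Set.univ := by
    ext z
    simp only [Set.mem_preimage, Set.mem_singleton_iff, Set.mem_univ, iff_true]
    exact Subsingleton.elim (α := PrimeSpectrum K) _ _
  rw [← Scheme.Hom.quasiFiniteAt_comp_iff (g := τ), quasiFiniteAt_iff_exists_isOpen, hfib]
  constructor
  · rintro ⟨O, hO, hOe⟩
    rw [Set.inter_univ] at hOe
    exact hOe ▸ hO
  · intro h
    exact ⟨{u'}, h, Set.inter_univ _⟩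

end Groth.Agent.H52.FibChart

namespace Groth.Agent.H52.FibChart
open AlgSp Groth.Agent.H52.QFAt

variable {S : Scheme.{u}}

section fibre

variable {X Y : AlgSp.Space S} (f : X ⟶ Y) (hf : LocP @LocallyOfFiniteType f.hom)
  (r : FieldPt Y.obj) (Xk : AlgSp.Space S) (fst : Xk ⟶ X) (snd : Xk.obj ⟶ (yon S).obj r.pt)
  (hsq : IsPullback fst.hom snd f.hom r.toHom)

include hf hsq

/-- Étale charts of a fibre of a morphism locally of finite type are locally of finite type over
the field. -/
theorem locallyOfFiniteType_chart_fibre {U₁ : Over S} (a₁ : (yon S).obj U₁ ⟶ Xk.obj)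
    (ha₁ : RepWith @Etale a₁) (g : U₁ ⟶ r.pt) (hg : (yon S).map g = a₁ ≫ snd) :
    LocallyOfFiniteType g.left := by
  have hsnd : LocP @LocallyOfFiniteType snd :=
    H50.goodClass_lft.locP_of_isPullback X.property Y.property (IsAlgSpace.yon_obj r.pt)
      f.hom r.toHom fst.hom snd hsq hf
  exact hsnd a₁ (𝟙 _) g ha₁ (repWith_id _ r.pt) (by rw [hg, Category.comp_id])

/-- Étale charts of a fibre of a morphism locally of finite type are locally Noetherian and
Jacobson. -/
theorem chart_noeth_jacobson_fibre ⦃U₁ : Over S⦄ (a₁ : (yon S).obj U₁ ⟶ Xk.obj)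
    (ha₁ : RepWith @Etale a₁) : IsLocallyNoetherian U₁.left ∧ JacobsonSpace ↥U₁.left := by
  obtain ⟨g, hg⟩ := (yon S).map_surjective (a₁ ≫ snd)
  have := locallyOfFiniteType_chart_fibre f hf r Xk fst snd hsq a₁ ha₁ g hg
  have hJ : JacobsonSpace ↥r.pt.left :=
    (PrimeSpectrum.isJacobsonRing_iff_jacobsonSpace (R := r.K)).1 inferInstance
  have hN : IsLocallyNoetherian r.pt.left :=
    (inferInstance : IsLocallyNoetherian (Spec (CommRingCat.of r.K)))
  exact ⟨LocallyOfFiniteType.isLocallyNoetherian g.left, LocallyOfFiniteType.jacobsonSpace g.left⟩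

/-- The basic dictionary: for a chart diagram of `f` through `x` and the induced chart `U'` of the
fibre through `x̃`, the point of `U'` is isolated iff `f` is quasi-finite at the point of `U`. -/
theorem isOpen_singleton_iff_quasiFiniteAt {U V : Over S} (a : (yon S).obj U ⟶ X.obj)
    (b : (yon S).obj V ⟶ Y.obj) (h : U ⟶ V) (ha : RepWith @Etale a) (hb : RepWith @Etale b)
    (e : a ≫ f.hom = (yon S).map h ≫ b) (u : ↥U.left) (xt : Points Xk.obj)
    (hxt : Points.map fst.hom xt = Points.ofPt a u) :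
    ∃ (U' : Over S) (a' : (yon S).obj U' ⟶ Xk.obj) (u' : ↥U'.left), RepWith @Etale a' ∧
      Points.ofPt a' u' = xt ∧ IsLocallyNoetherian U'.left ∧
        (IsOpen ({u'} : Set ↥U'.left) ↔ h.left.QuasiFiniteAt u) := by
  obtain ⟨T, U', t, τ, s, h', a', hτ, sqUl, ha', hsnd, sqA⟩ :=
    exists_fibre_chart f.hom r fst.hom snd hsq a b h ha hb e
  obtain ⟨u', hu', hu'xt⟩ := exists_pt_over sqA u xt hxt
  have hlft : LocallyOfFiniteType h.left := hf a b h ha hb e
  have hlft' : LocallyOfFiniteType h'.left := MorphismProperty.of_isPullback sqUl hlft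
  have hN : IsLocallyNoetherian U'.left :=
    (chart_noeth_jacobson_fibre f hf r Xk fst snd hsq a' ha').1
  refine ⟨U', a', u', ha', hu'xt, hN, ?_⟩
  rw [← quasiFiniteAt_iff_isOpen_singleton_of_etale_field h'.left τ.left u', ← hu']
  constructor
  · exact quasiFiniteAt_of_isPullback_descent sqUl u'
  · intro hq
    exact FibreProdFinite.quasiFiniteAt_of_isPullback sqUl (s.left u')
      (qfNear_of_quasiFiniteAt h.left _ hq) u' rfl

/-- **(7) ⇔ (8)**: the fibre has dimension zero at `x̃` iff `f` is quasi-finite at `x`. -/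
theorem hasAt_localDim_iff_hasAtMor_qfNear (x : Points X.obj) (xt : Points Xk.obj)
    (hxt : Points.map fst.hom xt = x) :
    HasAt (fun U u => FlatMor.localDim ↥U u = 0) Xk.obj xt ↔ HasAtMor QFNear f.hom x := by
  have hch := chart_noeth_jacobson_fibre f hf r Xk fst snd hsq
  have hN : IsLocNoethSp Xk.obj := isLocNoethSp_of_charts Xk.property hch
  constructor
  · rintro ⟨U₁, a₁, u₁, ha₁, hu₁, hdim⟩
    have := (hch a₁ ha₁).1
    have hopen : IsOpen ({xt} : Set (Points Xk.obj)) := by
      rw [← hu₁]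
      exact isOpen_singleton_of_localDim_le_zero a₁ ha₁ u₁ hdim.le
    obtain ⟨A, pa, hpa, hpas⟩ := X.property.atlas
    obtain ⟨B, pb, hpb, hpbs⟩ := Y.property.atlas
    obtain ⟨V, a, h, ha, has, e⟩ := exists_chart_diagram f.hom pa hpa hpas pb hpb hpbs
    obtain ⟨u, hu⟩ := ofPt_surjective_of_repWith_surjective a has x
    obtain ⟨U', a', u', ha', hu', hN', hiff⟩ :=
      isOpen_singleton_iff_quasiFiniteAt f hf r Xk fst snd hsq a pb h ha hpb e u xt
        (hxt.trans hu.symm)
    have hlft : LocallyOfFiniteType h.left := hf a pb h ha hpb e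
    have hd : FlatMor.localDim ↥U'.left u' = 0 :=
      localDim_eq_zero_of_isOpen_singleton hN a' ha' u' (by rw [hu']; exact hopen)
    have hq : h.left.QuasiFiniteAt u :=
      hiff.1 ((isOpen_singleton_iff_localDim_eq_zero u').2 hd)
    exact ⟨V, B, a, pb, h, u, ha, hpb, e, hu, qfNear_of_quasiFiniteAt h.left u hq⟩
  · rintro ⟨U, V, a, b, h, u, ha, hb, e, hu, hq⟩
    obtain ⟨U', a', u', ha', hu', hN', hiff⟩ :=
      isOpen_singleton_iff_quasiFiniteAt f hf r Xk fst snd hsq a b h ha hb e u xt
        (hxt.trans hu.symm)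
    have hopen : IsOpen ({u'} : Set ↥U'.left) := hiff.2 (quasiFiniteAt_of_qfNear h.left u hq)
    exact ⟨U', a', u', ha', hu', (isOpen_singleton_iff_localDim_eq_zero u').1 hopen⟩

end fibre

end Groth.Agent.H52.FibChart
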