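import Groth.Agent.H52.ReducedPoint
import Groth.Agent.H52.Special
import Groth.Agent.H51.SpBasic
import Groth.Agent.H51.SpOpen
import Groth.Agent.H51.TopChart
import Groth.Agent.H50.FTPoint
import Groth.Agent.H52.UBF9

/-!
# The fibre of a morphism of algebraic spaces over a quasi-compact monomorphic point

For a point of an algebraic space `Y` represented by a quasi-compact monomorphism `Spec k ⟶ Y`,
the base change `T_k ⟶ T` along any morphism `T ⟶ Y` from a scheme is a topological embedding.
-/

set_option autoImplicit false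
universe u
open CategoryTheory CategoryTheory.Limits AlgebraicGeometry Opposite Topology

namespace Groth.Agent.H52.FibreEmb

open AlgSp

theorem isField_localization_of_etale_field (K A : Type u) [Field K] [CommRing A] [Algebra K A]
    [Algebra.Etale K A] (Q : Ideal A) [Q.IsPrime] : IsField (Localization.AtPrime Q) := by
  have : Algebra.FiniteType K A := inferInstance
  have : Algebra.FormallyUnramified K (Localization.AtPrime Q) :=
    Algebra.FormallyUnramified.comp K A _
  have := Algebra.FormallyUnramified.finite_of_free K (Localization.AtPrime Q)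
  have := IsArtinianRing.of_finite K (Localization.AtPrime Q)
  have := Algebra.FormallyUnramified.isReduced_of_field K (Localization.AtPrime Q)
  exact IsArtinianRing.isField_of_isReduced_of_isLocalRing _

/-- The stalks of a scheme étale over the spectrum of a field are fields. -/
theorem isField_stalk_of_etale_field {W : Scheme.{u}} (k : Type u) [Field k]
    (f : W ⟶ Spec (CommRingCat.of k)) [Etale f] (w : W) : IsField (W.presheaf.stalk w) := by
  obtain ⟨_, ⟨U, hU, rfl⟩, hw, -⟩ :=
    W.isBasis_affineOpens.exists_subset_of_mem_open (Set.mem_univ w) isOpen_univ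
  have hU' : IsAffineOpen U := hU
  have het : (f.appLE ⊤ U (by simp)).hom.Etale :=
    Etale.etale_appLE f (isAffineOpen_top _) hU' _
  let g : k →+* Γ(W, U) :=
    (f.appLE ⊤ U (by simp)).hom.comp (Scheme.ΓSpecIso (CommRingCat.of k)).inv.hom
  have hg : g.Etale := by
    refine RingHom.Etale.stableUnderComposition _ _ ?_ het
    exact RingHom.Etale.of_bijective
      (ConcreteCategory.bijective_of_isIso (Scheme.ΓSpecIso (CommRingCat.of k)).inv)
  let _ : Algebra k Γ(W, U) := g.toAlgebra
  have : Algebra.Etale k Γ(W, U) := hg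
  let Q := (hU'.primeIdealOf ⟨w, hw⟩).asIdeal
  have hF := isField_localization_of_etale_field k Γ(W, U) Q
  let _ := W.presheaf.algebra_section_stalk ⟨w, hw⟩
  have := hU'.isLocalization_stalk ⟨w, hw⟩
  let e := IsLocalization.algEquiv Q.primeCompl (W.presheaf.stalk w) (Localization.AtPrime Q)
  exact e.toMulEquiv.isField hF

/-- A monomorphism of schemes induces isomorphisms of residue fields. -/
theorem bijective_residueFieldMap_of_mono {Z V : Scheme.{u}} (φ : Z ⟶ V) [Mono φ] (z : Z) :
    Function.Bijective (φ.residueFieldMap z).hom := by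
  have h1 : Spec.map (φ.residueFieldMap z) ≫ V.fromSpecResidueField (φ z) =
      Z.fromSpecResidueField z ≫ φ := Scheme.Hom.SpecMap_residueFieldMap_fromSpecResidueField φ z
  have hm : Mono (Spec.map (φ.residueFieldMap z)) := by
    have : Mono (Spec.map (φ.residueFieldMap z) ≫ V.fromSpecResidueField (φ z)) := by
      rw [h1]; infer_instance
    exact mono_of_mono _ (V.fromSpecResidueField (φ z))
  have hne : Nonempty ↥(Spec (Z.residueField z)) :=
    ⟨IsLocalRing.closedPoint (Z.residueField z)⟩
  have hiso : IsIso (Spec.map (φ.residueFieldMap z)) :=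
    isIso_of_mono_of_nonempty_of_field (K := ↑(V.residueField (φ z)))
      (Spec.map (φ.residueFieldMap z))
  let h := Spec.preimage (inv (Spec.map (φ.residueFieldMap z)))
  have e1 : h ≫ φ.residueFieldMap z = 𝟙 _ := by
    apply Spec.map_injective
    rw [Spec.map_comp, Spec.map_preimage, Spec.map_id, IsIso.hom_inv_id]
  have e2 : φ.residueFieldMap z ≫ h = 𝟙 _ := by
    apply Spec.map_injective
    rw [Spec.map_comp, Spec.map_preimage, Spec.map_id, IsIso.inv_hom_id]
  refine ⟨fun a b hab => ?_, fun c => ⟨h.hom c, ?_⟩⟩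
  · have := congrArg h.hom hab
    have e2' : ∀ x, h.hom ((φ.residueFieldMap z).hom x) = x := fun x => by
      have := congrArg (fun m => m.hom x) e2
      simpa using this
    rwa [e2', e2'] at this
  · have := congrArg (fun m => m.hom c) e1
    simpa using this

/-- An injective map from a finite discrete space whose image has no internal specializations
is an embedding. -/
theorem isEmbedding_of_discrete_of_no_specializes {A B : Type*} [TopologicalSpace A]
    [TopologicalSpace B] [DiscreteTopology A] [Finite A] (g : A → B)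
    (hinj : Function.Injective g) (hsp : ∀ a a', g a' ⤳ g a → a' = a) : IsEmbedding g := by
  have hcont : Continuous g := continuous_of_discreteTopology
  refine ⟨⟨le_antisymm hcont.le_induced ?_⟩, hinj⟩
  intro W _
  rw [isOpen_induced_iff]
  have hF : (Set.range g).Finite := Set.finite_range g
  have hsp' : ∀ v ∈ Set.range g, ∀ w ∈ Set.range g, w ⤳ v → w = v := by
    rintro _ ⟨a, rfl⟩ _ ⟨a', rfl⟩ h
    rw [hsp a a' h]
  choose O hOo hOm hOs using fun a : A =>
    exists_open_inter_subset_singleton (Set.range g) hF hsp' (g a) ⟨a, rfl⟩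
  refine ⟨⋃ a ∈ W, O a, isOpen_biUnion fun a _ => hOo a, ?_⟩
  ext a
  simp only [Set.mem_preimage, Set.mem_iUnion, exists_prop]
  constructor
  · rintro ⟨a', ha'W, ha'⟩
    have : g a = g a' := hOs a' ⟨ha', ⟨a, rfl⟩⟩
    rw [hinj this]; exact ha'W
  · intro ha
    exact ⟨a, ha, hOm a⟩

variable {S : Scheme.{u}}

/-- Level 0: the fibre of an affine étale chart over a quasi-compact monomorphic point is a
preimmersion. -/
theorem isPreimmersion_fibre_of_affine {Y : Sp S} (r : FieldPt Y) (hm : Mono r.toHom)
    (hq : RepWith @QuasiCompact r.toHom) {V Z : Over S} [IsAffine V.left]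
    (b : (yon S).obj V ⟶ Y) (hb : RepWith @Etale b) (φ : Z ⟶ V) (ψ : Z ⟶ r.pt)
    (hpb : IsPullback ((yon S).map φ) ((yon S).map ψ) b r.toHom) : IsPreimmersion φ.left := by
  have hqc : QuasiCompact φ.left := hq.property b _ φ hpb.flip
  have het : Etale ψ.left := hb.property r.toHom _ ψ hpb
  have hmono1 : Mono ((yon S).map φ) := hpb.mono_fst_of_mono
  have hmono2 : Mono φ := (yon S).mono_of_mono_map hmono1
  have hmono : Mono φ.left := inferInstance
  have hcomp : CompactSpace ↥Z.left := QuasiCompact.compactSpace_of_compactSpace φ.left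
  have hdisc : DiscreteTopology ↥Z.left :=
    Groth.Agent.H50.discreteTopology_of_etale_field r.K ψ.left
  have hfin : Finite ↥Z.left := finite_of_compact_of_discrete
  have hfib : ∀ z : ↥Z.left, Points.ofPt b (φ.left z) = Points.mk r := by
    intro z
    rw [(ofPt_eq_iff_of_isPullback hpb (φ.left z) (ψ.left z)).2 ⟨z, rfl, rfl⟩]
    exact Points.ofPt_toHom r _
  have hinj : Function.Injective φ.left := φ.left.injective
  have hemb : IsEmbedding φ.left := by
    refine isEmbedding_of_discrete_of_no_specializes _ hinj ?_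
    intro z z' hs
    refine hinj (eq_of_specializes_of_affine_finite_fibres (Points.mk r) ?_ b hb
      (φ.left z) (φ.left z') (hfib z) (hfib z') hs).symm
    intro V' b' hV' hb'
    exact finite_fibre_of_quasiCompact_point r hq b' hb'
  refine { stalkMap_surjective := ?_, isEmbedding := hemb }
  intro z c
  have hF : IsField (Z.left.presheaf.stalk z) := isField_stalk_of_etale_field r.K ψ.left z
  have hmax : IsLocalRing.maximalIdeal (Z.left.presheaf.stalk z) = ⊥ :=
    IsLocalRing.isField_iff_maximalIdeal_eq.mp hF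
  obtain ⟨a', ha'⟩ := (bijective_residueFieldMap_of_mono φ.left z).2 ((Z.left.residue z).hom c)
  obtain ⟨a, rfl⟩ := Scheme.residue_surjective V.left (φ.left z) a'
  refine ⟨a, ?_⟩
  have h1 : (Z.left.residue z).hom ((φ.left.stalkMap z).hom a) = (Z.left.residue z).hom c := by
    rw [← ha']
    have := congrArg (fun m => m.hom a) (Scheme.residue_residueFieldMap φ.left z)
    simpa using this.symm
  have h2 : (φ.left.stalkMap z).hom a - c ∈ IsLocalRing.maximalIdeal (Z.left.presheaf.stalk z) := by
    rw [← IsLocalRing.residue_eq_zero_iff]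
    change (Z.left.residue z).hom _ = 0
    rw [map_sub, h1, sub_self]
  rw [hmax] at h2
  exact sub_eq_zero.mp h2

/-- Level 1: the fibre of a scheme mapping to an affine étale chart is a preimmersion. -/
theorem isPreimmersion_fibre_of_factor {Y : Sp S} (r : FieldPt Y) (hm : Mono r.toHom)
    (hq : RepWith @QuasiCompact r.toHom) {V T Z : Over S} [IsAffine V.left]
    (b : (yon S).obj V ⟶ Y) (hb : RepWith @Etale b) (t : T ⟶ V) (φ : Z ⟶ T) (ψ : Z ⟶ r.pt)
    (hpb : IsPullback ((yon S).map φ) ((yon S).map ψ) ((yon S).map t ≫ b) r.toHom) :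
    IsPreimmersion φ.left := by
  obtain ⟨ZV, φV, ψV, hV, -⟩ := exists_fibre_scheme r b hb.rep
  have hA : IsPreimmersion φV.left := isPreimmersion_fibre_of_affine r hm hq b hb φV ψV hV
  have hw : (yon S).map (φ ≫ t) ≫ b = (yon S).map ψ ≫ r.toHom := by
    rw [Functor.map_comp, Category.assoc]; exact hpb.w
  obtain ⟨l, hl⟩ := (yon S).map_surjective (hV.lift ((yon S).map (φ ≫ t)) ((yon S).map ψ) hw)
  have hl1 : (yon S).map l ≫ (yon S).map φV = (yon S).map φ ≫ (yon S).map t := by
    rw [hl, hV.lift_fst, Functor.map_comp]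
  have hl2 : (yon S).map l ≫ (yon S).map ψV = (yon S).map ψ := by
    rw [hl, hV.lift_snd]
  have hleft : IsPullback ((yon S).map l) ((yon S).map φ) ((yon S).map φV) ((yon S).map t) := by
    refine IsPullback.of_right ?_ hl1 hV.flip
    rw [hl2]; exact hpb.flip
  have sq : IsPullback l φ φV t :=
    IsPullback.of_map (yon S) ((yon S).map_injective (by
      rw [Functor.map_comp, Functor.map_comp]; exact hl1)) hleft
  have sqL := sq.map (Over.forget S)
  exact MorphismProperty.of_isPullback (P := @IsPreimmersion) sqL hA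

/-- Descent of "embedding" along a jointly surjective family of open charts. -/
theorem isEmbedding_of_charts {ι : Type*} {U ZU : ι → Type*} {X Z : Type*}
    [∀ t, TopologicalSpace (U t)] [∀ t, TopologicalSpace (ZU t)] [TopologicalSpace X]
    [TopologicalSpace Z] (q : ∀ t, U t → X) (qZ : ∀ t, ZU t → Z) (j : ∀ t, ZU t → U t) (i : Z → X)
    (hq : ∀ t, Continuous (q t)) (hqo : ∀ t, IsOpenMap (q t)) (hqZ : ∀ t, Continuous (qZ t))
    (hqZs : ∀ z, ∃ t z', qZ t z' = z) (hj : ∀ t, IsEmbedding (j t)) (hi : Continuous i)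
    (hinj : Function.Injective i) (comm : ∀ t z', q t (j t z') = i (qZ t z'))
    (cart : ∀ t u z, q t u = i z → ∃ z', j t z' = u ∧ qZ t z' = z) : IsEmbedding i := by
  refine Groth.Agent.H51.isEmbedding_of_chart (U := Σ t, U t) (ZU := Σ t, ZU t)
    (fun p => q p.1 p.2) (fun p => qZ p.1 p.2) (Sigma.map id j) i
    (continuous_sigma hq) (isOpenMap_sigma.2 hqo) (continuous_sigma hqZ) ?_
    ((isEmbedding_sigmaMap Function.injective_id).2 hj) hi hinj ?_ ?_
  · intro z
    obtain ⟨t, z', h⟩ := hqZs z
    exact ⟨⟨t, z'⟩, h⟩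
  · rintro ⟨t, z'⟩
    exact comm t z'
  · rintro ⟨t, u⟩ z h
    obtain ⟨z', h1, h2⟩ := cart t u z h
    exact ⟨⟨t, z'⟩, by simp [Sigma.map, h1], h2⟩

theorem exists_of_isPullback_sch {A X Y Z : Scheme.{u}} {fst : A ⟶ X} {snd : A ⟶ Y}
    {f : X ⟶ Z} {g : Y ⟶ Z} (sq : IsPullback fst snd f g) (x : X) (y : Y) (h : f x = g y) :
    ∃ a : A, fst a = x ∧ snd a = y := by
  obtain ⟨z, hz1, hz2⟩ := Scheme.Pullback.exists_preimage_pullback x y h
  refine ⟨sq.isoPullback.inv z, ?_, ?_⟩
  · rw [← Scheme.Hom.comp_apply, sq.isoPullback_inv_fst, hz1]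
  · rw [← Scheme.Hom.comp_apply, sq.isoPullback_inv_snd, hz2]

/-- Level 2: the fibre of any scheme over an algebraic space at a quasi-compact monomorphic point
is topologically embedded. -/
theorem isEmbedding_fibre {Y : Sp S} (hY : IsAlgSpace Y) (r : FieldPt Y) (hm : Mono r.toHom)
    (hq : RepWith @QuasiCompact r.toHom) {T Z : Over S} (g : (yon S).obj T ⟶ Y) (φ : Z ⟶ T)
    (ψ : Z ⟶ r.pt) (hpb : IsPullback ((yon S).map φ) ((yon S).map ψ) g r.toHom) :
    IsEmbedding φ.left := by
  obtain ⟨J, V, b, hVaff, hbet, hbsurj⟩ := exists_affine_etale_cover hY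
  have hmono1 : Mono ((yon S).map φ) := hpb.mono_fst_of_mono
  have hmono2 : Mono φ := (yon S).mono_of_mono_map hmono1
  have hmono : Mono φ.left := inferInstance
  -- the charts of `T`
  let P : J → Over S := fun j => (hbet j).rep.pullback g
  let sndP : ∀ j, P j ⟶ T := fun j => (hbet j).rep.snd g
  let fstP : ∀ j, P j ⟶ V j := fun j => (hbet j).rep.fst' g
  have hP : ∀ j, IsPullback ((yon S).map (fstP j)) ((yon S).map (sndP j)) (b j) g :=
    fun j => (hbet j).rep.isPullback' g
  have hPet : ∀ j, Etale (sndP j).left := fun j => (hbet j).property_snd g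
  -- their fibres
  let ZP : J → Over S := fun j => hq.rep.pullback ((yon S).map (sndP j) ≫ g)
  let φP : ∀ j, ZP j ⟶ P j := fun j => hq.rep.snd ((yon S).map (sndP j) ≫ g)
  let ψP : ∀ j, ZP j ⟶ r.pt := fun j => hq.rep.fst' ((yon S).map (sndP j) ≫ g)
  have hZP : ∀ j, IsPullback ((yon S).map (φP j)) ((yon S).map (ψP j))
      ((yon S).map (sndP j) ≫ g) r.toHom :=
    fun j => (hq.rep.isPullback' ((yon S).map (sndP j) ≫ g)).flip
  have hφP : ∀ j, IsEmbedding (φP j).left := by
    intro j
    have := hVaff j
    have : IsPreimmersion (φP j).left := by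
      refine isPreimmersion_fibre_of_factor r hm hq (b j) (hbet j) (fstP j) (φP j) (ψP j) ?_
      rw [(hP j).w]; exact hZP j
    exact (φP j).left.isEmbedding
  -- the comparison maps
  have hw : ∀ j, (yon S).map (φP j ≫ sndP j) ≫ g = (yon S).map (ψP j) ≫ r.toHom := by
    intro j
    rw [Functor.map_comp, Category.assoc]; exact (hZP j).w
  choose lZ hlZ using fun j => (yon S).map_surjective
    (hpb.lift ((yon S).map (φP j ≫ sndP j)) ((yon S).map (ψP j)) (hw j))
  have hl1 : ∀ j, (yon S).map (lZ j) ≫ (yon S).map φ =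
      (yon S).map (φP j) ≫ (yon S).map (sndP j) := by
    intro j
    rw [hlZ, hpb.lift_fst, Functor.map_comp]
  have hl2 : ∀ j, (yon S).map (lZ j) ≫ (yon S).map ψ = (yon S).map (ψP j) := by
    intro j
    rw [hlZ, hpb.lift_snd]
  have hsq : ∀ j, IsPullback (lZ j).left (φP j).left φ.left (sndP j).left := by
    intro j
    have hleft : IsPullback ((yon S).map (lZ j)) ((yon S).map (φP j)) ((yon S).map φ)
        ((yon S).map (sndP j)) := by
      refine IsPullback.of_right ?_ (hl1 j) hpb.flip
      rw [hl2 j]; exact (hZP j).flip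
    have sq : IsPullback (lZ j) (φP j) φ (sndP j) :=
      IsPullback.of_map (yon S) ((yon S).map_injective (by
        rw [Functor.map_comp, Functor.map_comp]; exact hl1 j)) hleft
    exact sq.map (Over.forget S)
  refine isEmbedding_of_charts (ι := J) (U := fun j => ↥(P j).left) (ZU := fun j => ↥(ZP j).left)
    (fun j => (sndP j).left) (fun j => (lZ j).left) (fun j => (φP j).left) φ.left
    (fun j => (sndP j).left.continuous) (fun j => (sndP j).left.isOpenMap)
    (fun j => (lZ j).left.continuous) ?_ hφP φ.left.continuous φ.left.injective ?_ ?_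
  · intro z
    obtain ⟨j, v, hv⟩ := hbsurj (Points.ofPt g (φ.left z))
    obtain ⟨p, -, hp⟩ := (ofPt_eq_iff_of_isPullback (hP j) v (φ.left z)).1 hv
    obtain ⟨z', -, hz'2⟩ := exists_of_isPullback_sch (hsq j).flip p z hp
    exact ⟨j, z', hz'2⟩
  · intro j z'
    have := congrArg (fun m => m z') (hsq j).w
    simpa using this.symm
  · intro j p z h
    obtain ⟨z', hz'1, hz'2⟩ := exists_of_isPullback_sch (hsq j).flip p z h
    exact ⟨z', hz'1, hz'2⟩

/-- Level 3 (S10390 for sheaves): the fibre of a morphism of algebraic spaces over a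
quasi-compact monomorphic point is topologically the fibre of the map on points. -/
theorem isEmbedding_map_fst {X Y Xk : Sp S} (hX : IsAlgSpace X) (hY : IsAlgSpace Y) (f : X ⟶ Y)
    (r : FieldPt Y) (hm : Mono r.toHom) (hq : RepWith @QuasiCompact r.toHom)
    (fst : Xk ⟶ X) (snd : Xk ⟶ (yon S).obj r.pt) (hsq : IsPullback fst snd f r.toHom) :
    IsEmbedding (Points.map fst) ∧
      Set.range (Points.map fst) = Points.map f ⁻¹' {Points.mk r} := by
  constructor
  · obtain ⟨U, a, haet, hasurj⟩ := hX.atlas
    let g : (yon S).obj U ⟶ Y := a ≫ f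
    let Z : Over S := hq.rep.pullback g
    let φ : Z ⟶ U := hq.rep.snd g
    let ψ : Z ⟶ r.pt := hq.rep.fst' g
    have hZ : IsPullback ((yon S).map φ) ((yon S).map ψ) g r.toHom :=
      (hq.rep.isPullback' g).flip
    have hφ : IsEmbedding φ.left := isEmbedding_fibre hY r hm hq g φ ψ hZ
    have hw : ((yon S).map φ ≫ a) ≫ f = (yon S).map ψ ≫ r.toHom := by
      rw [Category.assoc]; exact hZ.w
    let cZ : (yon S).obj Z ⟶ Xk := hsq.lift ((yon S).map φ ≫ a) ((yon S).map ψ) hw
    have hc1 : cZ ≫ fst = (yon S).map φ ≫ a := hsq.lift_fst _ _ _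
    have hc2 : cZ ≫ snd = (yon S).map ψ := hsq.lift_snd _ _ _
    have hleft : IsPullback cZ ((yon S).map φ) fst a := by
      refine IsPullback.of_right ?_ hc1 hsq.flip
      rw [hc2]; exact hZ.flip
    have hmono : Mono fst := hsq.mono_fst_of_mono
    have hcart : ∀ (u : ↥U.left) (z : Points Xk), Points.ofPt a u = Points.map fst z →
        ∃ z' : ↥Z.left, φ.left z' = u ∧ Points.ofPt cZ z' = z := by
      intro u z h
      rw [Points.ofPt_eq_map_ofScheme] at h
      obtain ⟨w, hw1, hw2⟩ := exists_point_of_isPullback hleft z (Points.ofScheme U u) h.symm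
      obtain ⟨z', rfl⟩ := (Points.schemeEquiv Z).surjective w
      refine ⟨z', ?_, ?_⟩
      · have h3 : Points.ofPt ((yon S).map φ) z' = Points.ofScheme U u := by
          rw [Points.ofPt_eq_map_ofScheme]; exact hw2
        have := congrArg (Points.toScheme U) h3
        rwa [Points.toScheme_ofPt, Points.toScheme_ofScheme] at this
      · rw [Points.ofPt_eq_map_ofScheme]; exact hw1
    refine Groth.Agent.H51.isEmbedding_of_chart (Points.ofPt a) (Points.ofPt cZ) φ.left
      (Points.map fst) (Points.continuous_ofPt a)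
      (Groth.Agent.H51.isOpenMap_ofPt_of_etale a haet) (Points.continuous_ofPt cZ) ?_ hφ
      (Points.continuous_map fst) (Groth.Agent.H51.injective_map_of_mono fst) ?_ hcart
    · intro z
      obtain ⟨u, hu⟩ := ofPt_surjective_of_repWith_surjective a hasurj (Points.map fst z)
      obtain ⟨z', -, hz'⟩ := hcart u z hu
      exact ⟨z', hz'⟩
    · intro z'
      rw [Points.map_ofPt, hc1, ofPt_yon_map_comp]
  · ext x
    simp only [Set.mem_range, Set.mem_preimage, Set.mem_singleton_iff]
    constructor
    · rintro ⟨z, rfl⟩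
      rw [← Points.map_comp, hsq.w, Points.map_comp]
      obtain ⟨c, hc⟩ := (Points.schemeEquiv r.pt).surjective (Points.map snd z)
      rw [← hc]
      change Points.map r.toHom (Points.ofScheme r.pt c) = _
      rw [← Points.ofPt_eq_map_ofScheme]
      exact Points.ofPt_toHom r c
    · intro hx
      have e : Points.map f x = Points.map r.toHom
          (Points.ofScheme r.pt (IsLocalRing.closedPoint r.K)) := by
        rw [hx, ← Points.ofPt_eq_map_ofScheme]
        exact (Points.ofPt_toHom r _).symm
      obtain ⟨z, hz, -⟩ := exists_point_of_isPullback hsq x _ e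
      exact ⟨z, hz⟩

end Groth.Agent.H52.FibreEmb
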