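import Groth.Agent.H52.FibChartB
import Groth.Agent.H52.GeomConn
import Groth.Agent.H52.FibreEmb
import Groth.Agent.H52.Decent
import Groth.Agent.H17.Chev.TopLocalDim

set_option autoImplicit false
universe u
open CategoryTheory CategoryTheory.Limits AlgebraicGeometry TopologicalSpace Topology

namespace Groth.Agent.H52.FibChart
open AlgSp Groth.Agent.H52.QFAt

variable {S : Scheme.{u}}

/-- The fibre of the map on points over the class of a field valued point is the image of the
points of the scheme-theoretic fibre. -/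
theorem preimage_eq_range_fst {X Y Xk : Sp S} (f : X ⟶ Y) (r : FieldPt Y) (fst : Xk ⟶ X)
    (snd : Xk ⟶ (yon S).obj r.pt) (hsq : IsPullback fst snd f r.toHom) :
    Points.map f ⁻¹' {Points.mk r} = Set.range (Points.map fst) := by
  ext x'
  constructor
  · intro hx'
    have hx'' : Points.map f x' = Points.mk r := hx'
    obtain ⟨p, hp, -⟩ := H50.points_exists_of_isPullback hsq x'
      (Points.schemeHomeo r.pt (IsLocalRing.closedPoint r.K))
      (by rw [hx'', GeomConn.map_toHom_eq_mk])
    exact ⟨p, hp⟩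
  · rintro ⟨p, rfl⟩
    change Points.map f (Points.map _ p) = Points.mk r
    rw [← Points.map_comp, hsq.w, Points.map_comp, GeomConn.map_toHom_eq_mk]

end Groth.Agent.H52.FibChart

namespace Groth.Agent.H52.FibChart
open AlgSp Groth.Agent.H52.QFAt

variable {S : Scheme.{u}}

section fibre

variable {X Y : AlgSp.Space S} (f : X ⟶ Y) (hf : LocP @LocallyOfFiniteType f.hom)
  (r : FieldPt Y.obj) (Xk : AlgSp.Space S) (fst : Xk ⟶ X) (snd : Xk.obj ⟶ (yon S).obj r.pt)
  (hsq : IsPullback fst.hom snd f.hom r.toHom)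

include hf hsq

/-- **(5) ⇔ (8), pointwise.** -/
theorem isOpen_singleton_iff_hasAtMor_qfNear (x : Points X.obj) (xt : Points Xk.obj)
    (hxt : Points.map fst.hom xt = x) :
    IsOpen ({xt} : Set (Points Xk.obj)) ↔ HasAtMor QFNear f.hom x := by
  rw [isOpen_singleton_iff_hasAt_localDim Xk.property
    (chart_noeth_jacobson_fibre f hf r Xk fst snd hsq) xt]
  exact hasAt_localDim_iff_hasAtMor_qfNear f hf r Xk fst snd hsq x xt hxt

/-- **(5) ⇔ (8), globally.** -/
theorem discreteTopology_iff_forall_hasAtMor_qfNear :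
    DiscreteTopology (Points Xk.obj) ↔
      ∀ x : Points X.obj, Points.map f.hom x = Points.mk r → HasAtMor QFNear f.hom x := by
  rw [discreteTopology_iff_isOpen_singleton]
  constructor
  · intro h x hx
    have hx' : x ∈ Points.map f.hom ⁻¹' {Points.mk r} := hx
    rw [preimage_eq_range_fst f.hom r fst.hom snd hsq] at hx'
    obtain ⟨xt, hxt⟩ := hx'
    exact (isOpen_singleton_iff_hasAtMor_qfNear f hf r Xk fst snd hsq x xt hxt).1 (h xt)
  · intro h xt
    have hx : Points.map fst.hom xt ∈ Points.map f.hom ⁻¹' {Points.mk r} := by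
      rw [preimage_eq_range_fst f.hom r fst.hom snd hsq]; exact ⟨xt, rfl⟩
    exact (isOpen_singleton_iff_hasAtMor_qfNear f hf r Xk fst snd hsq _ xt rfl).2 (h _ hx)

end fibre

/-- For decent `Y`, the fibre of `|f|` over a point is homeomorphic to the space of points of the
fibre of `f` over a quasi-compact monomorphic representative of the point. -/
theorem exists_homeomorph_fibre {X Y : AlgSp.Space S} (f : X ⟶ Y) (hY : IsDecent Y.obj)
    (y : Points Y.obj) :
    ∃ (r₀ : FieldPt Y.obj) (X₀ : AlgSp.Space S) (fst₀ : X₀ ⟶ X)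
      (snd₀ : X₀.obj ⟶ (yon S).obj r₀.pt), Points.mk r₀ = y ∧
      IsPullback fst₀.hom snd₀ f.hom r₀.toHom ∧ (IsDecent X.obj → IsDecent X₀.obj) ∧
      ∃ e : Points X₀.obj ≃ₜ ↥(Points.map f.hom ⁻¹' {y}),
        ∀ p, (e p : Points X.obj) = Points.map fst₀.hom p := by
  obtain ⟨r₀, hr₀, hm, hq⟩ := hY y
  subst hr₀
  have sq₀ : IsPullback (pullback.fst f.hom r₀.toHom) (pullback.snd f.hom r₀.toHom) f.hom
      r₀.toHom := IsPullback.of_hasPullback _ _
  have hX₀ : IsAlgSpace (pullback f.hom r₀.toHom) :=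
    H49.isAlgSpace_of_isPullback sq₀ Y.property.diag X.property (IsAlgSpace.yon_obj r₀.pt)
  obtain ⟨hemb, hrange⟩ := FibreEmb.isEmbedding_map_fst X.property Y.property f.hom r₀ hm hq
    _ _ sq₀
  refine ⟨r₀, ⟨_, hX₀⟩, ObjectProperty.homMk (pullback.fst f.hom r₀.toHom),
    pullback.snd f.hom r₀.toHom, rfl, sq₀, ?_, ?_⟩
  · intro hXd
    have hrep : Representable (pullback.fst f.hom r₀.toHom) := by
      have h1 : Representable r₀.toHom := IsAlgSpace.representable_from_yon Y.property _
      exact MorphismProperty.of_isPullback sq₀.flip h1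
    exact isDecent_of_representable _ hrep hXd
  · exact ⟨hemb.toHomeomorph.trans (Homeomorph.setCongr hrange), fun p => rfl⟩

end Groth.Agent.H52.FibChart
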