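import Groth.Agent.H52.FibChartC

set_option autoImplicit false
universe u
open CategoryTheory CategoryTheory.Limits AlgebraicGeometry TopologicalSpace Topology

namespace Groth.Agent.H52.FibChart
open AlgSp Groth.Agent.H52.QFAt

variable {S : Scheme.{u}}

section transfer

variable {A B : Type*} [TopologicalSpace A] [TopologicalSpace B] (e : A ≃ₜ B) (a : A)

theorem isOpen_singleton_homeomorph : IsOpen ({e a} : Set B) ↔ IsOpen ({a} : Set A) := by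
  rw [← Set.image_singleton, e.isOpen_image]

theorem isClosed_singleton_homeomorph : IsClosed ({e a} : Set B) ↔ IsClosed ({a} : Set A) := by
  rw [← Set.image_singleton, e.isClosed_image]

theorem forall_specializes_homeomorph :
    (∀ b' : B, b' ⤳ e a → b' = e a) ↔ (∀ a' : A, a' ⤳ a → a' = a) := by
  constructor
  · intro h a' ha'
    exact e.injective (h (e a') (ha'.map e.continuous))
  · intro h b' hb'
    obtain ⟨a', rfl⟩ := e.surjective b'
    rw [h a' (e.isInducing.specializes_iff.1 hb')]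

theorem localDim_homeomorph : FlatMor.localDim B (e a) = FlatMor.localDim A a :=
  (H17.Chev.localDim_eq_of_isOpenEmbedding e.isOpenEmbedding a).symm

end transfer

/-- **S10445.** -/
theorem s10445 {X Y : AlgSp.Space S} (f : X ⟶ Y)
    (hf : AlgSp.LocP @LocallyOfFiniteType f.hom) (r : AlgSp.FieldPt Y.obj) (Xk : AlgSp.Space S)
    (fst : Xk ⟶ X)
    (snd : Xk.obj ⟶ (AlgSp.yon S).obj r.pt) (hsq : IsPullback fst.hom snd f.hom r.toHom)
    (x : AlgSp.Points X.obj) (hx : x ∈ (AlgSp.Points.map f.hom ⁻¹' {AlgSp.Points.mk r}))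
    (xt : AlgSp.Points Xk.obj)
    (hxt : AlgSp.Points.map fst.hom xt = x) :
    ((IsOpen ({xt} : Set (AlgSp.Points Xk.obj)) ↔
      IsClosed ({xt} : Set (AlgSp.Points Xk.obj)) ∧ ∀ x' : AlgSp.Points Xk.obj, x' ⤳ xt → x' = xt) ∧
    (IsOpen ({xt} : Set (AlgSp.Points Xk.obj)) ↔ AlgSp.HasAt (fun U u => FlatMor.localDim ↥U u = 0) Xk.obj xt) ∧
    (AlgSp.HasAt (fun U u => FlatMor.localDim ↥U u = 0) Xk.obj xt ↔ AlgSp.HasAtMor (fun U _ h u => ∃ W : U.Opens, u ∈ W ∧ LocallyQuasiFinite (W.ι ≫ h) ∧ LocallyOfFiniteType (W.ι ≫ h)) f.hom x) ∧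
    (AlgSp.IsDecent Xk.obj →
      (FlatMor.localDim (AlgSp.Points Xk.obj) xt = 0 ↔ IsOpen ({xt} : Set (AlgSp.Points Xk.obj)))) ∧
    (AlgSp.IsDecent Y.obj →
      (IsOpen ({(⟨x, hx⟩ : ↥(AlgSp.Points.map f.hom ⁻¹' {AlgSp.Points.mk r}))} : Set ↥(AlgSp.Points.map f.hom ⁻¹' {AlgSp.Points.mk r})) ↔ IsOpen ({xt} : Set (AlgSp.Points Xk.obj))) ∧
      ((IsClosed ({(⟨x, hx⟩ : ↥(AlgSp.Points.map f.hom ⁻¹' {AlgSp.Points.mk r}))} : Set ↥(AlgSp.Points.map f.hom ⁻¹' {AlgSp.Points.mk r})) ∧ ∀ x' : ↥(AlgSp.Points.map f.hom ⁻¹' {AlgSp.Points.mk r}), x' ⤳ (⟨x, hx⟩ : ↥(AlgSp.Points.map f.hom ⁻¹' {AlgSp.Points.mk r})) → x' = (⟨x, hx⟩ : ↥(AlgSp.Points.map f.hom ⁻¹' {AlgSp.Points.mk r}))) ↔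
        IsClosed ({xt} : Set (AlgSp.Points Xk.obj)) ∧ ∀ x' : AlgSp.Points Xk.obj, x' ⤳ xt → x' = xt)) ∧
    (AlgSp.IsDecent Y.obj → AlgSp.IsDecent X.obj →
      (FlatMor.localDim ↥(AlgSp.Points.map f.hom ⁻¹' {AlgSp.Points.mk r}) (⟨x, hx⟩ : ↥(AlgSp.Points.map f.hom ⁻¹' {AlgSp.Points.mk r})) = 0 ↔ IsOpen ({(⟨x, hx⟩ : ↥(AlgSp.Points.map f.hom ⁻¹' {AlgSp.Points.mk r}))} : Set ↥(AlgSp.Points.map f.hom ⁻¹' {AlgSp.Points.mk r}))))) := by
  have hch := chart_noeth_jacobson_fibre f hf r Xk fst snd hsq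
  have hA := isOpen_singleton_iff_isClosed_and Xk.property hch xt
  have hB := isOpen_singleton_iff_hasAt_localDim Xk.property hch xt
  have hC := hasAt_localDim_iff_hasAtMor_qfNear f hf r Xk fst snd hsq x xt hxt
  have hO : IsOpen ({xt} : Set (Points Xk.obj)) ↔ HasAtMor QFNear f.hom x :=
    isOpen_singleton_iff_hasAtMor_qfNear f hf r Xk fst snd hsq x xt hxt
  refine ⟨hA, hB, hC, fun hd => localDim_points_eq_zero_iff Xk.property hch hd xt, ?_, ?_⟩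
  · intro hY
    obtain ⟨r₀, X₀, fst₀, snd₀, hr₀, hsq₀, -, e, he⟩ :=
      exists_homeomorph_fibre f hY (Points.mk r)
    obtain ⟨x₀, hx₀⟩ := e.surjective ⟨x, hx⟩
    have hx₀' : Points.map fst₀.hom x₀ = x := by rw [← he, hx₀]
    have hch₀ := chart_noeth_jacobson_fibre f hf r₀ X₀ fst₀ snd₀ hsq₀
    have hA₀ := isOpen_singleton_iff_isClosed_and X₀.property hch₀ x₀
    have hO₀ : IsOpen ({x₀} : Set (Points X₀.obj)) ↔ HasAtMor QFNear f.hom x :=
      isOpen_singleton_iff_hasAtMor_qfNear f hf r₀ X₀ fst₀ snd₀ hsq₀ x x₀ hx₀'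
    rw [← hx₀]
    constructor
    · rw [isOpen_singleton_homeomorph]
      exact hO₀.trans hO.symm
    · rw [isClosed_singleton_homeomorph, forall_specializes_homeomorph, ← hA₀, ← hA]
      exact hO₀.trans hO.symm
  · intro hY hX
    obtain ⟨r₀, X₀, fst₀, snd₀, hr₀, hsq₀, hdec, e, he⟩ :=
      exists_homeomorph_fibre f hY (Points.mk r)
    obtain ⟨x₀, hx₀⟩ := e.surjective ⟨x, hx⟩
    have hch₀ := chart_noeth_jacobson_fibre f hf r₀ X₀ fst₀ snd₀ hsq₀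
    rw [← hx₀, localDim_homeomorph, isOpen_singleton_homeomorph]
    exact localDim_points_eq_zero_iff X₀.property hch₀ (hdec hX) x₀

end Groth.Agent.H52.FibChart
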