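import Groth.Agent.H52.FibChartD

set_option autoImplicit false
universe u
open CategoryTheory CategoryTheory.Limits AlgebraicGeometry TopologicalSpace Topology

namespace Groth.Agent.H52.FibChart
open AlgSp Groth.Agent.H52.QFAt

variable {S : Scheme.{u}}

theorem topologicalKrullDim_eq_zero_of_discreteTopology (T : Type*) [TopologicalSpace T]
    [Nonempty T] [DiscreteTopology T] : topologicalKrullDim T = 0 :=
  le_antisymm (topologicalKrullDim_zero_of_discreteTopology T)
    (topologicalKrullDim_nonneg_of_nonempty T)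

/-- **S10444.** -/
theorem s10444 {X Y : AlgSp.Space S} (f : X ⟶ Y)
    (hf : AlgSp.LocP @LocallyOfFiniteType f.hom) (r : AlgSp.FieldPt Y.obj)
    (hy : AlgSp.Points.mk r ∈ Set.range (AlgSp.Points.map f.hom)) (Xk : AlgSp.Space S) (fst : Xk ⟶ X)
    (snd : Xk.obj ⟶ (AlgSp.yon S).obj r.pt) (hsq : IsPullback fst.hom snd f.hom r.toHom) :
    (DiscreteTopology (AlgSp.Points Xk.obj) ↔ AlgSp.dim Xk.obj = 0) ∧
    (AlgSp.dim Xk.obj = 0 ↔
      ∀ x : AlgSp.Points X.obj, AlgSp.Points.map f.hom x = AlgSp.Points.mk r → AlgSp.HasAtMor (fun U _ h u => ∃ W : U.Opens, u ∈ W ∧ LocallyQuasiFinite (W.ι ≫ h) ∧ LocallyOfFiniteType (W.ι ≫ h)) f.hom x) ∧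
    (DiscreteTopology (AlgSp.Points Xk.obj) → topologicalKrullDim (AlgSp.Points Xk.obj) = 0) ∧
    (AlgSp.IsDecent Xk.obj → topologicalKrullDim (AlgSp.Points Xk.obj) = 0 →
      DiscreteTopology (AlgSp.Points Xk.obj)) ∧
    (AlgSp.IsDecent Xk.obj → Finite (AlgSp.Points Xk.obj) → DiscreteTopology (AlgSp.Points Xk.obj)) ∧
    (Finite (AlgSp.Points Xk.obj) → (AlgSp.Points.map f.hom ⁻¹' {AlgSp.Points.mk r}).Finite) ∧
    (DiscreteTopology ↥(AlgSp.Points.map f.hom ⁻¹' {AlgSp.Points.mk r}) → topologicalKrullDim ↥(AlgSp.Points.map f.hom ⁻¹' {AlgSp.Points.mk r}) = 0) ∧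
    (AlgSp.IsDecent Y.obj → (DiscreteTopology ↥(AlgSp.Points.map f.hom ⁻¹' {AlgSp.Points.mk r}) ↔ DiscreteTopology (AlgSp.Points Xk.obj))) ∧
    (AlgSp.IsDecent Y.obj → AlgSp.IsDecent X.obj →
      (topologicalKrullDim ↥(AlgSp.Points.map f.hom ⁻¹' {AlgSp.Points.mk r}) = 0 → DiscreteTopology ↥(AlgSp.Points.map f.hom ⁻¹' {AlgSp.Points.mk r})) ∧
        ((AlgSp.Points.map f.hom ⁻¹' {AlgSp.Points.mk r}).Finite → DiscreteTopology ↥(AlgSp.Points.map f.hom ⁻¹' {AlgSp.Points.mk r}))) := by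
  have hch := chart_noeth_jacobson_fibre f hf r Xk fst snd hsq
  have hF := preimage_eq_range_fst f.hom r fst.hom snd hsq
  obtain ⟨x₁, hx₁⟩ := hy
  have hx₁F : x₁ ∈ Points.map f.hom ⁻¹' {Points.mk r} := hx₁
  have hFne : Nonempty ↥(Points.map f.hom ⁻¹' {Points.mk r}) := ⟨⟨x₁, hx₁F⟩⟩
  have hne : Nonempty (Points Xk.obj) := by
    rw [hF] at hx₁F
    obtain ⟨xt, -⟩ := hx₁F
    exact ⟨xt⟩
  have h1 : DiscreteTopology (Points Xk.obj) ↔ AlgSp.dim Xk.obj = 0 :=
    discreteTopology_points_iff_dim_eq_zero Xk.property hch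
  have h2 := discreteTopology_iff_forall_hasAtMor_qfNear f hf r Xk fst snd hsq
  refine ⟨h1, h1.symm.trans h2, ?_, ?_, ?_, ?_, ?_, ?_, ?_⟩
  · intro hd
    exact topologicalKrullDim_eq_zero_of_discreteTopology _
  · intro hd h
    exact discreteTopology_points_of_dim_points_eq_zero Xk.property hch hd h
  · intro hd hfin
    exact h1.2 (dim_eq_zero_of_finite_points Xk.property hch hd hfin)
  · intro hfin
    rw [hF]
    exact Set.finite_range _
  · intro hd
    exact topologicalKrullDim_eq_zero_of_discreteTopology _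
  · intro hY
    obtain ⟨r₀, X₀, fst₀, snd₀, hr₀, hsq₀, -, e, he⟩ :=
      exists_homeomorph_fibre f hY (Points.mk r)
    have h2₀ := discreteTopology_iff_forall_hasAtMor_qfNear f hf r₀ X₀ fst₀ snd₀ hsq₀
    rw [hr₀] at h2₀
    have h3 : DiscreteTopology ↥(Points.map f.hom ⁻¹' {Points.mk r}) ↔
        DiscreteTopology (Points X₀.obj) :=
      ⟨fun _ => e.isEmbedding.discreteTopology, fun _ => e.symm.isEmbedding.discreteTopology⟩
    exact h3.trans (h2₀.trans h2.symm)
  · intro hY hX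
    obtain ⟨r₀, X₀, fst₀, snd₀, hr₀, hsq₀, hdec, e, he⟩ :=
      exists_homeomorph_fibre f hY (Points.mk r)
    have hch₀ := chart_noeth_jacobson_fibre f hf r₀ X₀ fst₀ snd₀ hsq₀
    have hne₀ : Nonempty (Points X₀.obj) := ⟨e.symm ⟨x₁, hx₁F⟩⟩
    have hd₀ := hdec hX
    constructor
    · intro h
      have h' : topologicalKrullDim (Points X₀.obj) = 0 := by
        rw [IsHomeomorph.topologicalKrullDim_eq e e.isHomeomorph]; exact h
      have := discreteTopology_points_of_dim_points_eq_zero X₀.property hch₀ hd₀ h'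
      exact e.symm.isEmbedding.discreteTopology
    · intro hfin
      have hfin' : Finite ↥(Points.map f.hom ⁻¹' {Points.mk r}) := hfin.to_subtype
      have hfin₀ : Finite (Points X₀.obj) := Finite.of_equiv _ e.symm.toEquiv
      have := (discreteTopology_points_iff_dim_eq_zero X₀.property hch₀).2
        (dim_eq_zero_of_finite_points X₀.property hch₀ hd₀ hfin₀)
      exact e.symm.isEmbedding.discreteTopology

end Groth.Agent.H52.FibChart
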