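import Groth.Agent.H22.FibreRank6
import Groth.Agent.H49.AlgSpLocal
import Groth.Agent.H53.Charts
import Groth.Agent.H52.Chart

/-!
# Fibre ranks of a representable morphism to an algebraic space, computed on a chart
-/

set_option autoImplicit false
universe u
open CategoryTheory CategoryTheory.Limits AlgebraicGeometry Opposite

namespace Groth.Agent.H52.FibDeg

open AlgSp Groth.Agent.H22.FibreRank Groth.Agent.H53 Groth.Agent.H52

variable {S : Scheme.{u}} {X : Sp S} {W U Wu : Over S} {w : (yon S).obj W ⟶ X}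
  {a : (yon S).obj U ⟶ X} {p : Wu ⟶ W} {f : Wu ⟶ U}
  (sq : IsPullback ((yon S).map p) ((yon S).map f) w a)

include sq in
/-- The rank of the fibre of a base change of `w` at a field valued point is the degree, computed
on the chart `a`, of any point of the chart over the same point of `X`. -/
theorem le_rk_iff_le_deg (hw : Representable w) (ha : Representable a)
    [LocallyQuasiFinite f.left] {deg : ↥U.left → ℕ} (hdeg : IsDeg f.left deg)
    {T' V : Over S} (η : (yon S).obj T' ⟶ X) (fst' : (yon S).obj V ⟶ (yon S).obj W)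
    (snd' : V ⟶ T') (sqV : IsPullback fst' ((yon S).map snd') w η) [LocallyQuasiFinite snd'.left]
    {K : Type u} [Field K] (k : Spec (.of K) ⟶ T'.left) (u : ↥U.left)
    (hu : Points.ofPt a u = Points.ofPt η (k (ptK K))) (d : ℕ) :
    (d : Cardinal.{u}) ≤ rk snd'.left k ↔ d ≤ deg u := by
  obtain ⟨T'', e₁, e₂, sqT⟩ := exists_pullback_yon η a ha
  obtain ⟨τ, hτ1, hτ2⟩ := exists_pt_of_isPullback_yon sqT (k (ptK K)) u hu.symm
  obtain ⟨V'', s'', q'', sq''⟩ := exists_pullback_yon ((yon S).map e₁ ≫ η) w hw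
  obtain ⟨k1, hk1⟩ := Groth.Agent.H49.exists_isPullback_left_of_isPullback sqV e₁ sq''.flip
  have sq''2 : IsPullback ((yon S).map q'') ((yon S).map s'') w ((yon S).map e₂ ≫ a) := by
    rw [← sqT.w]; exact sq''.flip
  obtain ⟨k2, hk2⟩ := Groth.Agent.H49.exists_isPullback_left_of_isPullback sq e₂ sq''2
  obtain ⟨K', _, h, hpt⟩ := exists_fieldPoint τ
  have e1 : rk snd'.left (h ≫ e₁.left) = rk s''.left h := rk_of_isPullback_comp hk1 h
  have e2 : rk f.left (h ≫ e₂.left) = rk s''.left h := rk_of_isPullback_comp hk2 h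
  have e3 : rk f.left (h ≫ e₂.left) = (deg u : Cardinal.{u}) := by
    rw [hdeg.rk_eq, Scheme.Hom.comp_apply, hpt, hτ2]
  have e4 : k (ptK K) = (h ≫ e₁.left) (ptK K') := by
    rw [Scheme.Hom.comp_apply, hpt, hτ1]
  rw [le_rk_iff_of_eq snd'.left k (h ≫ e₁.left) e4 d, e1, ← e2, e3, Nat.cast_le]

end Groth.Agent.H52.FibDeg
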