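import Groth.Agent.H52.FibDegA
import Groth.Agent.H50.Submersive
import Groth.Agent.H51.SpBasic
import Groth.Prelude.Def_W4decUnivBdd
import Groth.Prelude.Def_AlgSpMor5

/-!
# The stratification of an algebraic space by the degree of the fibres of a flat, separated,
locally quasi-finite morphism with universally bounded fibres
-/

set_option autoImplicit false
universe u
open CategoryTheory CategoryTheory.Limits AlgebraicGeometry Opposite

namespace Groth.Agent.H52.FibDeg

open AlgSp Groth.Agent.H22.FibreRank Groth.Agent.H53 Groth.Agent.H52 Groth.Agent.H51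

variable {S : Scheme.{u}}

/-- The fibre ranks on a chart of a morphism with universally bounded fibres are bounded. -/
theorem rk_le_of_degFibresLE {X : Sp S} {W U Wu : Over S} {w : (yon S).obj W ⟶ X}
    {a : (yon S).obj U ⟶ X} {p : Wu ⟶ W} {f : Wu ⟶ U}
    (sq : IsPullback ((yon S).map p) ((yon S).map f) w a) (n : ℕ) (hn : W4dec.DegFibresLE n w)
    {K : Type u} [Field K] (g : Spec (.of K) ⟶ U.left) : rk f.left g ≤ (n : Cardinal.{u}) := by
  let str : Spec (.of K) ⟶ S := g ≫ U.hom
  let ĝ : Over.mk str ⟶ U := Over.homMk g rfl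
  let q : FieldPt X := fieldPtOfHom str ((yon S).map ĝ ≫ a)
  have sq0 : IsPullback (pullback.snd f.left g) (pullback.fst f.left g) g f.left :=
    (IsPullback.of_hasPullback f.left g).flip
  have sqO := Groth.Agent.H50.isPullback_over_of_left f (pullback.fst f.left g) g
    (pullback.snd f.left g) sq0
  have sqY := sqO.map (yon S)
  have sqP := sqY.flip.paste_horiz sq
  have hq : q.toHom = (yon S).map ĝ ≫ a := toHom_fieldPtOfHom _ _
  obtain ⟨hfin, hrank⟩ := hn q _ _ _ (hq ▸ sqP.flip)
  have hfin' : IsFinite (pullback.snd f.left g) := hfin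
  unfold rk
  rw [rkK_eq_finrank _ (ptK K)]
  exact_mod_cast hrank (ptK K)

/-- **The stratification by fibre degree.** -/
theorem exists_stratification {X : Sp S} (hX : IsAlgSpace X) {W : Over S}
    (w : (yon S).obj W ⟶ X) (hfl : RepWith @Flat w)
    (hfp : RepWith @LocallyOfFinitePresentation w) (hsep : RepWith @IsSeparated w)
    (hqf : RepWith @LocallyQuasiFinite w) (hb : W4dec.HasUnivBddFibres w) :
    ∃ (n : ℕ) (E : ℕ → Set (Points X)), (∀ r, IsClosed (E r)) ∧ E 0 = ∅ ∧
      E (n + 1) = Set.univ ∧ (∀ r, E r ⊆ E (r + 1)) ∧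
      ∀ (r : ℕ) (T : Sp S) (g : T ⟶ X) (P : Sp S) (fst : P ⟶ (yon S).obj W) (snd : P ⟶ T),
        IsPullback fst snd w g →
          (IsFinLocFreeOfDegMor r snd ↔ Set.range (Points.map g) ⊆ E (r + 1) \ E r) := by
  classical
  obtain ⟨n, hn⟩ := hb
  obtain ⟨U, a, hae, has⟩ := hX.atlas
  obtain ⟨Wu, f, p, sq'⟩ := exists_pullback_yon a w hfl.rep
  have sq : IsPullback ((yon S).map p) ((yon S).map f) w a := sq'.flip
  have i1 : Flat f.left := prop_of_isPullback_yon sq' hfl
  have i2 : LocallyOfFinitePresentation f.left := prop_of_isPullback_yon sq' hfp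
  have i3 : IsSeparated f.left := prop_of_isPullback_yon sq' hsep
  have i4 : LocallyQuasiFinite f.left := prop_of_isPullback_yon sq' hqf
  obtain ⟨deg, hle, hdeg⟩ := exists_isDeg_of_le f.left n
    (fun K _ g => rk_le_of_degFibresLE sq n hn g)
  -- the rank of the fibres of any base change of `w`
  have hB : ∀ {T' V : Over S} (η : (yon S).obj T' ⟶ X) (fst' : (yon S).obj V ⟶ (yon S).obj W)
      (snd' : V ⟶ T') (_ : IsPullback fst' ((yon S).map snd') w η) {K : Type u} [Field K]
      (k : Spec (.of K) ⟶ T'.left) (u : ↥U.left)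
      (_ : Points.ofPt a u = Points.ofPt η (k (ptK K))),
      rk snd'.left k = (deg u : Cardinal.{u}) := by
    intro T' V η fst' snd' sqV K _ k u hu
    have : LocallyQuasiFinite snd'.left := hqf.property η fst' snd' sqV
    exact card_eq_of_forall_le_iff fun d =>
      le_rk_iff_le_deg sq hfl.rep hae.rep hdeg η fst' snd' sqV k u hu d
  -- invariance of the degree
  have hinv : ∀ u₁ u₂ : ↥U.left, Points.ofPt a u₁ = Points.ofPt a u₂ → deg u₁ = deg u₂ := by
    intro u₁ u₂ h
    obtain ⟨K, _, k, hk⟩ := exists_fieldPoint u₂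
    have h1 := hB a ((yon S).map p) f sq k u₁ (by rw [hk]; exact h)
    rw [hdeg.rk_eq, hk] at h1
    exact_mod_cast h1.symm
  let E : ℕ → Set (Points X) := fun r => {x | ∃ u, Points.ofPt a u = x ∧ deg u < r}
  have hE : ∀ r u, Points.ofPt a u ∈ E r ↔ deg u < r := by
    intro r u
    constructor
    · rintro ⟨u', hu', hd⟩
      rwa [← hinv u' u hu']
    · intro h
      exact ⟨u, rfl, h⟩
  have hEd : ∀ r u, Points.ofPt a u ∈ E (r + 1) \ E r ↔ deg u = r := by
    intro r u
    rw [Set.mem_sdiff, hE, hE]
    omega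
  refine ⟨n, E, ?_, ?_, ?_, ?_, ?_⟩
  · intro r
    have hc : (E r)ᶜ = Points.ofPt a '' (Big f.left r) := by
      ext x
      obtain ⟨u, rfl⟩ := ofPt_surjective_of_repWith_surjective a has x
      rw [Set.mem_compl_iff, hE]
      constructor
      · intro h
        exact ⟨u, (hdeg.mem_iff u r).2 (by omega), rfl⟩
      · rintro ⟨u', hu', h⟩
        have := (hdeg.mem_iff u' r).1 hu'
        rw [hinv u' u h] at this
        omega
    rw [← isOpen_compl_iff, hc]
    exact isOpenMap_ofPt_of_repWith_etale a hae _ (isOpen_Big r f.left)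
  · ext x
    simp only [Set.mem_empty_iff_false, iff_false]
    rintro ⟨u, -, h⟩
    omega
  · rw [Set.eq_univ_iff_forall]
    intro x
    obtain ⟨u, rfl⟩ := ofPt_surjective_of_repWith_surjective a has x
    exact (hE _ u).2 (Nat.lt_succ_of_le (hle u))
  · rintro r x ⟨u, hu, h⟩
    exact ⟨u, hu, by omega⟩
  · intro r T g P fst snd hP
    constructor
    · intro h x hx
      obtain ⟨z, rfl⟩ := hx
      obtain ⟨T', ξ, t, rfl⟩ := exists_ofPt_eq T z
      have sqξ := h.rep.isPullback ξ
      have sqV := sqξ.paste_horiz hP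
      obtain ⟨⟨hfin, hflat, hlfp⟩, hrank⟩ := h.property ξ _ _ sqξ
      have : IsFinite (h.rep.snd ξ).left := hfin
      have : Flat (h.rep.snd ξ).left := hflat
      obtain ⟨K, _, k, hk⟩ := exists_fieldPoint t
      obtain ⟨u, hu⟩ := ofPt_surjective_of_repWith_surjective a has (Points.ofPt (ξ ≫ g) t)
      have h1 := hB (ξ ≫ g) _ _ sqV k u (by rw [hk]; exact hu)
      rw [rk_eq_finrank _ k (ptK K)] at h1
      have h2 : (h.rep.snd ξ).left.finrank (k (ptK K)) = r := hrank _
      rw [h2] at h1
      rw [Points.map_ofPt, ← hu, hEd]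
      exact_mod_cast h1.symm
    · intro hsub
      have hrep : Representable snd :=
        MorphismProperty.of_isPullback (P := Representable) hP hfl.rep
      refine ⟨hrep, ?_⟩
      intro T' V ξ fst₁ snd' sqξ
      have sqV := sqξ.paste_horiz hP
      have j1 : Flat snd'.left := hfl.property _ _ _ sqV
      have j2 : LocallyOfFinitePresentation snd'.left := hfp.property _ _ _ sqV
      have j3 : IsSeparated snd'.left := hsep.property _ _ _ sqV
      have j4 : LocallyQuasiFinite snd'.left := hqf.property _ _ _ sqV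
      have hr : HasRank snd'.left r := by
        intro K _ k
        obtain ⟨u, hu⟩ := ofPt_surjective_of_repWith_surjective a has
          (Points.ofPt (ξ ≫ g) (k (ptK K)))
        rw [hB (ξ ≫ g) _ _ sqV k u hu]
        have hmem : Points.ofPt a u ∈ E (r + 1) \ E r := by
          apply hsub
          rw [hu, ← Points.map_ofPt]
          exact ⟨_, rfl⟩
        rw [(hEd r u).1 hmem]
      have hfin : IsFinite snd'.left := isFinite_of_hasRank r _ hr
      change Mor2.IsFinLocFreeOfDeg r snd'.left
      refine ⟨⟨hfin, j1, j2⟩, fun y => ?_⟩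
      obtain ⟨K, _, k, hk⟩ := exists_fieldPoint (S := T'.left) y
      have h1 := rk_eq_finrank snd'.left k (ptK K)
      rw [hr K k] at h1
      rw [← hk]
      exact_mod_cast h1.symm

end Groth.Agent.H52.FibDeg
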