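import Groth.Agent.H52.FieldStalks
import Groth.Agent.H52.Residual
import Groth.Agent.H51.SpBasic
import Mathlib.RingTheory.KrullDimension.Zero

set_option autoImplicit false
universe u
open CategoryTheory CategoryTheory.Limits AlgebraicGeometry Opposite TopologicalSpace

namespace Groth.Agent.H52

open AlgSp

variable {S : Scheme.{u}}

/-- **Core lemma.**  If an algebraic space receives a flat surjective morphism from the spectrum of a field,
the local rings of every scheme etale over it are fields. -/
theorem isField_stalk_of_field_cover {Z : Sp S} (hZ : IsAlgSpace Z) {k : Type u} [Field k]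
    (str : Spec (CommRingCat.of k) ⟶ S) (p : (yon S).obj (Over.mk str) ⟶ Z) (hpf : LocP @Flat p)
    (hps : IsSurjectiveMor p) {V : Over S} (b : (yon S).obj V ⟶ Z) (hb : RepWith @Etale b)
    (v : ↥V.left) : IsField (V.left.presheaf.stalk v) := by
  have sq := hb.rep.isPullback p
  obtain ⟨a, ha⟩ := (yon S).map_surjective (hb.rep.fst p)
  rw [← ha] at sq
  have het : Etale (hb.rep.snd p).left := hb.property _ _ _ sq
  have hflat : Flat a.left :=
    hpf ((yon S).map (hb.rep.snd p)) b a ((repWith_yon_map_iff @Etale _).2 het) hb sq.w.symm
  have hrep := hZ.representable_from_yon p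
  have hsurj : Surjective a.left :=
    (Groth.Agent.H53.repWith_surjective_of_points_surjective p hrep hps).property _ _ _ sq.flip
  obtain ⟨w, rfl⟩ := hsurj.surj v
  have hW : IsField ((hb.rep.pullback p).left.presheaf.stalk w) :=
    isField_stalk_of_etale_field (hb.rep.snd p).left w
  exact isField_of_flat_of_isLocalHom_of_isField hW (a.left.stalkMap w).hom
    ((Flat.iff_flat_stalkMap a.left).1 hflat w)

/-- If an algebraic space receives a flat surjective morphism from the spectrum of a field, every morphism
from a scheme to it is flat. -/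
theorem locP_flat_of_field_cover {Z : Sp S} (hZ : IsAlgSpace Z) {k : Type u} [Field k]
    (str : Spec (CommRingCat.of k) ⟶ S) (p : (yon S).obj (Over.mk str) ⟶ Z) (hpf : LocP @Flat p)
    (hps : IsSurjectiveMor p) {F : Sp S} (q : F ⟶ Z) : LocP @Flat q := by
  intro U V a b h ha hb hcomm
  exact flat_of_isField_stalk h.left fun x =>
    isField_stalk_of_field_cover hZ str p hpf hps b hb _

/-- If an algebraic space receives a surjective morphism from the spectrum of a field, it has exactly one
point. -/
theorem subsingleton_points_of_field_cover {Z : Sp S} {k : Type u} [Field k]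
    (str : Spec (CommRingCat.of k) ⟶ S) (p : (yon S).obj (Over.mk str) ⟶ Z)
    (hps : IsSurjectiveMor p) : Subsingleton (Points Z) := by
  refine ⟨fun x y => ?_⟩
  obtain ⟨x', rfl⟩ := hps x
  obtain ⟨y', rfl⟩ := hps y
  rw [Subsingleton.elim x' y']

/-- A nonempty reduced scheme has a point whose local ring is a field. -/
theorem exists_isField_stalk_of_isReduced (U : Scheme.{u}) [IsReduced U] (u : U) :
    ∃ η : U, IsField (U.presheaf.stalk η) := by
  obtain ⟨η, -, hη⟩ := Groth.Agent.H51.exists_mem_ringKrullDim_stalk_eq_zero U ⊤ u trivial
  have h0 : Ring.KrullDimLE 0 (U.presheaf.stalk η) := by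
    rw [Ring.krullDimLE_iff, hη]; rfl
  exact ⟨η, Ring.KrullDimLE.isField_of_isReduced⟩

/-- The residue field point at a point whose local ring is a field is flat. -/
theorem flat_ofPtHom_of_isField {F : Sp S} {U : Over S} (a : (yon S).obj U ⟶ F) (η : ↥U.left)
    (hη : IsField (U.left.presheaf.stalk η)) : Flat (ofPtHom a η).left := by
  refine flat_of_isField_stalk _ fun x => ?_
  rw [ofPtHom_left_apply]
  exact hη

/-- A reduced algebraic space with exactly one point receives a flat surjective morphism from the
spectrum of a field: the residue field point of a chart at a point whose local ring is a field. -/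
theorem exists_flat_surjective_of_reduced {Z : Sp S} {U : Over S} (a : (yon S).obj U ⟶ Z)
    (ha : RepWith @Etale a) [IsReduced U.left] (u : ↥U.left) [Subsingleton (Points Z)] :
    ∃ η : ↥U.left, IsField (U.left.presheaf.stalk η) ∧ LocP @Flat (FieldPt.ofPt a η).toHom ∧
      IsSurjectiveMor (FieldPt.ofPt a η).toHom := by
  obtain ⟨η, hη⟩ := exists_isField_stalk_of_isReduced U.left u
  have hG := Groth.Agent.H50.goodClass_flat.{u}
  refine ⟨η, hη, ?_, fun z => ?_⟩
  · rw [toHom_ofPt']
    exact hG.locP_comp (IsAlgSpace.yon_obj U) _ _
      (hG.locP_yon_map _ (flat_ofPtHom_of_isField a η hη)) (hG.locP_of_repWith_etale a ha)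
  · obtain ⟨y⟩ := nonempty_points_spec_field (S := S) (FieldPt.ofPt a η).str
    exact ⟨y, Subsingleton.elim _ _⟩

/-- An algebraic space receiving a flat surjective morphism from the spectrum of a field is reduced: all
its etale charts are reduced schemes. -/
theorem isReduced_of_field_cover {Z : Sp S} (hZ : IsAlgSpace Z) {k : Type u} [Field k]
    (str : Spec (CommRingCat.of k) ⟶ S) (p : (yon S).obj (Over.mk str) ⟶ Z) (hpf : LocP @Flat p)
    (hps : IsSurjectiveMor p) {V : Over S} (b : (yon S).obj V ⟶ Z) (hb : RepWith @Etale b) :
    IsReduced V.left := by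
  have : ∀ v : ↥V.left, _root_.IsReduced (V.left.presheaf.stalk v) := fun v => by
    let _ := (isField_stalk_of_field_cover hZ str p hpf hps b hb v).toField
    infer_instance
  exact isReduced_of_isReduced_stalk V.left

end Groth.Agent.H52
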