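import Groth.Agent.H52.FieldStalks
import Mathlib.RingTheory.LocalProperties.Basic
import Mathlib.AlgebraicGeometry.ResidueField
import Mathlib.AlgebraicGeometry.Stalk
import Mathlib.AlgebraicGeometry.Morphisms.FinitePresentation
import Mathlib.AlgebraicGeometry.Noetherian

set_option autoImplicit false
universe u
open CategoryTheory CategoryTheory.Limits AlgebraicGeometry Opposite TopologicalSpace

namespace Groth.Agent.H52

/-- In a ring all of whose localizations at maximal ideals are fields, every element `s` is a multiple of
`s * s` (the ring is von Neumann regular). -/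
theorem mem_span_mul_self_of_isField_localization {A : Type u} [CommRing A]
    (h : ∀ (m : Ideal A) [m.IsMaximal], IsField (Localization.AtPrime m)) (s : A) :
    s ∈ Ideal.span {s * s} := by
  refine Ideal.mem_of_localization_maximal fun m hm => ?_
  rw [Ideal.map_span, Set.image_singleton, map_mul]
  by_cases h0 : algebraMap A (Localization.AtPrime m) s = 0
  · rw [h0]; exact Ideal.zero_mem _
  · let _ := (h m).toField
    have hu : IsUnit (algebraMap A (Localization.AtPrime m) s) := isUnit_iff_ne_zero.2 h0
    rw [Ideal.span_singleton_eq_top.2 (hu.mul hu)]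
    trivial

/-- In a ring all of whose localizations at maximal ideals are fields, the localization maps at primes are
surjective. -/
theorem surjective_algebraMap_of_isField_localization {A : Type u} [CommRing A]
    (h : ∀ (m : Ideal A) [m.IsMaximal], IsField (Localization.AtPrime m)) (p : Ideal A) [p.IsPrime]
    (L : Type u) [CommRing L] [Algebra A L] [IsLocalization.AtPrime L p] :
    Function.Surjective (algebraMap A L) := by
  intro x
  obtain ⟨a, s, rfl⟩ := IsLocalization.exists_mk'_eq p.primeCompl x
  obtain ⟨t, ht⟩ := Ideal.mem_span_singleton'.1 (mem_span_mul_self_of_isField_localization h (s : A))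
  refine ⟨a * t, ?_⟩
  rw [IsLocalization.eq_mk'_iff_mul_eq, map_mul, mul_assoc]
  have hu : IsUnit (algebraMap A L (s : A)) := IsLocalization.map_units L s
  have h1 : algebraMap A L t * algebraMap A L (s : A) = 1 := by
    have h2 : algebraMap A L t * (algebraMap A L (s : A) * algebraMap A L (s : A)) =
        algebraMap A L (s : A) := by
      rw [← map_mul, ← map_mul, ht]
    have h3 : (algebraMap A L t * algebraMap A L (s : A)) * algebraMap A L (s : A) =
        1 * algebraMap A L (s : A) := by rw [mul_assoc, h2, one_mul]
    exact hu.mul_right_cancel h3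
  rw [h1, mul_one]

variable {V : Scheme.{u}}

/-- In a scheme all of whose local rings are fields, the germ maps from affine opens are surjective. -/
theorem germ_surjective_of_isField_stalk (hV : ∀ v : V, IsField (V.presheaf.stalk v))
    {U : V.Opens} (hU : IsAffineOpen U) (v : V) (hv : v ∈ U) :
    Function.Surjective (V.presheaf.germ U v hv).hom := by
  let _ : Algebra Γ(V, U) (V.presheaf.stalk v) :=
    TopCat.Presheaf.algebra_section_stalk V.presheaf (⟨v, hv⟩ : U)
  have hloc : IsLocalization.AtPrime (V.presheaf.stalk v) (hU.primeIdealOf ⟨v, hv⟩).asIdeal :=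
    hU.isLocalization_stalk ⟨v, hv⟩
  have hmax : ∀ (m : Ideal Γ(V, U)) [m.IsMaximal], IsField (Localization.AtPrime m) := by
    intro m hm
    have hy : hU.fromSpec (⟨m, hm.isPrime⟩ : PrimeSpectrum Γ(V, U)) ∈ U := by
      have : hU.fromSpec (⟨m, hm.isPrime⟩ : PrimeSpectrum Γ(V, U)) ∈ Set.range hU.fromSpec :=
        ⟨_, rfl⟩
      rw [hU.range_fromSpec] at this
      exact this
    let _ : Algebra Γ(V, U) (V.presheaf.stalk (hU.fromSpec (⟨m, hm.isPrime⟩ : PrimeSpectrum Γ(V, U)))) :=
      TopCat.Presheaf.algebra_section_stalk V.presheaf
        (⟨hU.fromSpec (⟨m, hm.isPrime⟩ : PrimeSpectrum Γ(V, U)), hy⟩ : U)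
    have hloc' : IsLocalization.AtPrime
        (V.presheaf.stalk (hU.fromSpec (⟨m, hm.isPrime⟩ : PrimeSpectrum Γ(V, U)))) m :=
      hU.isLocalization_stalk' ⟨m, hm.isPrime⟩ hy
    exact (IsLocalization.algEquiv m.primeCompl (Localization.AtPrime m)
      (V.presheaf.stalk (hU.fromSpec (⟨m, hm.isPrime⟩ : PrimeSpectrum Γ(V, U))))).toRingEquiv.toMulEquiv.isField
      (hV _)
  exact surjective_algebraMap_of_isField_localization hmax (hU.primeIdealOf ⟨v, hv⟩).asIdeal
    (V.presheaf.stalk v)

/-- In a scheme all of whose local rings are fields, the residue field points are locally of finite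
type. -/
theorem locallyOfFiniteType_fromSpecResidueField_of_isField_stalk
    (hV : ∀ v : V, IsField (V.presheaf.stalk v)) (v : V) :
    LocallyOfFiniteType (V.fromSpecResidueField v) := by
  obtain ⟨U, hU, hv, -⟩ := exists_isAffineOpen_mem_and_subset (x := v) (U := ⊤) trivial
  have h1 : LocallyOfFiniteType (Spec.map (V.residue v)) := by
    rw [HasRingHomProperty.Spec_iff (P := @LocallyOfFiniteType)]
    exact RingHom.FiniteType.of_surjective _ (V.residue_surjective v)
  have h2 : LocallyOfFiniteType (Spec.map (V.presheaf.germ U v hv)) := by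
    rw [HasRingHomProperty.Spec_iff (P := @LocallyOfFiniteType)]
    exact RingHom.FiniteType.of_surjective _ (germ_surjective_of_isField_stalk hV hU v hv)
  have h3 : LocallyOfFiniteType (V.fromSpecStalk v) := by
    rw [← hU.fromSpecStalk_eq_fromSpecStalk hv, IsAffineOpen.fromSpecStalk]
    infer_instance
  rw [Scheme.fromSpecResidueField]
  infer_instance

/-- In a locally Noetherian scheme all of whose local rings are fields, the residue field points are
locally of finite presentation. -/
theorem locallyOfFinitePresentation_fromSpecResidueField_of_isField_stalk [IsLocallyNoetherian V]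
    (hV : ∀ v : V, IsField (V.presheaf.stalk v)) (v : V) :
    LocallyOfFinitePresentation (V.fromSpecResidueField v) := by
  rw [LocallyOfFinitePresentation.iff_locallyOfFiniteType]
  exact locallyOfFiniteType_fromSpecResidueField_of_isField_stalk hV v

end Groth.Agent.H52
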