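import Groth.Agent.H52.FieldCover
import Groth.Agent.H52.FieldStalksFT
import Groth.Agent.H7.NoetherianDescent

set_option autoImplicit false
universe u
open CategoryTheory CategoryTheory.Limits AlgebraicGeometry Opposite TopologicalSpace

namespace Groth.Agent.H52

open AlgSp

variable {S : Scheme.{u}}

/-- If an algebraic space receives a flat surjective morphism from the spectrum of a field, the residue
field point at any point of any etale chart is locally of finite type, flat and surjective. -/
theorem lft_flat_surjective_ofPt_of_field_cover {Z : Sp S} (hZ : IsAlgSpace Z) {k : Type u} [Field k]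
    (str : Spec (CommRingCat.of k) ⟶ S) (p : (yon S).obj (Over.mk str) ⟶ Z) (hpf : LocP @Flat p)
    (hps : IsSurjectiveMor p) {V : Over S} (b : (yon S).obj V ⟶ Z) (hb : RepWith @Etale b)
    (v : ↥V.left) :
    LocP @LocallyOfFiniteType (FieldPt.ofPt b v).toHom ∧ LocP @Flat (FieldPt.ofPt b v).toHom ∧
      IsSurjectiveMor (FieldPt.ofPt b v).toHom := by
  have hG := Groth.Agent.H50.goodClass_lft.{u}
  have hfield := fun v' => isField_stalk_of_field_cover hZ str p hpf hps b hb v'
  refine ⟨?_, locP_flat_of_field_cover hZ str p hpf hps _, fun z => ?_⟩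
  · rw [toHom_ofPt']
    refine hG.locP_comp (IsAlgSpace.yon_obj V) _ _ (hG.locP_yon_map _ ?_)
      (hG.locP_of_repWith_etale b hb)
    change LocallyOfFiniteType (V.left.fromSpecResidueField v)
    exact locallyOfFiniteType_fromSpecResidueField_of_isField_stalk hfield v
  · have := subsingleton_points_of_field_cover str p hps
    obtain ⟨y⟩ := nonempty_points_spec_field (S := S) (FieldPt.ofPt b v).str
    exact ⟨y, Subsingleton.elim _ _⟩

/-- Same with "locally of finite presentation" for a locally Noetherian chart. -/
theorem lfp_ofPt_of_field_cover {Z : Sp S} (hZ : IsAlgSpace Z) {k : Type u} [Field k]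
    (str : Spec (CommRingCat.of k) ⟶ S) (p : (yon S).obj (Over.mk str) ⟶ Z) (hpf : LocP @Flat p)
    (hps : IsSurjectiveMor p) {V : Over S} (b : (yon S).obj V ⟶ Z) (hb : RepWith @Etale b)
    [IsLocallyNoetherian V.left] (v : ↥V.left) :
    LocP @LocallyOfFinitePresentation (FieldPt.ofPt b v).toHom := by
  have hG := Groth.Agent.H50.goodClass_lfp.{u}
  have hfield := fun v' => isField_stalk_of_field_cover hZ str p hpf hps b hb v'
  rw [toHom_ofPt']
  refine hG.locP_comp (IsAlgSpace.yon_obj V) _ _ (hG.locP_yon_map _ ?_)
    (hG.locP_of_repWith_etale b hb)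
  change LocallyOfFinitePresentation (V.left.fromSpecResidueField v)
  exact locallyOfFinitePresentation_fromSpecResidueField_of_isField_stalk hfield v

/-- If an algebraic space receives a flat, locally finitely presented, surjective morphism from the
spectrum of a field, every scheme etale over it is locally Noetherian. -/
theorem isLocallyNoetherian_of_field_cover {Z : Sp S} (hZ : IsAlgSpace Z) {k : Type u} [Field k]
    (str : Spec (CommRingCat.of k) ⟶ S) (p : (yon S).obj (Over.mk str) ⟶ Z)
    (hpp : LocP @LocallyOfFinitePresentation p) (hpf : LocP @Flat p)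
    (hps : IsSurjectiveMor p) {V : Over S} (b : (yon S).obj V ⟶ Z) (hb : RepWith @Etale b) :
    IsLocallyNoetherian V.left := by
  have sq := hb.rep.isPullback p
  obtain ⟨a, ha⟩ := (yon S).map_surjective (hb.rep.fst p)
  rw [← ha] at sq
  have het : Etale (hb.rep.snd p).left := hb.property _ _ _ sq
  have hflat : Flat a.left :=
    hpf ((yon S).map (hb.rep.snd p)) b a ((repWith_yon_map_iff @Etale _).2 het) hb sq.w.symm
  have hlfp : LocallyOfFinitePresentation a.left :=
    hpp ((yon S).map (hb.rep.snd p)) b a ((repWith_yon_map_iff @Etale _).2 het) hb sq.w.symm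
  have hrep := hZ.representable_from_yon p
  have hsurj : Surjective a.left :=
    (Groth.Agent.H53.repWith_surjective_of_points_surjective p hrep hps).property _ _ _ sq.flip
  have hN0 : IsLocallyNoetherian (Over.mk str).left := by
    change IsLocallyNoetherian (Spec (CommRingCat.of k))
    infer_instance
  have hN : IsLocallyNoetherian (hb.rep.pullback p).left :=
    LocallyOfFiniteType.isLocallyNoetherian (hb.rep.snd p).left
  exact Groth.Agent.H7.isLocallyNoetherian_of_flat_surjective_isOpenMap a.left a.left.isOpenMap

end Groth.Agent.H52
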