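import Groth.Agent.H52.SymQuotG
import Groth.Agent.H52.EtDegD
import Groth.Agent.H52.MonoPoint
import Groth.Agent.H52.Special

/-!
# Elementary etale neighbourhoods on decent algebraic spaces
-/

set_option autoImplicit false
universe u
open CategoryTheory CategoryTheory.Limits AlgebraicGeometry Opposite

namespace Groth.Agent.H52.SymQuot

open AlgSp Groth.Agent.H53 Groth.Agent.H52 Groth.Agent.H52.EtDeg

variable {S : Scheme.{u}} {X : Sp S} {U R : Over S} {e : (yon S).obj U ⟶ X} {t s : R ⟶ U}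
  (sq : IsPullback ((yon S).map t) ((yon S).map s) e e) {n : ℕ} {W : Over S}
  {ρ : Fin (n + 1) → (W ⟶ U)} {M : Over S} {m : W ⟶ M} {b : (yon S).obj M ⟶ X}

include sq in
/-- Every point of the chart lies in the first stratum of the relation. -/
theorem mem_strat_one (u₀ : ↥U.left) : u₀ ∈ Strat s.left 1 := by
  obtain ⟨δ, -, hδs⟩ := exists_diag sq
  refine ⟨U.left.residueField u₀, inferInstance, U.left.fromSpecResidueField u₀,
    {U.left.fromSpecResidueField u₀ ≫ δ.left}, U.left.fromSpecResidueField_apply u₀ _, ?_, by simp⟩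
  intro x hx
  rw [Finset.mem_singleton.1 hx, Category.assoc, ← Over.comp_left, hδs]
  exact Category.comp_id _

include sq in
/-- **Key property, for arbitrary test schemes.** -/
theorem eq_of_comp_eq_of_notMem_strat' (he : RepWith @Etale e) (hbe : RepWith @Etale b)
    (hW : IsTuple e n W ρ) (hmsurj : Surjective m.left)
    (hb : (yon S).map m ≫ b = (yon S).map (ρ 0) ≫ e)
    (hmrel : ∀ (T : Over S) (a a' : T ⟶ W), a ≫ m = a' ≫ m ↔ TRel e ρ a a')
    (u₀ : ↥U.left) (hnot : u₀ ∉ Strat s.left (n + 2))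
    {T : Over S} (v₁ v₂ : T ⟶ M) (h : (yon S).map v₁ ≫ b = (yon S).map v₂ ≫ b)
    (hx : ∀ τ : ↥T.left, Points.ofPt b (v₁.left τ) = Points.ofPt e u₀) : v₁ = v₂ := by
  refine eq_of_forall_agreeAt b hbe v₁ v₂ h fun τ => ?_
  have key := eq_of_comp_eq_of_notMem_strat sq he hW hmsurj hb hmrel u₀ hnot
    (T.left.fromSpecResidueField τ ≫ T.hom) (ptHom T τ ≫ v₁) (ptHom T τ ≫ v₂)
    (by rw [Functor.map_comp, Functor.map_comp, Category.assoc, Category.assoc, h])
    (by
      rw [Over.comp_left, Scheme.Hom.comp_apply]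
      change Points.ofPt b (v₁.left (T.left.fromSpecResidueField τ _)) = _
      rw [Scheme.fromSpecResidueField_apply]
      exact hx τ)
  have := congrArg (fun g => g.left) key
  simp only [Over.comp_left] at this
  exact this

include sq in
/-- On a decent algebraic space, the symmetric quotient of the exact degree is an elementary etale
neighbourhood with a single point over `x`. -/
theorem exists_unique_point (hX : IsAlgSpace X) (he : RepWith @Etale e)
    (hbe : RepWith @Etale b)
    (hW : IsTuple e n W ρ) (hmsurj : Surjective m.left)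
    (hb : (yon S).map m ≫ b = (yon S).map (ρ 0) ≫ e)
    (hmrel : ∀ (T : Over S) (a a' : T ⟶ W), a ≫ m = a' ≫ m ↔ TRel e ρ a a')
    (u₀ : ↥U.left) (hmem : u₀ ∈ Strat s.left (n + 1)) (hnot : u₀ ∉ Strat s.left (n + 2))
    (p : FieldPt X) (hp : Points.mk p = Points.ofPt e u₀) (hm : Mono p.toHom) :
    ∃ l : p.pt ⟶ M, (yon S).map l ≫ b = p.toHom ∧
      ∀ v' : ↥M.left, Points.ofPt b v' = Points.ofPt e u₀ →
        v' = l.left (IsLocalRing.closedPoint p.K) := by
  have hprep : Representable p.toHom := hX.representable_from_yon _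
  obtain ⟨v, hv⟩ := exists_point_of_mem_strat sq hW hb u₀ hmem
  -- the fibre of `M` over the point
  obtain ⟨G, γ, β, sqG⟩ := exists_pullback_yon b p.toHom hprep
  have hβe : Etale β.left := prop_of_isPullback_yon sqG.flip hbe
  have hGpt : ∀ g : ↥G.left, Points.ofPt b (γ.left g) = Points.ofPt e u₀ := by
    intro g
    rw [← hp, ← Points.ofPt_toHom p (β.left g)]
    exact (ofPt_eq_iff_of_isPullback sqG _ _).2 ⟨g, rfl, rfl⟩
  have hβm : Mono β.left := by
    refine ⟨fun {Z} g₁ g₂ hg => ?_⟩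
    let T : Over S := Over.mk (g₁ ≫ G.hom)
    let ĝ₁ : T ⟶ G := Over.homMk g₁ rfl
    have hw2 : g₂ ≫ G.hom = g₁ ≫ G.hom := by
      rw [← Over.w β, ← Category.assoc, ← hg, Category.assoc]
    let ĝ₂ : T ⟶ G := Over.homMk g₂ hw2
    have hβ' : ĝ₁ ≫ β = ĝ₂ ≫ β := by ext; exact hg
    have h1 : (yon S).map (ĝ₁ ≫ γ) ≫ b = (yon S).map (ĝ₂ ≫ γ) ≫ b := by
      rw [Functor.map_comp, Functor.map_comp, Category.assoc, Category.assoc, sqG.w,
        ← Category.assoc, ← Category.assoc, ← Functor.map_comp, ← Functor.map_comp, hβ']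
    have h2 : ĝ₁ ≫ γ = ĝ₂ ≫ γ :=
      eq_of_comp_eq_of_notMem_strat' sq he hbe hW hmsurj hb hmrel u₀ hnot _ _ h1 (fun τ => by
        rw [Over.comp_left, Scheme.Hom.comp_apply]
        exact hGpt _)
    have h3 : (yon S).map ĝ₁ = (yon S).map ĝ₂ := by
      apply sqG.hom_ext
      · rw [← Functor.map_comp, ← Functor.map_comp, h2]
      · rw [← Functor.map_comp, ← Functor.map_comp, hβ']
    exact congrArg (fun g => g.left) ((yon S).map_injective h3)
  obtain ⟨g₀, -, -⟩ := exists_pt_of_isPullback_yon sqG v (IsLocalRing.closedPoint p.K)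
    (by rw [hv, ← hp, Points.ofPt_toHom])
  have hne : Nonempty ↥G.left := ⟨g₀⟩
  have hiso : IsIso β.left := isIso_of_mono_of_nonempty_of_field (K := p.K) β.left
  have hisoO : IsIso β := by
    have : IsIso ((Over.forget S).map β) := hiso
    exact isIso_of_reflects_iso β (Over.forget S)
  let l : p.pt ⟶ M := inv β ≫ γ
  have hl : (yon S).map l ≫ b = p.toHom := by
    rw [Functor.map_comp, Category.assoc, sqG.w, ← Category.assoc, ← Functor.map_comp,
      IsIso.inv_hom_id]
    rw [CategoryTheory.Functor.map_id, Category.id_comp]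
  refine ⟨l, hl, fun v' hv' => ?_⟩
  -- uniqueness
  have hmk : Points.mk (FieldPt.ofPt b v') = Points.mk p := hv'.trans hp.symm
  obtain ⟨c, hc⟩ := exists_factor_of_mono p (FieldPt.ofPt b v') hm hprep hmk
  have h1 : (yon S).map (ofPtHom b v') ≫ b = (yon S).map (c ≫ l) ≫ b := by
    rw [← toHom_ofPt', Functor.map_comp, Category.assoc, hl, hc]
  have h2 : ofPtHom b v' = c ≫ l :=
    eq_of_comp_eq_of_notMem_strat' sq he hbe hW hmsurj hb hmrel u₀ hnot _ _ h1 (fun τ => by
      rw [ofPtHom_left_apply]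
      exact hv')
  have h3 := congrArg (fun g => g.left (IsLocalRing.closedPoint _)) h2
  simp only [Over.comp_left, Scheme.Hom.comp_apply] at h3
  rw [ofPtHom_left_apply] at h3
  rw [h3]
  congr 1
  exact Subsingleton.elim (α := PrimeSpectrum p.K) _ _

end Groth.Agent.H52.SymQuot
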