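import Groth.Agent.H52.EtDegD
import Groth.Agent.H52.SymQuotH

/-!
# Degree strata on the points of an algebraic space
-/

set_option autoImplicit false
universe u
open CategoryTheory CategoryTheory.Limits AlgebraicGeometry Opposite

namespace Groth.Agent.H52.Filt

open AlgSp Groth.Agent.H53 Groth.Agent.H52 Groth.Agent.H52.EtDeg Groth.Agent.H53.ZMT

variable {S : Scheme.{u}}

/-- A point of a quasi-compact etale chart lying over a point represented by a quasi-compact
morphism from the spectrum of a field lies outside a degree stratum of the relation. -/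
theorem exists_notMem_strat_of_qc_point {X : Sp S} {U R : Over S} [CompactSpace ↥U.left]
    (a : (yon S).obj U ⟶ X) (he : RepWith @Etale a) (s t : R ⟶ U)
    (sq : IsPullback ((yon S).map t) ((yon S).map s) a a) (u : U.left)
    (p : FieldPt X) (hp : Points.mk p = Points.ofPt a u)
    (hq : RepWith @QuasiCompact p.toHom) : ∃ N, u ∉ Strat s.left (N + 1) := by
  classical
  have heq : IsEtaleEqvRel s t := Groth.Agent.H51.isEtaleEqvRel_of_isPullback s t a he sq
  obtain ⟨Z, φ, ψ, hpb, -⟩ := exists_fibre_scheme p a he.rep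
  have hqc : QuasiCompact φ.left := hq.property a _ φ hpb.flip
  have het : Etale ψ.left := he.property p.toHom _ ψ hpb
  have hZc : CompactSpace ↥Z.left := QuasiCompact.compactSpace_of_compactSpace φ.left
  have hψqc : QuasiCompact ψ.left :=
    quasiCompact_of_compactSpace (Y := Spec (CommRingCat.of p.K)) ψ.left
  have hψfin : IsFinite ψ.left := isFinite_of_etale_of_quasiCompact (K := p.K) ψ.left
  have hZaff : IsAffine Z.left := isAffine_of_isAffineHom (Y := Spec (CommRingCat.of p.K)) ψ.left
  have hKaff : IsAffine p.pt.left := inferInstanceAs (IsAffine (Spec (CommRingCat.of p.K)))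
  obtain ⟨N, hN⟩ := exists_degLE_of_etale ψ.left
  refine ⟨N, ?_⟩
  rintro ⟨K, _, y, s₀, hy, hs₀, hc⟩
  let str : Spec (CommRingCat.of K) ⟶ S := y ≫ U.hom
  let T : Over S := Over.mk str
  let yT : T ⟶ U := Over.homMk y rfl
  let q : FieldPt X := fieldPtOfHom str ((yon S).map yT ≫ a)
  have hqp : Points.mk q = Points.mk p := by
    rw [hp, ← Points.ofPt_toHom q (IsLocalRing.closedPoint K), toHom_fieldPtOfHom,
      ofPt_yon_map_comp]
    exact congrArg (Points.ofPt a) hy
  obtain ⟨Ω, _, w, c₁, c₂, hc'⟩ := (rel_iff_toHom q p).1 (Points.mk_eq_mk_iff.1 hqp)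
  rw [toHom_fieldPtOfHom] at hc'
  have c₁' : Over.mk w ⟶ T := c₁
  let xT : {x // x ∈ s₀} → (T ⟶ R) := fun x => Over.homMk x.1 (by
    change x.1 ≫ R.hom = y ≫ U.hom
    rw [← Over.w s, ← Category.assoc, hs₀ x.1 x.2])
  have hxTs : ∀ x, xT x ≫ s = yT := fun x => by
    ext1
    exact hs₀ x.1 x.2
  have hcond : ∀ x, (yon S).map (c₁ ≫ xT x ≫ t) ≫ a = (yon S).map c₂ ≫ p.toHom := by
    intro x
    rw [← hc', Functor.map_comp, Functor.map_comp, Category.assoc, Category.assoc, sq.w,
      ← Category.assoc ((yon S).map (xT x)), ← Functor.map_comp, hxTs]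
  choose ζ hζ1 hζ2 using fun x => exists_lift_of_isPullback_yon hpb (c₁ ≫ xT x ≫ t) c₂ (hcond x)
  have hepi : Epi c₁.left := epi_of_fields (K := K) (K' := Ω) c₁.left
  have hζinj : Function.Injective (fun x => (ζ x).left) := by
    intro x x' hxx'
    have hζζ : ζ x = ζ x' := by ext1; exact hxx'
    have h1 : (c₁ ≫ xT x) ≫ t = (c₁ ≫ xT x') ≫ t := by
      rw [Category.assoc, Category.assoc, ← hζ1, ← hζ1, hζζ]
    have h2 : (c₁ ≫ xT x) ≫ s = (c₁ ≫ xT x') ≫ s := by
      rw [Category.assoc, Category.assoc, hxTs, hxTs]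
    have h3 := heq.toIsEqvRel.injective _ _ _ h1 h2
    have h4 : c₁.left ≫ x.1 = c₁.left ≫ x'.1 := congrArg (fun m => m.left) h3
    exact Subtype.ext ((cancel_epi c₁.left).1 h4)
  have hcard := hN Ω c₂.left ((Finset.univ : Finset _).image (fun x => (ζ x).left)) (by
    intro w hw
    obtain ⟨x, -, rfl⟩ := Finset.mem_image.1 hw
    exact congrArg (fun m => m.left) (hζ2 x))
  rw [Finset.card_image_of_injective _ hζinj, Finset.card_univ, Fintype.card_coe, hc] at hcard
  omega

end Groth.Agent.H52.Filt
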