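import Groth.Agent.H52.FiltA
import Groth.Agent.H52.EtDegF

/-!
# Degree strata on the points of an algebraic space, and the symmetric quotients
-/

set_option autoImplicit false
universe u
open CategoryTheory CategoryTheory.Limits AlgebraicGeometry Opposite

namespace Groth.Agent.H52.Filt

open AlgSp Groth.Agent.H53 Groth.Agent.H52 Groth.Agent.H52.EtDeg Groth.Agent.H52.SymQuot

variable {S : Scheme.{u}} {X : Sp S} {U R : Over S}

/-- The set of points of `X` of degree at least `p` with respect to a chart. -/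
def degSet (e : (yon S).obj U ⟶ X) (s : R ⟶ U) (p : ℕ) : Set (Points X) :=
  Points.ofPt e '' Strat s.left p

theorem degSet_anti (e : (yon S).obj U ⟶ X) (s : R ⟶ U) {p q : ℕ} (h : p ≤ q) :
    degSet e s q ⊆ degSet e s p :=
  Set.image_mono (strat_anti s.left h)

theorem isOpen_degSet (e : (yon S).obj U ⟶ X) (he : RepWith @Etale e) (s : R ⟶ U)
    [Etale s.left] [IsSeparated s.left] (p : ℕ) : IsOpen (degSet e s p) :=
  isOpenMap_ofPt_of_repWith_etale e he _ (isOpen_strat p s.left)

variable {e : (yon S).obj U ⟶ X} {t s : R ⟶ U}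
  (sq : IsPullback ((yon S).map t) ((yon S).map s) e e)

include sq in
theorem ofPt_mem_degSet_iff (he : RepWith @Etale e) (p : ℕ) (u : ↥U.left) :
    Points.ofPt e u ∈ degSet e s p ↔ u ∈ Strat s.left p := by
  have hEq : IsEqvRel s t := (Groth.Agent.H51.isEtaleEqvRel_of_isPullback s t e he sq).toIsEqvRel
  constructor
  · rintro ⟨u', hu', h⟩
    obtain ⟨r, hr1, hr2⟩ := (ofPt_eq_iff_of_isPullback sq _ _).1 h
    have := (strat_invariant s t hEq p r).2 (hr1 ▸ hu')
    rwa [hr2] at this
  · intro h
    exact ⟨u, h, rfl⟩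

include sq in
theorem degSet_one (hes : RepWith @Surjective e) : degSet e s 1 = Set.univ := by
  rw [Set.eq_univ_iff_forall]
  intro x
  obtain ⟨u, rfl⟩ := ofPt_surjective_of_repWith_surjective e hes x
  exact ⟨u, mem_strat_one sq u, rfl⟩

variable {n : ℕ} {W : Over S} {ρ : Fin (n + 1) → (W ⟶ U)} {M : Over S} {m : W ⟶ M}
  {b : (yon S).obj M ⟶ X}

include sq in
/-- The first component of a tuple of pairwise disjoint lifts has degree at least the length of the
tuple. -/
theorem IsTuple.mem_strat (hW : IsTuple e n W ρ) (w : ↥W.left) :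
    (ρ 0).left w ∈ Strat s.left (n + 1) := by
  classical
  let ŵ := ptHom W w
  have hne : Nonempty ↥(Over.mk (W.left.fromSpecResidueField w ≫ W.hom)).left :=
    ⟨IsLocalRing.closedPoint (W.left.residueField w)⟩
  choose r hr1 hr2 using fun k => exists_lift_kernelPair sq (ŵ ≫ ρ k) (ŵ ≫ ρ 0) (by
    rw [Functor.map_comp, Functor.map_comp, Category.assoc, Category.assoc, hW.comm k 0])
  have hrinj : Function.Injective fun k => (r k).left := by
    intro k l hkl
    have h1 : r k = r l := by ext; exact hkl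
    exact hW.index_injective ŵ (by rw [← hr1 k, ← hr1 l, h1])
  refine ⟨W.left.residueField w, inferInstance, (ŵ ≫ ρ 0).left,
    (Finset.univ : Finset (Fin (n + 1))).image (fun k => (r k).left), ?_, ?_, ?_⟩
  · rw [Over.comp_left, Scheme.Hom.comp_apply]
    exact congrArg (ρ 0).left (W.left.fromSpecResidueField_apply w _)
  · intro x hx
    obtain ⟨k, -, rfl⟩ := Finset.mem_image.1 hx
    have := congrArg (fun g => g.left) (hr2 k)
    simp only [Over.comp_left] at this
    rw [Over.comp_left]
    exact this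
  · rw [Finset.card_image_of_injective _ hrinj, Finset.card_univ, Fintype.card_fin]

include sq in
/-- The points of the symmetric quotient map to points of degree at least `n + 1`. -/
theorem ofPt_symQuot_mem_degSet (hW : IsTuple e n W ρ) (hmsurj : Surjective m.left)
    (hb : (yon S).map m ≫ b = (yon S).map (ρ 0) ≫ e) (v : ↥M.left) :
    Points.ofPt b v ∈ degSet e s (n + 1) := by
  obtain ⟨w, rfl⟩ := hmsurj.surj v
  rw [← ofPt_yon_map_comp, hb, ofPt_yon_map_comp]
  exact ⟨_, IsTuple.mem_strat sq hW w, rfl⟩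

include sq in
/-- **Key property, over the locus of exact degree.** -/
theorem eq_of_comp_eq_of_forall_notMem_degSet (he : RepWith @Etale e) (hes : RepWith @Surjective e)
    (hbe : RepWith @Etale b)
    (hW : IsTuple e n W ρ) (hmsurj : Surjective m.left)
    (hb : (yon S).map m ≫ b = (yon S).map (ρ 0) ≫ e)
    (hmrel : ∀ (T : Over S) (a a' : T ⟶ W), a ≫ m = a' ≫ m ↔ TRel e ρ a a')
    {T : Over S} (v₁ v₂ : T ⟶ M) (h : (yon S).map v₁ ≫ b = (yon S).map v₂ ≫ b)
    (hx : ∀ τ : ↥T.left, Points.ofPt b (v₁.left τ) ∉ degSet e s (n + 2)) : v₁ = v₂ := by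
  refine eq_of_forall_agreeAt b hbe v₁ v₂ h fun τ => ?_
  obtain ⟨u₀, hu₀⟩ := ofPt_surjective_of_repWith_surjective e hes (Points.ofPt b (v₁.left τ))
  have hnot : u₀ ∉ Strat s.left (n + 2) := fun hc => hx τ ⟨u₀, hc, hu₀⟩
  have key := eq_of_comp_eq_of_notMem_strat sq he hW hmsurj hb hmrel u₀ hnot
    (T.left.fromSpecResidueField τ ≫ T.hom) (ptHom T τ ≫ v₁) (ptHom T τ ≫ v₂)
    (by rw [Functor.map_comp, Functor.map_comp, Category.assoc, Category.assoc, h])
    (by
      rw [Over.comp_left, Scheme.Hom.comp_apply]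
      change Points.ofPt b (v₁.left (T.left.fromSpecResidueField τ _)) = _
      rw [Scheme.fromSpecResidueField_apply]
      exact hu₀.symm)
  have := congrArg (fun g => g.left) key
  simp only [Over.comp_left] at this
  exact this

end Groth.Agent.H52.Filt
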