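import Mathlib.AlgebraicGeometry.Morphisms.Proper
import Mathlib.AlgebraicGeometry.Morphisms.UniversallyOpen
import Mathlib.AlgebraicGeometry.Morphisms.Etale
import Mathlib.AlgebraicGeometry.Morphisms.Finite
import Mathlib.AlgebraicGeometry.PullbackCarrier

/-!
# Separatedness descends along finite surjective quotient maps
-/

set_option autoImplicit false
universe u
open CategoryTheory CategoryTheory.Limits AlgebraicGeometry Opposite

namespace Groth.Agent.H52.Filt

/-- A morphism is separated as soon as, after a surjective universally closed cover `m` of the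
source, the relation `W ×_M W ⟶ W ×_B W` has closed range. -/
theorem isSeparated_of_isClosed_range_mapDesc {W M B : Scheme.{u}} (m : W ⟶ M) (g : M ⟶ B)
    [Surjective m] [UniversallyClosed m]
    (hcl : IsClosed (Set.range (pullback.mapDesc m m g))) : IsSeparated g := by
  have sq := pullback_map_diagonal_isPullback m m g
  let Φ : pullback (m ≫ g) (m ≫ g) ⟶ pullback g g :=
    pullback.map (m ≫ g) (m ≫ g) g g m m (𝟙 _) (Category.comp_id _) (Category.comp_id _)
  have hΦs : Surjective Φ :=
    MorphismProperty.pullbackMap (P := @Surjective) (f := m ≫ g) (g := m ≫ g) (f' := g) (g' := g)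
      (i₁ := m) (i₂ := m) ‹_› ‹_› rfl rfl
  have hΦc : UniversallyClosed Φ :=
    MorphismProperty.pullbackMap (P := @UniversallyClosed) (f := m ≫ g) (g := m ≫ g) (f' := g)
      (g' := g) (i₁ := m) (i₂ := m) ‹_› ‹_› rfl rfl
  have hq : Topology.IsQuotientMap Φ :=
    Φ.isClosedMap.isQuotientMap Φ.continuous Φ.surjective
  have hpre : Φ ⁻¹' Set.range (pullback.diagonal g) = Set.range (pullback.mapDesc m m g) := by
    have := Scheme.image_preimage_eq_of_isPullback sq Set.univ
    rw [Set.preimage_univ, Set.image_univ, Set.image_univ] at this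
    exact this.symm
  have hrange : IsClosed (Set.range (pullback.diagonal g)) := by
    rw [← hq.isClosed_preimage, hpre]
    exact hcl
  exact ⟨IsClosedImmersion.of_isPreimmersion _ hrange⟩

/-- The target of a finite surjective morphism from a separated scheme is separated. -/
theorem isSeparated_of_finite_surjective {W M B : Scheme.{u}} (m : W ⟶ M) (g : M ⟶ B)
    [Surjective m] [IsFinite m] [IsSeparated (m ≫ g)] : IsSeparated g := by
  refine isSeparated_of_isClosed_range_mapDesc m g ?_
  have h1 : pullback.mapDesc m m g ≫ pullback.fst (m ≫ g) (m ≫ g) = pullback.fst m m :=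
    (pullback.lift_fst _ _ _).trans (Category.comp_id _)
  have h2 : UniversallyClosed (pullback.mapDesc m m g ≫ pullback.fst (m ≫ g) (m ≫ g)) := by
    rw [h1]; infer_instance
  have h3 : UniversallyClosed (pullback.mapDesc m m g) :=
    UniversallyClosed.of_comp_of_isSeparated _ (pullback.fst (m ≫ g) (m ≫ g))
  exact (pullback.mapDesc m m g).isClosedMap.isClosed_range

end Groth.Agent.H52.Filt
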