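import Groth.Agent.H52.FiltB
import Groth.Agent.H52.FiltC
import Groth.Agent.H50.RedInduced

/-!
# The filtration of an algebraic space by degree, and the symmetric quotients as charts
-/

set_option autoImplicit false
universe u
open CategoryTheory CategoryTheory.Limits AlgebraicGeometry Opposite

namespace Groth.Agent.H52.Filt

open AlgSp Groth.Agent.H53 Groth.Agent.H52 Groth.Agent.H52.EtDeg Groth.Agent.H52.SymQuot
  Groth.Agent.H51 Groth.Agent.H50

variable {S : Scheme.{u}}

/-- The source of a separated morphism to an affine scheme is separated. -/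
theorem isSeparated_of_isSeparated_of_isAffine {A B : Scheme.{u}} (f : A ⟶ B) [IsSeparated f]
    [IsAffine B] : A.IsSeparated := by
  refine ⟨?_⟩
  rw [← terminal.comp_from f]
  infer_instance

/-- **The filtration by degree** of an algebraic space with an etale surjective chart from an affine
scheme, with the strata uniformized by the symmetric quotients. -/
theorem exists_filtration {X : Sp S} (hX : IsAlgSpace X) {U R : Over S} [IsAffine U.left]
    (e : (yon S).obj U ⟶ X) (he : RepWith @Etale e) (hes : RepWith @Surjective e) (t s : R ⟶ U)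
    (sq : IsPullback ((yon S).map t) ((yon S).map s) e e) :
    ∃ (Uo : ℕ → Sp S) (j : ∀ p, Uo p ⟶ X) (k : ∀ p, Uo (p + 1) ⟶ Uo p) (T : ℕ → Sp S)
      (i : ∀ p, T p ⟶ Uo p),
      (∀ p, IsAlgSpace (Uo p)) ∧ (∀ p, IsAlgSpace (T p)) ∧
      (∀ p, RepWith @IsOpenImmersion (j p)) ∧ (∀ p, k p ≫ j p = j (p + 1)) ∧ IsIso (j 1) ∧
      (∀ p, Set.range (Points.map (j p)) = degSet e s p) ∧
      (∀ p, IsRedInduced (Set.range (Points.map (k p)))ᶜ (i p)) ∧
      (∀ p, Set.range (Points.map (i p ≫ j p)) = degSet e s p \ degSet e s (p + 1)) ∧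
      ∀ (n : ℕ) (W : Over S) (ρ : Fin (n + 1) → (W ⟶ U)) (M : Over S) (m : W ⟶ M)
        (b : (yon S).obj M ⟶ X),
        IsTuple e n W ρ → Surjective m.left → IsFinite m.left → RepWith @Etale b →
        (yon S).map m ≫ b = (yon S).map (ρ 0) ≫ e →
        (∀ (T : Over S) (a a' : T ⟶ W), a ≫ m = a' ≫ m ↔ TRel e ρ a a') →
        ∃ f : (yon S).obj M ⟶ Uo (n + 1), f ≫ j (n + 1) = b ∧ M.left.IsSeparated ∧
          RepWith @Etale f ∧ RepWith @Surjective f ∧
          ∀ (P : Sp S) (fst : P ⟶ T (n + 1)) (snd : P ⟶ (yon S).obj M),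
            IsPullback fst snd (i (n + 1)) f → IsIso fst := by
  classical
  have hset : Etale s.left := prop_of_isPullback_yon sq.flip he
  have hssep : IsSeparated s.left := isSeparated_of_isPullback_chart e s t sq
  have hDopen : ∀ p, IsOpen (degSet e s p) := fun p => isOpen_degSet e he s p
  choose Uo j hUo hj hjr using fun p => exists_open_subspace hX (degSet e s p) (hDopen p)
  have hjm : ∀ p, Mono (j p) := fun p =>
    Groth.Agent.H49.mono_of_repWith_mono isOpenImmersion_le_mono (j p) (hj p)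
  have hjinj : ∀ p, Function.Injective (Points.map (j p)) := fun p =>
    injective_map_of_mono (j p)
  have hk : ∀ p, ∃ k : Uo (p + 1) ⟶ Uo p, k ≫ j p = j (p + 1) := fun p =>
    (exists_factor_iff_of_isOpenImmersion' (j p) (hj p) (j (p + 1))).2 (by
      rw [hjr, hjr]; exact degSet_anti e s (Nat.le_succ p))
  choose k hk using hk
  have hkr : ∀ p, Set.range (Points.map (k p)) = Points.map (j p) ⁻¹' degSet e s (p + 1) := by
    intro p
    ext y
    constructor
    · rintro ⟨z, rfl⟩
      change Points.map (j p) (Points.map (k p) z) ∈ degSet e s (p + 1)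
      rw [← Points.map_comp, hk, ← hjr]
      exact ⟨z, rfl⟩
    · intro hy
      change Points.map (j p) y ∈ degSet e s (p + 1) at hy
      rw [← hjr] at hy
      obtain ⟨z, hz⟩ := hy
      refine ⟨z, hjinj p ?_⟩
      rw [← Points.map_comp, hk, hz]
  have hclosed : ∀ p, IsClosed (Set.range (Points.map (k p)))ᶜ := by
    intro p
    rw [hkr, isClosed_compl_iff]
    exact (hDopen (p + 1)).preimage (Points.continuous_map (j p))
  choose T i hT hi using fun p => exists_isRedInduced (hUo p) _ (hclosed p)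
  have hir : ∀ p, Set.range (Points.map (i p ≫ j p)) = degSet e s p \ degSet e s (p + 1) := by
    intro p
    ext x
    constructor
    · rintro ⟨z, rfl⟩
      rw [Points.map_comp]
      have h1 : Points.map (i p) z ∈ (Set.range (Points.map (k p)))ᶜ := by
        rw [← (hi p).2.1]; exact ⟨z, rfl⟩
      rw [hkr] at h1
      refine ⟨?_, h1⟩
      rw [← hjr]; exact ⟨_, rfl⟩
    · rintro ⟨h1, h2⟩
      rw [← hjr] at h1
      obtain ⟨y, rfl⟩ := h1
      have h3 : y ∈ (Set.range (Points.map (k p)))ᶜ := by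
        rw [hkr]; exact h2
      rw [← (hi p).2.1] at h3
      obtain ⟨z, rfl⟩ := h3
      exact ⟨z, Points.map_comp _ _ _⟩
  have hiso : IsIso (j 1) := by
    refine isIso_of_isOpenImmersion_of_surjective (j 1) (hj 1) ?_
    rw [← Set.range_eq_univ, hjr, degSet_one sq hes]
  refine ⟨Uo, j, k, T, i, hUo, hT, hj, hk, hiso, hjr, hi, hir, ?_⟩
  intro n W ρ M m b hW hmsurj hmfin hbe hb hmrel
  -- the factorization through the open subspace
  have hbr : Set.range (Points.map b) ⊆ Set.range (Points.map (j (n + 1))) := by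
    rw [hjr, range_map_eq_range_ofPt]
    rintro _ ⟨v, rfl⟩
    exact ofPt_symQuot_mem_degSet sq hW hmsurj hb v
  obtain ⟨f, hf⟩ := (exists_factor_iff_of_isOpenImmersion' (j (n + 1)) (hj _) b).2 hbr
  have hfe : RepWith @Etale f := repWith_of_comp_mono f (j (n + 1)) (hf ▸ hbe)
  have hfs : RepWith @Surjective f := by
    refine repWith_surjective_of_surjective_ofPt f hfe.rep ?_
    intro y
    have hy : Points.map (j (n + 1)) y ∈ degSet e s (n + 1) := by
      rw [← hjr]; exact ⟨y, rfl⟩
    obtain ⟨u₀, hu₀, hu₀y⟩ := hy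
    obtain ⟨v, hv⟩ := exists_point_of_mem_strat sq hW hb u₀ hu₀
    refine ⟨v, hjinj (n + 1) ?_⟩
    rw [Points.map_ofPt, hf, hv, hu₀y]
  -- separatedness
  have hWsep : W.left.IsSeparated := by
    have := hW.separated
    exact isSeparated_of_isSeparated_of_isAffine (ρ 0).left
  have hMsep : M.left.IsSeparated := ⟨isSeparated_of_finite_surjective m.left _⟩
  refine ⟨f, hf, hMsep, hfe, hfs, ?_⟩
  intro P fst snd sqP
  have hfst_e : RepWith @Etale fst := (RepWith @Etale).of_isPullback sqP.flip hfe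
  have hfst_s : RepWith @Surjective fst := (RepWith @Surjective).of_isPullback sqP.flip hfs
  have hepi : Epi fst := epi_of_repWith_etale_surjective fst hfst_e hfst_s
  have hmono : Mono fst := by
    apply Groth.Agent.H49.mono_of_forall_yon
    intro T' a₁ a₂ h12
    obtain ⟨v₁, hv₁⟩ := (yon S).map_surjective (a₁ ≫ snd)
    obtain ⟨v₂, hv₂⟩ := (yon S).map_surjective (a₂ ≫ snd)
    have hvb₁ : (yon S).map v₁ ≫ b = a₁ ≫ fst ≫ i (n + 1) ≫ j (n + 1) := by
      rw [hv₁, ← hf, Category.assoc, ← Category.assoc snd, ← sqP.w, Category.assoc]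
    have hvb₂ : (yon S).map v₂ ≫ b = a₂ ≫ fst ≫ i (n + 1) ≫ j (n + 1) := by
      rw [hv₂, ← hf, Category.assoc, ← Category.assoc snd, ← sqP.w, Category.assoc]
    have hvb : (yon S).map v₁ ≫ b = (yon S).map v₂ ≫ b := by
      rw [hvb₁, hvb₂, ← Category.assoc, h12, Category.assoc]
    have hv : v₁ = v₂ := by
      refine eq_of_comp_eq_of_forall_notMem_degSet sq he hes hbe hW hmsurj hb hmrel v₁ v₂ hvb ?_
      intro τ
      rw [← ofPt_yon_map_comp, hvb₁, ← Category.assoc, ← Category.assoc, Category.assoc _ (i _),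
        ← Points.map_ofPt]
      have : Points.map (i (n + 1) ≫ j (n + 1)) (Points.ofPt (a₁ ≫ fst) τ) ∈
          degSet e s (n + 1) \ degSet e s (n + 1 + 1) := by
        rw [← hir]; exact ⟨_, rfl⟩
      exact this.2
    apply sqP.hom_ext h12
    rw [← hv₁, ← hv₂, hv]
  exact isIso_of_mono_of_epi fst

end Groth.Agent.H52.Filt
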