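import Groth.Agent.H52.FiltB
import Groth.Agent.H20.DenseSeparated
import Groth.Agent.H53.ZMT.DegSch

/-!
# Bounded degree of quasi-compact etale morphisms, and quasi-compactness of the scheme of tuples
-/

set_option autoImplicit false
universe u
open CategoryTheory CategoryTheory.Limits AlgebraicGeometry Opposite

namespace Groth.Agent.H52.Filt

open AlgSp Groth.Agent.H53 Groth.Agent.H52 Groth.Agent.H52.EtDeg Groth.Agent.H52.SymQuot
  Groth.Agent.H53.ZMT

/-- An etale morphism from a quasi-compact scheme to an affine scheme has bounded degree. -/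
theorem exists_degLE_of_etale_of_compact {R U : Scheme.{u}} [CompactSpace ↥R] [IsAffine U]
    (s : R ⟶ U) [Etale s] : ∃ n, DegLE s n := by
  classical
  obtain ⟨N, V, hV, hcov⟩ := Groth.Agent.H20.exists_fin_affine_cover R
  have h1 : ∀ i, ∃ n, DegLE ((V i).ι ≫ s) n := fun i => by
    have : IsAffine (V i).toScheme := hV i
    exact exists_degLE_of_etale _
  choose d hd using h1
  refine ⟨∑ i, d i, fun K _ y F hF => ?_⟩
  let c : (Spec (.of K) ⟶ R) → Fin N := fun x => (hcov (x (IsLocalRing.closedPoint K))).choose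
  have hc : ∀ x : Spec (.of K) ⟶ R, x (IsLocalRing.closedPoint K) ∈ V (c x) := fun x =>
    (hcov (x (IsLocalRing.closedPoint K))).choose_spec
  have hrange : ∀ x : Spec (.of K) ⟶ R, Set.range x ⊆ Set.range (V (c x)).ι := by
    intro x
    rw [Scheme.Opens.range_ι]
    exact range_subset_of_field x _ (hc x)
  rw [Finset.card_eq_sum_card_fiberwise (f := c) (t := Finset.univ) (fun x _ => Finset.mem_univ _)]
  refine Finset.sum_le_sum fun i _ => ?_
  -- the lifts to `V i`
  let Fi := F.filter (fun x => c x = i)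
  have hFi : ∀ x ∈ Fi, Set.range x ⊆ Set.range (V i).ι := by
    intro x hx
    have := (Finset.mem_filter.1 hx).2
    rw [← this]; exact hrange x
  let lft : {x // x ∈ Fi} → (Spec (.of K) ⟶ (V i).toScheme) := fun x =>
    IsOpenImmersion.lift (V i).ι x.1 (hFi x.1 x.2)
  have hlft : ∀ x, lft x ≫ (V i).ι = x.1 := fun x => IsOpenImmersion.lift_fac _ _ _
  have hinj : Function.Injective lft := by
    intro x x' h
    apply Subtype.ext
    rw [← hlft x, ← hlft x', h]
  have := hd i K y ((Finset.univ : Finset {x // x ∈ Fi}).image lft) (by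
    intro w hw
    obtain ⟨x, -, rfl⟩ := Finset.mem_image.1 hw
    rw [← Category.assoc, hlft]
    exact hF x.1 (Finset.mem_filter.1 x.2).1)
  rwa [Finset.card_image_of_injective _ hinj, Finset.card_univ, Fintype.card_coe] at this

variable {S : Scheme.{u}}

/-- Two schemes of tuples for the same chart are isomorphic, compatibly with the projections. -/
theorem IsTuple.exists_iso {X : Sp S} {U : Over S} {e : (yon S).obj U ⟶ X} {n : ℕ}
    {W W' : Over S} {ρ : Fin (n + 1) → (W ⟶ U)} {ρ' : Fin (n + 1) → (W' ⟶ U)}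
    (hW : IsTuple e n W ρ) (hW' : IsTuple e n W' ρ') :
    ∃ φ : W ≅ W', ∀ k, φ.hom ≫ ρ' k = ρ k := by
  obtain ⟨φ, hφ⟩ := hW'.exists_lift W ρ hW.comm hW.disj
  obtain ⟨ψ, hψ⟩ := hW.exists_lift W' ρ' hW'.comm hW'.disj
  refine ⟨⟨φ, ψ, ?_, ?_⟩, hφ⟩
  · apply hW.hom_ext
    intro k
    rw [Category.assoc, hψ, hφ, Category.id_comp]
  · apply hW'.hom_ext
    intro k
    rw [Category.assoc, hφ, hψ, Category.id_comp]

/-- For a quasi-compact etale separated chart, the scheme of tuples is quasi-compact over the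
chart. -/
theorem exists_isTuple_qc {X : Sp S} {U : Over S} (e : (yon S).obj U ⟶ X) (he : RepWith @Etale e)
    (hsep : RepWith @IsSeparated e) (hqc : RepWith @QuasiCompact e) (n : ℕ) :
    ∃ (W : Over S) (ρ : Fin (n + 1) → (W ⟶ U)), IsTuple e n W ρ ∧ QuasiCompact (ρ 0).left := by
  classical
  obtain ⟨P, r, q, ⟨hc, hu⟩, hr⟩ := WidePb.exists_isWP (@Etale ⊓ @IsSeparated ⊓ @QuasiCompact) n e
    (fun _ : Fin n => U) (fun _ => e) (fun _ => repWith_inf (repWith_inf he hsep) hqc)
  let π : Fin (n + 1) → (P ⟶ U) := Fin.cases r q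
  have hπ0 : π 0 = r := rfl
  have hπs : ∀ k : Fin n, π k.succ = q k := fun k => rfl
  have hcomm0 : ∀ k, (yon S).map (π k) ≫ e = (yon S).map r ≫ e := by
    intro k
    refine Fin.cases ?_ (fun k' => ?_) k
    · rfl
    · rw [hπs]; exact hc k'
  have hcomm : ∀ k l, (yon S).map (π k) ≫ e = (yon S).map (π l) ≫ e := fun k l =>
    (hcomm0 k).trans (hcomm0 l).symm
  -- uniqueness of maps to `P`
  have hPext : ∀ (T : Over S) (φ ψ : T ⟶ P), (∀ k, φ ≫ π k = ψ ≫ π k) → φ = ψ := by
    intro T φ ψ h
    have hz : ∀ k : Fin n, (yon S).map (ψ ≫ q k) ≫ e = (yon S).map (ψ ≫ r) ≫ e := by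
      intro k
      rw [Functor.map_comp, Functor.map_comp, Category.assoc, Category.assoc, hc k]
    obtain ⟨l, -, hl⟩ := hu _ ((yon S).map (ψ ≫ r)) (fun k => (yon S).map (ψ ≫ q k)) hz
    have h1 : (yon S).map φ = l := by
      apply hl
      refine ⟨?_, fun k => ?_⟩
      · rw [← Functor.map_comp]
        exact congrArg _ (h 0)
      · rw [← Functor.map_comp]
        exact congrArg _ (h k.succ)
    have h2 : (yon S).map ψ = l := by
      apply hl
      exact ⟨by rw [← Functor.map_comp], fun k => by rw [← Functor.map_comp]⟩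
    exact (yon S).map_injective (h1.trans h2.symm)
  -- the open and closed subscheme
  let Wset : Set ↥P.left := ⋂ (kl : {kl : Fin (n + 1) × Fin (n + 1) // kl.1 ≠ kl.2}),
    {τ | AgreeAt (π kl.1.1).left (π kl.1.2).left τ}ᶜ
  have hWopen : IsOpen Wset := by
    refine isOpen_iInter_of_finite fun kl => ?_
    exact (isClosed_agreeAt e he hsep (π kl.1.1) (π kl.1.2) (hcomm _ _)).isOpen_compl
  have hWclosed : IsClosed Wset := by
    refine isClosed_iInter fun kl => ?_
    exact (isOpen_agreeAt e he (π kl.1.1) (π kl.1.2) (hcomm _ _)).isClosed_compl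
  let Wo : P.left.Opens := ⟨Wset, hWopen⟩
  have hmemW : ∀ τ : ↥P.left, τ ∈ Wo ↔
      ∀ k l, k ≠ l → ¬ AgreeAt (π k).left (π l).left τ := by
    intro τ
    change τ ∈ Wset ↔ _
    simp only [Wset, Set.mem_iInter, Set.mem_compl_iff, Set.mem_ofPred_eq, Subtype.forall,
      Prod.forall]
  have hWoqc : QuasiCompact Wo.ι := by
    have : IsClosedImmersion Wo.ι := IsClosedImmersion.of_isPreimmersion _ (by
      rw [Scheme.Opens.range_ι]; exact hWclosed)
    infer_instance
  refine ⟨Over.mk (Wo.ι ≫ P.hom), fun k => openIncl P Wo ≫ π k, ⟨?_, ?_, ?_, ?_, ?_, ?_⟩, ?_⟩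
  · intro k l
    rw [Functor.map_comp, Functor.map_comp, Category.assoc, Category.assoc, hcomm k l]
  · intro k l hkl τ h
    have h' : AgreeAt (Wo.ι ≫ (π k).left) (Wo.ι ≫ (π l).left) τ := h
    rw [agreeAt_comp_iff] at h'
    exact (hmemW _).1 τ.2 k l hkl h'
  · intro T a hac had
    have hz : ∀ k : Fin n, (yon S).map (a k.succ) ≫ e = (yon S).map (a 0) ≫ e := fun k => hac _ _
    obtain ⟨l, ⟨hl1, hl2⟩, -⟩ := hu _ ((yon S).map (a 0)) (fun k => (yon S).map (a k.succ)) hz
    obtain ⟨φ₀, rfl⟩ := (yon S).map_surjective l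
    have hφ₀ : ∀ k, φ₀ ≫ π k = a k := by
      intro k
      refine Fin.cases ?_ (fun k' => ?_) k
      · apply (yon S).map_injective
        rw [Functor.map_comp]; exact hl1
      · apply (yon S).map_injective
        rw [Functor.map_comp]; exact hl2 k'
    have hrange : Set.range φ₀.left ⊆ Set.range Wo.ι := by
      rintro _ ⟨τ, rfl⟩
      rw [Scheme.Opens.range_ι]
      refine (hmemW _).2 fun k l hkl h => ?_
      rw [← agreeAt_comp_iff, ← Over.comp_left, ← Over.comp_left, hφ₀, hφ₀] at h
      exact had k l hkl τ h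
    let φl := IsOpenImmersion.lift Wo.ι φ₀.left hrange
    have hφl : φl ≫ Wo.ι = φ₀.left := IsOpenImmersion.lift_fac _ _ _
    refine ⟨Over.homMk φl (by
      change φl ≫ Wo.ι ≫ P.hom = T.hom
      rw [← Category.assoc, hφl, Over.w φ₀]), fun k => ?_⟩
    rw [← hφ₀ k, ← Category.assoc]
    congr 1
    ext
    exact hφl
  · intro T φ ψ h
    have h1 : φ ≫ openIncl P Wo = ψ ≫ openIncl P Wo := by
      apply hPext
      intro k
      rw [Category.assoc, Category.assoc]
      exact h k
    ext
    have h2 := congrArg (fun f => f.left) h1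
    simp only [Over.comp_left] at h2
    exact (cancel_mono Wo.ι).1 h2
  · change Etale (Wo.ι ≫ r.left)
    have : Etale r.left := hr.1.1
    infer_instance
  · change IsSeparated (Wo.ι ≫ r.left)
    have : IsSeparated r.left := hr.1.2
    infer_instance
  · change QuasiCompact (Wo.ι ≫ r.left)
    have : QuasiCompact r.left := hr.2
    infer_instance

/-- For a quasi-compact etale separated chart, any scheme of tuples is quasi-compact over the
chart. -/
theorem IsTuple.quasiCompact {X : Sp S} {U : Over S} {e : (yon S).obj U ⟶ X}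
    (he : RepWith @Etale e) (hsep : RepWith @IsSeparated e) (hqc : RepWith @QuasiCompact e) {n : ℕ}
    {W : Over S} {ρ : Fin (n + 1) → (W ⟶ U)} (hW : IsTuple e n W ρ) :
    QuasiCompact (ρ 0).left := by
  obtain ⟨W', ρ', hW', hq⟩ := exists_isTuple_qc e he hsep hqc n
  obtain ⟨φ, hφ⟩ := IsTuple.exists_iso hW hW'
  rw [← hφ 0, Over.comp_left]
  have : IsIso φ.hom.left := inferInstance
  infer_instance

end Groth.Agent.H52.Filt
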