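import Groth.Agent.H52.ChartFinite
import Groth.Agent.H52.Special
import Groth.Agent.H52.Decent
import Groth.Agent.H52.Chart

/-!
# An algebraic space with a finite etale surjective chart from a scheme is decent
-/

set_option autoImplicit false
universe u
open CategoryTheory CategoryTheory.Limits AlgebraicGeometry Opposite

namespace Groth.Agent.H52

open AlgSp

variable {S : Scheme.{u}}

/-- The fibres of an etale morphism from a quasi-compact scheme are finite. -/
theorem finite_fibre_of_etale_of_compact {P U : Over S} [CompactSpace ↥P.left] (f₁ : P ⟶ U)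
    [Etale f₁.left] (u' : U.left) : {π : P.left | f₁.left π = u'}.Finite := by
  let q : FieldPt ((yon S).obj U) := FieldPt.ofPt (𝟙 _) u'
  have hq : RepWith @QuasiCompact q.toHom := by
    rw [FieldPt.toHom_ofPt, Category.comp_id]; exact repWith_quasiCompact_ptHom U u'
  have hb : RepWith @Etale ((yon S).map f₁) := (repWith_yon_map_iff _ _).2 inferInstance
  have h := finite_fibre_of_quasiCompact_point q hq ((yon S).map f₁) hb
  refine h.subset ?_
  intro π hπ
  change Points.ofPt ((yon S).map f₁) π = Points.mk q
  have hinj : Function.Injective (Points.toScheme U) := (Points.schemeEquiv U).symm.injective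
  apply hinj
  rw [Points.toScheme_ofPt, hπ]
  exact (Points.toScheme_ofScheme U u').symm

/-- An algebraic space with a finite etale surjective chart from a scheme is decent. -/
theorem isDecent_of_finite_etale_cover {X : Sp S} (hX : IsAlgSpace X) {U : Over S}
    (a : (yon S).obj U ⟶ X) (hf : RepWith @IsFinite a) (he : RepWith @Etale a)
    (hs : RepWith @Surjective a) : IsDecent X := by
  intro x
  obtain ⟨u, rfl⟩ := ofPt_surjective_of_repWith_surjective a hs x
  have hrep : Representable a := he.rep
  have sq := hrep.isPullback a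
  obtain ⟨t, ht⟩ := (yon S).map_surjective (hrep.fst a)
  set s := hrep.snd a with hs'
  rw [← ht] at sq
  have hsfin : IsFinite s.left := hf.property a _ s sq
  have hfin_uu : {r : ↥(hrep.pullback a).left | t.left r = u ∧ s.left r = u}.Finite :=
    (Scheme.Hom.finite_preimage_singleton s.left u).subset (fun r hr => hr.2)
  obtain ⟨p, c, -, hm, -, hp⟩ := exists_mono_point_of_chart hX a he u s t sq hfin_uu
  refine ⟨p, hp, hm, repWith_quasiCompact_of_finite_fibres hX p hm ?_⟩
  intro V φ hV hφ
  have sqφ := hrep.isPullback φ
  obtain ⟨f₁, hf₁⟩ := (yon S).map_surjective (hrep.fst φ)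
  rw [← hf₁] at sqφ
  have hsndfin : IsFinite (hrep.snd φ).left := hf.property φ _ _ sqφ
  have hf₁et : Etale f₁.left := hφ.property a _ f₁ sqφ.flip
  have hPaff : IsAffine (hrep.pullback φ).left := isAffine_of_isAffineHom (hrep.snd φ).left
  have hfin := finite_fibre_of_etale_of_compact f₁ u
  refine (hfin.image (hrep.snd φ).left).subset ?_
  intro v hv
  have hv' : Points.ofPt a u = Points.ofPt φ v := by
    rw [← hp]; exact hv.symm
  obtain ⟨π, hπ1, hπ2⟩ := (ofPt_eq_iff_of_isPullback sqφ u v).1 hv'
  exact ⟨π, hπ1, hπ2⟩

end Groth.Agent.H52
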