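import Groth.Agent.H52.AffineNbhdFinite
import Groth.Agent.H52.Chart
import Groth.Agent.H53.ZMT.FinEtQuot
import Groth.Agent.H40.GQ.EqvQuot
import Groth.Agent.H40.GQ.InvNbhd
import Groth.Agent.H52.QFCodimOne
import Groth.Agent.H51.SpOpen

/-!
# A sheaf with a finite etale surjective chart from a scheme whose fibres lie in affine opens
is a scheme
-/

set_option autoImplicit false
universe u
open CategoryTheory CategoryTheory.Limits AlgebraicGeometry Opposite

namespace Groth.Agent.H52.FinEtSchematic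

open AlgSp Groth.Agent.H50 Groth.Agent.H51 Groth.Agent.H53.ZMT

variable {S : Scheme.{u}}

/-- A sheaf with a finite etale surjective chart from a scheme, such that every fibre of the chart
lies in an affine open, is a scheme, and the chart is finite over it. -/
theorem exists_scheme_quot {F : Sp S} {V : Over S}
    (q : (yon S).obj V ⟶ F) (hqe : RepWith @Etale q) (hqf : RepWith @IsFinite q)
    (hqs : RepWith @Surjective q)
    (horb : ∀ x : V.left, ∃ V₀ : V.left.Opens, IsAffineOpen V₀ ∧
      ∀ x' : V.left, Points.ofPt q x' = Points.ofPt q x → x' ∈ V₀) :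
    ∃ (M : Over S) (e : (yon S).obj M ≅ F) (π : V ⟶ M),
      (yon S).map π ≫ e.hom = q ∧ IsFinite π.left := by
  have hrep : Representable q := hqe.rep
  have sq := hrep.isPullback q
  obtain ⟨t, ht⟩ := (yon S).map_surjective (hrep.fst q)
  set s := hrep.snd q with hs
  rw [← ht] at sq
  have heq : IsEtaleEqvRel s t := isEtaleEqvRel_of_isPullback s t q hqe sq
  have hsfin : IsFinite s.left := hqf.property q _ s sq
  have hset : Etale s.left := heq.etale_left
  have i4 : Flat s.left := inferInstance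
  have i5 : LocallyOfFinitePresentation s.left := inferInstance
  obtain ⟨M, π, hπfin, hπfl, hπlfp, hπsurj, hpb, -⟩ :=
    Groth.Agent.H40.GQ.exists_quotient_of_isEqvRel s t heq.toIsEqvRel (by
      intro x
      obtain ⟨V₀, hV₀, h⟩ := horb x
      refine ⟨V₀, hV₀, fun r hr => h _ ?_⟩
      rw [← hr, ← Groth.Agent.H52.ofPt_yon_map_comp, ← Groth.Agent.H52.ofPt_yon_map_comp, sq.w])
  have hpbO : IsPullback t s π π := by
    refine IsPullback.of_map (Over.forget S) ?_ hpb
    ext1
    exact hpb.w
  have sqM : IsPullback ((yon S).map t) ((yon S).map s) ((yon S).map π) ((yon S).map π) :=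
    hpbO.map (yon S)
  have hπls : Sheaf.IsLocallySurjective ((yon S).map π) := isLocallySurjective_yon_map_of_fppf π
  have hπepi : Epi ((yon S).map π) := (Sheaf.isLocallySurjective_iff_epi _).1 hπls
  have hqls : Sheaf.IsLocallySurjective q :=
    Groth.Agent.H53.isLocallySurjective_of_repWith q
      (Groth.Agent.H51.repWith_mono etale_le_flat hqe)
      (Groth.Agent.H51.repWith_mono etale_le_lfp hqe) hqs
  have hqepi : Epi q := (Sheaf.isLocallySurjective_iff_epi _).1 hqls
  obtain ⟨d, hd⟩ := exists_iso_of_kernelPair_eq ((yon S).map π) q sqM sq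
  exact ⟨M, d, π, hd, hπfin⟩

/-- Every point of an open subset of a scheme has a generization in it with zero dimensional
local ring. -/
theorem exists_dim_zero_mem_open {U : Scheme.{u}} (O : U.Opens) (u : U) (hu : u ∈ O) :
    ∃ η ∈ O, ringKrullDim (U.presheaf.stalk η) = 0 := by
  have hZ : irreducibleComponent u ∈ irreducibleComponents (U : Type u) :=
    irreducibleComponent_mem_irreducibleComponents u
  have hirr : IsIrreducible (irreducibleComponent u) := isIrreducible_irreducibleComponent
  have hcl : IsClosed (irreducibleComponent u) := isClosed_irreducibleComponent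
  have hη : IsGenericPoint hirr.genericPoint (irreducibleComponent u) :=
    hirr.isGenericPoint_genericPoint hcl
  refine ⟨hirr.genericPoint, ?_,
    QFCodimOne.stalk_dim_zero_of_isGenericPoint _ hZ _ hη⟩
  have : hirr.genericPoint ⤳ u := hη.specializes mem_irreducibleComponent
  exact this.mem_open O.2 hu

open Groth.Agent.H52.AffineNbhdFinite in
/-- An algebraic space with a finite etale surjective chart from a quasi-separated scheme has a
dense open subspace which is a scheme and contains all points of codimension zero. -/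
theorem exists_open_subscheme {X : Sp S} {U : Over S}
    (a : (yon S).obj U ⟶ X) (hf : RepWith @IsFinite a) (he : RepWith @Etale a)
    (hs : RepWith @Surjective a) [QuasiSeparatedSpace ↥U.left] :
    ∃ (W : Set (Points X)) (_ : IsOpen W) (M : Over S),
      Nonempty ((yon S).obj M ≅ openSubSp X W) ∧ Dense W ∧
      ∀ x, HasAt (fun U u => ringKrullDim ↥(U.presheaf.stalk u) = 0) X x → x ∈ W := by
  classical
  have hrep : Representable a := he.rep
  have sq := hrep.isPullback a
  obtain ⟨t, ht⟩ := (yon S).map_surjective (hrep.fst a)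
  set s := hrep.snd a with hs'
  rw [← ht] at sq
  have hsfin : IsFinite s.left := hf.property a _ s sq
  have htfin : IsFinite t.left := hf.property a _ t sq.flip
  have horbit : ∀ A : Set U.left,
      Points.ofPt a ⁻¹' (Points.ofPt a '' A) = s.left '' (t.left ⁻¹' A) :=
    fun A => preimage_ofPt_image_ofPt sq A
  have hfin : ∀ u : U.left, {u' | Points.ofPt a u' = Points.ofPt a u}.Finite := by
    intro u
    have : {u' | Points.ofPt a u' = Points.ofPt a u} = s.left '' (t.left ⁻¹' {u}) := by
      rw [← horbit]; ext u'; simp [eq_comm]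
    rw [this]
    exact (Scheme.Hom.finite_preimage_singleton t.left u).image _
  let Ũ : Set U.left := {u | ∃ V₀ : U.left.Opens, IsAffineOpen V₀ ∧
    ∀ u', Points.ofPt a u' = Points.ofPt a u → u' ∈ V₀}
  have hsat : ∀ u ∈ Ũ, ∀ u', Points.ofPt a u' = Points.ofPt a u → u' ∈ Ũ := by
    rintro u ⟨V₀, hV₀, h⟩ u' hu'
    exact ⟨V₀, hV₀, fun u'' hu'' => h u'' (hu''.trans hu')⟩
  have hŨo : IsOpen Ũ := by
    rw [isOpen_iff_forall_mem_open]
    rintro u ⟨V₀, hV₀, h⟩
    refine ⟨(s.left '' (t.left ⁻¹' (V₀ : Set U.left)ᶜ))ᶜ, ?_, ?_, ?_⟩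
    · intro u₁ hu₁
      refine ⟨V₀, hV₀, fun u' hu' => ?_⟩
      by_contra hc
      apply hu₁
      rw [← horbit]
      exact ⟨u', hc, hu'⟩
    · rw [isOpen_compl_iff]
      exact s.left.isClosedMap _ (V₀.2.isClosed_compl.preimage t.left.continuous)
    · intro hu
      rw [← horbit] at hu
      obtain ⟨u', hu'c, hu'⟩ := hu
      exact hu'c (h u' hu')
  let W : Set (Points X) := Points.ofPt a '' Ũ
  have hW : IsOpen W := isOpenMap_ofPt_of_repWith_etale a he Ũ hŨo
  have hpre : Points.ofPt a ⁻¹' W = Ũ := by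
    ext u; constructor
    · rintro ⟨u₁, hu₁, e⟩; exact hsat u₁ hu₁ u e.symm
    · intro hu; exact ⟨u, hu, rfl⟩
  obtain ⟨V, fst, hV, sqV⟩ := exists_isPullback_openSubι W hW a
  rw [hpre] at hV
  have hfst_f : RepWith @IsFinite fst := (RepWith @IsFinite).of_isPullback sqV.flip hf
  have hfst_e : RepWith @Etale fst := (RepWith @Etale).of_isPullback sqV.flip he
  have hfst_s : RepWith @Surjective fst := (RepWith @Surjective).of_isPullback sqV.flip hs
  have hfstpt : ∀ x : (overOpen U V).left,
      Points.map (openSubι X W) (Points.ofPt fst x) = Points.ofPt a (V.ι x) := by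
    intro x
    rw [Points.map_ofPt, sqV.w, ofPt_yon_map_comp]; rfl
  have hcodim : ∀ x, HasAt (fun U u => ringKrullDim ↥(U.presheaf.stalk u) = 0) X x → x ∈ W := by
    intro x hx
    obtain ⟨u, rfl⟩ := ofPt_surjective_of_repWith_surjective a hs x
    refine ⟨u, ?_, rfl⟩
    have hx' : HasAt (fun U u => ringKrullDim ↥(U.presheaf.stalk u) ≤ 0) X (Points.ofPt a u) := by
      obtain ⟨V₁, b₁, v₁, hb₁, hv₁, hd⟩ := hx
      exact ⟨V₁, b₁, v₁, hb₁, hv₁, hd.le⟩
    obtain ⟨V₀, hV₀, hTV₀⟩ := exists_isAffineOpen_of_finite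
      {u' | Points.ofPt a u' = Points.ofPt a u} (hfin u) (by
        intro u' hu'
        apply le_antisymm
        · exact QFCodimOne.ringKrullDim_le_of_hasAt _ 0 hx' a he u' hu'
        · exact ringKrullDim_nonneg_of_nontrivial)
    exact ⟨V₀, hV₀, fun u' hu' => hTV₀ hu'⟩
  obtain ⟨M, e, -, -, -⟩ := exists_scheme_quot fst hfst_e hfst_f hfst_s (by
    intro x
    have hxŨ : (V.ι x) ∈ Ũ := by rw [← hV]; exact x.2
    obtain ⟨V₀, hV₀, h⟩ := hxŨ
    let T : Set U.left := {u' | Points.ofPt a u' = Points.ofPt a (V.ι x)}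
    have hTV₀ : T ⊆ V₀ := fun u' hu' => h u' hu'
    have hTV : T ⊆ V := fun u' hu' => by
      rw [hV]; exact hsat _ ⟨V₀, hV₀, h⟩ u' hu'
    obtain ⟨f, hfV, hTf⟩ :=
      Groth.Agent.H40.GQ.exists_basicOpen_le_of_finite hV₀ V T (hfin _) hTV₀ hTV
    refine ⟨V.ι ⁻¹ᵁ (U.left.basicOpen f),
      (hV₀.basicOpen f).preimage_of_isOpenImmersion V.ι (by
        rw [Scheme.Opens.opensRange_ι]; exact hfV), ?_⟩
    intro x' hx'
    apply hTf
    change Points.ofPt a (V.ι x') = Points.ofPt a (V.ι x)
    rw [← hfstpt, ← hfstpt, hx'])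
  refine ⟨W, hW, M, ⟨e⟩, ?_, hcodim⟩
  rw [dense_iff_inter_open]
  rintro O hO ⟨x, hxO⟩
  obtain ⟨u, rfl⟩ := ofPt_surjective_of_repWith_surjective a hs x
  let O' : U.left.Opens := ⟨Points.ofPt a ⁻¹' O, hO.preimage (Points.continuous_ofPt a)⟩
  obtain ⟨η, hηO, hη⟩ := exists_dim_zero_mem_open O' u hxO
  exact ⟨Points.ofPt a η, hηO, hcodim _ ⟨U, a, η, he, rfl, hη⟩⟩

end Groth.Agent.H52.FinEtSchematic
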