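import Groth.Agent.H52.FinEtSchematic
import Groth.Agent.H53.ZMT.FinSplit
import Groth.Agent.H50.ProperImage

/-!
# A sheaf with a finite locally free surjective chart from a scheme whose fibres lie in affine
opens is a scheme
-/

set_option autoImplicit false
universe u
open CategoryTheory CategoryTheory.Limits AlgebraicGeometry Opposite

namespace Groth.Agent.H52.FinLocFreeQuot

open AlgSp Groth.Agent.H50 Groth.Agent.H51 Groth.Agent.H53.ZMT

variable {S : Scheme.{u}}

theorem finLocFree_le_isFinite : (finLocFree : MorphismProperty Scheme.{u}) ≤ @IsFinite :=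
  fun _ _ _ hg => hg.1

theorem finLocFree_le_flat : (finLocFree : MorphismProperty Scheme.{u}) ≤ @Flat :=
  fun _ _ _ hg => hg.2.1

theorem finLocFree_le_lfp :
    (finLocFree : MorphismProperty Scheme.{u}) ≤ @LocallyOfFinitePresentation :=
  fun _ _ _ hg => hg.2.2

/-- A cartesian square `R = U ×_X U` gives an equivalence relation. -/
theorem isEqvRel_of_isPullback {F : Sp S} {R U : Over S} (s t : R ⟶ U)
    (a : (yon S).obj U ⟶ F)
    (sq : IsPullback ((yon S).map t) ((yon S).map s) a a) : IsEqvRel s t := by
  have key : ∀ (T : Over S) (x y : T ⟶ U),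
      (∃ r : T ⟶ R, r ≫ t = x ∧ r ≫ s = y) ↔ (yon S).map x ≫ a = (yon S).map y ≫ a := by
    intro T x y
    constructor
    · rintro ⟨r, rfl, rfl⟩
      rw [Functor.map_comp, Functor.map_comp, Category.assoc, Category.assoc, sq.w]
    · intro h
      obtain ⟨r, hr⟩ := (yon S).map_surjective (sq.lift _ _ h)
      refine ⟨r, (yon S).map_injective ?_, (yon S).map_injective ?_⟩
      · rw [Functor.map_comp, hr, sq.lift_fst]
      · rw [Functor.map_comp, hr, sq.lift_snd]
  refine ⟨?_, ?_⟩
  · intro T r r' h1 h2
    apply (yon S).map_injective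
    apply sq.hom_ext
    · rw [← Functor.map_comp, ← Functor.map_comp, h1]
    · rw [← Functor.map_comp, ← Functor.map_comp, h2]
  · intro T
    exact ⟨fun x => (key T x x).2 rfl, fun {x y} h => (key T y x).2 ((key T x y).1 h).symm,
      fun {x y z} h1 h2 => (key T x z).2 (((key T x y).1 h1).trans ((key T y z).1 h2))⟩

/-- The fibres of a representable finite chart are finite. -/
theorem finite_fibre_ofPt {F : Sp S} {V : Over S} (q : (yon S).obj V ⟶ F)
    (hq : RepWith @IsFinite q) (x : V.left) :
    {x' : V.left | Points.ofPt q x' = Points.ofPt q x}.Finite := by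
  have hrep : Representable q := hq.rep
  have sq := hrep.isPullback q
  obtain ⟨t, ht⟩ := (yon S).map_surjective (hrep.fst q)
  set s := hrep.snd q with hs
  rw [← ht] at sq
  have htfin : IsFinite t.left := hq.property q _ t sq.flip
  have : {x' | Points.ofPt q x' = Points.ofPt q x} = s.left '' (t.left ⁻¹' {x}) := by
    rw [← preimage_ofPt_image_ofPt sq]; ext u'; simp [eq_comm]
  rw [this]
  exact (Scheme.Hom.finite_preimage_singleton t.left x).image _

/-- A sheaf with a finite locally free surjective chart from a scheme, such that every fibre of the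
chart lies in an affine open, is a scheme, and the chart is finite over it. -/
theorem exists_scheme_quot_flf {F : Sp S} {V : Over S}
    (q : (yon S).obj V ⟶ F) (hq : RepWith finLocFree q) (hqs : RepWith @Surjective q)
    (horb : ∀ x : V.left, ∃ V₀ : V.left.Opens, IsAffineOpen V₀ ∧
      ∀ x' : V.left, Points.ofPt q x' = Points.ofPt q x → x' ∈ V₀) :
    ∃ (M : Over S) (e : (yon S).obj M ≅ F) (π : V ⟶ M),
      (yon S).map π ≫ e.hom = q ∧ IsFinite π.left := by
  have hrep : Representable q := hq.rep
  have sq := hrep.isPullback q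
  obtain ⟨t, ht⟩ := (yon S).map_surjective (hrep.fst q)
  set s := hrep.snd q with hs
  rw [← ht] at sq
  have heq : IsEqvRel s t := isEqvRel_of_isPullback s t q sq
  have hsflf : finLocFree s.left := hq.property q _ s sq
  have hsfin : IsFinite s.left := hsflf.1
  have i4 : Flat s.left := hsflf.2.1
  have i5 : LocallyOfFinitePresentation s.left := hsflf.2.2
  obtain ⟨M, π, hπfin, hπfl, hπlfp, hπsurj, hpb, -⟩ :=
    Groth.Agent.H40.GQ.exists_quotient_of_isEqvRel s t heq (by
      intro x
      obtain ⟨V₀, hV₀, h⟩ := horb x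
      refine ⟨V₀, hV₀, fun r hr => h _ ?_⟩
      rw [← hr, ← Groth.Agent.H52.ofPt_yon_map_comp, ← Groth.Agent.H52.ofPt_yon_map_comp, sq.w])
  have hpbO : IsPullback t s π π := by
    refine IsPullback.of_map (Over.forget S) ?_ hpb
    ext1
    exact hpb.w
  have sqM : IsPullback ((yon S).map t) ((yon S).map s) ((yon S).map π) ((yon S).map π) :=
    hpbO.map (yon S)
  have hπls : Sheaf.IsLocallySurjective ((yon S).map π) := isLocallySurjective_yon_map_of_fppf π
  have hπepi : Epi ((yon S).map π) := (Sheaf.isLocallySurjective_iff_epi _).1 hπls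
  have hqls : Sheaf.IsLocallySurjective q :=
    Groth.Agent.H53.isLocallySurjective_of_repWith q
      (Groth.Agent.H51.repWith_mono finLocFree_le_flat hq)
      (Groth.Agent.H51.repWith_mono finLocFree_le_lfp hq) hqs
  have hqepi : Epi q := (Sheaf.isLocallySurjective_iff_epi _).1 hqls
  obtain ⟨d, hd⟩ := exists_iso_of_kernelPair_eq ((yon S).map π) q sqM sq
  exact ⟨M, d, π, hd, hπfin⟩

end Groth.Agent.H52.FinLocFreeQuot
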