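import Groth.Agent.H52.FinLocFreeQuot
import Groth.Agent.H51.SpField2

/-!
# Schematic locus and finite locally free covers
-/

set_option autoImplicit false
universe u
open CategoryTheory CategoryTheory.Limits AlgebraicGeometry Opposite

namespace Groth.Agent.H52.FinLocFreeQuot

open AlgSp Groth.Agent.H50 Groth.Agent.H51 Groth.Agent.H53.ZMT

variable {S : Scheme.{u}}

theorem isOpenImmersion_le_etale :
    (@IsOpenImmersion : MorphismProperty Scheme.{u}) ≤ @Etale := fun _ _ k hk => by
  have : IsOpenImmersion k := hk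
  exact (inferInstance : Etale k)

/-- If the fibre over `y` of a surjective finite locally free morphism `f : X ⟶ Y` lies in an
affine open subscheme of `X`, then `y` has an open neighbourhood which is a scheme. -/
theorem exists_open_subscheme_of_fibre_affine {X Y : Sp S} (hY : IsAlgSpace Y) (f : X ⟶ Y)
    (hf : RepWith finLocFree f) (hs : RepWith @Surjective f) (y : Points Y)
    {U : Over S} (hU : IsAffine U.left) (a : (yon S).obj U ⟶ X)
    (ha : RepWith @IsOpenImmersion a)
    (hfib : Points.map f ⁻¹' {y} ⊆ Set.range (Points.ofPt a)) :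
    ∃ (W : Set (Points Y)) (_ : IsOpen W) (M : Over S),
      Nonempty ((yon S).obj M ≅ openSubSp Y W) ∧ y ∈ W := by
  have hUC : RepWith @UniversallyClosed f :=
    Groth.Agent.H51.repWith_mono (finLocFree_le_isFinite.trans isFinite_le_universallyClosed) hf
  have hcl : IsClosedMap (Points.map f) :=
    isClosedMap_of_isUnivClosedMor hY f (Groth.Agent.H49.isUnivClosedMor_of_repWith hUC)
  have hae : RepWith @Etale a := Groth.Agent.H51.repWith_mono isOpenImmersion_le_etale ha
  have hAo : IsOpen (Set.range (Points.ofPt a)) := by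
    rw [← Set.image_univ]
    exact isOpenMap_ofPt_of_repWith_etale a hae _ isOpen_univ
  let W : Set (Points Y) := (Points.map f '' (Set.range (Points.ofPt a))ᶜ)ᶜ
  have hW : IsOpen W := (hcl _ hAo.isClosed_compl).isOpen_compl
  have hyW : y ∈ W := by
    rintro ⟨x, hx, hxy⟩
    exact hx (hfib hxy)
  have hpre : ∀ x, Points.map f x ∈ W → x ∈ Set.range (Points.ofPt a) := by
    intro x hx
    by_contra hc
    exact hx ⟨x, hc, rfl⟩
  let V : U.left.Opens := ⟨Points.ofPt (a ≫ f) ⁻¹' W, hW.preimage (Points.continuous_ofPt _)⟩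
  let ι := (yon S).map (overOpenι U V) ≫ a
  have hι : RepWith @IsOpenImmersion ι :=
    (RepWith @IsOpenImmersion).comp_mem _ _ (repWith_isOpenImmersion_overOpenι U V) ha
  have hιm : Mono ι := Groth.Agent.H49.mono_of_repWith_mono Groth.Agent.H51.isOpenImmersion_le_mono ι hι
  have hjm : Mono (openSubι Y W) := Groth.Agent.H49.mono_of_repWith_mono
    Groth.Agent.H51.isOpenImmersion_le_mono _
    (repWith_isOpenImmersion_openSubι W hW)
  have hιpt : ∀ v : (overOpen U V).left, Points.ofPt ι v = Points.ofPt a (V.ι v) := fun v =>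
    ofPt_yon_map_comp _ _ _
  obtain ⟨q, hq⟩ := (exists_factor_openSubι_iff W (ι ≫ f)).2 (by
    intro v
    rw [← Points.map_ofPt, hιpt, Points.map_ofPt]
    exact v.2)
  have hιrange : ∀ x, Points.map f x ∈ W → x ∈ Set.range (Points.map ι) := by
    intro x hx
    obtain ⟨u, rfl⟩ := hpre x hx
    have huV : u ∈ V := by
      change Points.ofPt (a ≫ f) u ∈ W
      rw [← Points.map_ofPt]; exact hx
    refine ⟨Points.ofScheme _ (⟨u, huV⟩ : V.toScheme), ?_⟩
    rw [← Points.ofPt_eq_map_ofScheme, hιpt]
    rfl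
  have sqV : IsPullback q ι (openSubι Y W) f := by
    refine isPullback_of_forall_yon hq ?_
    intro T a' b' hab
    have hb' : Set.range (Points.map b') ⊆ Set.range (Points.map ι) := by
      rintro _ ⟨p, rfl⟩
      apply hιrange
      rw [← Points.map_comp, ← hab, Points.map_comp]
      exact (range_map_openSubι W).subset ⟨_, rfl⟩
    obtain ⟨p, hp⟩ := (exists_factor_iff_of_isOpenImmersion' ι hι b').2 hb'
    refine ⟨p, ⟨?_, hp⟩, ?_⟩
    · rw [← cancel_mono (openSubι Y W), Category.assoc, hq, ← Category.assoc, hp, hab]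
    · rintro p' ⟨-, hp'⟩
      rw [← cancel_mono ι, hp, hp']
  have hq_flf : RepWith finLocFree q := (RepWith finLocFree).of_isPullback sqV.flip hf
  have hq_s : RepWith @Surjective q := (RepWith @Surjective).of_isPullback sqV.flip hs
  have hq_fin : RepWith @IsFinite q := Groth.Agent.H51.repWith_mono finLocFree_le_isFinite hq_flf
  obtain ⟨M, e, -, -, -⟩ := exists_scheme_quot_flf q hq_flf hq_s (by
    intro x
    have hT := finite_fibre_ofPt q hq_fin x
    have hU' : IsAffineOpen (⊤ : U.left.Opens) := isAffineOpen_top U.left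
    obtain ⟨g, hgV, hTg⟩ := Groth.Agent.H40.GQ.exists_basicOpen_le_of_finite hU' V
      (V.ι '' {x' | Points.ofPt q x' = Points.ofPt q x}) (hT.image _)
      (fun _ _ => trivial) (by rintro _ ⟨x', -, rfl⟩; exact x'.2)
    refine ⟨V.ι ⁻¹ᵁ (U.left.basicOpen g),
      (hU'.basicOpen g).preimage_of_isOpenImmersion V.ι (by
        rw [Scheme.Opens.opensRange_ι]; exact hgV), ?_⟩
    intro x' hx'
    exact hTg ⟨x', hx', rfl⟩)
  exact ⟨W, hW, M, ⟨e⟩, hyW⟩

/-- A point of the schematic locus of `Y` has its fibre under a finite locally free morphism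
contained in an affine open subscheme. -/
theorem exists_affine_open_of_schematic {X Y : Sp S} (f : X ⟶ Y)
    (hf : RepWith finLocFree f) (y : Points Y)
    {G : Over S} (jG : (yon S).obj G ⟶ Y) (hjG : RepWith @IsOpenImmersion jG) (g₀ : G.left)
    (hg₀ : Points.ofPt jG g₀ = y) :
    ∃ (U : Over S) (a : (yon S).obj U ⟶ X), IsAffine U.left ∧ RepWith @IsOpenImmersion a ∧
      Points.map f ⁻¹' {y} ⊆ Set.range (Points.ofPt a) := by
  obtain ⟨_, ⟨V₀, hV₀, rfl⟩, hgV₀, -⟩ :=
    G.left.isBasis_affineOpens.exists_subset_of_mem_open (Set.mem_univ g₀) isOpen_univ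
  have hV₀' : IsAffineOpen V₀ := hV₀
  let b := (yon S).map (overOpenι G V₀) ≫ jG
  have hb : RepWith @IsOpenImmersion b :=
    (RepWith @IsOpenImmersion).comp_mem _ _ (repWith_isOpenImmersion_overOpenι G V₀) hjG
  have hrep : Representable f := hf.rep
  have sq := hrep.isPullback b
  have hflf : finLocFree (hrep.snd b).left := hf.property_snd b
  have hfin : IsFinite (hrep.snd b).left := hflf.1
  have hVaff : IsAffine (overOpen G V₀).left := hV₀'
  have hPaff : IsAffine (hrep.pullback b).left := isAffine_of_isAffineHom (hrep.snd b).left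
  refine ⟨hrep.pullback b, hrep.fst b, hPaff,
    (RepWith @IsOpenImmersion).of_isPullback sq.flip hb, ?_⟩
  intro x hx
  have hV₀' : IsAffineOpen V₀ := hV₀
  have hy : Points.map f x =
      Points.map b (Points.ofScheme (overOpen G V₀) (⟨g₀, hgV₀⟩ : (V₀ : G.left.Opens))) := by
    rw [← Points.ofPt_eq_map_ofScheme, ofPt_yon_map_comp, hx]
    exact hg₀.symm
  obtain ⟨z, hz, -⟩ := exists_point_of_isPullback sq x _ hy
  refine ⟨Points.toScheme _ z, ?_⟩
  rw [Points.ofPt_eq_map_ofScheme, Points.ofScheme_toScheme, hz]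

end Groth.Agent.H52.FinLocFreeQuot
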