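import Groth.Agent.H52.Special

set_option autoImplicit false
universe u
open CategoryTheory CategoryTheory.Limits AlgebraicGeometry Opposite

namespace Groth.Agent.H52

open AlgSp

variable {S : Scheme.{u}}

/-- S10363 for sheaves: finiteness of the fibre over `x` of a jointly surjective family of etale
charts passes to every quasi-compact etale chart. -/
theorem finite_fibre_of_etale_cover {F : Sp S} (x : Points F) {ι : Type*} (U : ι → Over S)
    (φ : ∀ i, (yon S).obj (U i) ⟶ F) (hφ : ∀ i, RepWith @Etale (φ i))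
    (hsurj : ∀ y : Points F, ∃ (i : ι) (v : ↥(U i).left), Points.ofPt (φ i) v = y)
    (hfin : ∀ i, (Points.ofPt (φ i) ⁻¹' {x}).Finite)
    {V : Over S} [CompactSpace ↥V.left] (ψ : (yon S).obj V ⟶ F) (hψ : RepWith @Etale ψ) :
    (Points.ofPt ψ ⁻¹' {x}).Finite := by
  -- the fibre products `W i = U i ×_F V`
  have hW : ∀ i, ∃ (W : Over S) (q : W ⟶ U i) (p : W ⟶ V),
      IsPullback ((yon S).map q) ((yon S).map p) (φ i) ψ ∧ Etale q.left ∧ Etale p.left := by
    intro i
    obtain ⟨q, hq⟩ := (yon S).map_surjective ((hφ i).rep.fst ψ)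
    have hpb : IsPullback ((yon S).map q) ((yon S).map ((hφ i).rep.snd ψ)) (φ i) ψ := by
      rw [hq]; exact (hφ i).rep.isPullback ψ
    exact ⟨_, q, _, hpb, hψ.property (φ i) _ q hpb.flip, (hφ i).property_snd ψ⟩
  choose W q p hpb hqet hpet using hW
  -- a compact open around a preimage of each point of `V`
  have hcov : ∀ v : ↥V.left, ∃ (i : ι) (K : (W i).left.Opens), IsCompact (K : Set ↥(W i).left) ∧
      v ∈ (p i).left '' (K : Set ↥(W i).left) := by
    intro v
    obtain ⟨i, u, hu⟩ := hsurj (Points.ofPt ψ v)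
    obtain ⟨w, -, hw⟩ := (ofPt_eq_iff_of_isPullback (hpb i) u v).1 hu
    obtain ⟨_, ⟨K, hK, rfl⟩, hwK, -⟩ :=
      (W i).left.isBasis_affineOpens.exists_subset_of_mem_open (Set.mem_univ w) isOpen_univ
    have hK' : IsAffineOpen K := hK
    exact ⟨i, K, hK'.isCompact, w, hwK, hw⟩
  choose i K hK hvK using hcov
  have hopen : ∀ v, IsOpen ((p (i v)).left '' (K v : Set ↥(W (i v)).left)) := fun v =>
    (p (i v)).left.isOpenMap _ (K v).isOpen
  obtain ⟨t, ht⟩ := isCompact_univ.elim_finite_subcover _ hopen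
    (fun v _ => Set.mem_iUnion.2 ⟨v, hvK v⟩)
  -- each piece meets the fibre in a finite set
  have hpiece : ∀ v, ((p (i v)).left '' (K v : Set ↥(W (i v)).left) ∩
      Points.ofPt ψ ⁻¹' {x}).Finite := by
    intro v
    have hlqf := etale_locallyQuasiFinite (q (i v)).left
    have h1 : ((K v : Set ↥(W (i v)).left) ∩
        (q (i v)).left ⁻¹' (Points.ofPt (φ (i v)) ⁻¹' {x})).Finite := by
      have : (K v : Set ↥(W (i v)).left) ∩ (q (i v)).left ⁻¹' (Points.ofPt (φ (i v)) ⁻¹' {x}) =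
          ⋃ u ∈ Points.ofPt (φ (i v)) ⁻¹' {x},
            ((K v : Set ↥(W (i v)).left) ∩ (q (i v)).left ⁻¹' {u}) := by
        ext w
        simp only [Set.mem_inter_iff, Set.mem_preimage, Set.mem_singleton_iff, Set.mem_iUnion,
          exists_prop]
        constructor
        · rintro ⟨h1, h2⟩
          exact ⟨_, h2, h1, rfl⟩
        · rintro ⟨u, h2, h1, rfl⟩
          exact ⟨h1, h2⟩
      rw [this]
      exact (hfin (i v)).biUnion fun u _ =>
        finite_inter_preimage_singleton (q (i v)).left (K v) (hK v) u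
    refine (h1.image (p (i v)).left).subset ?_
    rintro _ ⟨⟨w, hwK, rfl⟩, hwx⟩
    refine ⟨w, ⟨hwK, ?_⟩, rfl⟩
    change Points.ofPt (φ (i v)) ((q (i v)).left w) = x
    rw [(ofPt_eq_iff_of_isPullback (hpb (i v)) _ _).2 ⟨w, rfl, rfl⟩]
    exact hwx
  refine (Set.Finite.biUnion t.finite_toSet (fun v _ => hpiece v)).subset ?_
  intro v' hv'
  obtain ⟨v, hvt, hv⟩ := Set.mem_iUnion₂.1 (ht (Set.mem_univ v'))
  exact Set.mem_iUnion₂.2 ⟨v, hvt, hv, hv'⟩

end Groth.Agent.H52
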