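import Groth.Agent.H52.FpqcTop
import Groth.Agent.H52.FlatDescent
import Groth.Agent.H53.LocPBase
import Groth.Agent.H50.LocPClass
import Mathlib.AlgebraicGeometry.Morphisms.UniversallyOpen

set_option autoImplicit false
universe u
open CategoryTheory CategoryTheory.Limits AlgebraicGeometry Opposite TopologicalSpace

namespace Groth.Agent.H52

open AlgSp

variable {S : Scheme.{u}}

/-- Over a quasi-compact scheme, finitely many affine opens of the members of a jointly surjective family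
of open morphisms have images covering the target. -/
theorem exists_finite_affine_family' {ι : Type*} {Z : Scheme.{u}} (Z' : ι → Scheme.{u})
    (e : ∀ i, Z' i ⟶ Z) (he : ∀ i, IsOpenMap (e i)) (hs : ∀ z : Z, ∃ i, z ∈ Set.range (e i))
    [CompactSpace Z] :
    ∃ (m : ℕ) (i : Fin m → ι) (U : ∀ j, (Z' (i j)).affineOpens),
      ∀ z : Z, ∃ j, z ∈ (e (i j)) '' ((U j : (Z' (i j)).Opens) : Set (Z' (i j))) := by
  classical
  have hcov : (Set.univ : Set Z) ⊆
      ⋃ r : Σ i, (Z' i).affineOpens, (e r.1) '' ((r.2 : (Z' r.1).Opens) : Set (Z' r.1)) := by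
    intro z _
    obtain ⟨i, z', rfl⟩ := hs z
    obtain ⟨U, hU, hz', -⟩ := exists_isAffineOpen_mem_and_subset (x := z') (U := ⊤) trivial
    exact Set.mem_iUnion.2 ⟨⟨i, ⟨U, hU⟩⟩, z', hz', rfl⟩
  obtain ⟨t, ht⟩ := isCompact_univ.elim_finite_subcover
    (fun r : Σ i, (Z' i).affineOpens => (e r.1) '' ((r.2 : (Z' r.1).Opens) : Set (Z' r.1)))
    (fun r => he r.1 _ r.2.1.2) hcov
  refine ⟨t.card, fun j => (t.equivFin.symm j).1.1, fun j => (t.equivFin.symm j).1.2, fun z => ?_⟩
  obtain ⟨r, hrt, hz⟩ := Set.mem_iUnion₂.1 (ht (Set.mem_univ z))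
  obtain ⟨j, hj⟩ : ∃ j, t.equivFin.symm j = ⟨r, hrt⟩ :=
    ⟨t.equivFin ⟨r, hrt⟩, Equiv.symm_apply_apply _ _⟩
  refine ⟨j, ?_⟩
  beta_reduce
  rw [hj]
  exact hz

/-- For an fppf covering `X i ⟶ X` of an algebraic space and a scheme `T` over `X`, there are schemes
`U i`, flat and locally of finite presentation over `T` and jointly surjective, with `U i ⟶ T ⟶ X`
lifting to `X i`. -/
theorem exists_fppf_charts {ι : Type u} {X : Sp S} (hX : IsAlgSpace X) (Xi : ι → Sp S)
    (hXi : ∀ i, IsAlgSpace (Xi i)) (g : ∀ i, Xi i ⟶ X) (h : IsFppfCover Xi g) (T : Over S)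
    (t : (yon S).obj T ⟶ X) :
    ∃ (U : ι → Over S) (u : ∀ i, U i ⟶ T) (l : ∀ i, (yon S).obj (U i) ⟶ Xi i),
      (∀ i, Flat (u i).left) ∧ (∀ i, LocallyOfFinitePresentation (u i).left) ∧
      (∀ z : ↥T.left, ∃ i, z ∈ Set.range (u i).left) ∧
      ∀ i, l i ≫ g i = (yon S).map (u i) ≫ t := by
  have hGf := Groth.Agent.H50.goodClass_flat.{u}
  have hGp := Groth.Agent.H50.goodClass_lfp.{u}
  have hP : ∀ i, IsAlgSpace (pullback t (g i)) := fun i =>
    Groth.Agent.H49.isAlgSpace_of_isPullback (IsPullback.of_hasPullback t (g i)) hX.diag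
      (IsAlgSpace.yon_obj T) (hXi i)
  choose U φ hφe hφs using fun i => (hP i).atlas
  choose u hu using fun i => (yon S).map_surjective (φ i ≫ pullback.fst t (g i))
  refine ⟨U, u, fun i => φ i ≫ pullback.snd t (g i), fun i => ?_, fun i => ?_, fun z => ?_,
    fun i => ?_⟩
  · have h1 : LocP @Flat (pullback.fst t (g i)) :=
      Groth.Agent.H53.locP_of_isPullback @Flat hGf.etale_le (fun e h he hes H => hGf.src e h he hes H)
        (hXi i) hX (IsAlgSpace.yon_obj T) (IsPullback.of_hasPullback t (g i)).flip (h.1 i).1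
    exact h1 (φ i) (𝟙 _) (u i) (hφe i) (repWith_id _ _) (by rw [Category.comp_id, hu])
  · have h1 : LocP @LocallyOfFinitePresentation (pullback.fst t (g i)) :=
      Groth.Agent.H53.locP_of_isPullback @LocallyOfFinitePresentation hGp.etale_le
        (fun e h he hes H => hGp.src e h he hes H)
        (hXi i) hX (IsAlgSpace.yon_obj T) (IsPullback.of_hasPullback t (g i)).flip (h.1 i).2
    exact h1 (φ i) (𝟙 _) (u i) (hφe i) (repWith_id _ _) (by rw [Category.comp_id, hu])
  · obtain ⟨i, xi, hxi⟩ := h.2 (Points.ofPt t z)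
    obtain ⟨w, hw1, hw2⟩ := exists_point_of_isPullback (IsPullback.of_hasPullback t (g i))
      (Points.ofScheme T z) xi (by rw [← Points.ofPt_eq_map_ofScheme]; exact hxi.symm)
    obtain ⟨y, hy⟩ := ofPt_surjective_of_repWith_surjective (φ i) (hφs i) w
    refine ⟨i, y, ?_⟩
    apply (Points.schemeEquiv T).injective
    change Points.ofPt (𝟙 _) ((u i).left y) = Points.ofScheme T z
    rw [← ofPt_yon_map_comp, Category.comp_id, hu, ← Points.map_ofPt, hy, hw1]
  · rw [Category.assoc, ← pullback.condition, ← Category.assoc, ← hu]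

/-- An fppf covering of an algebraic space by algebraic spaces satisfies the fpqc refinement
condition. -/
theorem fpqcRefine_of_isFppfCover {ι : Type u} {X : Sp S} (hX : IsAlgSpace X) (Xi : ι → Sp S)
    (hXi : ∀ i, IsAlgSpace (Xi i)) (g : ∀ i, Xi i ⟶ X) (h : IsFppfCover Xi g) : FpqcRefine Xi g := by
  intro T hT t
  obtain ⟨U, u, l, hflat, hlfp, hsurj, hl⟩ := exists_fppf_charts hX Xi hXi g h T t
  have hopen : ∀ i, IsOpenMap (u i).left := fun i => by
    have := hflat i; have := hlfp i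
    exact (u i).left.isOpenMap
  have hc : CompactSpace ↥T.left := by
    have : IsAffine T.left := hT
    infer_instance
  obtain ⟨m, i, V, hV⟩ := exists_finite_affine_family' (fun i => (U i).left) (fun i => (u i).left)
    hopen hsurj
  refine ⟨m, fun j => Groth.Agent.H53.overOf (U (i j)) (V j).1.ι,
    fun j => Groth.Agent.H53.overHom (U (i j)) (V j).1.ι ≫ u (i j), fun j => (V j).2,
    fun j => ?_, fun z => ?_, fun j => ⟨i j,
      (yon S).map (Groth.Agent.H53.overHom (U (i j)) (V j).1.ι) ≫ l (i j), ?_⟩⟩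
  · simp only [Over.comp_left, Over.homMk_left]
    have := hflat (i j)
    infer_instance
  · obtain ⟨j, z', hz', rfl⟩ := hV z
    refine ⟨j, ⟨⟨z', hz'⟩, ?_⟩⟩
    simp only [Over.comp_left, Over.homMk_left]
    rfl
  · rw [Category.assoc, hl, Functor.map_comp, Category.assoc]

/-- A jointly surjective family of flat, locally finitely presented morphisms of schemes over `S`
generates a covering sieve of the fppf topology. -/
theorem sieve_ofArrows_mem_J_of_fppf {T : Over S} {κ : Type u} (Tk : κ → Over S)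
    (c : ∀ k, Tk k ⟶ T) (h1 : ∀ k, Flat (c k).left)
    (h2 : ∀ k, LocallyOfFinitePresentation (c k).left)
    (h3 : ∀ t : ↥T.left, ∃ k, t ∈ Set.range (c k).left) : Sieve.ofArrows Tk c ∈ J S T := by
  rw [GrothendieckTopology.mem_over_iff]
  have hmem : Presieve.ofArrows (fun k => (Tk k).left) (fun k => (c k).left) ∈
      Scheme.fppfPrecoverage T.left := by
    rw [Scheme.fppfPrecoverage, Scheme.ofArrows_mem_precoverage_iff]
    exact ⟨h3, fun k => ⟨h1 k, h2 k⟩⟩
  refine GrothendieckTopology.superset_covering _ ?_ (Precoverage.generate_mem_toGrothendieck hmem)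
  rw [Sieve.generate_le_iff]
  rintro W w ⟨k⟩
  rw [Sieve.overEquiv_iff]
  refine ⟨Tk k, Over.homMk (𝟙 _) (by simp), c k, ⟨k⟩, ?_⟩
  ext
  simp

/-- A family through which a family satisfying the refinement condition factors satisfies it. -/
theorem FpqcRefine.of_factor {ι κ : Type u} {Z : Sp S} {Zr : κ → Sp S} {a : ∀ r, Zr r ⟶ Z}
    (h : FpqcRefine Zr a) {Xi : ι → Sp S} (g : ∀ i, Xi i ⟶ Z)
    (hfac : ∀ r, ∃ (i : ι) (b : Zr r ⟶ Xi i), b ≫ g i = a r) : FpqcRefine Xi g := by
  intro T hT t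
  obtain ⟨m, W, c, hW, hc, hs, hl⟩ := h T hT t
  refine ⟨m, W, c, hW, hc, hs, fun j => ?_⟩
  obtain ⟨r, l, hl⟩ := hl j
  obtain ⟨i, b, hb⟩ := hfac r
  exact ⟨i, l ≫ b, by rw [Category.assoc, hb, hl]⟩

/-- An etale surjective chart satisfies the fpqc refinement condition. -/
theorem fpqcRefine_of_chart {X : Sp S} (hX : IsAlgSpace X) {U : Over S} (p : (yon S).obj U ⟶ X)
    (hp : RepWith @Etale p) (hps : RepWith @Surjective p) :
    FpqcRefine (fun _ : PUnit.{u + 1} => (yon S).obj U) (fun _ => p) := by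
  have hGf := Groth.Agent.H50.goodClass_flat.{u}
  have hGp := Groth.Agent.H50.goodClass_lfp.{u}
  refine fpqcRefine_of_isFppfCover hX _ (fun _ => IsAlgSpace.yon_obj U) _
    ⟨fun _ => ⟨hGf.locP_of_repWith_etale p hp, hGp.locP_of_repWith_etale p hp⟩, fun x => ?_⟩
  obtain ⟨y, hy⟩ := ofPt_surjective_of_repWith_surjective p hps x
  exact ⟨PUnit.unit, Points.ofScheme U y, by rw [← Points.ofPt_eq_map_ofScheme]; exact hy⟩

/-- A family of morphisms of algebraic spaces is an fpqc covering iff its base change to an etale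
surjective chart is one. -/
theorem isFpqcCover_iff_of_chart {ι : Type u} {X : Sp S} (hX : IsAlgSpace X) (Xi : ι → Sp S)
    (hXi : ∀ i, IsAlgSpace (Xi i)) (g : ∀ i, Xi i ⟶ X) {U : Over S} (p : (yon S).obj U ⟶ X)
    (hp : RepWith @Etale p) (hps : RepWith @Surjective p) (Ui : ι → Sp S)
    (q : ∀ i, Ui i ⟶ (yon S).obj U) (p' : ∀ i, Ui i ⟶ Xi i)
    (sq : ∀ i, IsPullback (q i) (p' i) p (g i)) :
    IsFpqcCover Xi g ↔ IsFpqcCover Ui q := by
  have hGf := Groth.Agent.H50.goodClass_flat.{u}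
  constructor
  · intro h
    refine ⟨fun i => ?_, FpqcRefine.baseChange (Yi := Xi) (g := g) h.2 p _ _ p' sq⟩
    exact Groth.Agent.H53.locP_of_isPullback @Flat hGf.etale_le
      (fun e h he hes H => hGf.src e h he hes H) (hXi i) hX (IsAlgSpace.yon_obj U) (sq i).flip (h.1 i)
  · intro h
    refine ⟨fun i => ?_, ?_⟩
    · exact Groth.Agent.H50.locP_of_isPullback_atlas @Flat
        (fun h v u h' sq hv hvs hP =>
          Groth.Agent.H50.descends_etale_of_descendsAlong @Flat h v u h' sq hv hvs hP)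
        (g i) U p hp hps (p' i) (q i) (sq i).flip (h.1 i)
    · have h1 := FpqcRefine.comp (fpqcRefine_of_chart hX p hp hps) (κ := fun _ => ι)
        (Zij := fun _ i => Ui i) (aij := fun _ i => q i) (fun _ => h.2)
      exact h1.of_factor g fun r => ⟨r.2, p' r.2, (sq r.2).w.symm⟩

end Groth.Agent.H52
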