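import Groth.Agent.H53.LocalBase
import Groth.Agent.H53.Points
import Groth.Agent.H49.AlgSpQC
import Groth.Agent.H52.AtlasLocal

set_option autoImplicit false
universe u
open CategoryTheory CategoryTheory.Limits AlgebraicGeometry Opposite TopologicalSpace

namespace Groth.Agent.H52

open AlgSp

variable {S : Scheme.{u}}

/-- "The diagonal is representable with `P`" is fpqc local on the base, for `P` Zariski local on the target,
stable under base change and satisfying fpqc descent. -/
theorem isLocalOnBase_fpqc_diagonal_repWith (P : MorphismProperty Scheme.{u}) [IsZariskiLocalAtTarget P]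
    [P.DescendsAlong (@Surjective ⊓ @Flat ⊓ @QuasiCompact)] [P.IsStableUnderBaseChange] :
    IsLocalOnBase (IsFpqcCover (S := S)) (fun _ _ f => RepWith P (pullback.diagonal f)) := by
  intro ι Y Yi g hY hYi hcov X f hX Xi p q hXi hsq
  constructor
  · intro hf i
    exact MorphismProperty.of_isPullback (P := (RepWith P).diagonal) (hsq i) hf
  · intro hp
    have hrep : Representable (pullback.diagonal f) := Groth.Agent.H53.representable_diagonal hX.diag f
    refine Groth.Agent.H53.repWith_of_fpqc_local P _ hrep fun Z hZ t => ?_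
    obtain ⟨m, W, c, hW, hc, hs, hl⟩ := hcov.2 Z hZ (t ≫ pullback.fst f f ≫ f)
    refine ⟨m, W, c, hW, hc, hs, fun j V' fst' s' sq' => ?_⟩
    obtain ⟨i, l, hl⟩ := hl j
    have h1 : ((yon S).map (c j) ≫ t ≫ pullback.fst f f) ≫ f = l ≫ g i := by
      rw [hl]; simp only [Category.assoc]
    have h2 : ((yon S).map (c j) ≫ t ≫ pullback.snd f f) ≫ f = l ≫ g i := by
      rw [hl]; simp only [Category.assoc, pullback.condition]
    have hκ := Groth.Agent.H53.isPullback_diagonal_of_isPullback (hsq i)
    have e : pullback.lift ((hsq i).lift _ _ h1) ((hsq i).lift _ _ h2)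
        (by rw [(hsq i).lift_snd, (hsq i).lift_snd]) ≫
        pullback.map (p i) (p i) f f (q i) (q i) (g i) (hsq i).w.symm (hsq i).w.symm =
        (yon S).map (c j) ≫ t := by
      apply pullback.hom_ext
      · simp only [pullback.map, Category.assoc, pullback.lift_fst, pullback.lift_fst_assoc,
          (hsq i).lift_fst]
      · simp only [pullback.map, Category.assoc, pullback.lift_snd, pullback.lift_snd_assoc,
          (hsq i).lift_fst]
    rw [← e] at sq'
    have sqL := IsPullback.of_right
      (h₁₁ := hκ.lift fst' ((yon S).map s' ≫ pullback.lift ((hsq i).lift _ _ h1) ((hsq i).lift _ _ h2)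
        (by rw [(hsq i).lift_snd, (hsq i).lift_snd])) (by rw [sq'.w, Category.assoc]))
      (by rw [hκ.lift_fst]; exact sq') (hκ.lift_snd _ _ _) hκ
    exact (hp i).2 _ _ _ sqL

/-- **Refinement.**  Given an fpqc covering `Y i ⟶ Y` with base changes `X i ⟶ Y i` of `f : X ⟶ Y`, and
the base change `P ⟶ h_Z` of `f` to an affine scheme `Z`, there is a standard fpqc covering `W j ⟶ Z` such
that the base change of `P ⟶ h_Z` to each `W j` is also a base change of some `X i ⟶ Y i`. -/
theorem exists_fpqc_refinement {ι : Type u} {Y : Sp S} (Yi : ι → Sp S) (g : ∀ i, Yi i ⟶ Y)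
    (hcov : IsFpqcCover Yi g) {X : Sp S} (f : X ⟶ Y) (Xi : ι → Sp S) (p : ∀ i, Xi i ⟶ Yi i)
    (q : ∀ i, Xi i ⟶ X) (sq : ∀ i, IsPullback (q i) (p i) f (g i)) (Z : Over S)
    (hZ : IsAffine Z.left) (g₀ : (yon S).obj Z ⟶ Y) {P : Sp S} (fst : P ⟶ X)
    (snd : P ⟶ (yon S).obj Z) (sqP : IsPullback fst snd f g₀) :
    ∃ (m : ℕ) (W : Fin m → Over S) (c : ∀ j, W j ⟶ Z),
      (∀ j, IsAffine (W j).left) ∧ (∀ j, Flat (c j).left) ∧
      (∀ z : ↥Z.left, ∃ j, z ∈ Set.range (c j).left) ∧
      ∀ j, ∃ (i : ι) (l : (yon S).obj (W j) ⟶ Yi i) (e : pullback snd ((yon S).map (c j)) ⟶ Xi i),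
        l ≫ g i = (yon S).map (c j) ≫ g₀ ∧
        IsPullback e (pullback.snd snd ((yon S).map (c j))) (p i) l ∧
        e ≫ q i = pullback.fst snd ((yon S).map (c j)) ≫ fst := by
  obtain ⟨m, W, c, hW, hc, hs, hl⟩ := hcov.2 Z hZ g₀
  refine ⟨m, W, c, hW, hc, hs, fun j => ?_⟩
  obtain ⟨i, l, hl⟩ := hl j
  have sqj := IsPullback.of_hasPullback snd ((yon S).map (c j))
  have big : IsPullback (pullback.fst snd ((yon S).map (c j)) ≫ fst)
      (pullback.snd snd ((yon S).map (c j))) f ((yon S).map (c j) ≫ g₀) :=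
    (sqj.flip.paste_vert sqP.flip).flip
  rw [← hl] at big
  have hw : (pullback.fst snd ((yon S).map (c j)) ≫ fst) ≫ f =
      (pullback.snd snd ((yon S).map (c j)) ≫ l) ≫ g i := by
    rw [Category.assoc (pullback.snd snd ((yon S).map (c j)))]; exact big.w
  refine ⟨i, l, (sq i).lift _ _ hw, hl, ?_, (sq i).lift_fst _ _ hw⟩
  refine IsPullback.of_right ?_ ((sq i).lift_snd _ _ hw) (sq i)
  rw [(sq i).lift_fst]
  exact big

/-- The members of a standard fpqc covering of an affine scheme `Z` are jointly surjective on the points of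
any sheaf over `h_Z` after base change. -/
theorem exists_point_of_fpqc_family {Z : Over S} {m : ℕ} (W : Fin m → Over S) (c : ∀ j, W j ⟶ Z)
    (hs : ∀ z : ↥Z.left, ∃ j, z ∈ Set.range (c j).left) {P : Sp S} (snd : P ⟶ (yon S).obj Z)
    (x : Points P) :
    ∃ (j : Fin m) (y : Points (pullback snd ((yon S).map (c j)))),
      Points.map (pullback.fst snd ((yon S).map (c j))) y = x := by
  obtain ⟨z, hz⟩ := (Points.schemeEquiv Z).surjective (Points.map snd x)
  obtain ⟨j, w, hw⟩ := hs z
  have e : Points.map snd x = Points.map ((yon S).map (c j)) (Points.ofScheme (W j) w) := by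
    rw [← Points.ofPt_eq_map_ofScheme, ← hz, ← hw]
    change Points.ofPt (𝟙 _) ((c j).left w) = _
    rw [← ofPt_yon_map_comp, Category.comp_id]
  obtain ⟨y, hy, -⟩ := exists_point_of_isPullback
    (IsPullback.of_hasPullback snd ((yon S).map (c j))) x _ e
  exact ⟨j, y, hy⟩

/-- Quasi-compactness of morphisms of algebraic spaces is fpqc local on the base. -/
theorem isLocalOnBase_fpqc_isQuasiCompactMor :
    IsLocalOnBase (IsFpqcCover (S := S)) IsQuasiCompactMor := by
  intro ι Y Yi g hY hYi hcov X f hX Xi p q hXi hsq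
  constructor
  · intro hf i
    exact Groth.Agent.H49.isQuasiCompactMor_of_isPullback (hsq i) hf
  · intro hp
    rw [Groth.Agent.H49.isQuasiCompactMor_iff_affine hX hY]
    intro Z hZ g₀ P fst snd sqP
    have hP : IsAlgSpace P :=
      Groth.Agent.H49.isAlgSpace_of_isPullback sqP hY.diag hX (IsAlgSpace.yon_obj Z)
    obtain ⟨m, W, c, hW, hc, hs, hl⟩ :=
      exists_fpqc_refinement Yi g hcov f Xi p q hsq Z hZ g₀ fst snd sqP
    rw [Groth.Agent.H51.isQuasiCompactSp_iff hP]
    refine Groth.Agent.H49.compactSpace_points_of_finite_family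
      (fun j => pullback snd ((yon S).map (c j))) (fun j => pullback.fst snd ((yon S).map (c j)))
      (fun j => ?_) (fun x => exists_point_of_fpqc_family W c hs snd x)
    obtain ⟨i, l, e, -, sqe, -⟩ := hl j
    have hPj : IsAlgSpace (pullback snd ((yon S).map (c j))) :=
      Groth.Agent.H49.isAlgSpace_of_isPullback (IsPullback.of_hasPullback snd ((yon S).map (c j)))
        (IsAlgSpace.yon_obj Z).diag hP (IsAlgSpace.yon_obj (W j))
    have : IsAffine (W j).left := hW j
    exact (Groth.Agent.H51.isQuasiCompactSp_iff hPj).1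
      (hp i (IsAlgSpace.yon_obj (W j)) (Groth.Agent.H49.isQuasiCompactSp_yon (W j)) l e _ sqe)

end Groth.Agent.H52
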