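import Groth.Agent.H52.FpqcBase
import Groth.Agent.H53.SchemeLemmas
import Mathlib.AlgebraicGeometry.Morphisms.Flat

set_option autoImplicit false
universe u
open CategoryTheory CategoryTheory.Limits AlgebraicGeometry Opposite TopologicalSpace

namespace Groth.Agent.H52

open AlgSp

variable {S : Scheme.{u}}

/-- A subset of an affine scheme is open as soon as its inverse images in the members of a standard fpqc
covering are open. -/
theorem isOpen_of_fpqc_family {Z : Scheme.{u}} [IsAffine Z] {m : ℕ} (W : Fin m → Scheme.{u})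
    (c : ∀ j, W j ⟶ Z) [∀ j, IsAffine (W j)] [∀ j, Flat (c j)]
    (hs : ∀ z : Z, ∃ j, z ∈ Set.range (c j)) (B : Set Z) (h : ∀ j, IsOpen ((c j) ⁻¹' B)) :
    IsOpen B := by
  have hc := Groth.Agent.H53.sigmaDesc_fpqc W c hs
  have h1 : Surjective (Sigma.desc c) := hc.1.1
  have h2 : Flat (Sigma.desc c) := hc.1.2
  have h3 : QuasiCompact (Sigma.desc c) := hc.2
  rw [← (Flat.isQuotientMap_of_surjective (Sigma.desc c)).isOpen_preimage]
  rw [isOpen_iff_forall_mem_open]
  intro x hx
  obtain ⟨w, hw⟩ := (sigmaOpenCover W).covers x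
  have hw' : (Sigma.ι W ((sigmaOpenCover W).idx x)) w = x := hw
  have hcomp : ∀ (j : Fin m) (y : W j), (Sigma.desc c) ((Sigma.ι W j) y) = (c j) y := by
    intro j y
    rw [← Scheme.Hom.comp_apply, Sigma.ι_desc]
  refine ⟨(Sigma.ι W ((sigmaOpenCover W).idx x)) '' ((c ((sigmaOpenCover W).idx x)) ⁻¹' B), ?_,
    (Sigma.ι W ((sigmaOpenCover W).idx x)).isOpenEmbedding.isOpenMap _ (h _), ⟨w, ?_, hw'⟩⟩
  · rintro _ ⟨y, hy, rfl⟩
    change (Sigma.desc c) _ ∈ B
    rw [hcomp]
    exact hy
  · change (c _) w ∈ B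
    rw [← hcomp, hw']
    exact hx

/-- The refinement condition in the definition of an fpqc covering. -/
def FpqcRefine {ι : Type u} {Z : Sp S} (Zi : ι → Sp S) (a : ∀ i, Zi i ⟶ Z) : Prop :=
  ∀ (T : Over S), IsAffine T.left → ∀ (h : (yon S).obj T ⟶ Z),
    ∃ (m : ℕ) (W : Fin m → Over S) (c : ∀ j, W j ⟶ T),
      (∀ j, IsAffine (W j).left) ∧ (∀ j, Flat (c j).left) ∧
      (∀ z : ↥T.left, ∃ j, z ∈ Set.range (c j).left) ∧
      ∀ j, ∃ (i : _) (l : (yon S).obj (W j) ⟶ Zi i), l ≫ a i = (yon S).map (c j) ≫ h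

theorem isFpqcCover_iff {ι : Type u} {Z : Sp S} (Zi : ι → Sp S) (a : ∀ i, Zi i ⟶ Z) :
    IsFpqcCover Zi a ↔ (∀ i, LocP @Flat (a i)) ∧ FpqcRefine Zi a := Iff.rfl

/-- The refinement condition is stable under base change. -/
theorem FpqcRefine.baseChange {ι : Type u} {Y : Sp S} {Yi : ι → Sp S} {g : ∀ i, Yi i ⟶ Y}
    (h : FpqcRefine Yi g) {Z : Sp S} (g₀ : Z ⟶ Y) (Zi : ι → Sp S) (a : ∀ i, Zi i ⟶ Z)
    (b : ∀ i, Zi i ⟶ Yi i) (sq : ∀ i, IsPullback (a i) (b i) g₀ (g i)) : FpqcRefine Zi a := by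
  intro T hT t
  obtain ⟨m, W, c, hW, hc, hs, hl⟩ := h T hT (t ≫ g₀)
  refine ⟨m, W, c, hW, hc, hs, fun j => ?_⟩
  obtain ⟨i, l, hl⟩ := hl j
  have hw : ((yon S).map (c j) ≫ t) ≫ g₀ = l ≫ g i := by rw [hl, Category.assoc]
  exact ⟨i, (sq i).lift _ _ hw, (sq i).lift_fst _ _ hw⟩

/-- A family satisfying the refinement condition is jointly surjective on points. -/
theorem FpqcRefine.exists_point {ι : Type u} {Z : Sp S} {Zi : ι → Sp S} {a : ∀ i, Zi i ⟶ Z}
    (h : FpqcRefine Zi a) (z : Points Z) : ∃ (i : ι) (y : Points (Zi i)), Points.map (a i) y = z := by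
  induction z using Points.ind with
  | h p =>
  have hT : IsAffine p.pt.left := by
    change IsAffine (Spec (CommRingCat.of p.K))
    infer_instance
  obtain ⟨m, W, c, -, -, hs, hl⟩ := h p.pt hT p.toHom
  obtain ⟨j, w, -⟩ := hs (IsLocalRing.closedPoint p.K)
  obtain ⟨i, l, hl⟩ := hl j
  refine ⟨i, Points.ofPt l w, ?_⟩
  rw [Points.map_ofPt, hl, ofPt_yon_map_comp]
  exact Points.ofPt_toHom p _

/-- **Fpqc coverings are submersive.**  A subset of the points of a sheaf is open as soon as its inverse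
images under the members of a family satisfying the fpqc refinement condition are open. -/
theorem FpqcRefine.isOpen_of_preimage {ι : Type u} {Z : Sp S} {Zi : ι → Sp S} {a : ∀ i, Zi i ⟶ Z}
    (h : FpqcRefine Zi a) (A : Set (Points Z)) (hA : ∀ i, IsOpen (Points.map (a i) ⁻¹' A)) :
    IsOpen A := by
  rw [Points.isOpen_iff]
  intro T t
  rw [isOpen_iff_forall_mem_open]
  intro x hx
  -- an affine open neighbourhood of `x`
  obtain ⟨y, hy⟩ := T.left.affineCover.covers x
  have hZ : IsAffine (Groth.Agent.H53.overOf T (T.left.affineCover.f (T.left.affineCover.idx x))).left :=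
    Scheme.isAffine_affineCover T.left _
  obtain ⟨m, W, c, hW, hc, hs, hl⟩ := h _ hZ
    ((yon S).map (Groth.Agent.H53.overHom T (T.left.affineCover.f (T.left.affineCover.idx x))) ≫ t)
  have : IsAffine ((Over.forget S).obj (Groth.Agent.H53.overOf T (T.left.affineCover.f (T.left.affineCover.idx x)))) :=
    hZ
  have : ∀ j, IsAffine ((fun j => (W j).left) j) := hW
  have : ∀ j, Flat ((fun j => (c j).left) j) := hc
  have hopen : IsOpen ((T.left.affineCover.f (T.left.affineCover.idx x)) ⁻¹'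
      (Points.ofPt t ⁻¹' A)) := by
    refine isOpen_of_fpqc_family (fun j => (W j).left) (fun j => (c j).left) hs _ fun j => ?_
    obtain ⟨i, l, hl⟩ := hl j
    have e : (c j).left ⁻¹' ((T.left.affineCover.f (T.left.affineCover.idx x)) ⁻¹'
        (Points.ofPt t ⁻¹' A)) = Points.ofPt l ⁻¹' (Points.map (a i) ⁻¹' A) := by
      ext w
      simp only [Set.mem_preimage]
      rw [Points.map_ofPt, hl, ofPt_yon_map_comp, ofPt_yon_map_comp]
      rfl
    rw [e]
    exact (hA i).preimage (Points.continuous_ofPt l)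
  refine ⟨(T.left.affineCover.f (T.left.affineCover.idx x)) ''
    ((T.left.affineCover.f (T.left.affineCover.idx x)) ⁻¹' (Points.ofPt t ⁻¹' A)), ?_,
    (T.left.affineCover.f (T.left.affineCover.idx x)).isOpenEmbedding.isOpenMap _ hopen,
    ⟨y, ?_, hy⟩⟩
  · rintro _ ⟨y', hy', rfl⟩
    exact hy'
  · change (T.left.affineCover.f (T.left.affineCover.idx x)) y ∈ Points.ofPt t ⁻¹' A
    rw [hy]
    exact hx

theorem FpqcRefine.isClosed_of_preimage {ι : Type u} {Z : Sp S} {Zi : ι → Sp S} {a : ∀ i, Zi i ⟶ Z}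
    (h : FpqcRefine Zi a) (A : Set (Points Z)) (hA : ∀ i, IsClosed (Points.map (a i) ⁻¹' A)) :
    IsClosed A := by
  rw [← isOpen_compl_iff]
  refine h.isOpen_of_preimage _ fun i => ?_
  rw [Set.preimage_compl, isOpen_compl_iff]
  exact hA i

/-- The refinement condition is stable under composition of families. -/
theorem FpqcRefine.comp {ι : Type u} {Z : Sp S} {Zi : ι → Sp S} {a : ∀ i, Zi i ⟶ Z}
    (h : FpqcRefine Zi a) {κ : ι → Type u} {Zij : ∀ i, κ i → Sp S} {aij : ∀ i j, Zij i j ⟶ Zi i}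
    (hij : ∀ i, FpqcRefine (Zij i) (aij i)) :
    FpqcRefine (fun r : Σ i, κ i => Zij r.1 r.2) (fun r => aij r.1 r.2 ≫ a r.1) := by
  intro T hT t
  obtain ⟨m, W, c, hW, hc, hs, hl⟩ := h T hT t
  choose i l hl using hl
  have H := fun j => hij (i j) (W j) (hW j) (l j)
  choose m' W' c' hW' hc' hs' hl' using H
  choose k l' hl' using hl'
  refine ⟨∑ j, m' j, fun r => W' (finSigmaFinEquiv.symm r).1 (finSigmaFinEquiv.symm r).2,
    fun r => c' (finSigmaFinEquiv.symm r).1 (finSigmaFinEquiv.symm r).2 ≫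
      c (finSigmaFinEquiv.symm r).1, ?_, ?_, ?_, ?_⟩
  · intro r
    exact hW' _ _
  · intro r
    rw [Over.comp_left]
    have := hc' (finSigmaFinEquiv.symm r).1 (finSigmaFinEquiv.symm r).2
    have := hc (finSigmaFinEquiv.symm r).1
    infer_instance
  · intro z
    obtain ⟨j, w, hw⟩ := hs z
    obtain ⟨k', w', hw'⟩ := hs' j w
    obtain ⟨r, hr⟩ : ∃ r, (finSigmaFinEquiv (n := m')).symm r = ⟨j, k'⟩ :=
      ⟨finSigmaFinEquiv ⟨j, k'⟩, Equiv.symm_apply_apply _ _⟩
    refine ⟨r, ?_⟩
    beta_reduce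
    rw [hr]
    refine ⟨w', ?_⟩
    rw [Over.comp_left, Scheme.Hom.comp_apply, hw', hw]
  · intro r
    refine ⟨⟨i (finSigmaFinEquiv.symm r).1, k _ _⟩, l' _ _, ?_⟩
    rw [← Category.assoc, hl', Category.assoc, hl, Functor.map_comp, Category.assoc]

section Descent

variable {ι : Type u} {Z Z' : Sp S} {snd : Z' ⟶ Z} {Zi : ι → Sp S} {a : ∀ i, Zi i ⟶ Z}
  {Zi' : ι → Sp S} {c : ∀ i, Zi' i ⟶ Z'} {d : ∀ i, Zi' i ⟶ Zi i}

theorem injective_of_fpqcRefine (h : FpqcRefine Zi a) (sq : ∀ i, IsPullback (c i) (d i) snd (a i))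
    (H : ∀ i, Function.Injective (Points.map (d i))) : Function.Injective (Points.map snd) := by
  intro x x' hxx
  obtain ⟨i, y, hy⟩ := h.exists_point (Points.map snd x)
  obtain ⟨w, hw1, hw2⟩ := exists_point_of_isPullback (sq i) x y hy.symm
  obtain ⟨w', hw1', hw2'⟩ := exists_point_of_isPullback (sq i) x' y (hxx ▸ hy.symm)
  have : w = w' := H i (hw2.trans hw2'.symm)
  rw [← hw1, ← hw1', this]

theorem surjective_of_fpqcRefine (h : FpqcRefine Zi a) (sq : ∀ i, IsPullback (c i) (d i) snd (a i))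
    (H : ∀ i, Function.Surjective (Points.map (d i))) : Function.Surjective (Points.map snd) := by
  intro z
  obtain ⟨i, y, hy⟩ := h.exists_point z
  obtain ⟨w, hw⟩ := H i y
  refine ⟨Points.map (c i) w, ?_⟩
  rw [← Points.map_comp, (sq i).w, Points.map_comp, hw, hy]

theorem preimage_image_eq_of_isPullback (sq : ∀ i, IsPullback (c i) (d i) snd (a i))
    (T : Set (Points Z')) (i : ι) :
    Points.map (a i) ⁻¹' (Points.map snd '' T) = Points.map (d i) '' (Points.map (c i) ⁻¹' T) := by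
  ext y
  constructor
  · rintro ⟨t, ht, hty⟩
    obtain ⟨w, hw1, hw2⟩ := exists_point_of_isPullback (sq i) t y hty
    exact ⟨w, by rw [Set.mem_preimage, hw1]; exact ht, hw2⟩
  · rintro ⟨w, hw, rfl⟩
    refine ⟨Points.map (c i) w, hw, ?_⟩
    rw [← Points.map_comp, (sq i).w, Points.map_comp]

theorem isOpenMap_of_fpqcRefine (h : FpqcRefine Zi a) (sq : ∀ i, IsPullback (c i) (d i) snd (a i))
    (H : ∀ i, IsOpenMap (Points.map (d i))) : IsOpenMap (Points.map snd) := by
  intro T hT
  refine h.isOpen_of_preimage _ fun i => ?_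
  rw [preimage_image_eq_of_isPullback sq T i]
  exact H i _ (hT.preimage (Points.continuous_map (c i)))

theorem isClosedMap_of_fpqcRefine (h : FpqcRefine Zi a) (sq : ∀ i, IsPullback (c i) (d i) snd (a i))
    (H : ∀ i, IsClosedMap (Points.map (d i))) : IsClosedMap (Points.map snd) := by
  intro T hT
  refine h.isClosed_of_preimage _ fun i => ?_
  rw [preimage_image_eq_of_isPullback sq T i]
  exact H i _ (hT.preimage (Points.continuous_map (c i)))

theorem isQuotientMap_of_fpqcRefine (h : FpqcRefine Zi a)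
    (sq : ∀ i, IsPullback (c i) (d i) snd (a i))
    (H : ∀ i, Topology.IsQuotientMap (Points.map (d i))) :
    Topology.IsQuotientMap (Points.map snd) := by
  rw [Topology.isQuotientMap_iff]
  refine ⟨.of_isOpen_preimage_iff_isOpen fun s => ?_,
    surjective_of_fpqcRefine h sq fun i => (H i).surjective⟩
  constructor
  · intro hs
    refine h.isOpen_of_preimage _ fun i => ?_
    rw [← (H i).isOpen_preimage, ← Set.preimage_comp]
    have e : Points.map (a i) ∘ Points.map (d i) = Points.map snd ∘ Points.map (c i) := by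
      funext w
      simp only [Function.comp_apply]
      rw [← Points.map_comp, ← (sq i).w, Points.map_comp]
    rw [e, Set.preimage_comp]
    exact hs.preimage (Points.continuous_map (c i))
  · intro hs
    exact hs.preimage (Points.continuous_map snd)

theorem isHomeomorph_of_fpqcRefine (h : FpqcRefine Zi a)
    (sq : ∀ i, IsPullback (c i) (d i) snd (a i))
    (H : ∀ i, IsHomeomorph (Points.map (d i))) : IsHomeomorph (Points.map snd) := by
  refine ⟨Points.continuous_map snd, isOpenMap_of_fpqcRefine h sq fun i => (H i).isOpenMap,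
    injective_of_fpqcRefine h sq fun i => (H i).injective,
    surjective_of_fpqcRefine h sq fun i => (H i).surjective⟩

end Descent

/-- **Universal topological properties are fpqc local on the base.** -/
theorem isLocalOnBase_fpqc_univSp (Q : MorphismProperty (Sp S))
    (hQ : ∀ {ι : Type u} {Z Z' : Sp S} (snd : Z' ⟶ Z) (Zi : ι → Sp S) (a : ∀ i, Zi i ⟶ Z),
      FpqcRefine Zi a → ∀ (Zi' : ι → Sp S) (c : ∀ i, Zi' i ⟶ Z') (d : ∀ i, Zi' i ⟶ Zi i),
      (∀ i, IsPullback (c i) (d i) snd (a i)) → (∀ i, Q (d i)) → Q snd) :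
    IsLocalOnBase (IsFpqcCover (S := S)) (UnivSp Q) := by
  intro ι Y Yi g hY hYi hcov X f hX Xi p q hXi hsq
  constructor
  · intro hf i Z Z' hZ g₀ fst snd sq₀
    exact hf hZ (g₀ ≫ g i) (fst ≫ q i) snd (sq₀.paste_horiz (hsq i))
  · intro hp Z Z' hZ g₀ fst snd sq₀
    refine hQ snd (fun i => pullback g₀ (g i)) (fun i => pullback.fst g₀ (g i))
      (FpqcRefine.baseChange (Yi := Yi) (g := g) hcov.2 g₀ _ _ (fun i => pullback.snd g₀ (g i))
        (fun i => IsPullback.of_hasPullback _ _))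
      (fun i => pullback snd (pullback.fst g₀ (g i)))
      (fun i => pullback.fst snd (pullback.fst g₀ (g i)))
      (fun i => pullback.snd snd (pullback.fst g₀ (g i)))
      (fun i => IsPullback.of_hasPullback _ _) (fun i => ?_)
    have hZi : IsAlgSpace (pullback g₀ (g i)) :=
      Groth.Agent.H49.isAlgSpace_of_isPullback (IsPullback.of_hasPullback g₀ (g i)) hY.diag hZ (hYi i)
    have sqi := IsPullback.of_hasPullback snd (pullback.fst g₀ (g i))
    have big : IsPullback (pullback.fst snd (pullback.fst g₀ (g i)) ≫ fst)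
        (pullback.snd snd (pullback.fst g₀ (g i))) f (pullback.fst g₀ (g i) ≫ g₀) :=
      (sqi.flip.paste_vert sq₀.flip).flip
    rw [pullback.condition] at big
    have hw : (pullback.fst snd (pullback.fst g₀ (g i)) ≫ fst) ≫ f =
        (pullback.snd snd (pullback.fst g₀ (g i)) ≫ pullback.snd g₀ (g i)) ≫ g i := by
      rw [Category.assoc (pullback.snd snd (pullback.fst g₀ (g i)))]; exact big.w
    have sqe : IsPullback ((hsq i).lift _ _ hw) (pullback.snd snd (pullback.fst g₀ (g i))) (p i)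
        (pullback.snd g₀ (g i)) := by
      refine IsPullback.of_right ?_ ((hsq i).lift_snd _ _ hw) (hsq i)
      rw [(hsq i).lift_fst]
      exact big
    exact hp i hZi _ _ _ sqe

end Groth.Agent.H52
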