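import Groth.Agent.H38.ConnCompImage
import Groth.Agent.H38.GalAct

/-!
# Separating a point from a closed subset of `X_L` at a finite level (schemes)
-/

set_option autoImplicit false
set_option linter.style.haveILetI false
universe u

open CategoryTheory CategoryTheory.Limits AlgebraicGeometry TensorProduct

attribute [local instance] Curv2.resAlgebra

namespace Groth.Agent.H52.GalBasis

open Groth.Agent.H38.FibreTower Groth.Agent.H38.GalTower Groth.Agent.H38.ClopenDescent
  Groth.Agent.H38.GalAct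

variable (k : Type u) [Field k] (X : Scheme.{u}) [X.Over (Spec (CommRingCat.of k))]
  (L : Type u) [Field L] [Algebra k L]

set_option backward.isDefEq.respectTransparency false in
/-- A point of `X_L` outside a closed subset is separated from it at a finite level. -/
theorem exists_finite_level_separating [Algebra.IsAlgebraic k L]
    (u : ↥(Curv2.bc k X L)) (C : Set ↥(Curv2.bc k X L)) (hC : IsClosed C) (hu : u ∉ C) :
    ∃ (E : IntermediateField k L) (_ : FiniteDimensional k E),
      ∀ c ∈ C, bcMap k X E L c ≠ bcMap k X E L u := by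
  obtain ⟨z, hz⟩ : ∃ z : X, z = Curv2.bcFst k X L u := ⟨_, rfl⟩
  obtain ⟨Pu, hPu⟩ : u ∈ Set.range (fibreHom k X L z) := by
    rw [range_fibreHom]; exact hz.symm
  obtain ⟨SB, hSB⟩ : ∃ SB : Set (PrimeSpectrum (X.residueField z ⊗[k] L)),
      SB = (fibreHom k X L z) ⁻¹' C := ⟨_, rfl⟩
  have hB' : IsClosed SB := hSB ▸ hC.preimage (fibreHom k X L z).continuous
  obtain ⟨J, hJ⟩ := (PrimeSpectrum.isClosed_iff_zeroLocus_ideal _).mp hB'
  obtain ⟨P, hP⟩ : ∃ P : PrimeSpectrum (X.residueField z ⊗[k] L), P = Pu := ⟨_, rfl⟩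
  have hPmax : P.asIdeal.IsMaximal := by
    haveI : Algebra.IsIntegral (X.residueField z) (X.residueField z ⊗[k] L) := inferInstance
    refine Ideal.isMaximal_of_isIntegral_of_isMaximal_comap (R := X.residueField z) P.asIdeal ?_
    have : Ideal.comap (algebraMap (X.residueField z) (X.residueField z ⊗[k] L)) P.asIdeal = ⊥ :=
      ((Ideal.eq_bot_or_top _).resolve_right (Ideal.IsPrime.ne_top inferInstance))
    rw [this]
    exact Ideal.bot_isMaximal
  have hPnot : P ∉ SB := by
    rw [hSB, hP]
    change fibreHom k X L z Pu ∉ C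
    rw [hPu]; exact hu
  have hJP : ¬ J ≤ P.asIdeal := by
    intro hle
    apply hPnot
    rw [hJ]
    exact fun x hx => hle hx
  have hsup : P.asIdeal ⊔ J = ⊤ := by
    by_contra hne
    have := hPmax.eq_of_le hne le_sup_left
    exact hJP (this ▸ le_sup_right)
  have h1mem : (1 : X.residueField z ⊗[k] L) ∈ P.asIdeal ⊔ J := by
    rw [hsup]; exact Submodule.mem_top
  obtain ⟨i, hi, j, hj, hij⟩ := Submodule.mem_sup.mp h1mem
  obtain ⟨E, hE, i', hi'⟩ := exists_finite_intermediateField_mem_range (X.residueField z) i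
  refine ⟨E, hE, ?_⟩
  intro c hc hcu
  have hcz : Curv2.bcFst k X L c = z := by
    rw [hz, ← bcFst_bcMap_apply k X E L c, hcu, bcFst_bcMap_apply]
  obtain ⟨Pc, rfl⟩ : c ∈ Set.range (fibreHom k X L z) := by
    rw [range_fibreHom]; exact hcz
  have hcomm := fibreHom_bcMap k X E z L
  have h1 : ∀ p, bcMap k X E L (fibreHom k X L z p) = fibreHom k X E z
      (Spec.map (CommRingCat.ofHom (jE (X.residueField z) E).toRingHom) p) := by
    intro p
    rw [← Scheme.Hom.comp_apply, hcomm, Scheme.Hom.comp_apply]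
    rfl
  rw [← hPu, h1, h1] at hcu
  have h2 := fibreHom_injective k X E z hcu
  obtain ⟨P₂, hP₂⟩ : ∃ P₂ : PrimeSpectrum (X.residueField z ⊗[k] L), P₂ = Pc := ⟨_, rfl⟩
  have hp₂ : P₂ ∈ PrimeSpectrum.zeroLocus (J : Set (X.residueField z ⊗[k] L)) := by
    rw [← hJ, hSB, hP₂]; exact hc
  have hj₂ : j ∈ P₂.asIdeal := hp₂ hj
  have h3 : PrimeSpectrum.comap (R := X.residueField z ⊗[k] E) (S := X.residueField z ⊗[k] L)
      (jE (X.residueField z) E).toRingHom P₂ =
      PrimeSpectrum.comap (R := X.residueField z ⊗[k] E) (S := X.residueField z ⊗[k] L)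
      (jE (X.residueField z) E).toRingHom P := by
    rw [hP₂, hP]; exact h2
  have e1 : i' ∈ (PrimeSpectrum.comap (R := X.residueField z ⊗[k] E) (S := X.residueField z ⊗[k] L)
      (jE (X.residueField z) E).toRingHom P).asIdeal := by
    change (jE (X.residueField z) E).toRingHom i' ∈ P.asIdeal
    rw [hi']; exact hi
  rw [← h3] at e1
  have e1' : i ∈ P₂.asIdeal := by
    have : (jE (X.residueField z) E).toRingHom i' ∈ P₂.asIdeal := e1
    rwa [hi'] at this
  have := Ideal.add_mem _ e1' hj₂
  rw [hij] at this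
  exact P₂.isPrime.ne_top ((Ideal.eq_top_iff_one _).mpr this)

/-- The transition map `X_L ⟶ X_E` is closed for `L/E` algebraic. -/
theorem isClosedMap_bcMap (E : Type u) [Field E] [Algebra k E] [Algebra E L] [IsScalarTower k E L]
    [Algebra.IsAlgebraic E L] : IsClosedMap (bcMap k X E L) := by
  haveI : IsIntegralHom (bcMap k X E L) :=
    MorphismProperty.of_isPullback (P := @IsIntegralHom) (isPullback_bcMap k X E L).flip
      inferInstance
  exact (bcMap k X E L).isClosedMap

/-- Opens pulled back from finite levels form a basis of the topology of `X_L`. -/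
theorem exists_finite_level_nbhd [Algebra.IsAlgebraic k L]
    (u : ↥(Curv2.bc k X L)) (N : Set ↥(Curv2.bc k X L)) (hN : IsOpen N) (hu : u ∈ N) :
    ∃ (E : IntermediateField k L) (_ : FiniteDimensional k E) (W' : Set ↥(Curv2.bc k X E)),
      IsOpen W' ∧ bcMap k X E L u ∈ W' ∧ bcMap k X E L ⁻¹' W' ⊆ N := by
  obtain ⟨E, hE, hsep⟩ := exists_finite_level_separating k X L u Nᶜ hN.isClosed_compl
    (fun h => h hu)
  haveI : Algebra.IsAlgebraic E L := Algebra.IsAlgebraic.tower_top (K := k) E
  refine ⟨E, hE, (bcMap k X E L '' Nᶜ)ᶜ, ?_, ?_, ?_⟩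
  · exact (isClosedMap_bcMap k X L E _ hN.isClosed_compl).isOpen_compl
  · rintro ⟨c, hc, hcu⟩
    exact hsep c hc hcu
  · intro t ht
    by_contra htN
    exact ht ⟨t, htN, rfl⟩

end Groth.Agent.H52.GalBasis
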