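import Groth.Agent.H52.BCChart3
import Groth.Agent.H25.SepConn

/-!
# Connected components and base change along geometrically connected field extensions
-/

set_option autoImplicit false
set_option linter.style.haveILetI false
universe u
open CategoryTheory CategoryTheory.Limits AlgebraicGeometry Opposite

namespace Groth.Agent.H52.SepConn

open AlgSp

variable {S : Scheme.{u}}

instance connectedSpace_spec_field (F : Type u) [Field F] :
    ConnectedSpace ↥(Spec (CommRingCat.of F)) :=
  inferInstanceAs (ConnectedSpace (PrimeSpectrum F))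

/-- Base change of an algebraic space along a geometrically connected morphism of spectra of
fields induces a bijection on connected components. -/
theorem connectedComponentsMap_bijective_of_isPullback
    {K' Ω : Type u} [Field K'] [Field Ω] {σ : Spec (CommRingCat.of K') ⟶ S}
    {τ : Spec (CommRingCat.of Ω) ⟶ S}
    (φ : Over.mk τ ⟶ Over.mk σ) (hφ : GeometricallyConnected φ.left)
    {E Y : Sp S} (hY : IsAlgSpace Y) {e : E ⟶ (yon S).obj (Over.mk τ)} {p : E ⟶ Y}
    {y : Y ⟶ (yon S).obj (Over.mk σ)}
    (sq : IsPullback e p ((yon S).map φ) y) :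
    Function.Bijective (Continuous.connectedComponentsMap (Points.continuous_map p)) := by
  have hlocP : LocP @UniversallyOpen ((yon S).map φ) := H50.locP_univOpen_to_field K' σ _
  have huo : IsUnivOpenMor ((yon S).map φ) :=
    H50.isUnivOpenMor_of_locP_univOpen (IsAlgSpace.yon_obj _) (IsAlgSpace.yon_obj _) _ hlocP
  have hopen : IsOpenMap (Points.map p) := huo hY y e p sq
  have hfib : ∀ y₀, IsConnected (Points.map p ⁻¹' {y₀}) := by
    intro y₀
    obtain ⟨ζ, rfl⟩ := Points.mk_surjective y₀
    obtain ⟨ψ, hψ⟩ := (yon S).map_surjective (ζ.toHom ≫ y)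
    let W : Over S := Over.mk (pullback.fst ψ.left φ.left ≫ ζ.pt.hom)
    let w₁ : W ⟶ ζ.pt := Over.homMk (pullback.fst ψ.left φ.left) rfl
    have hw2 : pullback.snd ψ.left φ.left ≫ (Over.mk τ).hom = W.hom := by
      have h1 := Over.w φ
      have h2 := Over.w ψ
      change pullback.snd ψ.left φ.left ≫ (Over.mk τ).hom =
        pullback.fst ψ.left φ.left ≫ ζ.pt.hom
      rw [← h1, ← h2, ← Category.assoc, ← Category.assoc, pullback.condition]
    let w₂ : W ⟶ Over.mk τ := Over.homMk (pullback.snd ψ.left φ.left) hw2
    have hw : w₁ ≫ ψ = w₂ ≫ φ := Over.OverMorphism.ext pullback.condition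
    have sqW : IsPullback w₁ w₂ ψ φ :=
      IsPullback.of_map (Over.forget S) hw (IsPullback.of_hasPullback ψ.left φ.left)
    have sqW' := sqW.map (yon S)
    have hcomm : (yon S).map w₂ ≫ (yon S).map φ = ((yon S).map w₁ ≫ ζ.toHom) ≫ y := by
      rw [Category.assoc, ← hψ, ← Functor.map_comp, ← Functor.map_comp, hw]
    let l := sq.lift ((yon S).map w₂) ((yon S).map w₁ ≫ ζ.toHom) hcomm
    have hl1 : l ≫ e = (yon S).map w₂ := sq.lift_fst _ _ _
    have hl2 : l ≫ p = (yon S).map w₁ ≫ ζ.toHom := sq.lift_snd _ _ _
    have sqL : IsPullback l ((yon S).map w₁) p ζ.toHom := by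
      refine IsPullback.of_right ?_ hl2 sq
      rw [hl1, ← hψ]
      exact sqW'.flip
    have hrange : Points.map p ⁻¹' {Points.mk ζ} = Set.range (Points.map l) := by
      ext z
      constructor
      · intro hz
        have hz' : Points.map p z = Points.mk ζ := hz
        let s₀ : ↥(Spec (CommRingCat.of ζ.K)) := IsLocalRing.closedPoint ζ.K
        have e' : Points.map p z = Points.map ζ.toHom (Points.ofScheme ζ.pt s₀) := by
          rw [hz', GeomConn.map_toHom_eq_mk]
        obtain ⟨w, hw, -⟩ := H52.exists_point_of_isPullback sqL z _ e'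
        exact ⟨w, hw⟩
      · rintro ⟨w, rfl⟩
        change Points.map p (Points.map l w) = Points.mk ζ
        rw [← Points.map_comp, hl2, Points.map_comp, GeomConn.map_toHom_eq_mk]
    rw [hrange]
    haveI : UniversallyOpen φ.left :=
      inferInstanceAs (UniversallyOpen (show (Over.mk τ).left ⟶ Spec (CommRingCat.of K') from φ.left))
    haveI : ConnectedSpace ↥ζ.pt.left := connectedSpace_spec_field ζ.K
    haveI : ConnectedSpace ↥W.left :=
      inferInstanceAs (ConnectedSpace ↥(pullback ψ.left φ.left))
    haveI : ConnectedSpace (Points ((yon S).obj W)) :=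
      (Points.schemeHomeo W).surjective.connectedSpace (Points.schemeHomeo W).continuous
    exact isConnected_range (Points.continuous_map _)
  have hsurj : Function.Surjective (Points.map p) :=
    fun y => (hfib y).nonempty.imp (fun z hz => hz)
  exact ((hopen.isQuotientMap (Points.continuous_map _) hsurj).isCoinducing).connectedComponentsMap_bijective
    hfib

/-- A continuous map inducing a bijection on connected components, with connected target, has
connected source. -/
theorem connectedSpace_of_bijective_connectedComponentsMap {A B : Type*} [TopologicalSpace A]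
    [TopologicalSpace B] {f : A → B} (hf : Continuous f)
    (hb : Function.Bijective hf.connectedComponentsMap) [ConnectedSpace B] : ConnectedSpace A := by
  obtain ⟨b⟩ := (inferInstance : Nonempty B)
  obtain ⟨c, -⟩ := hb.2 (ConnectedComponents.mk b)
  obtain ⟨x, rfl⟩ := ConnectedComponents.surjective_coe c
  refine connectedSpace_iff_connectedComponent.2 ⟨x, Set.eq_univ_of_forall fun x' => ?_⟩
  have hsub : Subsingleton (ConnectedComponents B) := inferInstance
  have : (ConnectedComponents.mk x' : ConnectedComponents A) = ConnectedComponents.mk x :=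
    hb.1 (Subsingleton.elim _ _)
  exact ConnectedComponents.coe_eq_coe'.1 this

open BCChart GeomConn

variable {k : Type u} [Field k]

/-- Over a separably closed field, `X_K ⟶ X` induces a bijection on connected components. -/
theorem s10467 [IsSepClosed k] (X : Sp (Spec (CommRingCat.of k))) (hX : IsAlgSpace X)
    (K : Type u) [Field K] [Algebra k K] :
    Function.Bijective (Continuous.connectedComponentsMap
      (Points.continuous_map (prod.fst : X ⨯ hK k K ⟶ X))) := by
  have hT := isTerminalYon (Spec (CommRingCat.of k))
  have sqX : IsPullback (prod.fst : X ⨯ hK k K ⟶ X) prod.snd (hT.from X) (hT.from (hK k K)) :=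
    IsPullback.of_is_product' (prodIsProd X (hK k K)) hT
  let φ : Over.mk (ι k K) ⟶ Over.mk (𝟙 (Spec (CommRingCat.of k))) :=
    Over.homMk (ι k K) (Category.comp_id _)
  have hφ : hT.from (hK k K) = (yon _).map φ := hT.hom_ext _ _
  rw [hφ] at sqX
  have hgc : GeometricallyConnected φ.left :=
    Groth.Agent.H25.SepIrr.geometricallyConnected_specMap_of_isSepClosed k K
  exact connectedComponentsMap_bijective_of_isPullback φ hgc hX sqX.flip

/-- Over a separably closed field, connected implies geometrically connected. -/
theorem connectedSpace_prod_of_isSepClosed [IsSepClosed k] (X : Sp (Spec (CommRingCat.of k)))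
    (hX : IsAlgSpace X) [ConnectedSpace (Points X)] (K : Type u) [Field K] [Algebra k K] :
    ConnectedSpace (Points (X ⨯ hK k K)) :=
  connectedSpace_of_bijective_connectedComponentsMap _ (s10467 X hX K)

/-- If `X_K` is connected then so is `X`. -/
theorem connectedSpace_of_prod (X : Sp (Spec (CommRingCat.of k)))
    (K : Type u) [Field K] [Algebra k K] [ConnectedSpace (Points (X ⨯ hK k K))] :
    ConnectedSpace (Points X) :=
  (surjective_points_map_prod_fst X K).connectedSpace (Points.continuous_map _)

/-- Geometric connectedness can be tested on a separable closure. -/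
theorem connectedSpace_prod_of_isSepClosure (X : Sp (Spec (CommRingCat.of k)))
    (hX : IsAlgSpace X) (kbar : Type u) [Field kbar] [Algebra k kbar] [IsSepClosed kbar]
    [ConnectedSpace (Points (X ⨯ hK k kbar))] (K : Type u) [Field K] [Algebra k K] :
    ConnectedSpace (Points (X ⨯ hK k K)) := by
  obtain ⟨Ω, _, σ, τ, hστ⟩ := exists_common_extension (k := k) kbar K
  letI : Algebra k Ω := (σ.comp (algebraMap k kbar)).toAlgebra
  have h1 : Spec.map (CommRingCat.ofHom σ) ≫ ι k kbar = ι k Ω := by
    change Spec.map _ ≫ Spec.map _ = Spec.map _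
    rw [← Spec.map_comp, ← CommRingCat.ofHom_comp]
  have h2 : Spec.map (CommRingCat.ofHom τ) ≫ ι k K = ι k Ω := by
    change Spec.map _ ≫ Spec.map _ = Spec.map _
    rw [← Spec.map_comp, ← CommRingCat.ofHom_comp, ← hστ]
  let φ₁ : Over.mk (ι k Ω) ⟶ Over.mk (ι k kbar) := Over.homMk (Spec.map (CommRingCat.ofHom σ)) h1
  let φ₂ : Over.mk (ι k Ω) ⟶ Over.mk (ι k K) := Over.homMk (Spec.map (CommRingCat.ofHom τ)) h2
  have hT := isTerminalYon (Spec (CommRingCat.of k))
  have sq := (isPullback_prod_map hT (X := X) ((yon _).map φ₁)).flip
  have hgc : GeometricallyConnected φ₁.left := by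
    letI : Algebra kbar Ω := σ.toAlgebra
    exact Groth.Agent.H25.SepIrr.geometricallyConnected_specMap_of_isSepClosed kbar Ω
  have hXk : IsAlgSpace (X ⨯ hK k kbar) :=
    Groth.Agent.H49.isAlgSpace_of_isPullback
      (IsPullback.of_is_product' (prodIsProd X (hK k kbar)) hT) (IsAlgSpace.yon_obj _).diag hX
      (IsAlgSpace.yon_obj _)
  have hb := connectedComponentsMap_bijective_of_isPullback φ₁ hgc hXk sq
  haveI : ConnectedSpace (Points (X ⨯ hK k Ω)) :=
    connectedSpace_of_bijective_connectedComponentsMap _ hb
  exact (surjective_points_map_prod_map φ₂ X).connectedSpace (Points.continuous_map _)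

end Groth.Agent.H52.SepConn
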