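import Groth.Agent.H52.GalBasis
import Groth.Agent.H52.SepConn
import Groth.Agent.H51.SpBasic

/-!
# The topology of `|X_L|` for an algebraic extension `L/k` comes from finite levels
-/

set_option autoImplicit false
set_option linter.style.haveILetI false
universe u

open CategoryTheory CategoryTheory.Limits AlgebraicGeometry Opposite

namespace Groth.Agent.H52.GalSp

open AlgSp BCChart Groth.Agent.H38.GalTower

variable {k : Type u} [Field k]

section tower

variable (L : Type u) [Field L] [Algebra k L]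
  (E : Type u) [Field E] [Algebra k E] [Algebra E L] [IsScalarTower k E L]

/-- The morphism `Spec L ⟶ Spec E` over `Spec k`. -/
noncomputable def gE : (Over.mk (ι k L) : Over (Spec (CommRingCat.of k))) ⟶ Over.mk (ι k E) :=
  Over.homMk (Spec.map (CommRingCat.ofHom (algebraMap E L))) (specMap_tower k E L)

theorem gE_left : (gE (k := k) L E).left = Spec.map (CommRingCat.ofHom (algebraMap E L)) := rfl

theorem eq_gE (g : (Over.mk (ι k L) : Over (Spec (CommRingCat.of k))) ⟶ Over.mk (ι k E))
    (hg : g.left = Spec.map (CommRingCat.ofHom (algebraMap E L))) : g = gE L E :=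
  Over.OverMorphism.ext hg

variable (X : Sp (Spec (CommRingCat.of k)))

/-- The projection `X_L ⟶ X_E`. -/
noncomputable def πE : X ⨯ hK k L ⟶ X ⨯ hK k E :=
  prod.map (𝟙 X) ((yon _).map (gE L E))

@[reassoc (attr := simp)]
theorem πE_fst : πE L E X ≫ prod.fst = prod.fst := by
  rw [πE, prod.map_fst, Category.comp_id]

@[reassoc (attr := simp)]
theorem πE_snd : πE L E X ≫ prod.snd = prod.snd ≫ (yon _).map (gE L E) := by
  rw [πE, prod.map_snd]

variable {X}

/-- The projection `U_L ⟶ U_E` for a scheme `U` over `k`. -/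
noncomputable def pE (U : Over (Spec (CommRingCat.of k))) : bcOver U L ⟶ bcOver U E :=
  letI : U.left.Over (Spec (CommRingCat.of k)) := ⟨U.hom⟩
  Over.homMk (bcMap k U.left E L) (by
    change bcMap k U.left E L ≫ (pullback.fst U.hom (ι k E) ≫ U.hom) =
      pullback.fst U.hom (ι k L) ≫ U.hom
    rw [← Category.assoc]
    congr 1
    exact bcMap_fst k U.left E L)

theorem pE_left (U : Over (Spec (CommRingCat.of k))) :
    (pE L E U).left = (letI : U.left.Over (Spec (CommRingCat.of k)) := ⟨U.hom⟩;
      bcMap k U.left E L) := rfl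

@[reassoc]
theorem pE_bcFst (U : Over (Spec (CommRingCat.of k))) : pE L E U ≫ bcFst U E = bcFst U L := by
  letI : U.left.Over (Spec (CommRingCat.of k)) := ⟨U.hom⟩
  exact Over.OverMorphism.ext (bcMap_fst k U.left E L)

@[reassoc]
theorem pE_bcSnd (U : Over (Spec (CommRingCat.of k))) :
    pE L E U ≫ bcSnd U E = bcSnd U L ≫ gE L E := by
  letI : U.left.Over (Spec (CommRingCat.of k)) := ⟨U.hom⟩
  exact Over.OverMorphism.ext (bcMap_snd k U.left E L)

theorem bcChart_πE {U : Over (Spec (CommRingCat.of k))}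
    (a : (yon (Spec (CommRingCat.of k))).obj U ⟶ X) :
    bcChart a L ≫ πE L E X = (yon _).map (pE L E U) ≫ bcChart a E := by
  ext
  · rw [Category.assoc, πE_fst, bcChart_fst, Category.assoc, bcChart_fst, ← Category.assoc,
      ← Functor.map_comp, pE_bcFst]
  · rw [Category.assoc, πE_snd, bcChart_snd_assoc, Category.assoc, bcChart_snd,
      ← Functor.map_comp, ← Functor.map_comp, pE_bcSnd]

/-- `U_L = U_E ×_{X_E} X_L`. -/
theorem isPullback_bcChart_πE {U : Over (Spec (CommRingCat.of k))}
    (a : (yon (Spec (CommRingCat.of k))).obj U ⟶ X) :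
    IsPullback (bcChart a L) ((yon _).map (pE L E U)) (πE L E X) (bcChart a E) := by
  refine IsPullback.of_bot ?_ (bcChart_πE L E a) (isPullback_bcChart a E)
  rw [πE_fst, ← Functor.map_comp, pE_bcFst]
  exact isPullback_bcChart a L

/-- Points of `U_L` over a point of `X_L` and a point of `U_E` with the same image in `X_E`. -/
theorem exists_point_pE {U : Over (Spec (CommRingCat.of k))}
    (a : (yon (Spec (CommRingCat.of k))).obj U ⟶ X)
    (t : Points (X ⨯ hK k L)) (w : ↥(bcOver U E).left)
    (h : Points.map (πE L E X) t = Points.ofPt (bcChart a E) w) :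
    ∃ u : ↥(bcOver U L).left, Points.ofPt (bcChart a L) u = t ∧ (pE L E U).left u = w := by
  rw [Points.ofPt_eq_map_ofScheme] at h
  obtain ⟨z, hz1, hz2⟩ := H52.exists_point_of_isPullback (isPullback_bcChart_πE L E a) t _ h
  obtain ⟨v, rfl⟩ := (Points.schemeEquiv (bcOver U L)).surjective z
  refine ⟨v, ?_, ?_⟩
  · rw [Points.ofPt_eq_map_ofScheme]; exact hz1
  · have := congrArg (Points.toScheme (bcOver U E)) hz2
    rw [Points.toScheme_ofScheme] at this
    rw [← this]
    change _ = Points.toScheme (bcOver U E) (Points.map _ (Points.ofPt (𝟙 _) v))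
    rw [Points.map_ofPt, Category.id_comp, Points.toScheme_ofPt]

theorem map_πE_ofPt {U : Over (Spec (CommRingCat.of k))}
    (a : (yon (Spec (CommRingCat.of k))).obj U ⟶ X) (u : ↥(bcOver U L).left) :
    Points.map (πE L E X) (Points.ofPt (bcChart a L) u) =
      Points.ofPt (bcChart a E) ((pE L E U).left u) := by
  rw [Points.map_ofPt, bcChart_πE, Groth.Agent.H51.ofPt_map_comp]

end tower

section basis

variable (L : Type u) [Field L] [Algebra k L] [Algebra.IsAlgebraic k L]
  {X : Sp (Spec (CommRingCat.of k))}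

/-- Opens pulled back from finite levels form a basis of the topology of `|X_L|`. -/
theorem exists_finite_level_nbhd (hX : IsAlgSpace X) (y : Points (X ⨯ hK k L))
    (N : Set (Points (X ⨯ hK k L))) (hN : IsOpen N) (hy : y ∈ N) :
    ∃ (E : IntermediateField k L) (_ : FiniteDimensional k E)
      (V' : Set (Points (X ⨯ hK k E))), IsOpen V' ∧ Points.map (πE L E X) y ∈ V' ∧
        Points.map (πE L E X) ⁻¹' V' ⊆ N := by
  obtain ⟨U, a, ha, has⟩ := hX.atlas
  obtain ⟨u, hu⟩ := Groth.Agent.H51.surjective_ofPt_of_surjective (bcChart a L)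
    (repWith_surjective_bcChart has L) y
  letI : U.left.Over (Spec (CommRingCat.of k)) := ⟨U.hom⟩
  have hN' : IsOpen (Points.ofPt (bcChart a L) ⁻¹' N) :=
    hN.preimage (Points.continuous_ofPt _)
  obtain ⟨E, hE, W', hW', huW', hW'N⟩ := GalBasis.exists_finite_level_nbhd k U.left L u
    (Points.ofPt (bcChart a L) ⁻¹' N) hN' (by change Points.ofPt _ u ∈ N; rw [hu]; exact hy)
  refine ⟨E, hE, Points.ofPt (bcChart a E) '' W', ?_, ?_, ?_⟩
  · exact Groth.Agent.H51.isOpenMap_ofPt_of_etale _ (repWith_etale_bcChart ha E) _ hW'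
  · rw [← hu, map_πE_ofPt]
    exact ⟨_, huW', rfl⟩
  · rintro t ⟨w, hw, hwt⟩
    obtain ⟨u', hu'1, hu'2⟩ := exists_point_pE L E a t w hwt.symm
    have : u' ∈ Points.ofPt (bcChart a L) ⁻¹' N := hW'N (by
      change bcMap k U.left E L u' ∈ W'
      have h2 : (pE L E U).left u' = bcMap k U.left E L u' := rfl
      rw [← h2, hu'2]; exact hw)
    rw [← hu'1]
    exact this

end basis

section maps

variable (L : Type u) [Field L] [Algebra k L]
  (E : Type u) [Field E] [Algebra k E] [Algebra E L] [IsScalarTower k E L]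
  {X : Sp (Spec (CommRingCat.of k))}

theorem isAlgSpace_prod (hX : IsAlgSpace X) (K : Type u) [Field K] [Algebra k K] :
    IsAlgSpace (X ⨯ hK k K) :=
  Groth.Agent.H49.isAlgSpace_of_isPullback
    (IsPullback.of_is_product' (prodIsProd X (hK k K))
      (GeomConn.isTerminalYon (Spec (CommRingCat.of k))))
    (IsAlgSpace.yon_obj _).diag hX (IsAlgSpace.yon_obj _)

theorem isOpenMap_πE (hX : IsAlgSpace X) : IsOpenMap (Points.map (πE L E X)) := by
  have hT := GeomConn.isTerminalYon (Spec (CommRingCat.of k))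
  have hlocP : LocP @UniversallyOpen ((yon (Spec (CommRingCat.of k))).map (gE L E)) :=
    H50.locP_univOpen_to_field E (ι k E) _
  have huo : IsUnivOpenMor ((yon (Spec (CommRingCat.of k))).map (gE L E)) :=
    H50.isUnivOpenMor_of_locP_univOpen (IsAlgSpace.yon_obj _) (IsAlgSpace.yon_obj _) _ hlocP
  have sq := (GeomConn.isPullback_prod_map hT (X := X) ((yon _).map (gE L E))).flip
  exact huo (isAlgSpace_prod hX E) _ _ _ sq

theorem surjective_πE : Function.Surjective (Points.map (πE L E X)) :=
  surjective_points_map_prod_map (gE L E) X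

theorem isClosedMap_πE (hX : IsAlgSpace X) [Algebra.IsAlgebraic E L] :
    IsClosedMap (Points.map (πE L E X)) := by
  intro T hT
  obtain ⟨U, a, ha, has⟩ := hX.atlas
  letI : U.left.Over (Spec (CommRingCat.of k)) := ⟨U.hom⟩
  have hq : Topology.IsQuotientMap (Points.ofPt (bcChart a E)) :=
    (Groth.Agent.H51.isOpenMap_ofPt_of_etale _ (repWith_etale_bcChart ha E)).isQuotientMap
      (Points.continuous_ofPt _)
      (Groth.Agent.H51.surjective_ofPt_of_surjective _ (repWith_surjective_bcChart has E))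
  rw [← hq.isClosed_preimage]
  have heq : Points.ofPt (bcChart a E) ⁻¹' (Points.map (πE L E X) '' T) =
      (pE L E U).left '' (Points.ofPt (bcChart a L) ⁻¹' T) := by
    ext w
    constructor
    · rintro ⟨t, ht, htw⟩
      obtain ⟨u, hu1, hu2⟩ := exists_point_pE L E a t w htw
      exact ⟨u, by change Points.ofPt _ u ∈ T; rw [hu1]; exact ht, hu2⟩
    · rintro ⟨u, hu, rfl⟩
      exact ⟨_, hu, map_πE_ofPt L E a u⟩
  rw [heq]
  exact GalBasis.isClosedMap_bcMap k U.left L E _ (hT.preimage (Points.continuous_ofPt _))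

end maps

section action

variable (L : Type u) [Field L] [Algebra k L] (X : Sp (Spec (CommRingCat.of k)))

/-- The action on `X_L` of an endomorphism of `Spec L` over `Spec k`. -/
noncomputable def act (g : (Over.mk (ι k L) : Over (Spec (CommRingCat.of k))) ⟶ Over.mk (ι k L)) :
    X ⨯ hK k L ⟶ X ⨯ hK k L :=
  prod.map (𝟙 X) ((yon _).map g)

theorem act_comp (g g' : (Over.mk (ι k L) : Over (Spec (CommRingCat.of k))) ⟶ Over.mk (ι k L)) :
    act L X (g ≫ g') = act L X g ≫ act L X g' := by
  unfold act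
  rw [Functor.map_comp, prod.map_map, Category.comp_id]

theorem act_id : act L X (𝟙 _) = 𝟙 _ := by
  unfold act
  rw [CategoryTheory.Functor.map_id, prod.map_id_id]

/-- The endomorphism of `Spec L` over `Spec k` given by a `k`-automorphism of `L`. -/
noncomputable def gσ (σ : L ≃ₐ[k] L) :
    (Over.mk (ι k L) : Over (Spec (CommRingCat.of k))) ⟶ Over.mk (ι k L) :=
  Over.homMk (Spec.map (CommRingCat.ofHom (σ : L ≃ₐ[k] L).toRingHom)) (by
    change Spec.map _ ≫ Spec.map _ = Spec.map _
    rw [← Spec.map_comp, ← CommRingCat.ofHom_comp]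
    congr 2
    ext x
    exact σ.commutes x)

theorem eq_gσ (σ : L ≃ₐ[k] L)
    (g : (Over.mk (ι k L) : Over (Spec (CommRingCat.of k))) ⟶ Over.mk (ι k L))
    (hg : g.left = Spec.map (CommRingCat.ofHom (σ : L ≃ₐ[k] L).toRingHom)) : g = gσ L σ :=
  Over.OverMorphism.ext hg

theorem gσ_mul (σ τ : L ≃ₐ[k] L) : gσ L (σ * τ) = gσ L σ ≫ gσ L τ := by
  apply Over.OverMorphism.ext
  change Spec.map _ = Spec.map _ ≫ Spec.map _
  rw [← Spec.map_comp, ← CommRingCat.ofHom_comp]
  rfl

theorem gσ_one : gσ (k := k) L 1 = 𝟙 _ := by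
  apply Over.OverMorphism.ext
  change Spec.map _ = 𝟙 _
  exact Spec.map_id _

/-- The image of a set under the action of `σ` composed with that of `σ⁻¹` is the set. -/
theorem act_image_image (σ : L ≃ₐ[k] L) (V : Set (Points (X ⨯ hK k L))) :
    Points.map (act L X (gσ L σ)) '' (Points.map (act L X (gσ L σ⁻¹)) '' V) = V := by
  rw [Set.image_image]
  have : ∀ v, Points.map (act L X (gσ L σ)) (Points.map (act L X (gσ L σ⁻¹)) v) = v := by
    intro v
    rw [← Points.map_comp, ← act_comp, ← gσ_mul, inv_mul_cancel, gσ_one, act_id, Points.map_id]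
  simp only [this, Set.image_id']

variable (E : IntermediateField k L)

theorem gσ_gE (σ : L ≃ₐ[k] L) (hσ : σ ∈ E.fixingSubgroup) : gσ L σ ≫ gE L E = gE L E := by
  apply Over.OverMorphism.ext
  change Spec.map _ ≫ Spec.map _ = Spec.map _
  rw [← Spec.map_comp, ← CommRingCat.ofHom_comp]
  congr 2
  ext x
  exact (IntermediateField.mem_fixingSubgroup_iff E σ).1 hσ x x.2

theorem act_πE (σ : L ≃ₐ[k] L) (hσ : σ ∈ E.fixingSubgroup) :
    act L X (gσ L σ) ≫ πE L E X = πE L E X := by
  unfold act πE
  rw [prod.map_map, Category.comp_id, ← Functor.map_comp, gσ_gE L E σ hσ]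

/-- A set pulled back from level `E` is stable under the automorphisms fixing `E`. -/
theorem act_image_preimage_πE (σ : L ≃ₐ[k] L) (hσ : σ ∈ E.fixingSubgroup)
    (V' : Set (Points (X ⨯ hK k E))) :
    Points.map (act L X (gσ L σ)) '' (Points.map (πE L E X) ⁻¹' V') =
      Points.map (πE L E X) ⁻¹' V' := by
  have hsub : ∀ τ : L ≃ₐ[k] L, τ ∈ E.fixingSubgroup →
      Points.map (act L X (gσ L τ)) '' (Points.map (πE L E X) ⁻¹' V') ⊆
        Points.map (πE L E X) ⁻¹' V' := by
    rintro τ hτ _ ⟨v, hv, rfl⟩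
    change Points.map (πE L E X) (Points.map (act L X (gσ L τ)) v) ∈ V'
    rw [← Points.map_comp, act_πE L X E τ hτ]
    exact hv
  refine subset_antisymm (hsub σ hσ) ?_
  have h2 := Set.image_mono (f := Points.map (act L X (gσ L σ)))
    (hsub σ⁻¹ (E.fixingSubgroup.inv_mem hσ))
  rw [act_image_image] at h2
  exact h2

end action

section levels

variable (L : Type u) [Field L] [Algebra k L] {X : Sp (Spec (CommRingCat.of k))}

/-- A set pulled back from level `E₁` is pulled back from any higher level `E₂`. -/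
theorem exists_preimage_πE_of_le {E₁ E₂ : IntermediateField k L} (h : E₁ ≤ E₂)
    (V' : Set (Points (X ⨯ hK k E₁))) (hV' : IsOpen V') :
    ∃ V'' : Set (Points (X ⨯ hK k E₂)), IsOpen V'' ∧
      Points.map (πE L E₂ X) ⁻¹' V'' = Points.map (πE L E₁ X) ⁻¹' V' := by
  letI : Algebra E₁ E₂ := (IntermediateField.inclusion h).toRingHom.toAlgebra
  haveI : IsScalarTower k E₁ E₂ := IsScalarTower.of_algebraMap_eq (fun x => rfl)
  haveI : IsScalarTower E₁ E₂ L := IsScalarTower.of_algebraMap_eq (fun x => rfl)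
  have hg : gE L E₂ ≫ gE (k := k) E₂ E₁ = gE L E₁ := by
    apply Over.OverMorphism.ext
    change Spec.map _ ≫ Spec.map _ = Spec.map _
    rw [← Spec.map_comp, ← CommRingCat.ofHom_comp, ← IsScalarTower.algebraMap_eq]
  have hπ : πE L E₂ X ≫ πE E₂ E₁ X = πE L E₁ X := by
    unfold πE
    rw [prod.map_map, Category.comp_id, ← Functor.map_comp, hg]
  refine ⟨Points.map (πE E₂ E₁ X) ⁻¹' V', hV'.preimage (Points.continuous_map _), ?_⟩
  rw [← Set.preimage_comp, ← hπ]
  ext t
  simp only [Set.mem_preimage, Function.comp_apply, Points.map_comp]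

/-- A quasi-compact open of `|X_L|` is pulled back from a finite level. -/
theorem exists_finite_level_of_isCompact [Algebra.IsAlgebraic k L] (hX : IsAlgSpace X)
    (V : Set (Points (X ⨯ hK k L))) (hV : IsOpen V) (hVc : IsCompact V) :
    ∃ (E : IntermediateField k L) (_ : FiniteDimensional k E)
      (W : Set (Points (X ⨯ hK k E))), IsOpen W ∧ Points.map (πE L E X) ⁻¹' W = V := by
  classical
  choose E hE V' hV' hmem hsub using fun (y : Points (X ⨯ hK k L)) (hy : y ∈ V) =>
    exists_finite_level_nbhd L hX y V hV hy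
  obtain ⟨t, ht⟩ := hVc.elim_nhds_subcover' (fun y hy => Points.map (πE L (E y hy) X) ⁻¹' V' y hy)
    (fun y hy => ((hV' y hy).preimage (Points.continuous_map _)).mem_nhds (hmem y hy))
  let E₀ : IntermediateField k L := ⨆ x ∈ t, E x.1 x.2
  haveI : FiniteDimensional k E₀ :=
    IntermediateField.finiteDimensional_iSup_of_finset' (fun x _ => hE x.1 x.2)
  have hle : ∀ x ∈ t, E x.1 x.2 ≤ E₀ := fun x hx =>
    le_iSup_of_le x (le_iSup (fun _ => E x.1 x.2) hx)
  choose W hW hWeq using fun (x : ↥V) (hx : x ∈ t) =>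
    exists_preimage_πE_of_le L (hle x hx) (V' x.1 x.2) (hV' x.1 x.2)
  refine ⟨E₀, inferInstance, ⋃ (x : ↥V) (hx : x ∈ t), W x hx,
    isOpen_iUnion fun x => isOpen_iUnion fun hx => hW x hx, ?_⟩
  rw [Set.preimage_iUnion₂]
  apply subset_antisymm
  · intro y hy
    obtain ⟨x, hx, hyx⟩ := Set.mem_iUnion₂.1 hy
    rw [hWeq x hx] at hyx
    exact hsub x.1 x.2 hyx
  · intro y hy
    obtain ⟨x, hx, hyx⟩ := Set.mem_iUnion₂.1 (ht hy)
    refine Set.mem_iUnion₂.2 ⟨x, hx, ?_⟩
    rw [hWeq x hx]
    exact hyx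

/-- **S10471**. -/
theorem s10471 [IsGalois k L] (hX : IsAlgSpace X)
    (V : Set (Points (X ⨯ hK k L))) (hV : IsOpen V) (hVc : IsCompact V) :
    ∃ H : Subgroup (L ≃ₐ[k] L), IsOpen (H : Set (L ≃ₐ[k] L)) ∧
      ∀ σ ∈ H, ∀ (g : (Over.mk (ι k L) : Over (Spec (CommRingCat.of k))) ⟶ Over.mk (ι k L)),
        g.left = Spec.map (CommRingCat.ofHom (σ : L ≃ₐ[k] L).toRingHom) →
          Points.map (prod.map (𝟙 X) ((yon (Spec (CommRingCat.of k))).map g)) '' V = V := by
  obtain ⟨E, hE, W, hW, rfl⟩ := exists_finite_level_of_isCompact L hX V hV hVc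
  refine ⟨E.fixingSubgroup, E.fixingSubgroup_isOpen, ?_⟩
  intro σ hσ g hg
  rw [eq_gσ L σ g hg]
  exact act_image_preimage_πE L X E σ hσ W

/-- **S10472**. -/
theorem s10472 [IsGalois k L] (hX : IsAlgSpace X)
    (V : Set (Points (X ⨯ hK k L))) (hV : IsOpen V) (hVc : IsCompact V) :
    ∃ (k' : IntermediateField k L) (_ : FiniteDimensional k k')
      (g : (Over.mk (ι k L) : Over (Spec (CommRingCat.of k))) ⟶ Over.mk (ι k k')),
      g.left = Spec.map (CommRingCat.ofHom (algebraMap k' L)) ∧
      ∃ V' : Set (Points (X ⨯ hK k k')), IsOpen V' ∧ IsCompact V' ∧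
        Points.map (prod.map (𝟙 X) ((yon (Spec (CommRingCat.of k))).map g)) ⁻¹' V' = V := by
  obtain ⟨E, hE, W, hW, rfl⟩ := exists_finite_level_of_isCompact L hX V hV hVc
  refine ⟨E, hE, gE L E, rfl, W, hW, ?_, rfl⟩
  have : W = Points.map (πE L E X) '' (Points.map (πE L E X) ⁻¹' W) :=
    (Set.image_preimage_eq W (surjective_πE L E)).symm
  rw [this]
  exact hVc.image (Points.continuous_map _)

/-- **S10469**, the nontrivial direction. -/
theorem connectedSpace_of_finite_separable (hX : IsAlgSpace X)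
    (h : ∀ (k' : Type u) [Field k'] [Algebra k k'], Module.Finite k k' → Algebra.IsSeparable k k' →
      ConnectedSpace (Points (X ⨯ hK k k')))
    (K : Type u) [Field K] [Algebra k K] : ConnectedSpace (Points (X ⨯ hK k K)) := by
  haveI : Algebra.IsAlgebraic k (SeparableClosure k) := inferInstance
  haveI : ConnectedSpace (Points (X ⨯ hK k (SeparableClosure k))) := by
    rw [connectedSpace_iff_clopen]
    constructor
    · haveI := h (⊥ : IntermediateField k (SeparableClosure k)) inferInstance inferInstance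
      obtain ⟨z⟩ := (inferInstance :
        Nonempty (Points (X ⨯ hK k (⊥ : IntermediateField k (SeparableClosure k)))))
      obtain ⟨w, -⟩ := surjective_πE (X := X) (SeparableClosure k)
        (⊥ : IntermediateField k (SeparableClosure k)) z
      exact ⟨w⟩
    · intro A hA
      by_contra hne
      rw [not_or] at hne
      obtain ⟨hA0, hA1⟩ := hne
      obtain ⟨a, ha⟩ := Set.nonempty_iff_ne_empty.2 hA0
      obtain ⟨b, hb⟩ : ∃ b, b ∉ A := by
        by_contra hh
        exact hA1 (Set.eq_univ_of_forall fun x => by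
          by_contra hx
          exact hh ⟨x, hx⟩)
      obtain ⟨E, hE, V', hV', hbV', hsub⟩ :=
        exists_finite_level_nbhd (SeparableClosure k) hX b Aᶜ hA.compl.isOpen hb
      haveI : Algebra.IsAlgebraic E (SeparableClosure k) :=
        Algebra.IsAlgebraic.tower_top (K := k) E
      haveI : Algebra.IsSeparable k E :=
        Algebra.isSeparable_tower_bot_of_isSeparable k E (SeparableClosure k)
      haveI : ConnectedSpace (Points (X ⨯ hK k E)) := h E inferInstance inferInstance
      have hcl : IsClopen (Points.map (πE (SeparableClosure k) E X) '' A) :=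
        ⟨isClosedMap_πE (SeparableClosure k) E hX _ hA.1,
          isOpenMap_πE (SeparableClosure k) E hX _ hA.2⟩
      have huniv := hcl.eq_univ ⟨_, a, ha, rfl⟩
      have hmem : Points.map (πE (SeparableClosure k) E X) b ∈
          Points.map (πE (SeparableClosure k) E X) '' A := by rw [huniv]; trivial
      obtain ⟨a', ha', haa'⟩ := hmem
      have : a' ∈ Aᶜ := hsub (by
        change Points.map _ a' ∈ V'
        rw [haa']; exact hbV')
      exact this ha'
  exact SepConn.connectedSpace_prod_of_isSepClosure X hX (SeparableClosure k) K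

end levels

end Groth.Agent.H52.GalSp
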