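import Groth.Agent.H52.GeomConn
import Mathlib.FieldTheory.Galois.Basic
import Mathlib.FieldTheory.Normal.Defs

set_option autoImplicit false
universe u
open CategoryTheory CategoryTheory.Limits AlgebraicGeometry Opposite

namespace Groth.Agent.H52.GaloisPts

open AlgSp GeomConn

variable {S : Scheme.{u}}

/-- Two points of `F` with the same image under `f : F ⟶ G` are represented by morphisms from the
spectrum of a common field with the same composition with `f`. -/
theorem exists_common_field {F G : Sp S} (f : F ⟶ G) (z t : Points F)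
    (h : Points.map f z = Points.map f t) :
    ∃ (Ω : Type u) (_ : Field Ω) (w : Spec (CommRingCat.of Ω) ⟶ S)
      (mz mt : (yon S).obj (Over.mk w) ⟶ F),
      Points.mk (fieldPtOfHom w mz) = z ∧ Points.mk (fieldPtOfHom w mt) = t ∧ mz ≫ f = mt ≫ f := by
  induction z using Points.ind with
  | h ζ =>
  induction t using Points.ind with
  | h τ =>
  rw [Points.map_mk, Points.map_mk, Points.mk_eq_mk_iff] at h
  obtain ⟨Ω, _, w, a', b', hab'⟩ := h
  let a : Over.mk w ⟶ ζ.pt := a'
  let b : Over.mk w ⟶ τ.pt := b'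
  refine ⟨Ω, inferInstance, w, (fieldPtRestrict ζ w a).toHom, (fieldPtRestrict τ w b).toHom,
    ?_, ?_, ?_⟩
  · have k1 : (J S).uliftYonedaEquiv (fieldPtRestrict ζ w a).toHom = F.obj.map a.op ζ.val :=
      FieldPt.uliftYonedaEquiv_toHom (fieldPtRestrict ζ w a)
    have e1 : fieldPtOfHom w (fieldPtRestrict ζ w a).toHom = fieldPtRestrict ζ w a := by
      simp only [fieldPtOfHom]
      congr 1
    rw [e1, mk_fieldPtRestrict]
  · have k1 : (J S).uliftYonedaEquiv (fieldPtRestrict τ w b).toHom = F.obj.map b.op τ.val :=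
      FieldPt.uliftYonedaEquiv_toHom (fieldPtRestrict τ w b)
    have e1 : fieldPtOfHom w (fieldPtRestrict τ w b).toHom = fieldPtRestrict τ w b := by
      simp only [fieldPtOfHom]
      congr 1
    rw [e1, mk_fieldPtRestrict]
  · have k1 : (J S).uliftYonedaEquiv (fieldPtRestrict ζ w a).toHom = F.obj.map a.op ζ.val :=
      FieldPt.uliftYonedaEquiv_toHom (fieldPtRestrict ζ w a)
    have k2 : (J S).uliftYonedaEquiv (fieldPtRestrict τ w b).toHom = F.obj.map b.op τ.val :=
      FieldPt.uliftYonedaEquiv_toHom (fieldPtRestrict τ w b)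
    apply (J S).uliftYonedaEquiv.injective
    rw [GrothendieckTopology.uliftYonedaEquiv_comp, GrothendieckTopology.uliftYonedaEquiv_comp,
      k1, k2]
    have h1 : f.hom.app _ (F.obj.map a.op ζ.val) = G.obj.map a.op (f.hom.app _ ζ.val) :=
      NatTrans.naturality_apply f.hom a.op ζ.val
    have h2 : f.hom.app _ (F.obj.map b.op τ.val) = G.obj.map b.op (f.hom.app _ τ.val) :=
      NatTrans.naturality_apply f.hom b.op τ.val
    rw [h1, h2]
    exact hab'


section galois

variable (k : Type u) [Field k] (K : Type u) [Field K] [Algebra k K]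

/-- The automorphism of `Spec K` over `Spec k` induced by `σ`. -/
noncomputable def gOf (σ : K ≃ₐ[k] K) :
    (Over.mk (Spec.map (CommRingCat.ofHom (algebraMap k K))) : Over (Spec (CommRingCat.of k))) ⟶
      Over.mk (Spec.map (CommRingCat.ofHom (algebraMap k K))) :=
  Over.homMk (Spec.map (CommRingCat.ofHom (σ : K ≃ₐ[k] K).toRingHom)) (by
    change Spec.map _ ≫ Spec.map _ = Spec.map _
    rw [← Spec.map_comp]
    congr 1
    ext x
    exact σ.commutes x)

theorem gOf_left (σ : K ≃ₐ[k] K) :
    (gOf k K σ).left = Spec.map (CommRingCat.ofHom (σ : K ≃ₐ[k] K).toRingHom) := rfl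

theorem exists_galois [Normal k K] {Ω : Type u} [Field Ω]
    (w : Spec (CommRingCat.of Ω) ⟶ Spec (CommRingCat.of k))
    (α₀ β₀ : Over.mk w ⟶ Over.mk (Spec.map (CommRingCat.ofHom (algebraMap k K)))) :
    ∃ σ : K ≃ₐ[k] K, β₀ = α₀ ≫ gOf k K σ := by
  let α' : CommRingCat.of K ⟶ CommRingCat.of Ω := Spec.preimage α₀.left
  let β' : CommRingCat.of K ⟶ CommRingCat.of Ω := Spec.preimage β₀.left
  let ω : CommRingCat.of k ⟶ CommRingCat.of Ω := Spec.preimage w
  have hα' : Spec.map α' = α₀.left := Spec.map_preimage _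
  have hβ' : Spec.map β' = β₀.left := Spec.map_preimage _
  have hω : Spec.map ω = w := Spec.map_preimage _
  have hαω : CommRingCat.ofHom (algebraMap k K) ≫ α' = ω := by
    apply Spec.map_injective
    rw [Spec.map_comp, hα', hω]
    exact Over.w α₀
  have hβω : CommRingCat.ofHom (algebraMap k K) ≫ β' = ω := by
    apply Spec.map_injective
    rw [Spec.map_comp, hβ', hω]
    exact Over.w β₀
  let _ : Algebra k Ω := ω.hom.toAlgebra
  let _ : Algebra K Ω := α'.hom.toAlgebra
  have hst : IsScalarTower k K Ω := IsScalarTower.of_algebraMap_eq (fun x => by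
    have := congrArg (fun m => m.hom x) hαω
    exact this.symm)
  let βA : K →ₐ[k] Ω := { β'.hom with
    commutes' := fun x => by
      have := congrArg (fun m => m.hom x) hβω
      exact this }
  let σ : K ≃ₐ[k] K := Normal.algHomEquivAut k Ω K βA
  have hσ : (IsScalarTower.toAlgHom k K Ω).comp σ.toAlgHom = βA :=
    (Normal.algHomEquivAut k Ω K).left_inv βA
  refine ⟨σ, ?_⟩
  apply Over.OverMorphism.ext
  change β₀.left = α₀.left ≫ Spec.map (CommRingCat.ofHom (σ : K ≃ₐ[k] K).toRingHom)
  rw [← hα', ← hβ', ← Spec.map_comp]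
  congr 1
  ext x
  have := DFunLike.congr_fun hσ x
  exact this.symm


/-- Two points of `X_K` over the same point of `X` are conjugate under the Galois group. -/
theorem exists_galois_translate [Normal k K] (X : Sp (Spec (CommRingCat.of k)))
    (z t : Points (X ⨯ (yon (Spec (CommRingCat.of k))).obj
      (Over.mk (Spec.map (CommRingCat.ofHom (algebraMap k K))))))
    (h : Points.map prod.fst z = Points.map prod.fst t) :
    ∃ σ : K ≃ₐ[k] K, Points.map (prod.map (𝟙 X)
      ((yon (Spec (CommRingCat.of k))).map (gOf k K σ))) z = t := by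
  obtain ⟨Ω, _, w, mz, mt, hz, ht, hfst⟩ := exists_common_field prod.fst z t h
  obtain ⟨α₀, hα₀⟩ := (yon (Spec (CommRingCat.of k))).map_surjective (mz ≫ prod.snd)
  obtain ⟨β₀, hβ₀⟩ := (yon (Spec (CommRingCat.of k))).map_surjective (mt ≫ prod.snd)
  obtain ⟨σ, hσ⟩ := exists_galois k K w α₀ β₀
  refine ⟨σ, ?_⟩
  have key : mz ≫ prod.map (𝟙 X) ((yon (Spec (CommRingCat.of k))).map (gOf k K σ)) = mt := by
    apply Limits.prod.hom_ext
    · rw [Category.assoc, prod.map_fst, Category.comp_id]
      exact hfst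
    · rw [Category.assoc, prod.map_snd, ← Category.assoc, ← hα₀, ← Functor.map_comp, ← hσ, hβ₀]
  rw [← hz, ← ht, Points.map_mk, fieldPtOfHom_map, key]


/-- The projection `X_K ⟶ X` is open and surjective on points. -/
theorem isOpenMap_surjective_fst (X : AlgSp.Space (Spec (CommRingCat.of k))) :
    IsOpenMap (Points.map (prod.fst : X.obj ⨯ (yon (Spec (CommRingCat.of k))).obj
      (Over.mk (Spec.map (CommRingCat.ofHom (algebraMap k K)))) ⟶ X.obj)) ∧
    Function.Surjective (Points.map (prod.fst : X.obj ⨯ (yon (Spec (CommRingCat.of k))).obj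
      (Over.mk (Spec.map (CommRingCat.ofHom (algebraMap k K)))) ⟶ X.obj)) := by
  have hT := isTerminalYon (Spec (CommRingCat.of k))
  set hK := (yon (Spec (CommRingCat.of k))).obj
    (Over.mk (Spec.map (CommRingCat.ofHom (algebraMap k K)))) with hKdef
  have hlocP : LocP @UniversallyOpen (hT.from hK) :=
    H50.locP_univOpen_to_field k (𝟙 _) _
  have huo : IsUnivOpenMor (hT.from hK) :=
    H50.isUnivOpenMor_of_locP_univOpen (IsAlgSpace.yon_obj _) (IsAlgSpace.yon_obj _) _ hlocP
  have sq : IsPullback (prod.fst : X.obj ⨯ hK ⟶ X.obj) prod.snd (hT.from X.obj)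
      (hT.from hK) := IsPullback.of_is_product' (prodIsProd _ _) hT
  refine ⟨huo X.property (hT.from X.obj) prod.snd prod.fst sq.flip, ?_⟩
  intro x
  have hsub0 : Subsingleton ↥(Spec (CommRingCat.of k)) :=
    inferInstanceAs (Subsingleton (PrimeSpectrum k))
  have hsub1 : Subsingleton ↥(Over.mk (𝟙 (Spec (CommRingCat.of k)))).left := hsub0
  have hsub : Subsingleton (Points ((yon (Spec (CommRingCat.of k))).obj
      (Over.mk (𝟙 (Spec (CommRingCat.of k)))))) :=
    (Points.schemeEquiv (Over.mk (𝟙 (Spec (CommRingCat.of k))))).symm.injective.subsingleton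
  let pt : Points hK := Points.ofScheme _ (IsLocalRing.closedPoint K)
  obtain ⟨z, hz, -⟩ := exists_point_of_isPullback sq x pt (Subsingleton.elim _ _)
  exact ⟨z, hz⟩

/-- **S10470**. -/
theorem s10470 (X : AlgSp.Space (Spec (CommRingCat.of k))) [IsGalois k K]
    (T : Set (AlgSp.Points (X.obj ⨯ (AlgSp.yon (Spec (CommRingCat.of k))).obj
      (Over.mk (Spec.map (CommRingCat.ofHom (algebraMap k K)))))))
    (hT : IsClosed T)
    (hσ : ∀ (σ : K ≃ₐ[k] K) (g : (Over.mk (Spec.map (CommRingCat.ofHom (algebraMap k K))) :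
        Over (Spec (CommRingCat.of k))) ⟶ Over.mk (Spec.map (CommRingCat.ofHom (algebraMap k K)))),
      g.left = Spec.map (CommRingCat.ofHom (σ : K ≃ₐ[k] K).toRingHom) →
        AlgSp.Points.map (Limits.prod.map (𝟙 X.obj)
          ((AlgSp.yon (Spec (CommRingCat.of k))).map g)) '' T = T) :
    ∃ T₀ : Set (AlgSp.Points X.obj), IsClosed T₀ ∧
      AlgSp.Points.map (Limits.prod.fst : (X.obj ⨯ (AlgSp.yon (Spec (CommRingCat.of k))).obj
        (Over.mk (Spec.map (CommRingCat.ofHom (algebraMap k K))))) ⟶ X.obj) ⁻¹' T₀ = T := by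
  obtain ⟨hopen, hsurj⟩ := isOpenMap_surjective_fst k K X
  set p := Points.map (prod.fst : X.obj ⨯ (yon (Spec (CommRingCat.of k))).obj
      (Over.mk (Spec.map (CommRingCat.ofHom (algebraMap k K)))) ⟶ X.obj) with hp
  have hsat : p ⁻¹' (p '' T) = T := by
    apply Set.Subset.antisymm
    · rintro z ⟨t, htT, htz⟩
      obtain ⟨σ, hσz⟩ := exists_galois_translate k K X.obj t z htz
      rw [← hσ σ (gOf k K σ) (gOf_left k K σ)]
      exact ⟨t, htT, hσz⟩
    · exact Set.subset_preimage_image p T
  refine ⟨p '' T, ?_, hsat⟩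
  have hcompl : (p '' T)ᶜ = p '' Tᶜ := by
    ext y
    constructor
    · intro hy
      obtain ⟨z, rfl⟩ := hsurj y
      refine ⟨z, fun hz => hy ⟨z, hz, rfl⟩, rfl⟩
    · rintro ⟨z, hz, rfl⟩ hy
      apply hz
      rw [← hsat]
      exact hy
  rw [← isOpen_compl_iff, hcompl]
  exact hopen _ hT.isOpen_compl

end galois

end Groth.Agent.H52.GaloisPts
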