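import Groth.Agent.H52.BiratJ
import Groth.Agent.H53.ZMT.GenFinDense5
import Groth.Agent.H52.GenericQF
import Groth.Agent.H52.EtDegF
import Groth.Agent.H52.GenericPts

set_option autoImplicit false
universe u
open CategoryTheory CategoryTheory.Limits AlgebraicGeometry TopologicalSpace Topology

namespace Groth.Agent.H52.GenFin
open AlgSp Groth.Agent.H51 Groth.Agent.H52.Birat Groth.Agent.H52.CZ

variable {S : Scheme.{u}}

/-- The generic point of an irreducible space lies in every nonempty open. -/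
theorem mem_of_isGenericPoint_univ {T : Type*} [TopologicalSpace T] {y : T}
    (hy : IsGenericPoint y (Set.univ : Set T)) {O : Set T} (hO : IsOpen O) (hne : O.Nonempty) :
    y ∈ O := by
  rw [hy.mem_open_set_iff hO, Set.univ_inter]
  exact hne

/-- An integral (decent, irreducible) algebraic space has a nonempty affine open subscheme whose
only point with zero-dimensional local ring is the point over the generic point. -/
theorem exists_affine_open_chart (Y : AlgSp.Space S) (hYd : IsDecent Y.obj)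
    (y : Points Y.obj) (hy : IsGenericPoint y (Set.univ : Set (Points Y.obj))) :
    ∃ (T₀ : Over S) (b₀ : (yon S).obj T₀ ⟶ Y.obj) (t₀ : ↥T₀.left), IsAffine T₀.left ∧
      RepWith @IsOpenImmersion b₀ ∧ Points.ofPt b₀ t₀ = y ∧
      ringKrullDim (T₀.left.presheaf.stalk t₀) = 0 ∧
      ∀ t : ↥T₀.left, ringKrullDim (T₀.left.presheaf.stalk t) = 0 → t = t₀ := by
  obtain ⟨A, pa, hpa, hpas⟩ := Y.property.atlas
  have hT0 : T0Space (Points Y.obj) := t0Space_points_of_isDecent hYd pa hpa hpas
  obtain ⟨s, hs⟩ := H51.surjective_ofPt_of_surjective pa hpas y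
  obtain ⟨_, ⟨(A₁ : A.left.Opens), hA₁, rfl⟩, hsA₁, -⟩ :=
    A.left.isBasis_affineOpens.exists_subset_of_mem_open (Set.mem_univ s) isOpen_univ
  have : IsAffine (overOpen A A₁).left := hA₁
  have : Nonempty ↥(overOpen A A₁).left := ⟨⟨s, hsA₁⟩⟩
  obtain ⟨M, j, hj, hMne, -⟩ := EtDeg.exists_open_subscheme_of_isDecent hYd
    ((yon S).map (overOpenι A A₁) ≫ pa) (H51.repWith_etale_restrict pa hpa A₁)
  have hjo : IsOpenEmbedding (Points.map j) := isOpenEmbedding_map_of_isOpenImmersion j hj
  have hyj : y ∈ Set.range (Points.map j) := by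
    refine mem_of_isGenericPoint_univ hy hjo.isOpen_range ?_
    obtain ⟨m⟩ := hMne
    exact ⟨_, ⟨Points.schemeHomeo M m, rfl⟩⟩
  rw [H51.range_map_eq_range_ofPt] at hyj
  obtain ⟨m₀, hm₀⟩ := hyj
  obtain ⟨_, ⟨(M₀ : M.left.Opens), hM₀, rfl⟩, hmM₀, -⟩ :=
    M.left.isBasis_affineOpens.exists_subset_of_mem_open (Set.mem_univ m₀) isOpen_univ
  set b₀ : (yon S).obj (overOpen M M₀) ⟶ Y.obj := (yon S).map (overOpenι M M₀) ≫ j with hb₀def
  have hb₀ : RepWith @IsOpenImmersion b₀ :=
    (RepWith @IsOpenImmersion).comp_mem _ _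
      ((repWith_yon_map_iff _ _).2 (show IsOpenImmersion M₀.ι from inferInstance)) hj
  have hmono : Mono b₀ := mono_of_repWith_isOpenImmersion b₀ hb₀
  have hinj : Function.Injective (Points.ofPt b₀) := ofPt_injective_of_mono b₀
  have ht₀ : Points.ofPt b₀ (⟨m₀, hmM₀⟩ : ↥(overOpen M M₀).left) = y := by
    rw [hb₀def, H53.ofPt_yon_map_comp]
    exact hm₀
  have hgen : ∀ t : ↥(overOpen M M₀).left, y ⤳ Points.ofPt b₀ t := fun t => by
    rw [specializes_iff_mem_closure, hy.def]; trivial
  have hind : IsInducing (Points.ofPt b₀) := by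
    have h1 : IsOpenEmbedding (Points.map b₀) := isOpenEmbedding_map_of_isOpenImmersion b₀ hb₀
    have h2 : Points.ofPt b₀ = Points.map b₀ ∘ Points.schemeHomeo (overOpen M M₀) := by
      funext t; exact Points.ofPt_eq_map_ofScheme b₀ t
    rw [h2]
    exact h1.isInducing.comp (Points.schemeHomeo _).isInducing
  refine ⟨overOpen M M₀, b₀, ⟨m₀, hmM₀⟩, hM₀, hb₀, ht₀, ?_, ?_⟩
  · rw [stalk_dim_zero_iff]
    intro t ht
    apply hinj
    have h1 : Points.ofPt b₀ t ⤳ y := ht₀ ▸ ht.map (Points.continuous_ofPt b₀)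
    rw [ht₀]
    exact (h1.antisymm (hgen t)).eq
  · intro t ht
    rw [stalk_dim_zero_iff] at ht
    refine (ht _ ?_).symm
    rw [← hind.specializes_iff, ht₀]
    exact hgen t

end Groth.Agent.H52.GenFin
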