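import Groth.Agent.H52.GenFinA

set_option autoImplicit false
universe u
open CategoryTheory CategoryTheory.Limits AlgebraicGeometry TopologicalSpace Topology

namespace Groth.Agent.H52.GenFin
open AlgSp Groth.Agent.H51 Groth.Agent.H52.Birat Groth.Agent.H52.CZ

variable {S : Scheme.{u}}

/-- The space of points of a decent algebraic space is `T0`. -/
theorem t0Space_points (X : AlgSp.Space S) (hX : IsDecent X.obj) : T0Space (Points X.obj) := by
  obtain ⟨A, pa, hpa, hpas⟩ := X.property.atlas
  exact t0Space_points_of_isDecent hX pa hpa hpas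

/-- A dominant morphism maps the generic point to the generic point. -/
theorem map_generic_eq {X Y : AlgSp.Space S} (hYd : IsDecent Y.obj) (f : X ⟶ Y)
    (hd : IsDominantMor f.hom)
    (x : Points X.obj) (hx : IsGenericPoint x (Set.univ : Set (Points X.obj)))
    (y : Points Y.obj) (hy : IsGenericPoint y (Set.univ : Set (Points Y.obj))) :
    Points.map f.hom x = y := by
  have := t0Space_points Y hYd
  refine IsGenericPoint.eq ?_ hy
  change closure {Points.map f.hom x} = Set.univ
  rw [← Set.univ_subset_iff, ← hd.closure_range]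
  refine closure_minimal ?_ isClosed_closure
  rintro _ ⟨x', rfl⟩
  have hs : x ⤳ x' := by
    rw [specializes_iff_mem_closure, hx.def]; trivial
  exact specializes_iff_mem_closure.1 (hs.map (Points.continuous_map f.hom))

/-- In an irreducible decent space the only point of codimension zero is the generic point. -/
theorem codimZero_iff_eq_generic (X : AlgSp.Space S) (hXd : IsDecent X.obj)
    [IrreducibleSpace (Points X.obj)]
    (x : Points X.obj) (hx : IsGenericPoint x (Set.univ : Set (Points X.obj)))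
    (x' : Points X.obj) :
    HasAt (fun U u => ringKrullDim ↥(U.presheaf.stalk u) = 0) X.obj x' ↔ x' = x := by
  have := t0Space_points X hXd
  rw [← GenericPts.generic_iff_codimZero X hXd x', irreducibleComponents_eq_singleton]
  constructor
  · rintro ⟨T, hT, hx'⟩
    rw [Set.mem_singleton_iff] at hT
    subst hT
    exact hx'.eq hx
  · rintro rfl
    exact ⟨_, rfl, hx⟩

end Groth.Agent.H52.GenFin

namespace Groth.Agent.H52.GenFin
open AlgSp Groth.Agent.H51 Groth.Agent.H52.Birat Groth.Agent.H52.CZ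

variable {S : Scheme.{u}}

/-- **S10488 (⇒).** -/
theorem exists_finite_over_open {X Y : AlgSp.Space S} (hXi : IsIntegralSp X.obj)
    (hYi : IsIntegralSp Y.obj) (f : X ⟶ Y) (hft : LocP @LocallyOfFiniteType f.hom)
    (hd : IsDominantMor f.hom)
    (x : Points X.obj) (hx : IsGenericPoint x (Set.univ : Set (Points X.obj)))
    (y : Points Y.obj) (hy : IsGenericPoint y (Set.univ : Set (Points Y.obj)))
    (hsq : IsSeparatedMor f.hom ∨ IsQuasiCompactMor f.hom)
    (huniq : ∀ x' : Points X.obj, Points.map f.hom x' = y → x' = x) :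
    ∃ (V : Over S) (b : (yon S).obj V ⟶ Y.obj) (U : Over S) (g : U ⟶ V)
      (a : (yon S).obj U ⟶ X.obj),
      IsAffine V.left ∧ Nonempty ↥V.left ∧ RepWith @IsOpenImmersion b ∧
        IsPullback a ((yon S).map g) f.hom b ∧ IsAffine U.left ∧ IsFinite g.left := by
  have hXd : IsDecent X.obj := hXi.2.1
  have hYd : IsDecent Y.obj := hYi.2.1
  have hXirr : IrreducibleSpace (Points X.obj) := hXi.2.2
  have hYirr : IrreducibleSpace (Points Y.obj) := hYi.2.2
  have hfx : Points.map f.hom x = y := map_generic_eq hYd f hd x hx y hy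
  obtain ⟨T₀, b₀, t₀, hT₀, hb₀, ht₀, hdim, hu⟩ := exists_affine_open_chart Y hYd y hy
  have hb₀e : RepWith @Etale b₀ := repWith_etale_of_isOpenImmersion b₀ hb₀
  have hpre : ∀ x' : Points X.obj,
      HasAt (fun U u => ringKrullDim ↥(U.presheaf.stalk u) = 0) X.obj x' ↔
        HasAt (fun U u => ringKrullDim ↥(U.presheaf.stalk u) = 0) Y.obj
          (Points.map f.hom x') := by
    intro x'
    rw [codimZero_iff_eq_generic X hXd x hx, codimZero_iff_eq_generic Y hYd y hy]
    exact ⟨fun h => h ▸ hfx, huniq x'⟩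
  have hX0 : {x' : Points X.obj |
      HasAt (fun U u => ringKrullDim ↥(U.presheaf.stalk u) = 0) X.obj x'}.Finite := by
    refine (Set.finite_singleton x).subset ?_
    intro x' hx'
    exact (codimZero_iff_eq_generic X hXd x hx x').1 hx'
  obtain ⟨r₀, hr₀, hfin⟩ : ∃ r₀ : Γ(T₀.left, ⊤), t₀ ∈ T₀.left.basicOpen r₀ ∧
      ∀ (X₁ : Sp S) (q : X₁ ⟶ X.obj)
        (f₁ : X₁ ⟶ (yon S).obj (overOpen T₀ (T₀.left.basicOpen r₀))),
        IsPullback q f₁ f.hom ((yon S).map (overOpenι T₀ (T₀.left.basicOpen r₀)) ≫ b₀) →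
          IsFiniteMor f₁ := by
    rcases hsq with hsep | hqc
    · exact H53.ZMT.exists_basicOpen_isFiniteMor_of_sep f hft hYd hX0 hpre hsep hT₀ b₀ hb₀e t₀
        hdim hu
    · exact H53.ZMT.exists_basicOpen_isFiniteMor_of_qc f hft hpre hqc hT₀ b₀ hb₀e t₀ hdim hu
  set V : Over S := overOpen T₀ (T₀.left.basicOpen r₀) with hV
  set b : (yon S).obj V ⟶ Y.obj := (yon S).map (overOpenι T₀ (T₀.left.basicOpen r₀)) ≫ b₀
    with hb
  have hVaff : IsAffine V.left := (isAffineOpen_top T₀.left).basicOpen r₀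
  have hbo : RepWith @IsOpenImmersion b :=
    (RepWith @IsOpenImmersion).comp_mem _ _
      ((repWith_yon_map_iff _ _).2
        (show IsOpenImmersion (T₀.left.basicOpen r₀).ι from inferInstance)) hb₀
  have sq₁ : IsPullback (pullback.fst f.hom b) (pullback.snd f.hom b) f.hom b :=
    IsPullback.of_hasPullback f.hom b
  obtain ⟨W, i, k, sqW, hWaff, hifin⟩ := hfin _ _ _ sq₁ hVaff (𝟙 _)
  have sq₂ : IsPullback (k ≫ pullback.fst f.hom b) ((yon S).map i) f.hom (𝟙 _ ≫ b) :=
    sqW.paste_horiz sq₁
  rw [Category.id_comp] at sq₂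
  exact ⟨V, b, W, i, _, hVaff, ⟨⟨t₀, hr₀⟩⟩, hbo, sq₂, hWaff, hifin⟩

end Groth.Agent.H52.GenFin

namespace Groth.Agent.H52.GenFin
open AlgSp Groth.Agent.H51 Groth.Agent.H52.Birat Groth.Agent.H52.CZ

variable {S : Scheme.{u}}

/-- If `f` is finite over a chart pair with open-immersion (or just étale) charts through the
generic point, the generic point is the only point over the generic point. -/
theorem unique_of_finite_chart {X Y : AlgSp.Space S} (hXi : IsIntegralSp X.obj)
    (hYi : IsIntegralSp Y.obj) (f : X ⟶ Y) (hft : LocP @LocallyOfFiniteType f.hom)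
    (hd : IsDominantMor f.hom)
    (x : Points X.obj) (hx : IsGenericPoint x (Set.univ : Set (Points X.obj)))
    (y : Points Y.obj) (hy : IsGenericPoint y (Set.univ : Set (Points Y.obj)))
    {U V : Over S} (a : (yon S).obj U ⟶ X.obj) (b : (yon S).obj V ⟶ Y.obj) (g : U ⟶ V)
    (ha : RepWith @Etale a) (hb : RepWith @Etale b) (e : a ≫ f.hom = (yon S).map g ≫ b)
    (hg : IsFinite g.left) (u : ↥U.left) (hu : Points.ofPt a u = x) :
    ∀ x' : Points X.obj, Points.map f.hom x' = y → x' = x := by
  refine (s10485 hXi hYi f hft hd x hx y hy).1 ⟨U, V, a, b, g, u, ha, hb, e, hu, ⊤, trivial, ?_, ?_⟩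
  · infer_instance
  · infer_instance

/-- **S10488 (⇐).** -/
theorem unique_of_finite_over_open {X Y : AlgSp.Space S} (hXi : IsIntegralSp X.obj)
    (hYi : IsIntegralSp Y.obj) (f : X ⟶ Y) (hft : LocP @LocallyOfFiniteType f.hom)
    (hd : IsDominantMor f.hom)
    (x : Points X.obj) (hx : IsGenericPoint x (Set.univ : Set (Points X.obj)))
    (y : Points Y.obj) (hy : IsGenericPoint y (Set.univ : Set (Points Y.obj)))
    {U V : Over S} (a : (yon S).obj U ⟶ X.obj) (b : (yon S).obj V ⟶ Y.obj) (g : U ⟶ V)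
    (hne : Nonempty ↥V.left) (hb : RepWith @IsOpenImmersion b)
    (sq : IsPullback a ((yon S).map g) f.hom b) (hg : IsFinite g.left) :
    ∀ x' : Points X.obj, Points.map f.hom x' = y → x' = x := by
  have hYd : IsDecent Y.obj := hYi.2.1
  have hfx : Points.map f.hom x = y := map_generic_eq hYd f hd x hx y hy
  have hbo : IsOpenEmbedding (Points.map b) := isOpenEmbedding_map_of_isOpenImmersion b hb
  have hyb : y ∈ Set.range (Points.map b) := by
    refine mem_of_isGenericPoint_univ hy hbo.isOpen_range ?_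
    obtain ⟨v⟩ := hne
    exact ⟨_, ⟨Points.schemeHomeo V v, rfl⟩⟩
  obtain ⟨v', hv'⟩ := hyb
  obtain ⟨p, hp1, -⟩ := H50.points_exists_of_isPullback sq x v' (hfx.trans hv'.symm)
  obtain ⟨u, rfl⟩ := (Points.schemeHomeo U).surjective p
  have ha : RepWith @IsOpenImmersion a := (RepWith @IsOpenImmersion).of_isPullback sq.flip hb
  refine unique_of_finite_chart hXi hYi f hft hd x hx y hy a b g
    (repWith_etale_of_isOpenImmersion a ha) (repWith_etale_of_isOpenImmersion b hb) sq.w hg u ?_
  rw [Points.ofPt_eq_map_ofScheme]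
  exact hp1

end Groth.Agent.H52.GenFin
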