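import Groth.Agent.H52.GenFinB
import Groth.Agent.H53.ZMT.GenFinSch

set_option autoImplicit false
universe u
open CategoryTheory CategoryTheory.Limits AlgebraicGeometry TopologicalSpace Topology

namespace Groth.Agent.H52.GenFin
open AlgSp Groth.Agent.H51 Groth.Agent.H52.Birat Groth.Agent.H52.CZ

variable {S : Scheme.{u}}

/-- **S10487 (⇐).** -/
theorem exists_finite_chart {X Y : AlgSp.Space S} (hXi : IsIntegralSp X.obj)
    (hYi : IsIntegralSp Y.obj) (f : X ⟶ Y) (hft : LocP @LocallyOfFiniteType f.hom)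
    (hd : IsDominantMor f.hom)
    (x : Points X.obj) (hx : IsGenericPoint x (Set.univ : Set (Points X.obj)))
    (y : Points Y.obj) (hy : IsGenericPoint y (Set.univ : Set (Points Y.obj)))
    (huniq : ∀ x' : Points X.obj, Points.map f.hom x' = y → x' = x) :
    ∃ (U V : Over S) (a : (yon S).obj U ⟶ X.obj) (b : (yon S).obj V ⟶ Y.obj) (g : U ⟶ V),
      IsAffine U.left ∧ IsAffine V.left ∧ Nonempty ↥U.left ∧
        RepWith @IsOpenImmersion a ∧ RepWith @IsOpenImmersion b ∧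
          a ≫ f.hom = (yon S).map g ≫ b ∧ IsFinite g.left := by
  have hXd : IsDecent X.obj := hXi.2.1
  have hYd : IsDecent Y.obj := hYi.2.1
  have hfx : Points.map f.hom x = y := map_generic_eq hYd f hd x hx y hy
  obtain ⟨T₀, b₀, t₀, hT₀, hb₀, ht₀, hdim, -⟩ := exists_affine_open_chart Y hYd y hy
  obtain ⟨T₁, a₁, s₁, hT₁, ha₁, hs₁, -, -⟩ := exists_affine_open_chart X hXd x hx
  obtain ⟨W, fst, sqW, hWeq⟩ := H50.exists_opens_isPullback b₀ hb₀ T₁ (a₁ ≫ f.hom)
  have hs₁W : s₁ ∈ W := by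
    rw [← SetLike.mem_coe, hWeq, Set.mem_preimage, H51.range_map_eq_range_ofPt,
      ← Points.map_ofPt, hs₁, hfx, ← ht₀]
    exact ⟨t₀, rfl⟩
  obtain ⟨_, ⟨(W₁ : T₁.left.Opens), hW₁, rfl⟩, hsW₁, hle⟩ :=
    T₁.left.isBasis_affineOpens.exists_subset_of_mem_open hs₁W W.2
  have hle' : W₁ ≤ W := hle
  obtain ⟨φ, rfl⟩ := (yon S).map_surjective fst
  let ι₁ : overOpen T₁ W₁ ⟶ Over.mk (W.ι ≫ T₁.hom) :=
    Over.homMk (T₁.left.homOfLE hle') (by simp)
  let h : overOpen T₁ W₁ ⟶ T₀ := ι₁ ≫ φ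
  have hι : ι₁ ≫ (Over.homMk W.ι rfl : Over.mk (W.ι ≫ T₁.hom) ⟶ T₁) = overOpenι T₁ W₁ := by
    ext
    simp [ι₁, overOpenι]
  set a₁' : (yon S).obj (overOpen T₁ W₁) ⟶ X.obj := (yon S).map (overOpenι T₁ W₁) ≫ a₁
    with ha₁'def
  have e : a₁' ≫ f.hom = (yon S).map h ≫ b₀ := by
    rw [ha₁'def, ← hι, Functor.map_comp, Functor.map_comp, Category.assoc, Category.assoc,
      Category.assoc, sqW.w]
  have ha₁' : RepWith @IsOpenImmersion a₁' :=
    (RepWith @IsOpenImmersion).comp_mem _ _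
      ((repWith_yon_map_iff _ _).2 (show IsOpenImmersion W₁.ι from inferInstance)) ha₁
  have ha₁'e : RepWith @Etale a₁' := repWith_etale_of_isOpenImmersion a₁' ha₁'
  have hb₀e : RepWith @Etale b₀ := repWith_etale_of_isOpenImmersion b₀ hb₀
  have hlft : LocallyOfFiniteType h.left := hft a₁' b₀ h ha₁'e hb₀e e
  have : Mono a₁' := mono_of_repWith_isOpenImmersion a₁' ha₁'
  have : Mono b₀ := mono_of_repWith_isOpenImmersion b₀ hb₀
  have hinja : Function.Injective (Points.ofPt a₁') := ofPt_injective_of_mono a₁'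
  have hinjb : Function.Injective (Points.ofPt b₀) := ofPt_injective_of_mono b₀
  let s₁' : ↥(overOpen T₁ W₁).left := ⟨s₁, hsW₁⟩
  have hs₁' : Points.ofPt a₁' s₁' = x := by
    rw [ha₁'def, H53.ofPt_yon_map_comp]
    exact hs₁
  have hmap : ∀ w : ↥(overOpen T₁ W₁).left,
      Points.map f.hom (Points.ofPt a₁' w) = Points.ofPt b₀ (h.left w) :=
    fun w => map_ofPt_chart f.hom a₁' b₀ h e w
  have hhs : h.left s₁' = t₀ := by
    apply hinjb
    rw [← hmap, hs₁', hfx, ht₀]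
  have hfib : (h.left ⁻¹' {t₀}).Finite := by
    refine (Set.finite_singleton s₁').subset ?_
    intro w hw
    rw [Set.mem_preimage, Set.mem_singleton_iff] at hw
    rw [Set.mem_singleton_iff]
    apply hinja
    rw [hs₁']
    apply huniq
    rw [hmap, hw, ht₀]
  have hU₁aff : IsAffine (overOpen T₁ W₁).left := hW₁
  obtain ⟨r, hr, hfin⟩ := H53.ZMT.exists_basicOpen_isFinite_of_finite_fibre h.left t₀ hdim hfib
  set D : T₀.left.Opens := T₀.left.basicOpen r with hD
  let g : overOpen (overOpen T₁ W₁) (h.left ⁻¹ᵁ D) ⟶ overOpen T₀ D :=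
    Over.homMk (h.left ∣_ D) (by
      change (h.left ∣_ D) ≫ D.ι ≫ T₀.hom = (h.left ⁻¹ᵁ D).ι ≫ (overOpen T₁ W₁).hom
      rw [← Over.w h, morphismRestrict_ι_assoc])
  have hg : overOpenι (overOpen T₁ W₁) (h.left ⁻¹ᵁ D) ≫ h = g ≫ overOpenι T₀ D := by
    ext
    change (h.left ⁻¹ᵁ D).ι ≫ h.left = (h.left ∣_ D) ≫ D.ι
    rw [morphismRestrict_ι]
  have hDaff : IsAffineOpen D := (isAffineOpen_top T₀.left).basicOpen r
  refine ⟨overOpen (overOpen T₁ W₁) (h.left ⁻¹ᵁ D), overOpen T₀ D,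
    (yon S).map (overOpenι _ _) ≫ a₁', (yon S).map (overOpenι _ _) ≫ b₀, g, ?_, hDaff,
    ⟨⟨s₁', by change h.left s₁' ∈ D; rw [hhs]; exact hr⟩⟩, ?_, ?_, ?_, hfin⟩
  · exact hDaff.preimage h.left
  · exact (RepWith @IsOpenImmersion).comp_mem _ _
      ((repWith_yon_map_iff _ _).2 (show IsOpenImmersion (h.left ⁻¹ᵁ D).ι from inferInstance)) ha₁'
  · exact (RepWith @IsOpenImmersion).comp_mem _ _
      ((repWith_yon_map_iff _ _).2 (show IsOpenImmersion D.ι from inferInstance)) hb₀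
  · rw [Category.assoc, e, ← Category.assoc, ← Functor.map_comp, hg, Functor.map_comp,
      Category.assoc]

end Groth.Agent.H52.GenFin

namespace Groth.Agent.H52.GenFin
open AlgSp Groth.Agent.H51 Groth.Agent.H52.Birat Groth.Agent.H52.CZ

variable {S : Scheme.{u}}

/-- **S10487 (⇒).** -/
theorem unique_of_finite_open_chart {X Y : AlgSp.Space S} (hXi : IsIntegralSp X.obj)
    (hYi : IsIntegralSp Y.obj) (f : X ⟶ Y) (hft : LocP @LocallyOfFiniteType f.hom)
    (hd : IsDominantMor f.hom)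
    (x : Points X.obj) (hx : IsGenericPoint x (Set.univ : Set (Points X.obj)))
    (y : Points Y.obj) (hy : IsGenericPoint y (Set.univ : Set (Points Y.obj)))
    {U V : Over S} (a : (yon S).obj U ⟶ X.obj) (b : (yon S).obj V ⟶ Y.obj) (g : U ⟶ V)
    (hne : Nonempty ↥U.left) (ha : RepWith @IsOpenImmersion a) (hb : RepWith @IsOpenImmersion b)
    (e : a ≫ f.hom = (yon S).map g ≫ b) (hg : IsFinite g.left) :
    ∀ x' : Points X.obj, Points.map f.hom x' = y → x' = x := by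
  have hao : IsOpenEmbedding (Points.map a) := isOpenEmbedding_map_of_isOpenImmersion a ha
  have hxa : x ∈ Set.range (Points.map a) := by
    refine mem_of_isGenericPoint_univ hx hao.isOpen_range ?_
    obtain ⟨u⟩ := hne
    exact ⟨_, ⟨Points.schemeHomeo U u, rfl⟩⟩
  rw [H51.range_map_eq_range_ofPt] at hxa
  obtain ⟨u, hu⟩ := hxa
  exact unique_of_finite_chart hXi hYi f hft hd x hx y hy a b g
    (repWith_etale_of_isOpenImmersion a ha) (repWith_etale_of_isOpenImmersion b hb) e hg u hu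

end Groth.Agent.H52.GenFin
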