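import Groth.Agent.H52.GenFinC
import Groth.Agent.H53.Deform.Finite

set_option autoImplicit false
universe u
open CategoryTheory CategoryTheory.Limits AlgebraicGeometry TopologicalSpace Topology

namespace Groth.Agent.H52.GenFin
open AlgSp Groth.Agent.H51 Groth.Agent.H52.Birat Groth.Agent.H52.CZ

variable {S : Scheme.{u}}

/-- **S10500 (⇐).** -/
theorem exists_alteration_open {X Y : AlgSp.Space S} (hXi : IsIntegralSp X.obj)
    (hYi : IsIntegralSp Y.obj) (f : X ⟶ Y) (hft : LocP @LocallyOfFiniteType f.hom)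
    (hsep : IsSeparatedMor f.hom) (hd : IsDominantMor f.hom)
    (x : Points X.obj) (hx : IsGenericPoint x (Set.univ : Set (Points X.obj)))
    (y : Points Y.obj) (hy : IsGenericPoint y (Set.univ : Set (Points Y.obj)))
    (huniq : ∀ x' : Points X.obj, Points.map f.hom x' = y → x' = x) :
    ∃ (V : AlgSp.Space S) (j : V ⟶ Y), RepWith @IsOpenImmersion j.hom ∧
      Nonempty (Points V.obj) ∧
      ∀ (P : AlgSp.Space S) (fst : P ⟶ V) (snd : P ⟶ X),
        IsPullback fst.hom snd.hom j.hom f.hom → IsFiniteMor fst.hom := by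
  obtain ⟨V₀, b, U, g, a, -, hne, hb, sq, -, hg⟩ :=
    exists_finite_over_open hXi hYi f hft hd x hx y hy (Or.inl hsep) huniq
  refine ⟨⟨(yon S).obj V₀, IsAlgSpace.yon_obj V₀⟩, ObjectProperty.homMk b, hb, ?_, ?_⟩
  · obtain ⟨v⟩ := hne
    exact ⟨Points.schemeHomeo V₀ v⟩
  · intro P fst snd sqP
    rw [H53.Deform.isFiniteMor_iff_repWith]
    have sqP' : IsPullback snd.hom fst.hom f.hom b := sqP.flip
    let ε : P.obj ⟶ (yon S).obj U := sq.lift snd.hom fst.hom sqP'.w
    have h1 : ε ≫ a = snd.hom := sq.lift_fst _ _ _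
    have h2 : ε ≫ (yon S).map g = fst.hom := sq.lift_snd _ _ _
    have sqL : IsPullback ε fst.hom ((yon S).map g) (𝟙 _) := by
      refine IsPullback.of_right ?_ (by rw [h2, Category.comp_id]) sq
      rw [h1, Category.id_comp]
      exact sqP'
    exact (RepWith @IsFinite).of_isPullback sqL ((repWith_yon_map_iff _ _).2 hg)

/-- **S10500 (⇒).** -/
theorem unique_of_alteration_open {X Y : AlgSp.Space S} (hXi : IsIntegralSp X.obj)
    (hYi : IsIntegralSp Y.obj) (f : X ⟶ Y) (hft : LocP @LocallyOfFiniteType f.hom)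
    (hd : IsDominantMor f.hom)
    (x : Points X.obj) (hx : IsGenericPoint x (Set.univ : Set (Points X.obj)))
    (y : Points Y.obj) (hy : IsGenericPoint y (Set.univ : Set (Points Y.obj)))
    (V : AlgSp.Space S) (j : V ⟶ Y) (hj : RepWith @IsOpenImmersion j.hom)
    (hne : Nonempty (Points V.obj))
    (hfin : ∀ (P : AlgSp.Space S) (fst : P ⟶ V) (snd : P ⟶ X),
        IsPullback fst.hom snd.hom j.hom f.hom → IsFiniteMor fst.hom) :
    ∀ x' : Points X.obj, Points.map f.hom x' = y → x' = x := by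
  have hYd : IsDecent Y.obj := hYi.2.1
  have hfx : Points.map f.hom x = y := map_generic_eq hYd f hd x hx y hy
  -- the pullback
  have sqP : IsPullback (pullback.fst j.hom f.hom) (pullback.snd j.hom f.hom) j.hom f.hom :=
    IsPullback.of_hasPullback j.hom f.hom
  have hPa : IsAlgSpace (pullback j.hom f.hom) :=
    H49.isAlgSpace_of_isPullback sqP Y.property.diag V.property X.property
  let P : AlgSp.Space S := ⟨pullback j.hom f.hom, hPa⟩
  let fst : P ⟶ V := ObjectProperty.homMk (pullback.fst j.hom f.hom)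
  let snd : P ⟶ X := ObjectProperty.homMk (pullback.snd j.hom f.hom)
  have hfst : RepWith @IsFinite fst.hom :=
    (H53.Deform.isFiniteMor_iff_repWith _).1 (hfin P fst snd sqP)
  have hsnd : RepWith @IsOpenImmersion snd.hom :=
    (RepWith @IsOpenImmersion).of_isPullback sqP hj
  -- atlas of V
  obtain ⟨A, pa, hpa, hpas⟩ := V.property.atlas
  obtain ⟨U', k, u', sqU⟩ : ∃ (U' : Over S) (k : (yon S).obj U' ⟶ P.obj) (u' : U' ⟶ A),
      IsPullback k ((yon S).map u') fst.hom pa := by
    have := hfst.rep.isPullback pa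
    exact ⟨_, _, _, this⟩
  have hk : RepWith @Etale k := (RepWith @Etale).of_isPullback sqU.flip hpa
  have hks : RepWith @Surjective k := (RepWith @Surjective).of_isPullback sqU.flip hpas
  have hu' : IsFinite u'.left := hfst.property pa k u' sqU
  -- the point over x
  have hjo : IsOpenEmbedding (Points.map j.hom) := isOpenEmbedding_map_of_isOpenImmersion j.hom hj
  have hyj : y ∈ Set.range (Points.map j.hom) := by
    refine mem_of_isGenericPoint_univ hy hjo.isOpen_range ?_
    obtain ⟨v⟩ := hne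
    exact ⟨_, ⟨v, rfl⟩⟩
  obtain ⟨v, hv⟩ := hyj
  obtain ⟨p, -, hp2⟩ := H50.points_exists_of_isPullback sqP v x (hv.trans hfx.symm)
  obtain ⟨u, hu⟩ := H51.surjective_ofPt_of_surjective k hks p
  refine unique_of_finite_chart hXi hYi f hft hd x hx y hy (k ≫ snd.hom) (pa ≫ j.hom) u'
    ((RepWith @Etale).comp_mem _ _ hk (repWith_etale_of_isOpenImmersion _ hsnd))
    ((RepWith @Etale).comp_mem _ _ hpa (repWith_etale_of_isOpenImmersion _ hj)) ?_ hu' u ?_
  · have e1 : snd.hom ≫ f.hom = fst.hom ≫ j.hom := sqP.w.symm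
    rw [Category.assoc, e1, ← Category.assoc, sqU.w, Category.assoc]
  · rw [← Points.map_ofPt, hu]
    exact hp2

end Groth.Agent.H52.GenFin
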