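import Groth.Agent.H52.GenFinD
import Groth.Agent.H52.GeomConn
import Groth.Agent.H52.DiagRel
import Groth.Agent.H52.DecentMor
import Groth.Agent.H50.RedInduced
import Groth.Agent.H51.SpProper
import Groth.Agent.H64.Psh.SepTFAE

set_option autoImplicit false
universe u
open CategoryTheory CategoryTheory.Limits AlgebraicGeometry TopologicalSpace Topology

namespace Groth.Agent.H52.GenFin
open AlgSp Groth.Agent.H51 Groth.Agent.H52.Birat Groth.Agent.H52.CZ

variable {S : Scheme.{u}}

/-- In a `T0` space, a nonempty compact fibre contains a point with no proper specialization in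
the fibre. -/
theorem exists_closed_in_fibre {A B : Type*} [TopologicalSpace A] [TopologicalSpace B] [T0Space A]
    (g : A → B) (y : B) (hc : IsCompact (g ⁻¹' {y})) (hne : (g ⁻¹' {y}).Nonempty) :
    ∃ x, g x = y ∧ ∀ x', g x' = y → x ⤳ x' → x' = x := by
  have : CompactSpace ↥(g ⁻¹' {y}) := isCompact_iff_compactSpace.1 hc
  have : Nonempty ↥(g ⁻¹' {y}) := hne.to_subtype
  obtain ⟨x, -, hx⟩ := (isClosed_univ : IsClosed (Set.univ : Set ↥(g ⁻¹' {y}))).exists_closed_singleton
    Set.univ_nonempty
  refine ⟨x.1, x.2, fun x' hx' hs => ?_⟩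
  have hx'm : x' ∈ g ⁻¹' {y} := hx'
  have hs' : x ⤳ (⟨x', hx'm⟩ : ↥(g ⁻¹' {y})) :=
    Topology.IsInducing.subtypeVal.specializes_iff.1 hs
  have hmem : (⟨x', hx'm⟩ : ↥(g ⁻¹' {y})) ∈ closure ({x} : Set ↥(g ⁻¹' {y})) :=
    specializes_iff_mem_closure.1 hs'
  rw [hx.closure_eq, Set.mem_singleton_iff] at hmem
  exact congrArg Subtype.val hmem

/-- A closed immersion of algebraic spaces induces a closed embedding on points. -/
theorem isClosedEmbedding_map_of_isClosedImmersion {Z X : AlgSp.Space S} (i : Z ⟶ X)
    (hi : RepWith @IsClosedImmersion i.hom) : IsClosedEmbedding (Points.map i.hom) := by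
  have hp : IsProperMor i.hom := H64.PTh.isProperMor_of_closedImmersion i hi
  have hc : IsClosedMap (Points.map i.hom) :=
    hp.2.2 X.property (𝟙 _) (𝟙 _) i.hom IsPullback.of_id_fst
  have : Mono i.hom := H49.mono_of_repWith_mono Groth.Agent.H50.isClosedImmersion_le_mono i.hom hi
  exact IsClosedEmbedding.of_continuous_injective_isClosedMap (Points.continuous_map i.hom)
    (H51.injective_map_of_mono i.hom) hc

end Groth.Agent.H52.GenFin

namespace Groth.Agent.H52.GenFin
open AlgSp Groth.Agent.H51 Groth.Agent.H52.Birat Groth.Agent.H52.CZ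

variable {S : Scheme.{u}}

/-- **S10458.** -/
theorem s10458 {X Y : AlgSp.Space S} (f : X ⟶ Y)
    (hf : IsProperMor f.hom) (hs : IsSurjectiveMor f.hom) (hY : IsIntegralSp Y.obj) :
    ∃ (X' : AlgSp.Space S) (i : X' ⟶ X), RepWith @IsClosedImmersion i.hom ∧
      IsIntegralSp X'.obj ∧ IsProperMor (i ≫ f).hom ∧ IsDominantMor (i ≫ f).hom ∧
      ∃ (V : AlgSp.Space S) (j : V ⟶ Y), RepWith @IsOpenImmersion j.hom ∧
        Nonempty (Points V.obj) ∧
        ∀ (P : AlgSp.Space S) (fst : P ⟶ V) (snd : P ⟶ X'),
          IsPullback fst.hom snd.hom j.hom (i ≫ f).hom → IsFiniteMor fst.hom := by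
  have hYd : IsDecent Y.obj := hY.2.1
  have hYirr : IrreducibleSpace (Points Y.obj) := hY.2.2
  have hYqs : QuasiSober (Points Y.obj) := SoberSp.quasiSober_points_of_isDecent Y hYd
  set y : Points Y.obj := genericPoint (Points Y.obj) with hydef
  have hy : IsGenericPoint y (Set.univ : Set (Points Y.obj)) := genericPoint_spec _
  have hqsep : IsQuasiSeparatedMor f.hom :=
    H51.repWith_mono (fun _ _ g hg => by
      have : IsClosedImmersion g := hg
      exact (inferInstance : QuasiCompact g)) hf.1
  have hXd : IsDecent X.obj :=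
    isDecent_of_isDecentMor f.hom
      (isDecentMor_of_isQuasiSeparatedMor X.property Y.property f.hom hqsep) hYd
  have hXT0 : T0Space (Points X.obj) := t0Space_points X hXd
  -- compactness of the fibre
  obtain ⟨r, hr⟩ := Points.mk_surjective y
  have sqk : IsPullback (pullback.fst f.hom r.toHom) (pullback.snd f.hom r.toHom) f.hom r.toHom :=
    IsPullback.of_hasPullback _ _
  have hkalg : IsAlgSpace ((yon S).obj r.pt) := IsAlgSpace.yon_obj r.pt
  have hXk : IsAlgSpace (pullback f.hom r.toHom) :=
    H49.isAlgSpace_of_isPullback sqk Y.property.diag X.property hkalg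
  have hXkqc : IsQuasiCompactSp (pullback f.hom r.toHom) :=
    hf.2.1.2 hkalg (H49.isQuasiCompactSp_yon r.pt) r.toHom _ _ sqk
  have hXkc : CompactSpace (Points (pullback f.hom r.toHom)) :=
    (H51.isQuasiCompactSp_iff hXk).1 hXkqc
  have hF : Points.map f.hom ⁻¹' {y} = Set.range (Points.map (pullback.fst f.hom r.toHom)) := by
    ext x'
    constructor
    · intro hx'
      have hx'' : Points.map f.hom x' = y := hx'
      obtain ⟨p, hp, -⟩ := H50.points_exists_of_isPullback sqk x'
        (Points.schemeHomeo r.pt (IsLocalRing.closedPoint r.K))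
        (by rw [hx'', GeomConn.map_toHom_eq_mk, hr])
      exact ⟨p, hp⟩
    · rintro ⟨p, rfl⟩
      change Points.map f.hom (Points.map _ p) = y
      rw [← Points.map_comp, sqk.w, Points.map_comp, GeomConn.map_toHom_eq_mk, hr]
  have hFc : IsCompact (Points.map f.hom ⁻¹' {y}) := by
    rw [hF]
    exact isCompact_range (Points.continuous_map _)
  obtain ⟨x, hxy, hxmin⟩ := exists_closed_in_fibre (Points.map f.hom) y hFc (hs y)
  -- the closed subspace
  obtain ⟨Z, i₀, hZ, hi₀, hrange, hred⟩ :=
    H50.exists_isRedInduced X.property (closure {x}) isClosed_closure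
  let X' : AlgSp.Space S := ⟨Z, hZ⟩
  let i : X' ⟶ X := ObjectProperty.homMk i₀
  have hi : RepWith @IsClosedImmersion i.hom := hi₀
  have hce : IsClosedEmbedding (Points.map i.hom) := isClosedEmbedding_map_of_isClosedImmersion i hi
  have hX'd : IsDecent X'.obj := isDecent_of_representable i₀ hi₀.rep hXd
  obtain ⟨x'', hx''⟩ : x ∈ Set.range (Points.map i₀) := by
    rw [hrange]; exact subset_closure rfl
  have hx''gen : IsGenericPoint x'' (Set.univ : Set (Points X'.obj)) := by
    change closure {x''} = Set.univ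
    rw [hce.isEmbedding.closure_eq_preimage_closure_image, Set.image_singleton]
    change Points.map i₀ ⁻¹' closure {Points.map i₀ x''} = Set.univ
    rw [hx'', ← hrange]
    exact Set.preimage_range _
  have hX'irr : IrreducibleSpace (Points X'.obj) := by
    have hirr : IsIrreducible (Set.univ : Set (Points X'.obj)) := by
      rw [← hx''gen.def]
      exact isIrreducible_singleton.closure
    have hpre := hirr.isPreirreducible
    exact { toPreirreducibleSpace := ⟨hpre⟩, toNonempty := ⟨x''⟩ }
  have hX'i : IsIntegralSp X'.obj := ⟨hred, hX'd, hX'irr⟩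
  have hprop : IsProperMor (i ≫ f).hom :=
    H51.s10276 i f (H64.PTh.isProperMor_of_closedImmersion i hi) hf
  have hif : ∀ z : Points X'.obj, Points.map (i ≫ f).hom z = Points.map f.hom (Points.map i₀ z) :=
    fun z => Points.map_comp i₀ f.hom z
  have hdom : IsDominantMor (i ≫ f).hom := by
    change DenseRange (Points.map (i ≫ f).hom)
    intro y'
    have h1 : y ∈ Set.range (Points.map (i ≫ f).hom) := ⟨x'', by rw [hif, hx'', hxy]⟩
    have h2 : y' ∈ closure ({y} : Set (Points Y.obj)) := by rw [hy.def]; trivial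
    exact closure_mono (Set.singleton_subset_iff.2 h1) h2
  have huniq : ∀ z : Points X'.obj, Points.map (i ≫ f).hom z = y → z = x'' := by
    intro z hz
    apply hce.injective
    change Points.map i₀ z = Points.map i₀ x''
    rw [hx'']
    refine hxmin _ (by rw [← hif]; exact hz) ?_
    have : Points.map i₀ z ∈ closure ({x} : Set (Points X.obj)) := by
      rw [← hrange]; exact ⟨z, rfl⟩
    exact specializes_iff_mem_closure.2 this
  exact ⟨X', i, hi, hX'i, hprop, hdom,
    exists_alteration_open hX'i hY (i ≫ f) hprop.2.1.1 hprop.1 hdom x'' hx''gen y hy huniq⟩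

end Groth.Agent.H52.GenFin
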