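import Groth.Agent.H52.GeomUnibranchSp2
import Groth.Agent.H51.SpBasic

/-!
# Geometrically unibranch points of algebraic spaces: the equivalences
-/

set_option autoImplicit false
universe u
open CategoryTheory CategoryTheory.Limits AlgebraicGeometry TopologicalSpace Opposite
open AlgSp

namespace Groth.Agent.H52.GeomUnibranchSp

open Groth.Agent.H51 Groth.Agent.H14.HensProp Groth.Agent.H52.UnibranchSp

variable {S : Scheme.{u}} (X : AlgSp.Space S)

/-- (5) ⇒ (1) for an affine etale neighbourhood. -/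
theorem isPrime_nilradical_stalk_of_affine (p : FieldPt X.obj) (hp : p.IsGeometric)
    (hprime : (nilradical (OEtStalk p)).IsPrime)
    (U : EtOver X.obj) (hU : IsAffine U.obj.left.left) (l : (FieldPt.liftsTo p).obj U)
    (v : ↥U.obj.left.left) (hv : l.1.left (IsLocalRing.closedPoint p.K) = v) :
    (nilradical (U.obj.left.left.presheaf.stalk v)).IsPrime := by
  have hY : IsAffineOpen (⊤ : U.obj.left.left.Opens) := isAffineOpen_top U.obj.left.left
  let _ : Algebra Γ(U.obj.left.left, ⊤) (U.obj.left.left.presheaf.stalk v) :=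
    U.obj.left.left.presheaf.algebra_section_stalk
      (⟨v, trivial⟩ : (⊤ : U.obj.left.left.Opens))
  have hloc : IsLocalization.AtPrime (U.obj.left.left.presheaf.stalk v)
      (hY.primeIdealOf ⟨v, trivial⟩).asIdeal := hY.isLocalization_stalk ⟨v, trivial⟩
  exact isPrime_nilradical_of_isLocalization (hY.primeIdealOf ⟨v, trivial⟩).asIdeal.primeCompl
    (fun s t h => isNilpotent_germ_or_of_isPrime X p hp hprime U l v hv s t h)

/-- (5) ⇒ (1). -/
theorem hasUniqueMinimalPrime_stalk_of_forall_OEtStalk (x : Points X.obj)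
    (H : ∀ p : FieldPt X.obj, p.IsGeometric → Points.mk p = x →
      CAlgX.HasUniqueMinimalPrime ↥(OEtStalk p))
    (U : Over S) (a : (yon S).obj U ⟶ X.obj) (u : ↥U.left) (ha : RepWith @Etale a)
    (hu : Points.ofPt a u = x) :
    CAlgX.HasUniqueMinimalPrime ↥(U.left.presheaf.stalk u) := by
  obtain ⟨_, ⟨W', hW, rfl⟩, huW, -⟩ :=
    U.left.isBasis_affineOpens.exists_subset_of_mem_open (Set.mem_univ u) isOpen_univ
  let W : U.left.Opens := W'
  have hW' : IsAffineOpen W := hW
  let w₀ : W := ⟨u, huW⟩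
  let aW := (yon S).map (overOpenι U W) ≫ a
  have haW : RepWith @Etale aW := repWith_etale_restrict a ha W
  let E : EtOver X.obj := EtOver.mk aW haW
  let q := FieldPt.ofPt aW w₀
  let K := AlgebraicClosure q.K
  let c : Spec (CommRingCat.of K) ⟶ Spec (CommRingCat.of q.K) :=
    Spec.map (CommRingCat.ofHom (algebraMap q.K K))
  let w : Spec (CommRingCat.of K) ⟶ S := c ≫ q.str
  let α : Over.mk w ⟶ q.pt := Over.homMk c rfl
  let p := fieldPtRestrict q w α
  have hp : p.IsGeometric := (inferInstance : IsAlgClosed K)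
  have hpx : Points.mk p = x := by
    rw [mk_fieldPtRestrict]
    change Points.ofPt aW w₀ = x
    rw [ofPt_yon_map_comp]
    exact hu
  let l : (FieldPt.liftsTo p).obj E := ⟨α ≫ ofPtHom aW w₀, by
    change (yon S).map (α ≫ ofPtHom aW w₀) ≫ aW = p.toHom
    rw [Functor.map_comp, Category.assoc, ← toHom_ofPt', ← toHom_fieldPtRestrict]⟩
  have hv : l.1.left (IsLocalRing.closedPoint p.K) = w₀ := ofPtHom_left_apply aW w₀ _
  have hprime :=
    (UniqueMin.hasUniqueMinimalPrime_iff_isPrime_nilradical _).1 (H p hp hpx)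
  have h1 := isPrime_nilradical_stalk_of_affine X p hp hprime E hW' l w₀ hv
  have h2 : CAlgX.HasUniqueMinimalPrime (W.toScheme.presheaf.stalk w₀) :=
    (UniqueMin.hasUniqueMinimalPrime_iff_isPrime_nilradical _).2 h1
  exact hasUniqueMinimalPrime_of_ringEquiv
    (Scheme.Opens.stalkIso W w₀).commRingCatIsoToRingEquiv h2

/-- (1) ⇒ (5). -/
theorem hasUniqueMinimalPrime_OEtStalk_of_forall_stalk (x : Points X.obj)
    (H : ∀ (U : Over S) (a : (yon S).obj U ⟶ X.obj) (u : ↥U.left), RepWith @Etale a →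
      Points.ofPt a u = x → CAlgX.HasUniqueMinimalPrime ↥(U.left.presheaf.stalk u))
    (p : FieldPt X.obj) (hp : p.IsGeometric) (hpx : Points.mk p = x) :
    CAlgX.HasUniqueMinimalPrime ↥(OEtStalk p) := by
  rw [UniqueMin.hasUniqueMinimalPrime_iff_isPrime_nilradical]
  apply isPrime_nilradical_OEtStalk X p hp
  intro U l
  rw [← UniqueMin.hasUniqueMinimalPrime_iff_isPrime_nilradical]
  exact H U.obj.left U.obj.hom _ U.property ((ofPt_lift_eq p l _).trans hpx)

end Groth.Agent.H52.GeomUnibranchSp
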