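import Groth.Agent.H52.Epi
import Groth.Agent.H52.FppfFpqc

set_option autoImplicit false
universe u
open CategoryTheory CategoryTheory.Limits AlgebraicGeometry Opposite

namespace Groth.Agent.H52

open AlgSp

variable {S : Scheme.{u}}

/-- A morphism to `G` which factors through a monomorphism `p : F ⟶ G` after precomposition with an
epimorphism factors through `p`. -/
theorem exists_factor_of_mono_of_epi {F G Y Y' : Sp S} (p : F ⟶ G) [Mono p] (f : Y ⟶ G)
    (c : Y' ⟶ Y) [Epi c] (ℓ : Y' ⟶ F) (hℓ : ℓ ≫ p = c ≫ f) : ∃ g : Y ⟶ F, g ≫ p = f := by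
  have sq := IsPullback.of_hasPullback f p
  have hm : Mono (pullback.fst f p) := inferInstance
  have hfac : pullback.lift c ℓ hℓ.symm ≫ pullback.fst f p = c := pullback.lift_fst _ _ _
  have hepi : Epi (pullback.fst f p) := by
    have : Epi (pullback.lift c ℓ hℓ.symm ≫ pullback.fst f p) := by rw [hfac]; infer_instance
    exact epi_of_epi (pullback.lift c ℓ hℓ.symm) (pullback.fst f p)
  have hiso : IsIso (pullback.fst f p) := isIso_of_mono_of_epi _
  refine ⟨inv (pullback.fst f p) ≫ pullback.snd f p, ?_⟩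
  rw [Category.assoc, ← sq.w, IsIso.inv_hom_id_assoc]

/-- A morphism `f : h_T ⟶ G` which factors through a monomorphism `p : F ⟶ G` on a jointly
surjective family of flat, locally finitely presented morphisms to `T` factors through `p`. -/
theorem exists_factor_of_mono_of_fppf_family {F G : Sp S} (p : F ⟶ G) [Mono p] {T : Over S}
    (f : (yon S).obj T ⟶ G) {κ : Type u} (Tk : κ → Over S) (c : ∀ k, Tk k ⟶ T)
    (h1 : ∀ k, Flat (c k).left) (h2 : ∀ k, LocallyOfFinitePresentation (c k).left)
    (h3 : ∀ t : ↥T.left, ∃ k, t ∈ Set.range (c k).left)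
    (hl : ∀ k, ∃ ℓ : (yon S).obj (Tk k) ⟶ F, ℓ ≫ p = (yon S).map (c k) ≫ f) :
    ∃ g : (yon S).obj T ⟶ F, g ≫ p = f := by
  have sq := IsPullback.of_hasPullback f p
  have hm : Mono (pullback.fst f p) := inferInstance
  have hepi : Epi (pullback.fst f p) := by
    refine epi_of_exists_local_lift _ fun T' x => ?_
    obtain ⟨g, rfl⟩ := (yon S).map_surjective x
    refine ⟨(Sieve.ofArrows Tk c).pullback g,
      (J S).pullback_stable g (sieve_ofArrows_mem_J_of_fppf Tk c h1 h2 h3), ?_⟩
    intro T'' g' hg'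
    rw [Sieve.pullback_apply] at hg'
    obtain ⟨W, e, _, ⟨k⟩, he⟩ := hg'
    obtain ⟨ℓ, hℓ⟩ := hl k
    refine ⟨pullback.lift ((yon S).map (g' ≫ g)) ((yon S).map e ≫ ℓ) ?_, ?_⟩
    · rw [Category.assoc, hℓ, ← Category.assoc, ← Functor.map_comp, he]
    · rw [pullback.lift_fst, Functor.map_comp]
  have hiso : IsIso (pullback.fst f p) := isIso_of_mono_of_epi _
  refine ⟨inv (pullback.fst f p) ≫ pullback.snd f p, ?_⟩
  rw [Category.assoc, ← sq.w, IsIso.inv_hom_id_assoc]

end Groth.Agent.H52
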