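import Groth.Agent.H51.SpEtReduced
import Groth.Agent.H51.SpBasic
import Groth.Agent.H52.Chart

/-!
# Global functions on an integral algebraic space form a domain
-/

set_option autoImplicit false
universe u
open CategoryTheory CategoryTheory.Limits AlgebraicGeometry Opposite

namespace Groth.Agent.H52.GsectDomain

open AlgSp

variable {S : Scheme.{u}}

/-- The restriction of a global function to an étale chart. -/
noncomputable def res {X : Sp S} (f : ↥(gsectEt (OEt X))) (E : EtOver X) : Γ(E.obj.left.left, ⊤) :=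
  ((limit.π (OEt X).obj (op E)) f).down

theorem res_map {X : Sp S} (f : ↥(gsectEt (OEt X))) {E E' : EtOver X} (g : E ⟶ E') :
    res f E = g.hom.left.left.appTop.hom (res f E') := by
  have h := limit.w (OEt X).obj g.op
  have h2 : (limit.π (OEt X).obj (op E)) f =
      (OEt X).obj.map g.op ((limit.π (OEt X).obj (op E')) f) := by
    rw [← h]; rfl
  unfold res
  rw [h2, OEt_map]

theorem res_mul {X : Sp S} (f g : ↥(gsectEt (OEt X))) (E : EtOver X) :
    res (f * g) E = res f E * res g E := by
  unfold res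
  rw [map_mul]; rfl

theorem res_zero {X : Sp S} (E : EtOver X) : res (0 : ↥(gsectEt (OEt X))) E = 0 := by
  unfold res
  rw [map_zero]; rfl

theorem res_one {X : Sp S} (E : EtOver X) : res (1 : ↥(gsectEt (OEt X))) E = 1 := by
  unfold res
  rw [map_one]; rfl

/-- The non-vanishing locus of a global function. -/
def nonvan {X : Sp S} (f : ↥(gsectEt (OEt X))) : Set (Points X) :=
  {x | ∃ (E : EtOver X) (e : ↥E.obj.left.left),
    e ∈ E.obj.left.left.basicOpen (res f E) ∧ Points.ofPt E.obj.hom e = x}

theorem isOpen_nonvan {X : Sp S} (f : ↥(gsectEt (OEt X))) : IsOpen (nonvan f) := by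
  have : nonvan f = ⋃ E : EtOver X,
      Points.ofPt E.obj.hom '' (E.obj.left.left.basicOpen (res f E) : Set ↥E.obj.left.left) := by
    ext x
    simp only [nonvan, Set.mem_ofPred_eq, Set.mem_iUnion, Set.mem_image, SetLike.mem_coe]
  rw [this]
  refine isOpen_iUnion fun E => ?_
  exact Groth.Agent.H51.isOpenMap_ofPt_of_etale E.obj.hom E.property _
    (E.obj.left.left.basicOpen (res f E)).isOpen

theorem nonvan_inter_of_mul_eq_zero {X : Sp S} (f g : ↥(gsectEt (OEt X))) (h : f * g = 0) :
    nonvan f ∩ nonvan g = ∅ := by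
  rw [Set.eq_empty_iff_forall_notMem]
  rintro x ⟨⟨E₁, e₁, he₁, hx₁⟩, ⟨E₂, e₂, he₂, hx₂⟩⟩
  have hpb := E₂.property.1.isPullback' E₁.obj.hom
  obtain ⟨v, hv2, hv1⟩ := (ofPt_eq_iff_of_isPullback hpb e₂ e₁).1 (hx₂.trans hx₁.symm)
  let P := EtOver.prodObj E₁ E₂
  have h1 : res f P = (EtOver.prodFst E₁ E₂).hom.left.left.appTop.hom (res f E₁) := res_map f _
  have h2 : res g P = (EtOver.prodSnd E₁ E₂).hom.left.left.appTop.hom (res g E₂) := res_map g _
  have hv1' : (EtOver.prodFst E₁ E₂).hom.left.left v = e₁ := hv1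
  have hv2' : (EtOver.prodSnd E₁ E₂).hom.left.left v = e₂ := hv2
  have m1 : v ∈ P.obj.left.left.basicOpen (res f P) := by
    rw [h1]
    have := (Scheme.preimage_basicOpen_top (EtOver.prodFst E₁ E₂).hom.left.left (res f E₁)).symm
    refine this ▸ ?_
    change (EtOver.prodFst E₁ E₂).hom.left.left v ∈ E₁.obj.left.left.basicOpen (res f E₁)
    rw [hv1']; exact he₁
  have m2 : v ∈ P.obj.left.left.basicOpen (res g P) := by
    rw [h2]
    have := (Scheme.preimage_basicOpen_top (EtOver.prodSnd E₁ E₂).hom.left.left (res g E₂)).symm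
    refine this ▸ ?_
    change (EtOver.prodSnd E₁ E₂).hom.left.left v ∈ E₂.obj.left.left.basicOpen (res g E₂)
    rw [hv2']; exact he₂
  have m3 : v ∈ P.obj.left.left.basicOpen (res (f * g) P) := by
    rw [res_mul, Scheme.basicOpen_mul]; exact ⟨m1, m2⟩
  rw [h, res_zero, Scheme.basicOpen_zero] at m3
  exact m3

/-- S10494: global functions on an integral algebraic space form a domain. -/
theorem isDomain_gsectEt (X : AlgSp.Space S) (hX : IsIntegralSp X.obj) :
    IsDomain ↥(gsectEt (OEt X.obj)) := by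
  obtain ⟨hred, -, hirr⟩ := hX
  have hvan := (Groth.Agent.H51.gsectEt_reduced X hred).2
  have hnz : NoZeroDivisors ↥(gsectEt (OEt X.obj)) := by
    refine ⟨fun {f g} h => ?_⟩
    have hdisj := nonvan_inter_of_mul_eq_zero f g h
    have hempty : nonvan f = ∅ ∨ nonvan g = ∅ := by
      by_contra hcon
      rw [not_or] at hcon
      obtain ⟨hf, hg⟩ := hcon
      have := nonempty_preirreducible_inter (isOpen_nonvan f) (isOpen_nonvan g)
        (Set.nonempty_iff_ne_empty.2 hf) (Set.nonempty_iff_ne_empty.2 hg)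
      rw [hdisj] at this
      exact Set.not_nonempty_empty this
    have key : ∀ k : ↥(gsectEt (OEt X.obj)), nonvan k = ∅ → k = 0 := by
      intro k hk
      refine hvan k fun E => ?_
      rw [eq_bot_iff]
      intro e he
      have : Points.ofPt E.obj.hom e ∈ nonvan k := ⟨E, e, he, rfl⟩
      rw [hk] at this
      exact this.elim
    rcases hempty with h1 | h1
    · exact Or.inl (key f h1)
    · exact Or.inr (key g h1)
  have hnt : Nontrivial ↥(gsectEt (OEt X.obj)) := by
    refine ⟨⟨0, 1, fun h01 => ?_⟩⟩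
    obtain ⟨x⟩ := hirr.toNonempty
    obtain ⟨U, a, hae, has⟩ := X.property.atlas
    obtain ⟨u, -⟩ := ofPt_surjective_of_repWith_surjective a has x
    let E : EtOver X.obj := EtOver.mk a hae
    have h1 : res (0 : ↥(gsectEt (OEt X.obj))) E = res (1 : ↥(gsectEt (OEt X.obj))) E := by
      rw [h01]
    rw [res_zero, res_one] at h1
    have hne : Nonempty ↥(⊤ : E.obj.left.left.Opens) := ⟨⟨u, trivial⟩⟩
    have : Nontrivial ↑Γ(E.obj.left.left, ⊤) :=
      @Scheme.component_nontrivial E.obj.left.left ⊤ hne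
    exact zero_ne_one h1
  exact NoZeroDivisors.to_isDomain _

end Groth.Agent.H52.GsectDomain
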