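import Mathlib
import Groth.Prelude.Def_Hensel

/-!
# Henselization along a local map with the unique lifting property

Pure algebra: if `φ : A → B` is a local homomorphism with `𝔪_A B = 𝔪_B`, surjective on residue
fields and with the unique lifting property against henselian local rings, then a henselization
of `B` is a henselization of `A`.
-/

set_option autoImplicit false
universe u

namespace Groth.Agent.H52.HensElem

open IsLocalRing

variable {A B R : Type u} [CommRing A] [IsLocalRing A] [CommRing B] [IsLocalRing B]
  [CommRing R] [IsLocalRing R]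

/-- A ring map out of `B` whose restriction to `A` is local is local, provided `𝔪_A B = 𝔪_B`. -/
theorem isLocalHom_of_comp (φ : A →+* B) (hm : (maximalIdeal A).map φ = maximalIdeal B)
    {T : Type u} [CommRing T] [IsLocalRing T] (h : B →+* T) (hf : IsLocalHom (h.comp φ)) :
    IsLocalHom h := by
  have hle : maximalIdeal B ≤ (maximalIdeal T).comap h := by
    rw [← hm, Ideal.map_le_iff_le_comap]
    intro a ha
    exact map_nonunit (h.comp φ) a ha
  refine ⟨fun y hy => ?_⟩
  by_contra hny
  have : y ∈ maximalIdeal B := hny
  exact hle this hy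

theorem isHenselization_of_lift (φ : A →+* B) [IsLocalHom φ] [Algebra B R]
    [IsLocalHom (algebraMap B R)] [hR : Hensel.IsHenselization B R]
    (hm : (maximalIdeal A).map φ = maximalIdeal B)
    (hres : Function.Surjective (ResidueField.map φ))
    (hlift : ∀ (T : Type u) [CommRing T] [HenselianLocalRing T] (f : A →+* T), IsLocalHom f →
      ∀ (α : ResidueField B →+* ResidueField T),
        (∀ a : A, α (residue B (φ a)) = residue T (f a)) →
        ∃! ψ : B →+* T, ψ.comp φ = f ∧ ∀ y, residue T (ψ y) = α (residue B y)) :
    letI : Algebra A R := ((algebraMap B R).comp φ).toAlgebra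
    ∃ (_ : IsLocalHom (algebraMap A R)), Hensel.IsHenselization A R := by
  let _ : Algebra A R := ((algebraMap B R).comp φ).toAlgebra
  have hloc : IsLocalHom (algebraMap A R) := by
    change IsLocalHom ((algebraMap B R).comp φ)
    infer_instance
  refine ⟨hloc, ?_⟩
  have hbij : Function.Bijective (ResidueField.map φ) :=
    ⟨(ResidueField.map φ).injective, hres⟩
  let e : ResidueField A ≃+* ResidueField B := RingEquiv.ofBijective _ hbij
  -- residue compatibility of any extension
  have key : ∀ (T : Type u) [CommRing T] [HenselianLocalRing T] (f : A →+* T) (hf : IsLocalHom f)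
      (h : B →+* T), h.comp φ = f → ∀ y,
        residue T (h y) = ((ResidueField.map f).comp e.symm.toRingHom) (residue B y) := by
    intro T _ _ f hf h hh y
    have hhl : IsLocalHom h := isLocalHom_of_comp φ hm h (by rw [hh]; exact hf)
    obtain ⟨a', ha'⟩ := hres (residue B y)
    obtain ⟨a, rfl⟩ := residue_surjective a'
    rw [ResidueField.map_residue] at ha'
    have hmem : y - φ a ∈ maximalIdeal B := by
      rw [← residue_eq_zero_iff, map_sub, ha', sub_self]
    have h2 : h (y - φ a) ∈ maximalIdeal T := map_nonunit h _ hmem
    have h3 : residue T (h y) = residue T (f a) := by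
      have : residue T (h (y - φ a)) = 0 := (residue_eq_zero_iff _).2 h2
      rw [map_sub, map_sub, sub_eq_zero] at this
      rw [this, ← hh]; rfl
    rw [h3, ← ha']
    change _ = (ResidueField.map f) (e.symm (e (residue A a)))
    rw [RingEquiv.symm_apply_apply, ResidueField.map_residue]
  refine ⟨hR.henselian, ?_⟩
  intro T _ _ f hf
  let α : ResidueField B →+* ResidueField T := (ResidueField.map f).comp e.symm.toRingHom
  have hα : ∀ a : A, α (residue B (φ a)) = residue T (f a) := by
    intro a
    change (ResidueField.map f) (e.symm (e (residue A a))) = _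
    rw [RingEquiv.symm_apply_apply, ResidueField.map_residue]
  obtain ⟨ψ, ⟨hψ1, hψ2⟩, hψu⟩ := hlift T f hf α hα
  have hψl : IsLocalHom ψ := isLocalHom_of_comp φ hm ψ (by rw [hψ1]; exact hf)
  obtain ⟨g, hg, hgu⟩ := hR.universal T ψ hψl
  refine ⟨g, ?_, ?_⟩
  · change g.comp ((algebraMap B R).comp φ) = f
    rw [← RingHom.comp_assoc, hg, hψ1]
  · intro g' hg'
    have hg'' : (g'.comp (algebraMap B R)).comp φ = f := by
      rw [RingHom.comp_assoc]; exact hg'
    have h1 : g'.comp (algebraMap B R) = ψ :=
      hψu _ ⟨hg'', key T f hf _ hg''⟩
    exact hgu g' h1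

end Groth.Agent.H52.HensElem
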