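import Mathlib
import Groth.Agent.H14.HenselEssEt
import Groth.Agent.H25.EtaleStalk
import Groth.Agent.H52.HensElem

/-!
# Stalk maps of étale morphisms: unique lifting against henselian local rings
-/

set_option autoImplicit false
universe u
open CategoryTheory CategoryTheory.Limits AlgebraicGeometry TopologicalSpace IsLocalRing

namespace Groth.Agent.H52.HensElemSch

variable {X Y : Scheme.{u}}

theorem appLE_germ (g : X ⟶ Y) (V : Y.Opens) (W : X.Opens) (e : W ≤ g ⁻¹ᵁ V) (x : X)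
    (hx : x ∈ W) :
    g.appLE V W e ≫ X.presheaf.germ W x hx = Y.presheaf.germ V (g x) (e hx) ≫ g.stalkMap x := by
  rw [Scheme.Hom.germ_stalkMap, Scheme.Hom.appLE, Category.assoc, X.presheaf.germ_res]

/-- Unique lifting of maps into henselian local rings along the stalk map of an étale
morphism. -/
theorem existsUnique_lift_stalkMap (g : X ⟶ Y) [Etale g] (x : X)
    (T : Type u) [CommRing T] [HenselianLocalRing T] (f : Y.presheaf.stalk (g x) →+* T)
    (α : ResidueField (X.presheaf.stalk x) →+* ResidueField T)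
    (hα : ∀ a, α (residue _ ((g.stalkMap x).hom a)) = residue T (f a)) :
    ∃! ψ : X.presheaf.stalk x →+* T, ψ.comp (g.stalkMap x).hom = f ∧
      ∀ y, residue T (ψ y) = α (residue _ y) := by
  obtain ⟨_, ⟨V, hV, rfl⟩, hxV, -⟩ :=
    Y.isBasis_affineOpens.exists_subset_of_mem_open (Set.mem_univ (g x)) isOpen_univ
  obtain ⟨_, ⟨W, hW, rfl⟩, hxW, hWV⟩ :=
    X.isBasis_affineOpens.exists_subset_of_mem_open (show x ∈ g ⁻¹ᵁ V from hxV)
      (V.2.preimage g.continuous)
  have het : (g.appLE V W hWV).hom.Etale := Etale.etale_appLE g hV hW hWV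
  let _ : Algebra Γ(Y, V) Γ(X, W) := (g.appLE V W hWV).hom.toAlgebra
  have : Algebra.Etale Γ(Y, V) Γ(X, W) := het
  let _ : Algebra Γ(X, W) (X.presheaf.stalk x) := X.presheaf.algebra_section_stalk ⟨x, hxW⟩
  have hloc := hW.isLocalization_stalk ⟨x, hxW⟩
  let _ : Algebra Γ(Y, V) (Y.presheaf.stalk (g x)) :=
    Y.presheaf.algebra_section_stalk ⟨g x, hWV hxW⟩
  have hlocY := hV.isLocalization_stalk ⟨g x, hWV hxW⟩
  let _ : Algebra Γ(Y, V) (X.presheaf.stalk x) :=
    ((g.stalkMap x).hom.comp (Y.presheaf.germ V (g x) (hWV hxW)).hom).toAlgebra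
  have : IsScalarTower Γ(Y, V) Γ(X, W) (X.presheaf.stalk x) := by
    refine IsScalarTower.of_algebraMap_eq' ?_
    have := congrArg CommRingCat.Hom.hom (appLE_germ g V W hWV x hxW)
    exact this.symm
  let _ : Algebra Γ(Y, V) T := (f.comp (Y.presheaf.germ V (g x) (hWV hxW)).hom).toAlgebra
  have hα' : ∀ a : Γ(Y, V), α (residue _ (algebraMap Γ(Y, V) (X.presheaf.stalk x) a)) =
      residue T (algebraMap Γ(Y, V) T a) := fun a => hα _
  obtain ⟨ψ', hψ', hψu⟩ := Groth.Agent.H14.existsUnique_algHom_of_residue_of_atPrime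
    (A := Γ(Y, V)) (C := Γ(X, W)) (L := X.presheaf.stalk x) (B := T)
    (hW.primeIdealOf ⟨x, hxW⟩).asIdeal α hα'
  refine ⟨ψ'.toRingHom, ⟨?_, hψ'⟩, ?_⟩
  · refine IsLocalization.ringHom_ext (hV.primeIdealOf ⟨g x, hWV hxW⟩).asIdeal.primeCompl ?_
    ext a
    exact ψ'.commutes a
  · rintro ψ₂ ⟨h1, h2⟩
    let ψ₂' : X.presheaf.stalk x →ₐ[Γ(Y, V)] T :=
      { ψ₂ with
        commutes' := fun a => by
          have := congrArg (fun φ => φ (Y.presheaf.germ V (g x) (hWV hxW) a)) h1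
          exact this }
    have := hψu ψ₂' h2
    rw [← this]

end Groth.Agent.H52.HensElemSch
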