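import Groth.Agent.H52.OnePt
import Groth.Agent.H52.Decent
import Groth.Agent.H49.AlgSpMonoField

/-!
# An algebraic space with a monomorphism to a discrete scheme is a scheme
-/

set_option autoImplicit false
universe u
open CategoryTheory CategoryTheory.Limits AlgebraicGeometry Opposite

namespace Groth.Agent.H52.MonoDiscrete

open AlgSp Groth.Agent.H50 Groth.Agent.H51 Groth.Agent.H49

variable {S : Scheme.{u}}

/-- The open subspace of `X` over an open point `y` of `Y`, for a monomorphism `X ⟶ h_Y`, is a
decent space with exactly one point as soon as it has a point. -/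
theorem isDecent_openSub_of_mono {X : Sp S} (hX : IsAlgSpace X) (Y : Over S)
    (f : X ⟶ (yon S).obj Y) [Mono f] (y : ↥Y.left)
    (hy : IsOpen ({Points.ofScheme Y y} : Set (Points ((yon S).obj Y))))
    (x₀ : Points X) (hx₀ : Points.map f x₀ = Points.ofScheme Y y) :
    IsDecent (openSubSp X (Points.map f ⁻¹' {Points.ofScheme Y y})) ∧
      Subsingleton (Points (openSubSp X (Points.map f ⁻¹' {Points.ofScheme Y y}))) ∧
      Nonempty (Points (openSubSp X (Points.map f ⁻¹' {Points.ofScheme Y y}))) := by
  set W : Set (Points X) := Points.map f ⁻¹' {Points.ofScheme Y y} with hWdef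
  have hW : IsOpen W := hy.preimage (Points.continuous_map f)
  have hXy : IsAlgSpace (openSubSp X W) := isAlgSpace_openSubSp hX W hW
  have hmono : Mono (openSubι X W ≫ f) := mono_comp _ _
  have hinj : Function.Injective (Points.map (openSubι X W ≫ f)) := injective_map_of_mono _
  have hall : ∀ z : Points (openSubSp X W),
      Points.map (openSubι X W ≫ f) z = Points.ofScheme Y y := by
    intro z
    rw [Points.map_comp]
    have : Points.map (openSubι X W) z ∈ W := (range_map_openSubι W).subset ⟨z, rfl⟩
    exact this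
  have hsub : Subsingleton (Points (openSubSp X W)) :=
    ⟨fun z z' => hinj ((hall z).trans (hall z').symm)⟩
  have hne : Nonempty (Points (openSubSp X W)) := by
    have : x₀ ∈ Set.range (Points.map (openSubι X W)) := (range_map_openSubι W).superset hx₀
    obtain ⟨z, -⟩ := this
    exact ⟨z⟩
  refine ⟨?_, hsub, hne⟩
  obtain ⟨z₀⟩ := hne
  -- the fibre over the residue field point
  have sq := IsPullback.of_hasPullback (openSubι X W ≫ f) ((yon S).map (ptHom Y y))
  have hZ : IsAlgSpace (pullback (openSubι X W ≫ f) ((yon S).map (ptHom Y y))) :=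
    isAlgSpace_of_isPullback sq (IsAlgSpace.yon_obj Y).diag hXy (IsAlgSpace.yon_obj _)
  have hsndm : Mono (pullback.snd (openSubι X W ≫ f) ((yon S).map (ptHom Y y))) :=
    sq.mono_snd_of_mono
  obtain ⟨ζ, -, -⟩ := exists_point_of_isPullback sq z₀
    (Points.ofScheme _ (IsLocalRing.closedPoint (Y.left.residueField y))) (by
      rw [hall z₀, ← Points.ofPt_eq_map_ofScheme, ofPt_yon_map]
      congr 1
      exact (Scheme.fromSpecResidueField_apply _ _).symm)
  have hiso : IsIso (pullback.snd (openSubι X W ≫ f) ((yon S).map (ptHom Y y))) :=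
    @isIso_of_mono_to_field S _ hZ (Y.left.residueField y) _ _ _ hsndm ζ
  intro z
  let e := @asIso _ _ _ _ (pullback.snd (openSubι X W ≫ f) ((yon S).map (ptHom Y y))) hiso
  let sec := e.inv ≫ pullback.fst (openSubι X W ≫ f) ((yon S).map (ptHom Y y))
  refine ⟨fieldPtOfHom _ sec, Subsingleton.elim _ _, ?_, ?_⟩
  · rw [toHom_fieldPtOfHom]
    have : Mono (pullback.fst (openSubι X W ≫ f) ((yon S).map (ptHom Y y))) :=
      sq.mono_fst_of_mono
    exact @mono_comp _ _ _ _ _ _ inferInstance _ this
  · rw [toHom_fieldPtOfHom]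
    refine MorphismProperty.RespectsIso.precomp _ _ _ ?_
    exact (RepWith @QuasiCompact).of_isPullback sq.flip (repWith_quasiCompact_ptHom Y y)

/-- An algebraic space with a monomorphism to a scheme with discrete underlying space is a
scheme. -/
theorem exists_iso_yon_of_mono_discrete {X : Sp S} (hX : IsAlgSpace X) (Y : Over S)
    [DiscreteTopology ↥Y.left] (f : X ⟶ (yon S).obj Y) [Mono f] :
    ∃ G : Over S, Nonempty ((yon S).obj G ≅ X) := by
  obtain ⟨U, a, ha, has⟩ := hX.atlas
  refine exists_iso_yon_of_forall_point a has ?_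
  intro u
  obtain ⟨g, hg⟩ := (yon S).map_surjective (a ≫ f)
  have hdisc : DiscreteTopology (Points ((yon S).obj Y)) :=
    (Points.schemeHomeo Y).discreteTopology
  have hy : IsOpen ({Points.ofScheme Y (g.left u)} : Set (Points ((yon S).obj Y))) :=
    isOpen_discrete _
  have hx₀ : Points.map f (Points.ofPt a u) = Points.ofScheme Y (g.left u) := by
    rw [Points.map_ofPt, ← hg, ofPt_yon_map]
  obtain ⟨hdec, hsub, hne⟩ := isDecent_openSub_of_mono hX Y f (g.left u) hy _ hx₀
  have hW : IsOpen (Points.map f ⁻¹' {Points.ofScheme Y (g.left u)}) :=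
    hy.preimage (Points.continuous_map f)
  obtain ⟨G, ⟨e⟩⟩ := OnePt.exists_iso_yon_of_isDecent_of_subsingleton
    (isAlgSpace_openSubSp hX _ hW) hdec
  refine ⟨G, e.hom ≫ openSubι X _, MorphismProperty.RespectsIso.precomp _ e.hom _
    (repWith_isOpenImmersion_openSubι _ hW), ?_⟩
  have hmem : Points.ofPt a u ∈ Set.range (Points.map (openSubι X
      (Points.map f ⁻¹' {Points.ofScheme Y (g.left u)}))) :=
    (range_map_openSubι _).superset hx₀
  obtain ⟨z, hz⟩ := hmem
  refine ⟨Points.map e.inv z, ?_⟩
  rw [← Points.map_comp, e.inv_hom_id_assoc]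
  exact hz

end Groth.Agent.H52.MonoDiscrete
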