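import Groth.Agent.H52.EpiArtin
import Groth.Agent.H52.MonoDiscrete

/-!
# Monomorphisms into locally Artinian schemes are locally of finite type
-/

set_option autoImplicit false
universe u
open CategoryTheory CategoryTheory.Limits AlgebraicGeometry Opposite

namespace Groth.Agent.H52.MonoArtin

/-- A ring map out of an Artinian local ring inducing a monomorphism on spectra is surjective. -/
theorem surjective_of_mono_Spec {A B : CommRingCat.{u}} [IsLocalRing A] [IsArtinianRing A]
    (φ : A ⟶ B) [Mono (Spec.map φ)] : Function.Surjective φ.hom := by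
  have hepi : Epi φ := by
    constructor
    intro C ψ₁ ψ₂ h
    apply Spec.map_injective
    rw [← cancel_mono (Spec.map φ), ← Spec.map_comp, ← Spec.map_comp, h]
  algebraize [φ.hom]
  have h1 : Algebra.IsEpi A B := CommRingCat.epi_iff_epi.mp (by
    change Epi (CommRingCat.ofHom φ.hom)
    exact hepi)
  have hnil : IsNilpotent (IsLocalRing.maximalIdeal A) := by
    rw [← IsLocalRing.jacobson_eq_maximalIdeal (⊥ : Ideal A) bot_ne_top]
    exact IsArtinianRing.isNilpotent_jacobson_bot
  exact EpiArtin.surjective_of_isEpi hnil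

/-- In a locally Artinian scheme every point is an affine open with Artinian local coordinate
ring. -/
theorem exists_artinian_local_singleton (G : Scheme.{u}) [IsLocallyArtinian G] (y : ↥G) :
    ∃ V : G.Opens, y ∈ V ∧ IsAffineOpen V ∧ IsArtinianRing ↥Γ(G, V) ∧ IsLocalRing ↥Γ(G, V) := by
  have hd : DiscreteTopology ↥G := inferInstance
  obtain ⟨V, hV, hVy⟩ := OnePt.exists_isAffineOpen_eq_singleton G y
  have hyV : y ∈ V := by
    change y ∈ (V : Set ↥G)
    rw [hVy]
    rfl
  refine ⟨V, hyV, hV, IsLocallyArtinian.isArtinianRing_presheaf_obj ⟨V, hV⟩, ?_⟩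
  have hsub : Subsingleton ↥V.toScheme := by
    constructor
    intro a b
    apply Subtype.ext
    have ha : a.1 ∈ (V : Set ↥G) := a.2
    have hb : b.1 ∈ (V : Set ↥G) := b.2
    rw [hVy, Set.mem_singleton_iff] at ha hb
    exact ha.trans hb.symm
  have e := hV.isoSpec.hom.homeomorph
  have : Subsingleton (PrimeSpectrum ↥Γ(G, V)) := e.symm.injective.subsingleton
  have : Nonempty (PrimeSpectrum ↥Γ(G, V)) := ⟨e ⟨y, hyV⟩⟩
  exact LqfField.isLocalRing_of_subsingleton_primeSpectrum _

/-- A monomorphism into a locally Artinian scheme is locally of finite type. -/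
theorem locallyOfFiniteType_of_mono {G' G : Scheme.{u}} (g : G' ⟶ G) [Mono g]
    [IsLocallyArtinian G] : LocallyOfFiniteType g := by
  choose V hyV hV hVart hVloc using exists_artinian_local_singleton G
  have hcov : iSup V = ⊤ := by
    ext x
    simp only [TopologicalSpace.Opens.coe_iSup, Set.mem_iUnion, SetLike.mem_coe,
      TopologicalSpace.Opens.coe_top, Set.mem_univ, iff_true]
    exact ⟨x, hyV x⟩
  refine IsZariskiLocalAtTarget.of_iSup_eq_top (P := @LocallyOfFiniteType) V hcov fun y => ?_
  have hmono : Mono (g ∣_ V y) := (isPullback_morphismRestrict g (V y)).mono_fst_of_mono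
  refine IsZariskiLocalAtSource.of_openCover (P := @LocallyOfFiniteType)
    (g ⁻¹ᵁ V y).toScheme.affineCover fun i => ?_
  have hVa : IsAffine (V y).toScheme := hV y
  obtain ⟨φ, hφ⟩ := Spec.map_surjective
    (((g ⁻¹ᵁ V y).toScheme.affineCover.f i ≫ g ∣_ V y) ≫ (hV y).isoSpec.hom)
  have : IsLocalRing ↥Γ(G, V y) := hVloc y
  have : IsArtinianRing ↥Γ(G, V y) := hVart y
  have hm : Mono (Spec.map φ) := by
    rw [hφ]
    have h1 : Mono ((g ⁻¹ᵁ V y).toScheme.affineCover.f i) := inferInstance
    have h2 : Mono ((g ⁻¹ᵁ V y).toScheme.affineCover.f i ≫ g ∣_ V y) :=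
      @mono_comp _ _ _ _ _ _ h1 _ hmono
    exact @mono_comp _ _ _ _ _ _ h2 _ inferInstance
  have key : LocallyOfFiniteType (Spec.map φ) := by
    rw [HasRingHomProperty.Spec_iff (P := @LocallyOfFiniteType)]
    exact RingHom.FiniteType.of_surjective _ (surjective_of_mono_Spec φ)
  rw [hφ] at key
  exact (MorphismProperty.cancel_right_of_respectsIso (P := @LocallyOfFiniteType) _
    (hV y).isoSpec.hom).1 key

open AlgSp Groth.Agent.H50 in
/-- For a field `k`, local quasi-finiteness over `k` passes to the source of a monomorphism of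
algebraic spaces over `k`. -/
theorem locP_lqf_of_mono (k : Type u) [Field k] {X Y : Sp (Spec (CommRingCat.of k))}
    (hX : IsAlgSpace X) (hY : IsAlgSpace Y) (f : X ⟶ Y) [Mono f]
    (q : Y ⟶ (yon (Spec (CommRingCat.of k))).obj (Over.mk (𝟙 _)))
    (hq : LocP (@LocallyQuasiFinite ⊓ @LocallyOfFiniteType : MorphismProperty Scheme.{u}) q) :
    LocP (@LocallyQuasiFinite ⊓ @LocallyOfFiniteType : MorphismProperty Scheme.{u}) (f ≫ q) := by
  obtain ⟨G, ⟨e⟩⟩ := LqfField.exists_iso_yon_of_lqf_field k hY q hq
  have hG := LqfField.lqf_hom_of_chart k q hq e.hom (MorphismProperty.of_isIso _ e.hom)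
  have hGq : LocallyQuasiFinite G.hom := hG.1
  have hGt : LocallyOfFiniteType G.hom := hG.2
  have : IsLocallyArtinian (Spec (CommRingCat.of k)) :=
    Scheme.isLocallyArtinianScheme_Spec.2 (inferInstanceAs (IsArtinianRing k))
  have hart : IsLocallyArtinian G.left := IsLocallyArtinian.of_locallyQuasiFinite G.hom
  have hdisc : DiscreteTopology ↥G.left := inferInstance
  have hm : Mono (f ≫ e.inv) := mono_comp _ _
  obtain ⟨G', ⟨e'⟩⟩ := MonoDiscrete.exists_iso_yon_of_mono_discrete hX G (f ≫ e.inv)
  obtain ⟨g, hg⟩ := (yon _).map_surjective (e'.hom ≫ f ≫ e.inv)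
  have hgm : Mono g := by
    have : Mono ((yon _).map g) := by
      rw [hg]
      exact mono_comp _ _
    exact (yon _).mono_of_mono_map this
  have hgl : Mono g.left := inferInstance
  have hlft : LocallyOfFiniteType g.left := locallyOfFiniteType_of_mono g.left
  have hlqf : LocallyQuasiFinite g.left := inferInstance
  have hG' : (@LocallyQuasiFinite ⊓ @LocallyOfFiniteType : MorphismProperty Scheme.{u}) G'.hom := by
    rw [← Over.w g]
    exact ⟨inferInstance, inferInstance⟩
  exact goodClass_lqf.locP_of_one_chart (f ≫ q) e'.hom (𝟙 _)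
    (Over.homMk G'.hom : G' ⟶ Over.mk (𝟙 _)) (MorphismProperty.of_isIso _ e'.hom)
    (MorphismProperty.of_isIso _ e'.hom) (repWith_id _ _)
    ((GeomConn.isTerminalYon _).hom_ext _ _) hG'

end Groth.Agent.H52.MonoArtin
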