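import Mathlib
import Groth.Prelude.Def_AlgSpDec
import Groth.Agent.H52.MonoArtin
import Groth.Agent.H52.MonoPoint

/-!
# Morphisms of elementary étale neighbourhoods are trivial on residue fields
-/

set_option autoImplicit false
universe u
open CategoryTheory CategoryTheory.Limits AlgebraicGeometry TopologicalSpace
open AlgSp

namespace Groth.Agent.H52.HensElemSp

variable {S : Scheme.{u}}

/-- The morphism `Spec κ(u') ⟶ Spec κ(g u')` over `S`, typed between the schemes underlying the
field valued points of two charts. -/
noncomputable def resHom {F : Sp S} {U U' : Over S}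
    (a : (yon S).obj U ⟶ F) (a' : (yon S).obj U' ⟶ F) (g : U' ⟶ U) (u' : ↥U'.left) :
    (FieldPt.ofPt a' u').pt ⟶ (FieldPt.ofPt a (g.left u')).pt :=
  (Over.homMk (Spec.map (g.left.residueFieldMap u')) (by
    change Spec.map (g.left.residueFieldMap u') ≫ U.left.fromSpecResidueField (g.left u') ≫ U.hom
      = U'.left.fromSpecResidueField u' ≫ U'.hom
    rw [← Category.assoc, Scheme.Hom.SpecMap_residueFieldMap_fromSpecResidueField,
      Category.assoc, Over.w g]) :
    Over.mk (U'.left.fromSpecResidueField u' ≫ U'.hom) ⟶
      Over.mk (U.left.fromSpecResidueField (g.left u') ≫ U.hom))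

theorem resHom_ofPtHom {F : Sp S} {U U' : Over S}
    (a : (yon S).obj U ⟶ F) (a' : (yon S).obj U' ⟶ F) (g : U' ⟶ U) (u' : ↥U'.left) :
    resHom a a' g u' ≫ ofPtHom a (g.left u') = ofPtHom a' u' ≫ g :=
  Over.OverMorphism.ext
    (Scheme.Hom.SpecMap_residueFieldMap_fromSpecResidueField g.left u')

/-- If `h_{Spec κ(u')} ⟶ F` is a monomorphism for a point `u'` of a chart `U'` mapping to the
chart `U`, then the residue field extension `κ(g u') → κ(u')` is surjective. -/
theorem surjective_residueFieldMap_of_mono {F : Sp S} {U U' : Over S}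
    (a : (yon S).obj U ⟶ F) (a' : (yon S).obj U' ⟶ F) (g : U' ⟶ U) (u' : ↥U'.left)
    (hg : (yon S).map g ≫ a = a') (hm : Mono (FieldPt.ofPt a' u').toHom) :
    Function.Surjective (g.left.residueFieldMap u').hom := by
  have hcomp : (yon S).map (resHom a a' g u') ≫ (FieldPt.ofPt a (g.left u')).toHom =
      (FieldPt.ofPt a' u').toHom := by
    rw [toHom_ofPt', toHom_ofPt', ← hg, ← Category.assoc, ← Category.assoc,
      ← Functor.map_comp, ← Functor.map_comp, resHom_ofPtHom]
  have h1 : Mono ((yon S).map (resHom a a' g u')) := by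
    have : Mono ((yon S).map (resHom a a' g u') ≫ (FieldPt.ofPt a (g.left u')).toHom) := by
      rw [hcomp]; exact hm
    exact mono_of_mono _ (FieldPt.ofPt a (g.left u')).toHom
  have h2 : Mono (resHom a a' g u') := (yon S).mono_of_mono_map h1
  have h3 : Mono (Spec.map (g.left.residueFieldMap u')) := by
    have : Mono (resHom a a' g u').left := inferInstance
    exact this
  exact Groth.Agent.H52.MonoArtin.surjective_of_mono_Spec (g.left.residueFieldMap u')

end Groth.Agent.H52.HensElemSp
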