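import Groth.Agent.H52.HensElem
import Groth.Agent.H52.HensElemSch
import Groth.Agent.H52.HensElemSp
import Groth.Agent.H52.ElemNbhd
import Groth.Agent.H53.Charts
import Groth.Agent.H3.HensIso
import Groth.Agent.H3.HensLocal

/-!
# The henselian local ring of a point of an algebraic space: independence of the neighbourhood
-/

set_option autoImplicit false
universe u
open CategoryTheory CategoryTheory.Limits AlgebraicGeometry TopologicalSpace
open AlgSp

namespace Groth.Agent.H52.HensElemMain

variable {S : Scheme.{u}}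

/-- A henselization of the local ring of the source of a morphism of étale charts, at a point
which is "elementary", is a henselization of the local ring of the target. -/
theorem isHenselization_of_chart_hom {F : Sp S} {U U' : Over S}
    (a : (yon S).obj U ⟶ F) (a' : (yon S).obj U' ⟶ F) (g : U' ⟶ U) (u' : ↥U'.left)
    (hg : (yon S).map g ≫ a = a') (ha : RepWith @Etale a) (ha' : RepWith @Etale a')
    (hmono : Mono (FieldPt.ofPt a' u').toHom)
    (R : Type u) [CommRing R] [IsLocalRing R]
    [Algebra ↥(U'.left.presheaf.stalk u') R] [IsLocalHom (algebraMap ↥(U'.left.presheaf.stalk u') R)]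
    [Hensel.IsHenselization ↥(U'.left.presheaf.stalk u') R] :
    letI : Algebra ↥(U.left.presheaf.stalk (g.left.base u')) R :=
      ((algebraMap ↥(U'.left.presheaf.stalk u') R).comp (g.left.stalkMap u').hom).toAlgebra
    ∃ (_ : IsLocalHom (algebraMap ↥(U.left.presheaf.stalk (g.left.base u')) R)),
      Hensel.IsHenselization ↥(U.left.presheaf.stalk (g.left.base u')) R := by
  have hget : Etale g.left :=
    Groth.Agent.H53.etale_left_of_repWith_etale a' a ha' ha g hg
  have hsurj : Function.Surjective (g.left.residueFieldMap u').hom :=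
    Groth.Agent.H52.HensElemSp.surjective_residueFieldMap_of_mono a a' g u' hg hmono
  have hm : (IsLocalRing.maximalIdeal ↥(U.left.presheaf.stalk (g.left.base u'))).map
      (g.left.stalkMap u').hom = IsLocalRing.maximalIdeal ↥(U'.left.presheaf.stalk u') := by
    let _ : Algebra ↥(U.left.presheaf.stalk (g.left.base u')) ↥(U'.left.presheaf.stalk u') :=
      (g.left.stalkMap u').hom.toAlgebra
    have h1 : Algebra.EssFiniteType ↥(U.left.presheaf.stalk (g.left.base u'))
        ↥(U'.left.presheaf.stalk u') := LocallyOfFiniteType.stalkMap g.left u'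
    have h2 : Algebra.FormallyEtale ↥(U.left.presheaf.stalk (g.left.base u'))
        ↥(U'.left.presheaf.stalk u') :=
      Groth.Agent.H25.EtaleStalk.formallyEtale_stalkMap_of_etale g.left u'
    have h3 : IsLocalHom (algebraMap ↥(U.left.presheaf.stalk (g.left.base u'))
        ↥(U'.left.presheaf.stalk u')) :=
      inferInstanceAs (IsLocalHom (g.left.stalkMap u').hom)
    exact Algebra.FormallyUnramified.map_maximalIdeal
  exact Groth.Agent.H52.HensElem.isHenselization_of_lift (g.left.stalkMap u').hom hm hsurj
    (fun T _ _ f _ α hα =>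
      Groth.Agent.H52.HensElemSch.existsUnique_lift_stalkMap g.left u' T f α hα)

/-- The henselian local rings computed on two elementary étale neighbourhoods of the same point
are isomorphic: given a henselization `R` of `O_{U₀,u₀}`, there is a henselization of `O_{U,u}`
isomorphic to `R` as a ring. -/
theorem exists_henselization_ringEquiv {F : Sp S} (hF : IsAlgSpace F) (x : Points F)
    {U₀ U : Over S} (a₀ : (yon S).obj U₀ ⟶ F) (a : (yon S).obj U ⟶ F) (u₀ : ↥U₀.left)
    (u : ↥U.left) (h₀ : IsElemEtaleNbhd a₀ u₀ x) (h : IsElemEtaleNbhd a u x)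
    (R : Type u) [CommRing R] [IsLocalRing R]
    [Algebra ↥(U₀.left.presheaf.stalk u₀) R] [IsLocalHom (algebraMap ↥(U₀.left.presheaf.stalk u₀) R)]
    [hR : Hensel.IsHenselization ↥(U₀.left.presheaf.stalk u₀) R] :
    ∃ (R' : Type u) (_ : CommRing R') (_ : IsLocalRing R')
      (_ : Algebra ↥(U.left.presheaf.stalk u) R')
      (_ : IsLocalHom (algebraMap ↥(U.left.presheaf.stalk u) R')),
      Hensel.IsHenselization ↥(U.left.presheaf.stalk u) R' ∧ Nonempty (R ≃+* R') := by
  obtain ⟨V, b, v, k₀, k, hb, e₀, e, rfl, rfl⟩ := elemNbhd_dominate hF x a₀ a u₀ u h₀ h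
  -- a henselization of the local ring of the dominating neighbourhood
  have hS := Groth.Agent.H3.HensLocal.isPairHenselization_Lim ↥(V.left.presheaf.stalk v)
  let R'' := Groth.Agent.H3.HensTower.Lim ↥(V.left.presheaf.stalk v)
    (IsLocalRing.maximalIdeal ↥(V.left.presheaf.stalk v))
  have : IsLocalRing R'' := Groth.Agent.H3.HensLocal.isLocalRing hS
  have : IsLocalHom (algebraMap ↥(V.left.presheaf.stalk v) R'') :=
    Groth.Agent.H3.HensLocal.isLocalHom hS
  have hH : Hensel.IsHenselization ↥(V.left.presheaf.stalk v) R'' :=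
    Groth.Agent.H3.HensLocal.isHenselization hS
  obtain ⟨hl₀, hh₀⟩ := isHenselization_of_chart_hom a₀ b k₀ v e₀ h₀.etale hb.etale hb.mono R''
  obtain ⟨hl, hh⟩ := isHenselization_of_chart_hom a b k v e h.etale hb.etale hb.mono R''
  refine ⟨R'', inferInstance, inferInstance,
    ((algebraMap ↥(V.left.presheaf.stalk v) R'').comp (k.left.stalkMap v).hom).toAlgebra,
    hl, hh, ?_⟩
  let _ : Algebra ↥(U₀.left.presheaf.stalk (k₀.left.base v)) R'' :=
    ((algebraMap ↥(V.left.presheaf.stalk v) R'').comp (k₀.left.stalkMap v).hom).toAlgebra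
  obtain ⟨ε, -⟩ := Groth.Agent.H3.HensIso.exists_ringEquiv_of_isHenselization hR hh₀
  exact ⟨ε⟩

end Groth.Agent.H52.HensElemMain
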