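import Groth.Agent.H52.WidePb
import Groth.Agent.H52.Chart
import Groth.Prelude.Def_AlgSpEt

set_option autoImplicit false
universe u
open CategoryTheory CategoryTheory.Limits AlgebraicGeometry Opposite

set_option backward.isDefEq.respectTransparency false

namespace Groth.Agent.H52.Induct

open AlgSp

variable {S : Scheme.{u}}

/-- Flat and locally of finite presentation, etale locally. -/
def Good {U X : Sp S} (a : U ⟶ X) : Prop :=
  LocP @Flat a ∧ LocP @LocallyOfFinitePresentation a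

theorem isEtaleMor_comp {F G H : Sp S} {f : F ⟶ G} {g : G ⟶ H} (hf : IsEtaleMor f)
    (hg : IsEtaleMor g) : IsEtaleMor (f ≫ g) := fun U φ hφ => by
  rw [← Category.assoc]
  exact hg _ (hf φ hφ)

theorem isEtaleMor_of_isIso {F G : Sp S} (f : F ⟶ G) [IsIso f] : IsEtaleMor f := fun _ φ hφ =>
  MorphismProperty.RespectsIso.postcomp _ f φ hφ

theorem good_of_isEtaleMor {F G : Sp S} (g : F ⟶ G) (hg : IsEtaleMor g) : Good g := by
  have key : ∀ ⦃A B : Over S⦄ (a' : (yon S).obj A ⟶ F) (b' : (yon S).obj B ⟶ G) (h : A ⟶ B),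
      RepWith @Etale a' → RepWith @Etale b' → a' ≫ g = (yon S).map h ≫ b' → Etale h.left := by
    intro A B a' b' h ha' hb' w
    exact EtOver.etale_left (EtOver.homMk (E := EtOver.mk (a' ≫ g) (hg a' ha'))
      (E' := EtOver.mk b' hb') h w.symm)
  refine ⟨fun A B a' b' h ha' hb' w => ?_, fun A B a' b' h ha' hb' w => ?_⟩
  · have := key a' b' h ha' hb' w
    infer_instance
  · have := key a' b' h ha' hb' w
    infer_instance

theorem good_precomp {F G H : Sp S} (j : F ⟶ G) (hj : IsEtaleMor j) (a : G ⟶ H) (ha : Good a) :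
    Good (j ≫ a) := by
  refine ⟨fun A B a' b' h ha' hb' w => ?_, fun A B a' b' h ha' hb' w => ?_⟩
  · exact ha.1 (a' ≫ j) b' h (hj a' ha') hb' (by rw [Category.assoc]; exact w)
  · exact ha.2 (a' ≫ j) b' h (hj a' ha') hb' (by rw [Category.assoc]; exact w)

section Cover

variable (T₀ : Over S)

/-- The affine opens of a scheme over `S` as schemes over `S`. -/
noncomputable abbrev Tfam (i : T₀.left.affineOpens) : Over S := Over.mk (i.1.ι ≫ T₀.hom)

/-- The inclusion of an affine open. -/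
noncomputable abbrev jfam (i : T₀.left.affineOpens) : Tfam T₀ i ⟶ T₀ := Over.homMk i.1.ι rfl

variable {T₀}

theorem isEtaleMor_gfam {U : Sp S} (e : U ≅ (yon S).obj T₀) (i : T₀.left.affineOpens) :
    IsEtaleMor ((yon S).map (jfam T₀ i) ≫ e.inv) :=
  isEtaleMor_comp ((isEtaleMor_yon_map_iff _).2 (show Etale i.1.ι from inferInstance))
    (isEtaleMor_of_isIso _)

theorem isFppfCover_gfam {U : Sp S} (e : U ≅ (yon S).obj T₀) :
    IsFppfCover (fun i : T₀.left.affineOpens => (yon S).obj (Tfam T₀ i))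
      (fun i => (yon S).map (jfam T₀ i) ≫ e.inv) := by
  refine ⟨fun i => good_of_isEtaleMor _ (isEtaleMor_gfam e i), fun x => ?_⟩
  have hb : ∀ {U : TopologicalSpace.Opens ↥T₀.left} {x : ↥T₀.left}, x ∈ U →
      ∃ U' ∈ T₀.left.affineOpens, x ∈ U' ∧ U' ≤ U :=
    TopologicalSpace.Opens.isBasis_iff_nbhd.1 (Scheme.isBasis_affineOpens T₀.left)
  obtain ⟨V, hV, ht, -⟩ := @hb ⊤ (Points.toScheme T₀ (Points.map e.hom x)) trivial
  refine ⟨⟨V, hV⟩, Points.ofScheme _ ⟨_, ht⟩, ?_⟩
  change Points.map _ (Points.ofPt (𝟙 _) _) = x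
  rw [Points.map_ofPt, Category.id_comp, ← Points.map_ofPt, ofPt_yon_map]
  change Points.map e.inv (Points.ofScheme T₀ (Points.toScheme T₀ (Points.map e.hom x))) = x
  rw [Points.ofScheme_toScheme, ← Points.map_comp, e.hom_inv_id, Points.map_id]

end Cover

section Main

variable (X : Space S) (P : ∀ ⦃U : Sp S⦄, (U ⟶ X.obj) → Prop)
  (hP : ∀ ⦃U : Sp S⦄ (a : U ⟶ X.obj), IsAlgSpace U →
    ∀ ⦃ι : Type u⦄ (Ui : ι → Sp S) (g : ∀ i, Ui i ⟶ U), (∀ i, IsAlgSpace (Ui i)) →
    IsFppfCover Ui g →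
    (∀ (n : ℕ) (c : Fin (n + 1) → ι),
      P (WidePullback.base (fun k : Fin (n + 1) => g (c k)) ≫ a)) → P a)
  (haff : ∀ ⦃U : Sp S⦄ (a : U ⟶ X.obj) (T : Over S) (e : U ≅ (yon S).obj T), IsAffine T.left →
    LocP @Flat a → LocP @LocallyOfFinitePresentation a → P a)

include hP haff

theorem claimB (T₀ : Over S) [T₀.left.IsSeparated] {U : Sp S} (a : U ⟶ X.obj)
    (e : U ≅ (yon S).obj T₀) (ha : Good a) : P a := by
  refine hP a ((IsAlgSpace.yon_obj T₀).of_iso e.symm) _ _ (fun i => IsAlgSpace.yon_obj _)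
    (isFppfCover_gfam e) ?_
  intro n c
  have hrep : ∀ k, RepWith (@IsOpenImmersion ⊓ @IsAffineHom)
      ((yon S).map (jfam T₀ (c k)) ≫ e.inv) := by
    intro k
    refine MorphismProperty.RespectsIso.postcomp _ _ _ ((repWith_yon_map_iff _ _).2 ⟨?_, ?_⟩)
    · exact (show IsOpenImmersion (c k).1.ι from inferInstance)
    · have : IsAffine (c k).1.toScheme := (c k).2
      have : IsAffineHom ((c k).1.ι ≫ terminal.from T₀.left) := by
        rw [terminal.comp_from]; infer_instance
      exact (IsAffineHom.of_comp (c k).1.ι (terminal.from T₀.left) : IsAffineHom (c k).1.ι)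
  obtain ⟨T, r, e', ⟨hr1, hr2⟩, hbase⟩ := WidePb.exists_iso_widePullback
    (@IsOpenImmersion ⊓ @IsAffineHom) n (fun k => Tfam T₀ (c k))
    (fun k => (yon S).map (jfam T₀ (c k)) ≫ e.inv) hrep
  have hgood : Good (WidePullback.base (fun k => (yon S).map (jfam T₀ (c k)) ≫ e.inv) ≫ a) := by
    rw [hbase]
    refine good_precomp _ ?_ a ha
    refine isEtaleMor_comp (isEtaleMor_of_isIso _) (isEtaleMor_comp ?_ (isEtaleMor_gfam e (c 0)))
    have : IsOpenImmersion r.left := hr1
    exact (isEtaleMor_yon_map_iff _).2 inferInstance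
  refine haff _ T e' ?_ hgood.1 hgood.2
  have : IsAffine (c 0).1.toScheme := (c 0).2
  have : IsAffine (Tfam T₀ (c 0)).left := this
  have : IsAffineHom r.left := hr2
  exact isAffine_of_isAffineHom r.left

theorem claimC (T₀ : Over S) {U : Sp S} (a : U ⟶ X.obj)
    (e : U ≅ (yon S).obj T₀) (ha : Good a) : P a := by
  refine hP a ((IsAlgSpace.yon_obj T₀).of_iso e.symm) _ _ (fun i => IsAlgSpace.yon_obj _)
    (isFppfCover_gfam e) ?_
  intro n c
  have hrep : ∀ k, RepWith @IsOpenImmersion ((yon S).map (jfam T₀ (c k)) ≫ e.inv) := by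
    intro k
    refine MorphismProperty.RespectsIso.postcomp _ _ _ ((repWith_yon_map_iff _ _).2 ?_)
    exact (show IsOpenImmersion (c k).1.ι from inferInstance)
  obtain ⟨T, r, e', hr1, hbase⟩ := WidePb.exists_iso_widePullback
    @IsOpenImmersion n (fun k => Tfam T₀ (c k))
    (fun k => (yon S).map (jfam T₀ (c k)) ≫ e.inv) hrep
  have hgood : Good (WidePullback.base (fun k => (yon S).map (jfam T₀ (c k)) ≫ e.inv) ≫ a) := by
    rw [hbase]
    refine good_precomp _ ?_ a ha
    refine isEtaleMor_comp (isEtaleMor_of_isIso _) (isEtaleMor_comp ?_ (isEtaleMor_gfam e (c 0)))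
    have : IsOpenImmersion r.left := hr1
    exact (isEtaleMor_yon_map_iff _).2 inferInstance
  have : IsAffine (c 0).1.toScheme := (c 0).2
  have : IsAffine (Tfam T₀ (c 0)).left := this
  have : IsOpenImmersion r.left := hr1
  have : T.left.IsSeparated := ⟨by
    rw [← terminal.comp_from r.left]; infer_instance⟩
  exact claimB X P hP haff T _ e' hgood

theorem claimD : P (𝟙 X.obj) := by
  obtain ⟨U₀, p, hp1, hp2⟩ := X.property.atlas
  have hpe : IsEtaleMor p := isEtaleMor_of_repWith p hp1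
  refine hP (𝟙 X.obj) X.property (ι := PUnit.{u + 1}) (fun _ => (yon S).obj U₀) (fun _ => p)
    (fun _ => IsAlgSpace.yon_obj _) ⟨fun _ => good_of_isEtaleMor p hpe, fun x => ?_⟩ ?_
  · obtain ⟨t, rfl⟩ := ofPt_surjective_of_repWith_surjective p hp2 x
    refine ⟨PUnit.unit, Points.ofScheme _ t, ?_⟩
    change Points.map p (Points.ofPt (𝟙 _) t) = _
    rw [Points.map_ofPt, Category.id_comp]
  · intro n c
    obtain ⟨T, r, e', hr1, hbase⟩ := WidePb.exists_iso_widePullback
      @Etale n (fun _ => U₀) (fun _ => p) (fun _ => hp1)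
    have hgood : Good (WidePullback.base (fun _ : Fin (n + 1) => p) ≫ 𝟙 X.obj) := by
      rw [hbase, Category.comp_id]
      refine good_of_isEtaleMor _ ?_
      refine isEtaleMor_comp (isEtaleMor_of_isIso _) (isEtaleMor_comp ?_ hpe)
      exact (isEtaleMor_yon_map_iff _).2 hr1
    exact claimC X P hP haff T _ e' hgood

end Main

end Groth.Agent.H52.Induct
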