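import Groth.Agent.H50.RedInduced
import Groth.Agent.H51.SpImmersion
import Groth.Agent.H51.SpBasic
import Groth.Agent.H52.Decent

/-!
# Integral closed subspaces on irreducible closed subsets of a decent space (S10496)
-/

set_option autoImplicit false
universe u
open CategoryTheory CategoryTheory.Limits AlgebraicGeometry Opposite Topology

namespace Groth.Agent.H52.IntegralClosedSub

open AlgSp

variable {S : Scheme.{u}}

theorem s10496 (X : AlgSp.Space S) (hX : IsDecent X.obj) (T : Set (Points X.obj))
    (hT : IsClosed T) (hTi : IsIrreducible T) :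
    ∃ (Z : AlgSp.Space S) (i : Z ⟶ X), RepWith @IsClosedImmersion i.hom ∧ IsIntegralSp Z.obj ∧
      Set.range (Points.map i.hom) = T := by
  obtain ⟨Z, i, hZ, hci, hrange, hred⟩ := Groth.Agent.H50.exists_isRedInduced X.property T hT
  refine ⟨⟨Z, hZ⟩, ObjectProperty.homMk i, hci,
    ⟨hred, isDecent_of_representable i hci.rep hX, ?_⟩, hrange⟩
  have himm : RepWith @IsImmersion i :=
    Groth.Agent.H51.repWith_mono (fun _ _ g (_ : IsClosedImmersion g) =>
      (inferInstance : IsImmersion g)) hci
  have hemb := (Groth.Agent.H51.s10191 X.property i himm).1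
  let e := hemb.toHomeomorph
  have : IrreducibleSpace ↥(Set.range (Points.map i)) := by
    rw [hrange]; exact Subtype.irreducibleSpace hTi
  exact e.irreducibleSpace_iff.2 this

end Groth.Agent.H52.IntegralClosedSub
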