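import Mathlib.Topology.JacobsonSpace
import Mathlib.Topology.Inseparable
import Mathlib.Topology.DiscreteSubset

set_option autoImplicit false

namespace Groth.Agent.H52

open Topology

variable {A B : Type*} [TopologicalSpace A] [TopologicalSpace B]

/-- Two points of a discrete fibre related by specialization are equal. -/
theorem eq_of_specializes_of_isDiscrete_fibre {f : A → B} (hd : ∀ b, IsDiscrete (f ⁻¹' {b}))
    {a a' : A} (h : a ⤳ a') (he : f a = f a') : a = a' := by
  have := (hd (f a')).to_subtype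
  have ha : a ∈ f ⁻¹' {f a'} := he
  have hb : a' ∈ f ⁻¹' {f a'} := rfl
  have h2 : (⟨a, ha⟩ : f ⁻¹' {f a'}) ⤳ ⟨a', hb⟩ := (subtype_specializes_iff _ _).mpr h
  exact congrArg Subtype.val h2.eq

/-- A point of a discrete fibre is isolated in it. -/
theorem exists_open_inter_fibre_subset {f : A → B} (hd : ∀ b, IsDiscrete (f ⁻¹' {b})) (p : A) :
    ∃ O : Set A, IsOpen O ∧ p ∈ O ∧ O ∩ f ⁻¹' {f p} ⊆ {p} := by
  have := (hd (f p)).to_subtype
  have hp : p ∈ f ⁻¹' {f p} := rfl
  have hopen : IsOpen ({⟨p, hp⟩} : Set (f ⁻¹' {f p})) := isOpen_discrete _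
  obtain ⟨O, hO, hOe⟩ := isOpen_induced_iff.1 hopen
  refine ⟨O, hO, ?_, ?_⟩
  · have : (⟨p, hp⟩ : f ⁻¹' {f p}) ∈ Subtype.val ⁻¹' O := by rw [hOe]; rfl
    exact this
  · rintro z ⟨hzO, hzf⟩
    have : (⟨z, hzf⟩ : f ⁻¹' {f p}) ∈ Subtype.val ⁻¹' O := hzO
    rw [hOe] at this
    exact congrArg Subtype.val this

/-- An open, surjective, generalizing map with discrete fibres out of a Jacobson space maps closed
points to closed points. -/
theorem isClosed_singleton_image_of_jacobsonSpace [JacobsonSpace A] {f : A → B}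
    (hc : Continuous f) (ho : IsOpenMap f) (hs : Function.Surjective f) (hg : GeneralizingMap f)
    (hd : ∀ b, IsDiscrete (f ⁻¹' {b})) {p : A} (hp : IsClosed ({p} : Set A)) :
    IsClosed ({f p} : Set B) := by
  obtain ⟨O, hO, hpO, hOf⟩ := exists_open_inter_fibre_subset hd p
  have hM : IsOpen (f '' O) := ho _ hO
  have key : ∀ y ∈ f '' O, f p ⤳ y → y = f p := by
    rintro _ ⟨q, hqO, rfl⟩ hwy
    obtain ⟨q', hq'q, hq'⟩ := hg hwy
    have hq'O : q' ∈ O := hq'q.mem_open hO hqO
    have h1 : q' = p := hOf ⟨hq'O, hq'⟩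
    rw [h1] at hq'q
    have h2 : q ∈ closure ({p} : Set A) := specializes_iff_mem_closure.1 hq'q
    rw [hp.closure_eq] at h2
    rw [h2]
  rw [← closure_subset_iff_isClosed]
  intro y hy
  have hwy : f p ⤳ y := specializes_iff_mem_closure.2 hy
  obtain ⟨q, rfl⟩ := hs y
  obtain ⟨q', hq'q, hq'⟩ := hg hwy
  have hq'cl : IsClosed ({q'} : Set A) := by
    obtain ⟨c, ⟨hcC, hcM⟩, hcclosed⟩ := nonempty_inter_closedPoints
      (Z := closure {q'} ∩ f ⁻¹' (f '' O))
      ⟨q', subset_closure rfl, by rw [Set.mem_preimage, hq']; exact ⟨p, hpO, rfl⟩⟩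
      (isClosed_closure.isLocallyClosed.inter (hM.preimage hc).isLocallyClosed)
    have h1 : q' ⤳ c := specializes_iff_mem_closure.2 hcC
    have h2 : f c = f p := key (f c) hcM (hq' ▸ h1.map hc)
    have h3 : q' = c := eq_of_specializes_of_isDiscrete_fibre hd h1 (hq'.trans h2.symm)
    rw [h3]
    exact hcclosed
  have h4 : q ∈ closure ({q'} : Set A) := specializes_iff_mem_closure.1 hq'q
  rw [hq'cl.closure_eq] at h4
  rw [Set.mem_singleton_iff] at h4 ⊢
  rw [h4, hq']

/-- The target of an open, surjective, generalizing map with discrete fibres out of a Jacobson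
space is Jacobson. -/
theorem jacobsonSpace_of_isOpenMap_of_surjective [JacobsonSpace A] {f : A → B}
    (hc : Continuous f) (ho : IsOpenMap f) (hs : Function.Surjective f) (hg : GeneralizingMap f)
    (hd : ∀ b, IsDiscrete (f ⁻¹' {b})) : JacobsonSpace B := by
  rw [jacobsonSpace_iff_locallyClosed]
  intro Z hZ hZl
  obtain ⟨z, hz⟩ := hZ
  obtain ⟨a, rfl⟩ := hs z
  obtain ⟨p, hpZ, hpcl⟩ := nonempty_inter_closedPoints (Z := f ⁻¹' Z) ⟨a, hz⟩ (hZl.preimage hc)
  exact ⟨f p, hpZ, isClosed_singleton_image_of_jacobsonSpace hc ho hs hg hd hpcl⟩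

end Groth.Agent.H52
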