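import Groth.Agent.H51.SpSpectral
import Groth.Agent.H17.ConsTop
import Groth.Agent.H17.GoodBasis

set_option autoImplicit false
universe u
open CategoryTheory CategoryTheory.Limits AlgebraicGeometry Opposite MorphismProperty TopologicalSpace
open Topology Set.Notation

namespace Groth.Agent.H52.LCons
open AlgSp Groth.Agent.H51

variable {S : Scheme.{u}}

/-- For a quasi-separated algebraic space, the preimage in a quasi-compact scheme of the image of
a quasi-compact open of another chart is quasi-compact. -/
theorem isCompact_preimage_image [QuasiSeparatedSpace ↥S] (X : AlgSp.Space S)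
    (hqs : IsQuasiSeparatedSp X.obj) {K : Over S} [CompactSpace ↥K.left]
    (c : (yon S).obj K ⟶ X.obj) {A : Over S} (a : (yon S).obj A ⟶ X.obj) (W : A.left.Opens)
    (hW : IsCompact (W : Set A.left)) :
    IsCompact (Points.ofPt c ⁻¹' (Points.ofPt a '' (W : Set A.left))) := by
  let a₁ := (yon S).map (overOpenι A W) ≫ a
  have hrep : Representable c := X.property.representable_from_yon c
  have sq := hrep.isPullback' a₁
  have : CompactSpace ↥(overOpen A W).left := isCompact_iff_compactSpace.1 hW
  have hP : CompactSpace ↥(hrep.pullback a₁).left := s10185 X hqs _ _ _ c a₁ _ _ sq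
  have e : Points.ofPt c ⁻¹' (Points.ofPt a '' (W : Set A.left)) =
      Set.range (hrep.fst' a₁).left := by
    ext k
    constructor
    · rintro ⟨w, hw, h⟩
      have h' : Points.ofPt c k = Points.ofPt a₁ ⟨w, hw⟩ := by
        rw [ofPt_restrict]
        exact h.symm
      obtain ⟨v, hv1, -⟩ := exists_of_ofPt_eq sq _ _ h'
      exact ⟨v, hv1⟩
    · rintro ⟨v, rfl⟩
      have h1 : Points.ofPt c ((hrep.fst' a₁).left v) = Points.ofPt a₁ ((hrep.snd a₁).left v) := by
        rw [← ofPt_map_comp, ← ofPt_map_comp, sq.w]
      refine ⟨_, ((hrep.snd a₁).left v).2, ?_⟩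
      exact (ofPt_restrict a W _).symm.trans h1.symm
  rw [e]
  exact isCompact_range (hrep.fst' a₁).left.continuous

/-- For a quasi-separated algebraic space, the preimage in a quasi-compact scheme of a
quasi-compact open subset of the space of points is quasi-compact. -/
theorem isCompact_preimage_ofPt [QuasiSeparatedSpace ↥S] (X : AlgSp.Space S)
    (hqs : IsQuasiSeparatedSp X.obj) {K : Over S} [CompactSpace ↥K.left]
    (c : (yon S).obj K ⟶ X.obj) (W' : Set (Points X.obj)) (hW'o : IsOpen W')
    (hW'c : IsCompact W') : IsCompact (Points.ofPt c ⁻¹' W') := by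
  obtain ⟨A, a, ha, has⟩ := X.property.atlas
  have hsurj : Function.Surjective (Points.ofPt a) := surjective_ofPt_of_surjective a has
  have hopen : IsOpenMap (Points.ofPt a) := isOpenMap_ofPt_of_etale a ha
  have hcont : Continuous (Points.ofPt a) := Points.continuous_ofPt a
  have key : ∀ x : Points X.obj, ∃ W : A.left.Opens, IsCompact (W : Set A.left) ∧
      (x ∈ W' → x ∈ Points.ofPt a '' (W : Set A.left) ∧
        Points.ofPt a '' (W : Set A.left) ⊆ W') := by
    intro x
    by_cases hx : x ∈ W'
    · obtain ⟨u, rfl⟩ := hsurj x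
      obtain ⟨_, ⟨W, hW, rfl⟩, huW, hWV⟩ :=
        A.left.isBasis_affineOpens.exists_subset_of_mem_open (a := u)
          (show u ∈ Points.ofPt a ⁻¹' W' from hx) (hW'o.preimage hcont)
      exact ⟨W, hW.isCompact, fun _ => ⟨⟨u, huW, rfl⟩, Set.image_subset_iff.2 hWV⟩⟩
    · exact ⟨⊥, by simp, fun h => absurd h hx⟩
  choose W hWc hW using key
  obtain ⟨σ, hσ, hcov⟩ := hW'c.elim_nhds_subcover
    (fun x => Points.ofPt a '' (W x : Set A.left))
    (fun x hx => (hopen _ (W x).2).mem_nhds (hW x hx).1)
  have e : Points.ofPt c ⁻¹' W' =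
      ⋃ x ∈ σ, Points.ofPt c ⁻¹' (Points.ofPt a '' (W x : Set A.left)) := by
    ext k
    simp only [Set.mem_preimage, Set.mem_iUnion, exists_prop]
    constructor
    · intro hk
      have := hcov hk
      simp only [Set.mem_iUnion, exists_prop] at this
      exact this
    · rintro ⟨x, hx, hk⟩
      exact (hW x (hσ x hx)).2 hk
  rw [e]
  exact σ.isCompact_biUnion fun x _ => isCompact_preimage_image X hqs c a (W x) (hWc x)

/-- The space of points of a quasi-separated algebraic space is `T₀`, sober, quasi-separated and
has a basis of quasi-compact opens. -/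
theorem points_instances [QuasiSeparatedSpace ↥S] (X : AlgSp.Space S)
    (hqs : IsQuasiSeparatedSp X.obj) :
    T0Space (Points X.obj) ∧ QuasiSober (Points X.obj) ∧ QuasiSeparatedSpace (Points X.obj) ∧
      PrespectralSpace (Points X.obj) := by
  have hd : IsDecent X.obj := Groth.Agent.S10350.result X hqs
  obtain ⟨A, a, ha, has⟩ := X.property.atlas
  have hT0 : T0Space (Points X.obj) := Groth.Agent.H52.t0Space_points_of_isDecent hd a ha has
  have hQS : QuasiSober (Points X.obj) :=
    Groth.Agent.H52.SoberSp.quasiSober_points_of_isDecent X hd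
  have hopen : IsOpenMap (Points.ofPt a) := isOpenMap_ofPt_of_etale a ha
  have hsurj : Function.Surjective (Points.ofPt a) := surjective_ofPt_of_surjective a has
  have hcont : Continuous (Points.ofPt a) := Points.continuous_ofPt a
  let b : A.left.affineOpens → Set (Points X.obj) :=
    fun W => Points.ofPt a '' ((W : A.left.Opens) : Set A.left)
  have hbasis : IsTopologicalBasis (Set.range b) := by
    refine isTopologicalBasis_of_isOpen_of_nhds ?_ ?_
    · rintro _ ⟨W, rfl⟩
      exact hopen _ (W : A.left.Opens).2
    · intro x V hxV hV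
      obtain ⟨u, rfl⟩ := hsurj x
      obtain ⟨_, ⟨W, hW, rfl⟩, huW, hWV⟩ :=
        A.left.isBasis_affineOpens.exists_subset_of_mem_open (a := u)
          (show u ∈ Points.ofPt a ⁻¹' V from hxV) (hV.preimage hcont)
      exact ⟨_, ⟨⟨W, hW⟩, rfl⟩, ⟨u, huW, rfl⟩, Set.image_subset_iff.2 hWV⟩
  have hinter : ∀ W₁ W₂ : A.left.affineOpens, IsCompact (b W₁ ∩ b W₂) := by
    intro W₁ W₂
    let a₁ := (yon S).map (overOpenι A (W₁ : A.left.Opens)) ≫ a
    have : CompactSpace ↥(overOpen A (W₁ : A.left.Opens)).left :=
      isCompact_iff_compactSpace.1 W₁.2.isCompact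
    have h1 := isCompact_preimage_image X hqs a₁ a (W₂ : A.left.Opens) W₂.2.isCompact
    have h2 := h1.image (Points.continuous_ofPt a₁)
    have e : b W₁ ∩ b W₂ = Points.ofPt a₁ '' (Points.ofPt a₁ ⁻¹' b W₂) := by
      rw [Set.image_preimage_eq_inter_range, range_ofPt_restrict, Set.inter_comm]
    rw [e]
    exact h2
  refine ⟨hT0, hQS, QuasiSeparatedSpace.of_isTopologicalBasis hbasis hinter, ?_⟩
  refine PrespectralSpace.of_isTopologicalBasis hbasis ?_
  rintro _ ⟨W, rfl⟩
  exact W.2.isCompact.image hcont

/-- Locally constructible subsets of the space of points of a quasi-separated algebraic space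
have locally constructible preimages in all charts. -/
theorem isLocallyConstructible_preimage [QuasiSeparatedSpace ↥S] (X : AlgSp.Space S)
    (hqs : IsQuasiSeparatedSp X.obj) (E : Set (Points X.obj)) (hE : IsLocallyConstructible E)
    (U : Over S) (a : (yon S).obj U ⟶ X.obj) (ha : RepWith @Etale a) :
    IsLocallyConstructible (Points.ofPt a ⁻¹' E) := by
  obtain ⟨hT0, hQS, hQSS, hPS⟩ := points_instances X hqs
  have hcover : IsOpenCover (fun K : U.left.affineOpens => (K : U.left.Opens)) :=
    IsOpenCover.mk (iSup_affineOpens_eq_top U.left)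
  refine IsLocallyConstructible.of_isOpenCover hcover fun K => ?_
  let c := (yon S).map (overOpenι U (K : U.left.Opens)) ≫ a
  have hKc : CompactSpace ↥(overOpen U (K : U.left.Opens)).left :=
    isCompact_iff_compactSpace.1 K.2.isCompact
  have : IsAffine (K : U.left.Opens).toScheme := K.2
  have hOc : IsCompact (Set.range (Points.ofPt c)) := isCompact_range (Points.continuous_ofPt c)
  have hcc : Continuous (Points.ofPt c) := Points.continuous_ofPt c
  -- the restriction of the preimage to `K` is the preimage under the restricted chart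
  have e1 : ((K : U.left.Opens) : Set U.left) ↓∩ (Points.ofPt a ⁻¹' E) = Points.ofPt c ⁻¹' E := by
    ext w
    change Points.ofPt a w.1 ∈ E ↔ Points.ofPt c w ∈ E
    rw [ofPt_restrict]
    rfl
  rw [e1]
  have hce : RepWith @Etale c := repWith_etale_restrict a ha _
  have hOo : IsOpen (Set.range (Points.ofPt c)) := (isOpenMap_ofPt_of_etale c hce).isOpen_range
  have hEO : IsConstructible (E ∩ Set.range (Points.ofPt c)) :=
    hE.inter_of_isOpen_isCompact hOo hOc
  have e2 : Points.ofPt c ⁻¹' E = Points.ofPt c ⁻¹' (E ∩ Set.range (Points.ofPt c)) := by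
    ext w
    exact ⟨fun h => ⟨h, w, rfl⟩, fun h => h.1⟩
  rw [e2]
  have hQK : QuasiSeparatedSpace ↥(overOpen U (K : U.left.Opens)).left :=
    inferInstanceAs (QuasiSeparatedSpace ↥(K : U.left.Opens).toScheme)
  refine (hEO.preimage hcc fun s hso hsr => ?_).isLocallyConstructible
  have hs' : IsCompact (s ∩ Set.range (Points.ofPt c)) := hsr hOc hOo
  have hpre : Points.ofPt c ⁻¹' s = Points.ofPt c ⁻¹' (s ∩ Set.range (Points.ofPt c)) := by
    ext w
    exact ⟨fun h => ⟨h, w, rfl⟩, fun h => h.1⟩
  rw [hpre]
  exact (isCompact_preimage_ofPt X hqs c _ (hso.inter hOo) hs').isRetrocompact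
    ((hso.inter hOo).preimage hcc)

/-- A subset of the space of points of a quasi-separated algebraic space whose preimages in all
etale charts are locally constructible is locally constructible. -/
theorem isLocallyConstructible_of_preimage [QuasiSeparatedSpace ↥S] (X : AlgSp.Space S)
    (hqs : IsQuasiSeparatedSp X.obj) (E : Set (Points X.obj))
    (h : ∀ (U : Over S) (a : (yon S).obj U ⟶ X.obj), RepWith @Etale a →
        IsLocallyConstructible (Points.ofPt a ⁻¹' E)) : IsLocallyConstructible E := by
  obtain ⟨hT0, hQS, hQSS, hPS⟩ := points_instances X hqs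
  obtain ⟨A, a, ha, has⟩ := X.property.atlas
  have hsurj : Function.Surjective (Points.ofPt a) := surjective_ofPt_of_surjective a has
  have hopen : IsOpenMap (Points.ofPt a) := isOpenMap_ofPt_of_etale a ha
  have hcont : Continuous (Points.ofPt a) := Points.continuous_ofPt a
  let O : A.left.affineOpens → Opens (Points X.obj) :=
    fun K => ⟨Points.ofPt a '' ((K : A.left.Opens) : Set A.left), hopen _ (K : A.left.Opens).2⟩
  have hcover : IsOpenCover O := by
    apply IsOpenCover.mk
    rw [eq_top_iff]
    intro x _
    obtain ⟨u, rfl⟩ := hsurj x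
    obtain ⟨K, hK, huK, -⟩ :=
      exists_isAffineOpen_mem_and_subset (X := A.left) (x := u) (U := ⊤) trivial
    rw [Opens.mem_iSup]
    exact ⟨⟨K, hK⟩, u, huK, rfl⟩
  refine IsLocallyConstructible.of_isOpenCover hcover fun K => ?_
  have hKc : IsCompact ((O K : Opens (Points X.obj)) : Set (Points X.obj)) :=
    K.2.isCompact.image hcont
  have hKq : IsQuasiSeparated ((O K : Opens (Points X.obj)) : Set (Points X.obj)) :=
    (isQuasiSeparated_univ (α := Points X.obj)).of_subset (Set.subset_univ _)
  have hsp : SpectralSpace ↥((O K : Opens (Points X.obj)) : Set (Points X.obj)) :=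
    Groth.Agent.H17.spectralSpace_of_good (O K).2 hKc hKq
  let c := (yon S).map (overOpenι A (K : A.left.Opens)) ≫ a
  have hce : RepWith @Etale c := repWith_etale_restrict a ha _
  have hcc : Continuous (Points.ofPt c) := Points.continuous_ofPt c
  have hKcs : CompactSpace ↥(overOpen A (K : A.left.Opens)).left :=
    isCompact_iff_compactSpace.1 K.2.isCompact
  have hKaff : IsAffine (K : A.left.Opens).toScheme := K.2
  have hmem : ∀ w : ↥(overOpen A (K : A.left.Opens)).left,
      Points.ofPt c w ∈ ((O K : Opens (Points X.obj)) : Set (Points X.obj)) := by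
    intro w
    change Points.ofPt c w ∈ Points.ofPt a '' ((K : A.left.Opens) : Set A.left)
    rw [← range_ofPt_restrict]
    exact ⟨w, rfl⟩
  let f : ↥(overOpen A (K : A.left.Opens)).left →
      ↥((O K : Opens (Points X.obj)) : Set (Points X.obj)) := fun w => ⟨Points.ofPt c w, hmem w⟩
  have hfc : Continuous f := hcc.subtype_mk _
  have hf : IsSpectralMap f := by
    refine ⟨hfc, fun s hso hsc => ?_⟩
    have e : f ⁻¹' s = Points.ofPt c ⁻¹' (Subtype.val '' s) := by
      ext w
      constructor
      · intro hw
        exact ⟨f w, hw, rfl⟩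
      · rintro ⟨y, hy, hyw⟩
        have : y = f w := Subtype.ext hyw
        rw [this] at hy
        exact hy
    rw [e]
    exact isCompact_preimage_ofPt X hqs c _ ((O K).2.isOpenMap_subtype_val _ hso)
      (hsc.image continuous_subtype_val)
  have hfs : Function.Surjective f := by
    rintro ⟨y, hy⟩
    have hy' : y ∈ Points.ofPt a '' ((K : A.left.Opens) : Set A.left) := hy
    rw [← range_ofPt_restrict] at hy'
    obtain ⟨w, hw⟩ := hy'
    exact ⟨w, Subtype.ext hw⟩
  have hXK : QuasiSeparatedSpace ↥(overOpen A (K : A.left.Opens)).left :=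
    inferInstanceAs (QuasiSeparatedSpace ↥(K : A.left.Opens).toScheme)
  have hPK : PrespectralSpace ↥(overOpen A (K : A.left.Opens)).left :=
    inferInstanceAs (PrespectralSpace ↥(K : A.left.Opens).toScheme)
  have hSK : QuasiSober ↥(overOpen A (K : A.left.Opens)).left :=
    inferInstanceAs (QuasiSober ↥(K : A.left.Opens).toScheme)
  have hT : IsConstructible
      (f ⁻¹' (((O K : Opens (Points X.obj)) : Set (Points X.obj)) ↓∩ E)) :=
    (h _ c hce).isConstructible
  have h1 := Groth.Agent.H17.ConsClosed.image hf (Groth.Agent.H17.consClosed_of_isConstructible hT)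
  have h2 := Groth.Agent.H17.ConsClosed.image hf
    (Groth.Agent.H17.consClosed_of_isConstructible hT.compl)
  rw [hfs.image_preimage] at h1
  rw [← Set.preimage_compl, hfs.image_preimage] at h2
  exact (Groth.Agent.H17.isConstructible_of_consOpen_of_consClosed
    (Groth.Agent.H17.consOpen_iff_compl.2 h2) h1).isLocallyConstructible

end Groth.Agent.H52.LCons
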