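import Mathlib

/-!
# Counting lifts of field-valued points along étale separated morphisms

`HasLifts g n q` : some field-valued point at `q` has `n` distinct lifts along `g`.
-/

set_option autoImplicit false
universe u
open CategoryTheory CategoryTheory.Limits AlgebraicGeometry

namespace Groth.Agent.H52.Lifts

variable {P Q : Scheme.{u}}

/-- Some field valued point of `Q` at `q` has `n` pairwise distinct lifts along `g`. -/
def HasLifts (g : P ⟶ Q) (n : ℕ) (q : Q) : Prop :=
  ∃ (Ω : Type u) (_ : Field Ω) (ω : Spec (CommRingCat.of Ω) ⟶ Q)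
    (σ : Fin n → (Spec (CommRingCat.of Ω) ⟶ P)),
    ω (IsLocalRing.closedPoint Ω) = q ∧ (∀ i, σ i ≫ g = ω) ∧ Function.Injective σ

/-- every point of `Spec` of a field is the closed point. -/
theorem eq_closedPoint {Ω : Type u} [Field Ω] (x : Spec (CommRingCat.of Ω)) :
    x = IsLocalRing.closedPoint Ω :=
  Subsingleton.elim _ _

theorem hasLifts_zero (g : P ⟶ Q) (q : Q) : HasLifts g 0 q :=
  ⟨Q.residueField q, inferInstance, Q.fromSpecResidueField q, Fin.elim0,
    Scheme.fromSpecResidueField_apply _ _, fun i => i.elim0, fun i => i.elim0⟩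

theorem HasLifts.mono {g : P ⟶ Q} {n m : ℕ} {q : Q} (h : HasLifts g n q) (hm : m ≤ n) :
    HasLifts g m q := by
  obtain ⟨Ω, _, ω, σ, h1, h2, h3⟩ := h
  exact ⟨Ω, inferInstance, ω, fun i => σ (Fin.castLE hm i), h1, fun i => h2 _,
    fun i j hij => Fin.castLE_injective hm (h3 hij)⟩

/-- The point of `P` at `p` gives a lift. -/
theorem hasLifts_one (g : P ⟶ Q) (p : P) : HasLifts g 1 (g p) := by
  refine ⟨P.residueField p, inferInstance, P.fromSpecResidueField p ≫ g,
    fun _ => P.fromSpecResidueField p, ?_, fun _ => rfl, fun i j _ => Subsingleton.elim _ _⟩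
  rw [Scheme.Hom.comp_apply, Scheme.fromSpecResidueField_apply]

/-- Common refinement of two field valued points at the same point. -/
theorem exists_common_field {Ω₁ Ω₂ : Type u} [Field Ω₁] [Field Ω₂]
    (ω₁ : Spec (CommRingCat.of Ω₁) ⟶ Q) (ω₂ : Spec (CommRingCat.of Ω₂) ⟶ Q)
    (h : ω₁ (IsLocalRing.closedPoint Ω₁) = ω₂ (IsLocalRing.closedPoint Ω₂)) :
    ∃ (Ω : Type u) (_ : Field Ω) (e₁ : Spec (CommRingCat.of Ω) ⟶ Spec (CommRingCat.of Ω₁))
      (e₂ : Spec (CommRingCat.of Ω) ⟶ Spec (CommRingCat.of Ω₂)), e₁ ≫ ω₁ = e₂ ≫ ω₂ := by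
  obtain ⟨z, -, -⟩ := Scheme.Pullback.exists_preimage_pullback _ _ h
  exact ⟨(pullback ω₁ ω₂).residueField z, inferInstance,
    (pullback ω₁ ω₂).fromSpecResidueField z ≫ pullback.fst _ _,
    (pullback ω₁ ω₂).fromSpecResidueField z ≫ pullback.snd _ _, by
      rw [Category.assoc, Category.assoc, pullback.condition]⟩

/-- A morphism between spectra of fields is an epimorphism. -/
theorem epi_of_fields {Ω₁ Ω : Type u} [Field Ω₁] [Field Ω]
    (e : Spec (CommRingCat.of Ω) ⟶ Spec (CommRingCat.of Ω₁)) : Epi e := by
  obtain ⟨φ, rfl⟩ := Spec.map_surjective e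
  have : Flat (Spec.map φ) := by
    rw [HasRingHomProperty.Spec_iff (P := @Flat)]
    algebraize [φ.hom]
    exact (inferInstance : Module.Flat Ω₁ Ω)
  have : Surjective (Spec.map φ) := ⟨fun x => ⟨IsLocalRing.closedPoint Ω, Subsingleton.elim _ _⟩⟩
  exact Flat.epi_of_flat_of_surjective _


section OffDiag

variable (g : P ⟶ Q) [Etale g] [IsSeparated g]

omit [Etale g] in
theorem isClosed_range_diagonal : IsClosed (Set.range (pullback.diagonal g)) :=
  (pullback.diagonal g).isClosedEmbedding.isClosed_range

/-- The complement of the diagonal in `P ×_Q P`, an open subscheme. -/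
noncomputable def offDiagOpens : (pullback g g).Opens :=
  ⟨(Set.range (pullback.diagonal g))ᶜ, (isClosed_range_diagonal g).isOpen_compl⟩

/-- The complement of the diagonal in `P ×_Q P`. -/
noncomputable def offDiag : Scheme.{u} := (offDiagOpens g).toScheme

/-- The inclusion of the complement of the diagonal. -/
noncomputable def offDiagι : offDiag g ⟶ pullback g g := (offDiagOpens g).ι

instance : IsOpenImmersion (offDiagι g) :=
  inferInstanceAs (IsOpenImmersion (offDiagOpens g).ι)

/-- The first projection from the complement of the diagonal. -/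
noncomputable def offDiagFst : offDiag g ⟶ P := offDiagι g ≫ pullback.fst g g

instance : Etale (offDiagFst g) := by unfold offDiagFst; infer_instance

instance : IsSeparated (offDiagFst g) := by unfold offDiagFst; infer_instance

omit [Etale g] in
theorem range_offDiagι : Set.range (offDiagι g) = (Set.range (pullback.diagonal g))ᶜ := by
  exact (Scheme.Opens.range_ι (offDiagOpens g))

variable {g}

/-- Two distinct field-valued points with the same image define a point of the complement of the
diagonal. -/
theorem exists_offDiag_lift {Ω : Type u} [Field Ω] (α β : Spec (CommRingCat.of Ω) ⟶ P)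
    (h : α ≫ g = β ≫ g) (hne : α ≠ β) :
    ∃ γ : Spec (CommRingCat.of Ω) ⟶ offDiag g, γ ≫ offDiagι g = pullback.lift α β h := by
  have hr : Set.range (pullback.lift α β h) ⊆ Set.range (offDiagι g) := by
    rw [range_offDiagι]
    rintro _ ⟨x, rfl⟩ hx
    apply hne
    have hr' : Set.range (pullback.lift α β h) ⊆ Set.range (pullback.diagonal g) := by
      rintro _ ⟨x', rfl⟩
      rwa [eq_closedPoint x', ← eq_closedPoint x]
    have e := IsOpenImmersion.lift_fac (pullback.diagonal g) (pullback.lift α β h) hr'
    have e1 := congrArg (fun m => m ≫ pullback.fst g g) e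
    have e2 := congrArg (fun m => m ≫ pullback.snd g g) e
    simp only [Category.assoc, pullback.diagonal_fst, pullback.diagonal_snd, Category.comp_id,
      pullback.lift_fst, pullback.lift_snd] at e1 e2
    exact e1.symm.trans e2
  exact ⟨IsOpenImmersion.lift (offDiagι g) (pullback.lift α β h) hr,
    IsOpenImmersion.lift_fac _ _ _⟩

omit [Etale g] in
/-- A field valued point of the complement of the diagonal has distinct components. -/
theorem offDiag_fst_ne_snd {Ω : Type u} [Field Ω] (γ : Spec (CommRingCat.of Ω) ⟶ offDiag g) :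
    γ ≫ offDiagι g ≫ pullback.fst g g ≠ γ ≫ offDiagι g ≫ pullback.snd g g := by
  intro h
  have h1 : γ ≫ offDiagι g = (γ ≫ offDiagι g ≫ pullback.fst g g) ≫ pullback.diagonal g := by
    apply pullback.hom_ext
    · simp
    · simp only [Category.assoc, pullback.diagonal_snd, Category.comp_id]
      exact h.symm
  have hx : (γ ≫ offDiagι g) (IsLocalRing.closedPoint Ω) ∈ Set.range (offDiagι g) :=
    ⟨γ (IsLocalRing.closedPoint Ω), by rw [Scheme.Hom.comp_apply]⟩
  rw [range_offDiagι] at hx
  apply hx
  rw [h1, Scheme.Hom.comp_apply]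
  exact ⟨_, rfl⟩

/-- `n + 1` lifts of a point of `Q` give `n` lifts to the complement of the diagonal of the first
one. -/
theorem hasLifts_offDiag_of_lifts {Ω : Type u} [Field Ω] (ω' : Spec (CommRingCat.of Ω) ⟶ P)
    {n : ℕ} (σ : Fin n → (Spec (CommRingCat.of Ω) ⟶ P)) (hσ : ∀ i, σ i ≫ g = ω' ≫ g)
    (hne : ∀ i, σ i ≠ ω') (hinj : Function.Injective σ) :
    HasLifts (offDiagFst g) n (ω' (IsLocalRing.closedPoint Ω)) := by
  choose τ hτ using fun i => exists_offDiag_lift ω' (σ i) (hσ i).symm (hne i).symm
  refine ⟨Ω, inferInstance, ω', τ, rfl, fun i => ?_, fun i j hij => ?_⟩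
  · unfold offDiagFst
    rw [← Category.assoc, hτ, pullback.lift_fst]
  · apply hinj
    have := congrArg (fun m => m ≫ offDiagι g ≫ pullback.snd g g) hij
    simp only [← Category.assoc, hτ] at this
    rwa [pullback.lift_snd, pullback.lift_snd] at this

omit [Etale g] in
/-- `n` lifts to the complement of the diagonal give `n + 1` lifts. -/
theorem hasLifts_succ_of_offDiag {n : ℕ} {p : P} (h : HasLifts (offDiagFst g) n p) :
    HasLifts g (n + 1) (g p) := by
  obtain ⟨Ω, _, ω', τ, h1, h2, h3⟩ := h
  refine ⟨Ω, inferInstance, ω' ≫ g,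
    Fin.cons ω' (fun i => τ i ≫ offDiagι g ≫ pullback.snd g g), ?_, ?_, ?_⟩
  · rw [Scheme.Hom.comp_apply, h1]
  · intro i
    refine Fin.cases ?_ (fun j => ?_) i
    · simp
    · simp only [Fin.cons_succ, Category.assoc]
      rw [← pullback.condition, ← h2 j]
      simp [offDiagFst]
  · have hne : ∀ j, τ j ≫ offDiagι g ≫ pullback.snd g g ≠ ω' := by
      intro j hj
      apply offDiag_fst_ne_snd (τ j)
      rw [hj, ← h2 j]
      simp [offDiagFst]
    intro i j
    refine Fin.cases ?_ (fun i' => ?_) i <;> refine Fin.cases ?_ (fun j' => ?_) j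
    · intro _; rfl
    · intro h; exact absurd h.symm (by simpa using hne j')
    · intro h; exact absurd h (by simpa using hne i')
    · intro h
      simp only [Fin.cons_succ] at h
      congr 1
      apply h3
      rw [← cancel_mono (offDiagι g)]
      apply pullback.hom_ext
      · have e1 := h2 i'
        have e2 := h2 j'
        simp only [offDiagFst] at e1 e2
        rw [Category.assoc, Category.assoc, e1, e2]
      · simpa using h

end OffDiag


theorem setOf_hasLifts_succ (g : P ⟶ Q) [Etale g] [IsSeparated g] (n : ℕ) :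
    {q | HasLifts g (n + 1) q} = g '' {p | HasLifts (offDiagFst g) n p} := by
  ext q
  constructor
  · rintro ⟨Ω, _, ω, σ, h1, h2, h3⟩
    refine ⟨σ 0 (IsLocalRing.closedPoint Ω), ?_, ?_⟩
    · refine hasLifts_offDiag_of_lifts (σ 0) (fun i => σ i.succ) (fun i => ?_) (fun i h => ?_)
        (fun i j hij => Fin.succ_injective _ (h3 hij))
      · rw [h2, h2]
      · exact Fin.succ_ne_zero i (h3 h)
    · rw [← Scheme.Hom.comp_apply, h2, h1]
  · rintro ⟨p, hp, rfl⟩
    exact hasLifts_succ_of_offDiag hp

/-- **Lower semicontinuity of the number of geometric points of the fibres** of an étale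
separated morphism. -/
theorem isOpen_setOf_hasLifts (n : ℕ) : ∀ {P Q : Scheme.{u}} (g : P ⟶ Q) [Etale g] [IsSeparated g],
    IsOpen {q | HasLifts g n q} := by
  induction n with
  | zero =>
    intro P Q g _ _
    convert isOpen_univ
    ext q
    simp [hasLifts_zero]
  | succ n ih =>
    intro P Q g _ _
    rw [setOf_hasLifts_succ]
    exact g.isOpenMap _ (ih (offDiagFst g))

end Groth.Agent.H52.Lifts
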