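import Groth.Agent.H52.Lifts

/-!
# An étale separated morphism with a constant number of geometric points in its fibres is
universally closed
-/

set_option autoImplicit false
universe u
open CategoryTheory CategoryTheory.Limits AlgebraicGeometry

namespace Groth.Agent.H52.Lifts

/-- A morphism which is universally closed on two pieces covering the source is universally
closed. -/
theorem universallyClosed_of_cover {A B Y₁ Y₂ : Scheme.{u}} (f : A ⟶ B) (i₁ : Y₁ ⟶ A)
    (i₂ : Y₂ ⟶ A) (hcov : Set.range i₁ ∪ Set.range i₂ = Set.univ)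
    [UniversallyClosed (i₁ ≫ f)] [UniversallyClosed (i₂ ≫ f)] : UniversallyClosed f := by
  rw [universallyClosed_eq]
  intro A' B' a b f' sq
  -- `sq : IsPullback f' a b f`
  have key : ∀ {Y : Scheme.{u}} (i : Y ⟶ A) [UniversallyClosed (i ≫ f)],
      IsClosedMap (pullback.fst a i ≫ f') := by
    intro Y i _
    have sq1 : IsPullback (pullback.snd a i) (pullback.fst a i) i a :=
      (IsPullback.of_hasPullback a i).flip
    have sq2 : IsPullback (pullback.snd a i) (pullback.fst a i ≫ f') (i ≫ f) b :=
      sq1.paste_vert sq.flip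
    have : UniversallyClosed (pullback.fst a i ≫ f') :=
      MorphismProperty.of_isPullback (P := @UniversallyClosed) sq2 inferInstance
    exact (pullback.fst a i ≫ f').isClosedMap
  intro C hC
  have hC' : f' '' C = (pullback.fst a i₁ ≫ f') '' ((pullback.fst a i₁) ⁻¹' C) ∪
      (pullback.fst a i₂ ≫ f') '' ((pullback.fst a i₂) ⁻¹' C) := by
    ext y
    constructor
    · rintro ⟨x, hx, rfl⟩
      have : a x ∈ Set.range i₁ ∪ Set.range i₂ := by rw [hcov]; trivial
      rcases this with ⟨z, hz⟩ | ⟨z, hz⟩
      · obtain ⟨w, hw1, -⟩ := Scheme.Pullback.exists_preimage_pullback (f := a) (g := i₁) x z hz.symm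
        exact Or.inl ⟨w, by rwa [Set.mem_preimage, hw1], by rw [Scheme.Hom.comp_apply, hw1]⟩
      · obtain ⟨w, hw1, -⟩ := Scheme.Pullback.exists_preimage_pullback (f := a) (g := i₂) x z hz.symm
        exact Or.inr ⟨w, by rwa [Set.mem_preimage, hw1], by rw [Scheme.Hom.comp_apply, hw1]⟩
    · rintro (⟨w, hw, rfl⟩ | ⟨w, hw, rfl⟩)
      · exact ⟨_, hw, by rw [Scheme.Hom.comp_apply]⟩
      · exact ⟨_, hw, by rw [Scheme.Hom.comp_apply]⟩
  rw [hC']
  exact (key i₁ _ (hC.preimage (pullback.fst a i₁).continuous)).union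
    (key i₂ _ (hC.preimage (pullback.fst a i₂).continuous))


variable {P Q : Scheme.{u}}

/-- If every point has `n + 1` lifts but no point has `n + 2`, then over every point of `P` the
complement of the diagonal has `n` lifts. -/
theorem hasLifts_offDiagFst_of_const (g : P ⟶ Q) [Etale g] [IsSeparated g] (n : ℕ)
    (h1 : ∀ q, HasLifts g (n + 1) q) (h2 : ∀ q, ¬ HasLifts g (n + 2) q) (p : P) :
    HasLifts (offDiagFst g) n p := by
  obtain ⟨Ω₁, _, ω₁, σ, e1, e2, e3⟩ := h1 (g p)
  have hpt : ω₁ (IsLocalRing.closedPoint Ω₁) =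
      (P.fromSpecResidueField p ≫ g) (IsLocalRing.closedPoint (P.residueField p)) := by
    rw [e1, Scheme.Hom.comp_apply, Scheme.fromSpecResidueField_apply]
  obtain ⟨Ω, _, ε₁, ε₂, hε⟩ := exists_common_field ω₁ (P.fromSpecResidueField p ≫ g) hpt
  have : Epi ε₁ := epi_of_fields ε₁
  set ω' : Spec (CommRingCat.of Ω) ⟶ P := ε₂ ≫ P.fromSpecResidueField p with hω'
  have hω'g : ω' ≫ g = ε₁ ≫ ω₁ := by rw [hω', Category.assoc, hε]
  have hω'p : ω' (IsLocalRing.closedPoint Ω) = p := by
    rw [hω', Scheme.Hom.comp_apply]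
    exact Scheme.fromSpecResidueField_apply p _
  by_cases hex : ∃ i₀, ε₁ ≫ σ i₀ = ω'
  · obtain ⟨i₀, hi₀⟩ := hex
    have := hasLifts_offDiag_of_lifts (g := g) ω' (fun j => ε₁ ≫ σ (i₀.succAbove j))
      (fun j => by rw [Category.assoc, e2, hω'g])
      (fun j h => by
        rw [← hi₀, cancel_epi] at h
        exact Fin.succAbove_ne i₀ j (e3 h))
      (fun j k h => by
        rw [cancel_epi] at h
        exact Fin.succAbove_right_injective (e3 h))
    rwa [hω'p] at this
  · exfalso
    apply h2 (g p)
    refine ⟨Ω, inferInstance, ε₁ ≫ ω₁, Fin.cons ω' (fun i => ε₁ ≫ σ i), ?_, ?_, ?_⟩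
    · rw [Scheme.Hom.comp_apply, eq_closedPoint (ε₁ _), e1]
    · intro i
      refine Fin.cases ?_ (fun j => ?_) i
      · simpa using hω'g
      · simp only [Fin.cons_succ, Category.assoc, e2]
    · intro i j
      refine Fin.cases ?_ (fun i' => ?_) i <;> refine Fin.cases ?_ (fun j' => ?_) j
      · intro _; rfl
      · intro h; exact absurd ⟨j', by simpa using h.symm⟩ hex
      · intro h; exact absurd ⟨i', by simpa using h⟩ hex
      · intro h
        simp only [Fin.cons_succ, cancel_epi] at h
        rw [e3 h]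

/-- **An étale separated morphism with exactly `n` geometric points in every fibre is
universally closed.** -/
theorem universallyClosed_of_const_lifts (n : ℕ) :
    ∀ {P Q : Scheme.{u}} (g : P ⟶ Q) [Etale g] [IsSeparated g],
      (∀ q, HasLifts g n q) → (∀ q, ¬ HasLifts g (n + 1) q) → UniversallyClosed g := by
  induction n with
  | zero =>
    intro P Q g _ _ _ h2
    have : IsEmpty P := ⟨fun p => h2 (g p) (hasLifts_one g p)⟩
    infer_instance
  | succ n ih =>
    intro P Q g _ _ h1 h2
    have hA := hasLifts_offDiagFst_of_const g n h1 h2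
    have hB : ∀ p, ¬ HasLifts (offDiagFst g) (n + 1) p :=
      fun p hp => h2 (g p) (hasLifts_succ_of_offDiag hp)
    have huc : UniversallyClosed (offDiagFst g) := ih (offDiagFst g) hA hB
    have huc' : UniversallyClosed (offDiagι g ≫ pullback.fst g g) := huc
    have hid : UniversallyClosed (pullback.diagonal g ≫ pullback.fst g g) := by
      rw [pullback.diagonal_fst]; infer_instance
    have hfst : UniversallyClosed (pullback.fst g g) :=
      universallyClosed_of_cover (pullback.fst g g) (pullback.diagonal g) (offDiagι g)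
        (by rw [range_offDiagι]; exact Set.union_compl_self _)
    have hsurj : Surjective g := by
      refine ⟨fun q => ?_⟩
      obtain ⟨Ω, _, ω, σ, e1, e2, -⟩ := h1 q
      exact ⟨σ 0 (IsLocalRing.closedPoint Ω), by rw [← Scheme.Hom.comp_apply, e2, e1]⟩
    exact MorphismProperty.of_isPullback_of_descendsAlong (P := @UniversallyClosed)
      (Q := @Surjective ⊓ @Flat ⊓ @LocallyOfFinitePresentation)
      (IsPullback.of_hasPullback g g) ⟨⟨hsurj, inferInstance⟩, inferInstance⟩ hfst

end Groth.Agent.H52.Lifts
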