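import Groth.Agent.H52.Lifts

/-!
# A finite scheme over a field has boundedly many points in any field
-/

set_option autoImplicit false
universe u
open CategoryTheory CategoryTheory.Limits AlgebraicGeometry

namespace Groth.Agent.H52.Lifts

/-- Algebra: at most `finrank k A` ring homomorphisms `A → K` over `k`. -/
theorem not_injective_of_finrank_lt {k A K : Type u} [Field k] [CommRing A] [Field K]
    (ψ : k →+* A) (hψ : ψ.Finite) (φ : k →+* K) {N : ℕ}
    (hN : @Module.finrank k A _ _ ψ.toAlgebra.toModule < N) (χ : Fin N → (A →+* K))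
    (hχ : ∀ i, (χ i).comp ψ = φ) : ¬ Function.Injective χ := by
  letI := ψ.toAlgebra
  letI := φ.toAlgebra
  have : Module.Finite k A := hψ
  intro hinj
  have hc : ∀ i (r : k), χ i (algebraMap k A r) = algebraMap k K r := fun i r =>
    congrArg (fun m : k →+* K => m r) (hχ i)
  let χ' : Fin N → (A →ₐ[k] K) := fun i => { χ i with commutes' := hc i }
  have hinj' : Function.Injective χ' := by
    intro i j hij
    apply hinj
    ext a
    exact congrArg (fun m : A →ₐ[k] K => m a) hij
  have h1 : N ≤ Nat.card (A →ₐ[k] K) := by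
    have := Nat.card_le_card_of_injective χ' hinj'
    simpa using this
  have h2 := card_algHom_le_finrank k A K
  omega

/-- For a finite morphism to the spectrum of a field the number of lifts of a field valued
point is bounded. -/
theorem exists_not_hasLifts_of_isFinite {F : Scheme.{u}} {k : Type u} [Field k]
    (g : F ⟶ Spec (CommRingCat.of k)) [IsFinite g] : ∃ N, ∀ q, ¬ HasLifts g N q := by
  have : IsAffine F := isAffine_of_isAffineHom g
  obtain ⟨ψ, hψ⟩ := Spec.map_surjective (F.isoSpec.inv ≫ g)
  have hfin : IsFinite (Spec.map ψ) := by rw [hψ]; infer_instance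
  rw [IsFinite.SpecMap_iff] at hfin
  refine ⟨@Module.finrank k Γ(F, ⊤) _ _ ψ.hom.toAlgebra.toModule + 1, ?_⟩
  rintro q ⟨K, _, ω, θ, -, h2, h3⟩
  obtain ⟨φ, hφ⟩ := Spec.map_surjective ω
  choose χ hχ using fun i => Spec.map_surjective (θ i ≫ F.isoSpec.hom)
  refine not_injective_of_finrank_lt ψ.hom hfin φ.hom (Nat.lt_succ_self _) (fun i => (χ i).hom)
    (fun i => ?_) ?_
  · have : Spec.map (ψ ≫ χ i) = Spec.map φ := by
      rw [Spec.map_comp, hχ, hψ, hφ, Category.assoc, Iso.hom_inv_id_assoc, h2]
    have := Spec.map_injective this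
    rw [← CommRingCat.hom_comp, this]
  · intro i j hij
    apply h3
    have : χ i = χ j := CommRingCat.hom_ext hij
    have := congrArg Spec.map this
    rw [hχ, hχ] at this
    exact (cancel_mono F.isoSpec.hom).1 this

end Groth.Agent.H52.Lifts
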