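import Groth.Agent.H52.LiftsClosed

/-!
# Étale separated morphisms with finite geometric fibres over a locally Noetherian base are
quasi-compact
-/

set_option autoImplicit false
universe u
open CategoryTheory CategoryTheory.Limits AlgebraicGeometry TopologicalSpace

namespace Groth.Agent.H52.Lifts

/-- A locally closed subset of a scheme carries a scheme structure. -/
theorem exists_locallyClosed_subscheme (Q : Scheme.{u}) (Z : Set Q) (hZ : IsClosed Z) (O : Set Q)
    (hO : IsOpen O) :
    ∃ (Z' : Scheme.{u}) (ι : Z' ⟶ Q), Set.range ι = O ∩ Z ∧ Topology.IsEmbedding ι := by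
  let I : Q.IdealSheafData := Scheme.IdealSheafData.vanishingIdeal ⟨Z, hZ⟩
  have hι₀ : Set.range I.subschemeι = Z := by
    rw [I.range_subschemeι]
    exact Scheme.IdealSheafData.coe_support_vanishingIdeal _
  let OZ : I.subscheme.Opens := I.subschemeι ⁻¹ᵁ ⟨O, hO⟩
  refine ⟨OZ.toScheme, OZ.ι ≫ I.subschemeι, ?_, (OZ.ι ≫ I.subschemeι).isEmbedding⟩
  rw [Scheme.Hom.comp_base, TopCat.coe_comp, Set.range_comp, Scheme.Opens.range_ι]
  change I.subschemeι '' (I.subschemeι ⁻¹' O) = _
  rw [Set.image_preimage_eq_inter_range, hι₀]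

/-- Base change invariance of the number of lifts. -/
theorem hasLifts_iff_of_isPullback {P P' Q Z' : Scheme.{u}} {fst : P' ⟶ P} {snd : P' ⟶ Z'}
    {g : P ⟶ Q} {ι : Z' ⟶ Q} (sq : IsPullback fst snd g ι) (n : ℕ) (z : Z') :
    HasLifts snd n z ↔ HasLifts g n (ι z) := by
  constructor
  · rintro ⟨Ω, _, ω, σ, h1, h2, h3⟩
    refine ⟨Ω, inferInstance, ω ≫ ι, fun i => σ i ≫ fst, ?_, fun i => ?_, fun i j hij => ?_⟩
    · rw [Scheme.Hom.comp_apply, h1]
    · rw [Category.assoc, sq.w, ← Category.assoc, h2]
    · apply h3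
      apply sq.hom_ext hij
      rw [h2, h2]
  · rintro ⟨Ω, _, ω, σ, h1, h2, h3⟩
    have hpt : ω (IsLocalRing.closedPoint Ω) =
        (Z'.fromSpecResidueField z ≫ ι) (IsLocalRing.closedPoint (Z'.residueField z)) := by
      rw [h1, Scheme.Hom.comp_apply, Scheme.fromSpecResidueField_apply]
    obtain ⟨Ω', _, ε₁, ε₂, hε⟩ := exists_common_field ω (Z'.fromSpecResidueField z ≫ ι) hpt
    have : Epi ε₁ := epi_of_fields ε₁
    have hcomm : ∀ i, (ε₁ ≫ σ i) ≫ g = (ε₂ ≫ Z'.fromSpecResidueField z) ≫ ι := by
      intro i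
      rw [Category.assoc, h2, hε, Category.assoc]
    refine ⟨Ω', inferInstance, ε₂ ≫ Z'.fromSpecResidueField z,
      fun i => sq.lift _ _ (hcomm i), ?_, fun i => sq.lift_snd _ _ _, fun i j hij => ?_⟩
    · rw [Scheme.Hom.comp_apply]
      exact Scheme.fromSpecResidueField_apply z _
    · have := congrArg (fun m => m ≫ fst) hij
      simp only [sq.lift_fst] at this
      exact h3 ((cancel_epi ε₁).1 this)


/-- Noetherian induction: preimages of closed sets are compact. -/
theorem isCompact_preimage_of_finite_lifts {P Q : Scheme.{u}} (g : P ⟶ Q) [Etale g]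
    [IsSeparated g] [NoetherianSpace Q] (hfin : ∀ q, ∃ n, ¬ HasLifts g n q) (s : Closeds Q) :
    IsCompact (g ⁻¹' (s : Set Q)) := by
  refine wellFounded_lt.induction (C := fun s : Closeds Q => IsCompact (g ⁻¹' (s : Set Q))) s ?_
  intro s H
  rcases eq_or_ne s ⊥ with rfl | h₀
  · simp
  by_cases h₁ : IsPreirreducible (s : Set Q)
  · replace h₁ : IsIrreducible (s : Set Q) := ⟨Closeds.coe_nonempty.2 h₀, h₁⟩
    obtain ⟨η, hη⟩ := QuasiSober.sober h₁ s.isClosed
    have hηs : η ∈ (s : Set Q) := hη.mem
    -- the degree at the generic point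
    classical
    have hex := hfin η
    have hN0 : Nat.find hex ≠ 0 := fun h0 => by
      have := Nat.find_spec hex
      rw [h0] at this
      exact this (hasLifts_zero g η)
    obtain ⟨n, hn⟩ := Nat.exists_eq_succ_of_ne_zero hN0
    have hn1 : HasLifts g n η := by
      by_contra hcon
      exact Nat.find_min hex (by omega) hcon
    have hn2 : ¬ HasLifts g (n + 1) η := by
      have := Nat.find_spec hex
      rwa [hn] at this
    have hOn : IsOpen {q | HasLifts g n q} := isOpen_setOf_hasLifts n g
    have hOn1 : IsOpen {q | HasLifts g (n + 1) q} := isOpen_setOf_hasLifts (n + 1) g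
    have hdisj : ∀ z ∈ (s : Set Q), ¬ HasLifts g (n + 1) z := by
      intro z hz hz1
      have hs : η ⤳ z := by rw [specializes_iff_mem_closure, hη.def]; exact hz
      exact hn2 (hs.mem_open hOn1 hz1)
    -- the closed complement
    let s' : Closeds Q := s ⊓ ⟨{q | HasLifts g n q}ᶜ, hOn.isClosed_compl⟩
    have hs' : s' < s := by
      refine lt_of_le_of_ne inf_le_left fun heq => ?_
      have : η ∈ (s' : Set Q) := heq ▸ hηs
      exact this.2 hn1
    have hc' := H s' hs'
    -- the locally closed stratum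
    obtain ⟨Z', ι, hrange, hemb⟩ :=
      exists_locallyClosed_subscheme Q (s : Set Q) s.isClosed {q | HasLifts g n q} hOn
    have hι : ∀ z : Z', ι z ∈ {q | HasLifts g n q} ∩ (s : Set Q) := fun z =>
      hrange ▸ Set.mem_range_self z
    have sq : IsPullback (pullback.fst g ι) (pullback.snd g ι) g ι := IsPullback.of_hasPullback g ι
    have huc : UniversallyClosed (pullback.snd g ι) :=
      universallyClosed_of_const_lifts n (pullback.snd g ι)
        (fun z => (hasLifts_iff_of_isPullback sq n z).2 (hι z).1)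
        (fun z h => hdisj _ (hι z).2 ((hasLifts_iff_of_isPullback sq (n + 1) z).1 h))
    have hnoeth : NoetherianSpace Z' := hemb.isInducing.noetherianSpace
    have hcpt : CompactSpace ↥(pullback g ι) :=
      QuasiCompact.compactSpace_of_compactSpace (pullback.snd g ι)
    have hc'' : IsCompact (g ⁻¹' ({q | HasLifts g n q} ∩ (s : Set Q))) := by
      rw [← hrange, ← Scheme.Pullback.range_fst]
      exact isCompact_range (pullback.fst g ι).continuous
    have : g ⁻¹' (s : Set Q) = g ⁻¹' ({q | HasLifts g n q} ∩ (s : Set Q)) ∪ g ⁻¹' (s' : Set Q) := by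
      ext x
      simp only [Set.mem_preimage, Set.mem_union, Set.mem_inter_iff, Set.mem_ofPred_eq, s',
        Closeds.coe_inf, Closeds.coe_mk, Set.mem_compl_iff]
      tauto
    rw [this]
    exact hc''.union hc'
  · simp only [isPreirreducible_iff_isClosed_union_isClosed, not_forall, not_or] at h₁
    obtain ⟨z₁, z₂, hz₁, hz₂, h, hz₁', hz₂'⟩ := h₁
    lift z₁ to Closeds Q using hz₁
    lift z₂ to Closeds Q using hz₂
    have c1 := H (s ⊓ z₁) (inf_lt_left.2 hz₁')
    have c2 := H (s ⊓ z₂) (inf_lt_left.2 hz₂')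
    have : g ⁻¹' (s : Set Q) = g ⁻¹' ((s ⊓ z₁ : Closeds Q) : Set Q) ∪
        g ⁻¹' ((s ⊓ z₂ : Closeds Q) : Set Q) := by
      ext x
      simp only [Set.mem_preimage, Set.mem_union, Closeds.coe_inf, Set.mem_inter_iff]
      constructor
      · intro hx
        rcases h hx with h' | h'
        · exact Or.inl ⟨hx, h'⟩
        · exact Or.inr ⟨hx, h'⟩
      · rintro (h' | h') <;> exact h'.1
    rw [this]
    exact c1.union c2

/-- **An étale separated morphism to a locally Noetherian scheme all of whose fibres have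
finitely many geometric points is quasi-compact.** -/
theorem quasiCompact_of_finite_lifts {P Q : Scheme.{u}} (g : P ⟶ Q) [Etale g] [IsSeparated g]
    [IsLocallyNoetherian Q] (hfin : ∀ q, ∃ n, ¬ HasLifts g n q) : QuasiCompact g := by
  rw [quasiCompact_iff_forall_isAffineOpen]
  intro V hV
  have : IsNoetherianRing Γ(Q, V) := IsLocallyNoetherian.component_noetherian ⟨V, hV⟩
  have hnoeth : NoetherianSpace V := noetherianSpace_of_isAffineOpen V hV
  have sq : IsPullback (pullback.fst g V.ι) (pullback.snd g V.ι) g V.ι :=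
    IsPullback.of_hasPullback g V.ι
  have hfin' : ∀ z : V.toScheme, ∃ n, ¬ HasLifts (pullback.snd g V.ι) n z := by
    intro z
    obtain ⟨n, hn⟩ := hfin (V.ι z)
    exact ⟨n, fun h => hn ((hasLifts_iff_of_isPullback sq n z).1 h)⟩
  have hnoeth' : NoetherianSpace V.toScheme := hnoeth
  have hc := isCompact_preimage_of_finite_lifts (pullback.snd g V.ι) hfin' ⊤
  have hc' : IsCompact (Set.univ : Set ↥(pullback g V.ι)) := by simpa using hc
  have : (g ⁻¹ᵁ V : Set P) = pullback.fst g V.ι '' Set.univ := by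
    rw [Set.image_univ, Scheme.Pullback.range_fst, Scheme.Opens.range_ι]
    rfl
  rw [this]
  exact hc'.image (pullback.fst g V.ι).continuous

end Groth.Agent.H52.Lifts
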