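import Groth.Agent.H51.SpBasic
import Mathlib

/-!
# Local finiteness of irreducible components in locally Noetherian algebraic spaces
-/

set_option autoImplicit false
universe u
open CategoryTheory CategoryTheory.Limits AlgebraicGeometry Opposite TopologicalSpace

namespace Groth.Agent.H52.LocFinComp

/-- Only finitely many irreducible components of a space meet a given Noetherian open subset. -/
theorem finite_irreducibleComponents_meeting_open {A : Type*} [TopologicalSpace A] (O : Set A)
    (hO : IsOpen O) [NoetherianSpace ↥O] :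
    {Z | Z ∈ irreducibleComponents A ∧ (Z ∩ O).Nonempty}.Finite := by
  have hfin : Finite ↥(irreducibleComponents ↥O) :=
    NoetherianSpace.finite_irreducibleComponents.to_subtype
  rw [← Set.finite_coe_iff]
  have key : ∀ Z : {Z // Z ∈ irreducibleComponents A ∧ (Z ∩ O).Nonempty},
      ∃ C : ↥(irreducibleComponents ↥O), ((Subtype.val : ↥O → A) ⁻¹' Z.1) ⊆ C.1 := by
    rintro ⟨Z, hZ, hZO⟩
    have hirr : IsIrreducible Z := hZ.1
    have hpre : IsPreirreducible ((Subtype.val : ↥O → A) ⁻¹' Z) :=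
      hirr.isPreirreducible.preimage hO.isOpenEmbedding_subtypeVal
    obtain ⟨C, hC1, hC2, hC3⟩ := exists_preirreducible _ hpre
    obtain ⟨a, haZ, haO⟩ := hZO
    have hCne : C.Nonempty := ⟨⟨a, haO⟩, hC2 haZ⟩
    refine ⟨⟨C, ⟨⟨hCne, hC1⟩, fun u hu hCu => (hC3 u hu.isPreirreducible hCu).le⟩⟩, hC2⟩
  choose C hC using key
  refine Finite.of_injective C ?_
  -- a component meeting `O` is the closure of the image of the chosen component of `O`
  have hZeq : ∀ Z : {Z // Z ∈ irreducibleComponents A ∧ (Z ∩ O).Nonempty},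
      Z.1 = closure ((Subtype.val : ↥O → A) '' (C Z).1) := by
    rintro ⟨Z, hZ, hZO⟩
    have hirr : IsIrreducible Z := hZ.1
    have hD : IsIrreducible (closure ((Subtype.val : ↥O → A) '' (C ⟨Z, hZ, hZO⟩).1)) :=
      ((C ⟨Z, hZ, hZO⟩).2.1.image _ continuous_subtype_val.continuousOn).closure
    have hsub : Z ⊆ closure ((Subtype.val : ↥O → A) '' (C ⟨Z, hZ, hZO⟩).1) := by
      refine (subset_closure_inter_of_isPreirreducible_of_isOpen hirr.isPreirreducible hO
        hZO).trans (closure_mono ?_)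
      rintro a ⟨haZ, haO⟩
      exact ⟨⟨a, haO⟩, hC ⟨Z, hZ, hZO⟩ haZ, rfl⟩
    exact le_antisymm hsub (hZ.2 hD hsub)
  intro Z₁ Z₂ h
  apply Subtype.ext
  rw [hZeq Z₁, hZeq Z₂, h]

open AlgSp

variable {S : Scheme.{u}}

/-- **S10491.** In a locally Noetherian algebraic space the irreducible components of a closed
subset are locally finite. -/
theorem s10491 (X : AlgSp.Space S) (hX : IsLocNoethSp X.obj) (T : Set (Points X.obj))
    (_hT : IsClosed T) :
    LocallyFinite (fun Z : ↥(irreducibleComponents ↥T) =>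
      ((↑) : ↥T → Points X.obj) '' (Z : Set ↥T)) := by
  intro x
  obtain ⟨U, φ, hφ, hφs, hN⟩ := hX
  have hN' : IsLocallyNoetherian U.left := hN
  obtain ⟨u, rfl⟩ := H51.surjective_ofPt_of_surjective φ hφs x
  obtain ⟨_, ⟨W, hW, rfl⟩, huW, -⟩ :=
    U.left.isBasis_affineOpens.exists_subset_of_mem_open (Set.mem_univ u) isOpen_univ
  have hnoethR : IsNoetherianRing Γ(U.left, W) := IsLocallyNoetherian.component_noetherian ⟨W, hW⟩
  have hWn : NoetherianSpace ↥W := noetherianSpace_of_isAffineOpen W hW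
  -- the image of `W`
  have hVo : IsOpen (Points.ofPt φ '' (W : Set ↥U.left)) :=
    H51.isOpenMap_ofPt_of_etale φ hφ _ W.isOpen
  have hVn : NoetherianSpace ↥(Points.ofPt φ '' (W : Set ↥U.left)) := by
    refine noetherianSpace_of_surjective
      (fun w : ↥W => (⟨Points.ofPt φ w.1, w.1, w.2, rfl⟩ : ↥(Points.ofPt φ '' (W : Set ↥U.left))))
      ?_ ?_
    · exact ((Points.continuous_ofPt φ).comp continuous_subtype_val).subtype_mk _
    · rintro ⟨_, w, hw, rfl⟩
      exact ⟨⟨w, hw⟩, rfl⟩
  refine ⟨Points.ofPt φ '' (W : Set ↥U.left), hVo.mem_nhds ⟨u, huW, rfl⟩, ?_⟩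
  -- the open subset of `T`
  have hOo : IsOpen (((↑) : ↥T → Points X.obj) ⁻¹' (Points.ofPt φ '' (W : Set ↥U.left))) :=
    hVo.preimage continuous_subtype_val
  have hOn : NoetherianSpace ↥(((↑) : ↥T → Points X.obj) ⁻¹'
      (Points.ofPt φ '' (W : Set ↥U.left))) := by
    let g : ↥(((↑) : ↥T → Points X.obj) ⁻¹' (Points.ofPt φ '' (W : Set ↥U.left))) →
        ↥(Points.ofPt φ '' (W : Set ↥U.left)) := fun o => ⟨o.1.1, o.2⟩
    have hg : Continuous g :=
      (continuous_subtype_val.comp continuous_subtype_val).subtype_mk _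
    have hcomp : Topology.IsInducing ((Subtype.val : ↥(Points.ofPt φ '' (W : Set ↥U.left)) →
        Points X.obj) ∘ g) := by
      have : (Subtype.val : ↥(Points.ofPt φ '' (W : Set ↥U.left)) → Points X.obj) ∘ g =
          (Subtype.val : ↥T → Points X.obj) ∘ Subtype.val := rfl
      rw [this]
      exact Topology.IsInducing.subtypeVal.comp Topology.IsInducing.subtypeVal
    exact (Topology.IsInducing.of_comp hg continuous_subtype_val hcomp).noetherianSpace
  have hfin := finite_irreducibleComponents_meeting_open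
    (((↑) : ↥T → Points X.obj) ⁻¹' (Points.ofPt φ '' (W : Set ↥U.left))) hOo
  refine (hfin.preimage Subtype.val_injective.injOn).subset ?_
  rintro Z ⟨_, ⟨t, htZ, rfl⟩, htV⟩
  exact ⟨Z.2, t, htZ, htV⟩

end Groth.Agent.H52.LocFinComp
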