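import Mathlib

/-!
# Algebraic input for "locally separated implies decent"

* `card_le_of_dual_family`: linear algebra (a dual family in `Ω^r` has at most `r` members);
* `exists_sum_of_isPushout`: elements of a pushout of commutative rings are sums of products;
* `exists_sum_of_isPullback`: global functions on a fibre product of affine schemes;
* `appTop_eq_zero_of_not_mem_basicOpen`: vanishing of functions at field valued points.
-/

set_option autoImplicit false
universe u
open CategoryTheory CategoryTheory.Limits AlgebraicGeometry TensorProduct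

namespace Groth.Agent.H52.LocSepAlg

/-- Linear algebra: a family of pairs of vectors `α n, β n` in `Ω^κ` with `⟨α n, β m⟩ = δ_{nm}`
has at most `#κ` members. -/
theorem card_le_of_dual_family {Ω : Type*} [Field Ω] {ι κ : Type*} [Fintype ι] [Fintype κ]
    [DecidableEq ι] (α β : ι → κ → Ω)
    (h0 : ∀ n m, n ≠ m → ∑ k, α n k * β m k = 0) (h1 : ∀ n, ∑ k, α n k * β n k = 1) :
    Fintype.card ι ≤ Fintype.card κ := by
  let A : Matrix ι κ Ω := Matrix.of α
  let B : Matrix κ ι Ω := Matrix.of fun k m => β m k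
  have hAB : A * B = 1 := by
    ext n m
    rw [Matrix.mul_apply, Matrix.one_apply]
    split_ifs with h
    · subst h; exact h1 n
    · exact h0 n m h
  have h2 : (A * B).rank ≤ A.rank := Matrix.rank_mul_le_left A B
  rw [hAB, Matrix.rank_one] at h2
  exact h2.trans (Matrix.rank_le_card_width A)

/-- Every element of a pushout of commutative rings is a finite sum of products of elements
coming from the two factors. -/
theorem exists_sum_of_isPushout {Z A B C : CommRingCat.{u}} {f : Z ⟶ A} {g : Z ⟶ B}
    {inl : A ⟶ C} {inr : B ⟶ C} (h : IsPushout f g inl inr) (c : C) :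
    ∃ s : Finset (A × B), c = ∑ i ∈ s, inl i.1 * inr i.2 := by
  let _ := f.hom.toAlgebra
  let _ := g.hom.toAlgebra
  have h' : IsPushout f g
      (CommRingCat.ofHom (S := A ⊗[Z] B) <| Algebra.TensorProduct.includeLeftRingHom)
      (CommRingCat.ofHom (S := A ⊗[Z] B) <| Algebra.TensorProduct.includeRight.toRingHom) :=
    CommRingCat.isPushout_tensorProduct Z A B
  let e := h'.isoIsPushout _ _ h
  have e1 : ∀ a : A, e.hom (a ⊗ₜ[Z] (1 : B)) = inl a := fun a =>
    congrArg (fun m => m a) (h'.inl_isoIsPushout_hom _ _ h)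
  have e2 : ∀ b : B, e.hom ((1 : A) ⊗ₜ[Z] b) = inr b := fun b =>
    congrArg (fun m => m b) (h'.inr_isoIsPushout_hom _ _ h)
  obtain ⟨s, hs⟩ := TensorProduct.exists_finset (R := Z) (M := A) (N := B) (e.inv c)
  refine ⟨s, ?_⟩
  have hc : c = e.hom (e.inv c) := by
    change c = (e.inv ≫ e.hom) c
    rw [e.inv_hom_id]; rfl
  rw [hc, hs, map_sum]
  refine Finset.sum_congr rfl fun i _ => ?_
  have : i.1 ⊗ₜ[Z] i.2 = (i.1 ⊗ₜ[Z] (1 : B)) * ((1 : A) ⊗ₜ[Z] i.2) := by
    rw [Algebra.TensorProduct.tmul_mul_tmul, mul_one, one_mul]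
  rw [this, map_mul, e1, e2]

/-- Every global function on a fibre product of affine schemes is a finite sum of products of
pullbacks of functions from the two factors. -/
theorem exists_sum_of_isPullback {P X Y Z : Scheme.{u}} {fst : P ⟶ X} {snd : P ⟶ Y} {f : X ⟶ Z}
    {g : Y ⟶ Z} [IsAffine X] [IsAffine Y] [IsAffine Z] (h : IsPullback fst snd f g)
    (c : Γ(P, ⊤)) :
    ∃ s : Finset (Γ(X, ⊤) × Γ(Y, ⊤)), c = ∑ i ∈ s, fst.appTop i.1 * snd.appTop i.2 :=
  exists_sum_of_isPushout (isPushout_appTop_of_isPullback h) c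

/-- A function which does not lie in the basic open at the image of a field valued point
pulls back to zero. -/
theorem appTop_eq_zero_of_not_mem_basicOpen {P : Scheme.{u}} {Ω : Type u} [Field Ω]
    (ρ : Spec (CommRingCat.of Ω) ⟶ P) (c : Γ(P, ⊤))
    (h : ρ (IsLocalRing.closedPoint Ω) ∉ P.basicOpen c) : ρ.appTop c = 0 := by
  have h1 : ρ ⁻¹ᵁ P.basicOpen c = (Spec (CommRingCat.of Ω)).basicOpen (ρ.appTop c) :=
    Scheme.preimage_basicOpen ρ c
  have h2 : (Spec (CommRingCat.of Ω)).basicOpen (ρ.appTop c) = ⊥ := by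
    rw [← h1, eq_bot_iff]
    intro x hx
    have : x = IsLocalRing.closedPoint Ω := Subsingleton.elim _ _
    subst this
    exact (h hx).elim
  exact (basicOpen_eq_bot_iff _).1 h2

end Groth.Agent.H52.LocSepAlg
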