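import Mathlib

/-!
# A compactness argument for nested basic opens in a prime spectrum
-/

set_option autoImplicit false
universe u
open CategoryTheory AlgebraicGeometry

namespace Groth.Agent.H52.NestedOpens

open PrimeSpectrum

variable {A : Type*} [CommRing A]

/-- A decreasing sequence of basic opens all meeting a closed set have a common point in the
closed set. -/
theorem exists_mem_iInter_basicOpen (I : Ideal A) (f : ℕ → A)
    (hdec : ∀ k, basicOpen (f (k + 1)) ≤ basicOpen (f k))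
    (hne : ∀ k, ((basicOpen (f k) : Set (PrimeSpectrum A)) ∩ zeroLocus (I : Set A)).Nonempty) :
    ∃ p : PrimeSpectrum A, p ∈ zeroLocus (I : Set A) ∧ ∀ k, p ∈ basicOpen (f k) := by
  have hanti : Antitone fun k => basicOpen (f k) := antitone_nat_of_succ_le hdec
  have hM : ∀ m ∈ Submonoid.closure (Set.range f), ∃ k, basicOpen (f k) ≤ basicOpen m := by
    intro m hm
    induction hm using Submonoid.closure_induction with
    | mem x hx =>
      obtain ⟨j, rfl⟩ := hx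
      exact ⟨j, le_rfl⟩
    | one => exact ⟨0, by simp⟩
    | mul x y _ _ hx hy =>
      obtain ⟨k, hk⟩ := hx
      obtain ⟨k', hk'⟩ := hy
      refine ⟨max k k', ?_⟩
      rw [basicOpen_mul]
      exact le_inf ((hanti (le_max_left k k')).trans hk) ((hanti (le_max_right k k')).trans hk')
  have hdisj : Disjoint (I : Set A) (Submonoid.closure (Set.range f) : Set A) := by
    rw [Set.disjoint_left]
    intro m hmI hmM
    obtain ⟨k, hk⟩ := hM m hmM
    obtain ⟨p, hp1, hp2⟩ := hne k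
    have : p ∈ basicOpen m := hk hp1
    exact this (hp2 hmI)
  obtain ⟨p, hp, hIp, hpd⟩ := Ideal.exists_le_prime_disjoint I _ hdisj
  refine ⟨⟨p, hp⟩, fun x hx => hIp hx, fun k hk => ?_⟩
  exact Set.disjoint_left.1 hpd hk (Submonoid.subset_closure ⟨k, rfl⟩)

/-- In a prime spectrum: if a sequence of opens has empty intersection on a nonempty closed set
`T'` (and the first one contains `T'`), then on some nonempty relatively open subset of `T'` the
index of the last open containing a point is constant. -/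
theorem exists_open_const_primeSpectrum (T' : Set (PrimeSpectrum A)) (hT : IsClosed T')
    (hne : T'.Nonempty) (Uo : ℕ → Set (PrimeSpectrum A)) (hUo : ∀ n, IsOpen (Uo n))
    (h0 : T' ⊆ Uo 0) (hemp : ∀ x ∈ T', ∃ n, x ∉ Uo n) :
    ∃ (n : ℕ) (W : Set (PrimeSpectrum A)), IsOpen W ∧ (W ∩ T').Nonempty ∧ W ∩ T' ⊆ Uo n ∧
      Disjoint (W ∩ T') (Uo (n + 1)) := by
  by_contra hcon
  push Not at hcon
  obtain ⟨I, hI⟩ := (isClosed_iff_zeroLocus_ideal T').1 hT
  -- the inductive step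
  have step : ∀ (k : ℕ) (f : A), ((basicOpen f : Set (PrimeSpectrum A)) ∩ T').Nonempty →
      (basicOpen f : Set (PrimeSpectrum A)) ∩ T' ⊆ Uo k →
      ∃ f' : A, ((basicOpen f' : Set (PrimeSpectrum A)) ∩ T').Nonempty ∧
        (basicOpen f' : Set (PrimeSpectrum A)) ∩ T' ⊆ Uo (k + 1) ∧ basicOpen f' ≤ basicOpen f := by
    intro k f h1 h2
    have h3 := hcon k (basicOpen f) (basicOpen f).isOpen h1 h2
    rw [Set.not_disjoint_iff] at h3
    obtain ⟨t, ⟨htf, htT⟩, htU⟩ := h3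
    have hopen : IsOpen ((basicOpen f : Set (PrimeSpectrum A)) ∩ Uo (k + 1)) :=
      (basicOpen f).isOpen.inter (hUo _)
    have htm : t ∈ (basicOpen f : Set (PrimeSpectrum A)) ∩ Uo (k + 1) := ⟨htf, htU⟩
    obtain ⟨_, ⟨h, rfl⟩, hth, hsub⟩ :=
      isTopologicalBasis_basic_opens.exists_subset_of_mem_open htm hopen
    exact ⟨h, ⟨t, hth, htT⟩, fun x hx => (hsub hx.1).2, fun x hx => (hsub hx).1⟩
  -- the start
  obtain ⟨t₀, ht₀⟩ := hne
  have start : ∃ f : A, ((basicOpen f : Set (PrimeSpectrum A)) ∩ T').Nonempty ∧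
      (basicOpen f : Set (PrimeSpectrum A)) ∩ T' ⊆ Uo 0 :=
    ⟨1, ⟨t₀, by simp, ht₀⟩, fun x hx => h0 hx.2⟩
  -- the sequence
  let S : ℕ → Type _ := fun k => {f : A // ((basicOpen f : Set (PrimeSpectrum A)) ∩ T').Nonempty ∧
      (basicOpen f : Set (PrimeSpectrum A)) ∩ T' ⊆ Uo k}
  let F : ∀ k, S k := fun k => Nat.rec (motive := S) ⟨start.choose, start.choose_spec⟩
    (fun k f => ⟨(step k f.1 f.2.1 f.2.2).choose, (step k f.1 f.2.1 f.2.2).choose_spec.1,
      (step k f.1 f.2.1 f.2.2).choose_spec.2.1⟩) k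
  have hF : ∀ k, basicOpen (F (k + 1)).1 ≤ basicOpen (F k).1 := fun k =>
    (step k (F k).1 (F k).2.1 (F k).2.2).choose_spec.2.2
  obtain ⟨p, hpI, hp⟩ := exists_mem_iInter_basicOpen I (fun k => (F k).1) hF
    (fun k => by rw [← hI]; exact (F k).2.1)
  have hpT : p ∈ T' := by rw [hI]; exact hpI
  obtain ⟨n, hn⟩ := hemp p hpT
  exact hn ((F n).2.2 ⟨hp n, hpT⟩)

/-- The same statement for any space homeomorphic to a prime spectrum. -/
theorem exists_open_const {X : Type*} [TopologicalSpace X] (e : X ≃ₜ PrimeSpectrum A)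
    (T' : Set X) (hT : IsClosed T')
    (hne : T'.Nonempty) (Uo : ℕ → Set X) (hUo : ∀ n, IsOpen (Uo n))
    (h0 : T' ⊆ Uo 0) (hemp : ∀ x ∈ T', ∃ n, x ∉ Uo n) :
    ∃ (n : ℕ) (W : Set X), IsOpen W ∧ (W ∩ T').Nonempty ∧ W ∩ T' ⊆ Uo n ∧
      Disjoint (W ∩ T') (Uo (n + 1)) := by
  obtain ⟨n, W, hW, h1, h2, h3⟩ := exists_open_const_primeSpectrum (e '' T')
    (e.isClosed_image.2 hT) (hne.image e) (fun n => e '' Uo n) (fun n => e.isOpen_image.2 (hUo n))
    (Set.image_mono h0) (by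
      rintro _ ⟨x, hx, rfl⟩
      obtain ⟨n, hn⟩ := hemp x hx
      exact ⟨n, fun ⟨y, hy, hxy⟩ => hn (e.injective hxy ▸ hy)⟩)
  refine ⟨n, e ⁻¹' W, hW.preimage e.continuous, ?_, ?_, ?_⟩
  · obtain ⟨_, hyW, ⟨x, hx, rfl⟩⟩ := h1
    exact ⟨x, hyW, hx⟩
  · rintro x ⟨hxW, hxT⟩
    obtain ⟨y, hy, hxy⟩ := h2 ⟨hxW, ⟨x, hxT, rfl⟩⟩
    exact e.injective hxy ▸ hy
  · rw [Set.disjoint_left] at h3 ⊢
    rintro x ⟨hxW, hxT⟩ hxU
    exact h3 ⟨hxW, ⟨x, hxT, rfl⟩⟩ ⟨x, hxU, rfl⟩

end Groth.Agent.H52.NestedOpens
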