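import Mathlib

/-!
# Generic points of irreducible images under finite-to-one maps which are closed on saturated sets
-/

set_option autoImplicit false

namespace Groth.Agent.H52.SoberTop

variable {Z Y : Type*} [TopologicalSpace Z] [TopologicalSpace Y]

/-- Let `π : Z → Y` be continuous with finite fibres from a quasi-sober space, with irreducible
image `T₂`, such that `π` is open onto `T₂` and saturations of closed sets are closed. Then `T₂`
is contained in the closure of a point of the image. -/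
theorem exists_generic_of_finite_fibres [QuasiSober Z] (π : Z → Y) (hπ : Continuous π)
    (T₂ : Set Y) (hT₂ : IsIrreducible T₂) (hrange : Set.range π = T₂)
    (hopen : ∀ N : Set Z, IsOpen N → ∃ G : Set Y, IsOpen G ∧ π '' N = G ∩ T₂)
    (hsat : ∀ C : Set Z, IsClosed C → IsClosed (π ⁻¹' (π '' C)))
    (hfin : ∀ y, (π ⁻¹' {y}).Finite) :
    ∃ z : Z, T₂ ⊆ closure {π z} := by
  -- images of closed sets are relatively closed
  have hcl : ∀ C : Set Z, IsClosed C → ∃ K : Set Y, IsClosed K ∧ π '' C = K ∩ T₂ := by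
    intro C hC
    obtain ⟨G, hG, hGe⟩ := hopen (π ⁻¹' (π '' C))ᶜ (hsat C hC).isOpen_compl
    refine ⟨Gᶜ, hG.isClosed_compl, ?_⟩
    ext y
    constructor
    · rintro ⟨c, hc, rfl⟩
      refine ⟨fun hy => ?_, hrange ▸ Set.mem_range_self c⟩
      have : π c ∈ G ∩ T₂ := ⟨hy, hrange ▸ Set.mem_range_self c⟩
      rw [← hGe] at this
      obtain ⟨z, hz, hzc⟩ := this
      exact hz (show π z ∈ π '' C from hzc ▸ Set.mem_image_of_mem π hc)
    · rintro ⟨hyG, hyT⟩
      rw [← hrange] at hyT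
      obtain ⟨z, rfl⟩ := hyT
      by_contra hz
      apply hyG
      have : π z ∈ π '' (π ⁻¹' (π '' C))ᶜ := ⟨z, hz, rfl⟩
      rw [hGe] at this
      exact this.1
  let S : Set (Set Z) := {C | IsClosed C ∧ π '' C = T₂}
  have huniv : Set.univ ∈ S := ⟨isClosed_univ, by rw [Set.image_univ, hrange]⟩
  obtain ⟨C₀, -, hmin⟩ := zorn_superset_nonempty S (fun c hcS hchain hcne => by
    refine ⟨⋂₀ c, ⟨isClosed_sInter fun s hs => (hcS hs).1, ?_⟩, fun s hs => Set.sInter_subset_of_mem hs⟩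
    obtain ⟨s₁, hs₁⟩ := hcne
    apply Set.Subset.antisymm
    · rw [← (hcS hs₁).2]
      exact Set.image_mono (Set.sInter_subset_of_mem hs₁)
    · intro y hy
      have hne : ∀ s ∈ c, (π ⁻¹' {y} ∩ s).Nonempty := by
        intro s hs
        rw [← (hcS hs).2] at hy
        obtain ⟨z, hz, rfl⟩ := hy
        exact ⟨z, rfl, hz⟩
      have hfin' : ∀ s : Set Z, (π ⁻¹' {y} ∩ s).Finite := fun s => (hfin y).subset Set.inter_subset_left
      let s₀ := Function.argminOn (fun s : Set Z => (π ⁻¹' {y} ∩ s).ncard) c ⟨s₁, hs₁⟩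
      have hs₀ : s₀ ∈ c := Function.argminOn_mem _ c ⟨s₁, hs₁⟩
      have hmin : ∀ s ∈ c, (π ⁻¹' {y} ∩ s₀).ncard ≤ (π ⁻¹' {y} ∩ s).ncard := fun s hs =>
        Function.argminOn_le (fun s : Set Z => (π ⁻¹' {y} ∩ s).ncard) c hs
      obtain ⟨z, hz1, hz2⟩ := hne s₀ hs₀
      refine ⟨z, ?_, hz1⟩
      intro s hs
      rcases hchain.total hs₀ hs with h | h
      · exact h hz2
      · have hsub : π ⁻¹' {y} ∩ s ⊆ π ⁻¹' {y} ∩ s₀ := Set.inter_subset_inter_right _ h
        have := Set.eq_of_subset_of_ncard_le hsub (hmin s hs) (hfin' s₀)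
        have hz : z ∈ π ⁻¹' {y} ∩ s := this ▸ ⟨hz1, hz2⟩
        exact hz.2) Set.univ huniv
  -- `C₀` is irreducible
  have hC₀ : C₀ ∈ S := hmin.prop
  have hne : C₀.Nonempty := by
    obtain ⟨y, hy⟩ := hT₂.nonempty
    rw [← hC₀.2] at hy
    obtain ⟨z, hz, -⟩ := hy
    exact ⟨z, hz⟩
  have hirr : IsPreirreducible C₀ := by
    rw [isPreirreducible_iff_isClosed_union_isClosed]
    intro z₁ z₂ hz₁ hz₂ hsub
    obtain ⟨K₁, hK₁, hK₁e⟩ := hcl (C₀ ∩ z₁) (hC₀.1.inter hz₁)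
    obtain ⟨K₂, hK₂, hK₂e⟩ := hcl (C₀ ∩ z₂) (hC₀.1.inter hz₂)
    have hcov : T₂ ⊆ K₁ ∪ K₂ := by
      intro y hy
      have hy' := hy
      rw [← hC₀.2] at hy'
      obtain ⟨z, hz, rfl⟩ := hy'
      rcases hsub hz with h | h
      · have : π z ∈ K₁ ∩ T₂ := hK₁e ▸ ⟨z, ⟨hz, h⟩, rfl⟩
        exact Or.inl this.1
      · have : π z ∈ K₂ ∩ T₂ := hK₂e ▸ ⟨z, ⟨hz, h⟩, rfl⟩
        exact Or.inr this.1
    rcases (isPreirreducible_iff_isClosed_union_isClosed.1 hT₂.isPreirreducible) K₁ K₂ hK₁ hK₂ hcov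
      with h | h
    · left
      have hS : C₀ ∩ z₁ ∈ S := ⟨hC₀.1.inter hz₁, by
        rw [hK₁e]; exact Set.inter_eq_right.2 h⟩
      exact (hmin.le_of_le hS Set.inter_subset_left).trans Set.inter_subset_right
    · right
      have hS : C₀ ∩ z₂ ∈ S := ⟨hC₀.1.inter hz₂, by
        rw [hK₂e]; exact Set.inter_eq_right.2 h⟩
      exact (hmin.le_of_le hS Set.inter_subset_left).trans Set.inter_subset_right
  obtain ⟨ξ, hξ⟩ := QuasiSober.sober ⟨hne, hirr⟩ hC₀.1
  refine ⟨ξ, ?_⟩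
  rw [← hC₀.2, ← hξ.def]
  exact (image_closure_subset_closure_image hπ).trans (by rw [Set.image_singleton])

end Groth.Agent.H52.SoberTop
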