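import Groth.Agent.H52.LiftsClosed
import Groth.Agent.H52.LiftsFinite
import Groth.Agent.H52.NestedOpens
import Groth.Agent.H52.SoberTop
import Groth.Agent.H52.Special
import Groth.Agent.H52.MonoPoint
import Groth.Agent.H52.Atlas
import Groth.Agent.H51.SpBasic
import Groth.Agent.H50.LocPClass

/-!
# The space of points of a decent algebraic space is quasi-sober
-/

set_option autoImplicit false
universe u
open CategoryTheory CategoryTheory.Limits AlgebraicGeometry Opposite

namespace Groth.Agent.H52.SoberSp

open AlgSp Lifts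

variable {S : Scheme.{u}}

/-- Some field valued point in the class `x` has `n` distinct lifts along the chart `a`. -/
def HasLiftsSp {X : Sp S} {U : Over S} (a : (yon S).obj U ⟶ X) (n : ℕ) (x : Points X) : Prop :=
  ∃ (p : FieldPt X) (τ : Fin n → (p.pt ⟶ U)), Points.mk p = x ∧
    (∀ i, (yon S).map (τ i) ≫ a = p.toHom) ∧ Function.Injective τ

/-- The point defined by a morphism from the spectrum of a field to a scheme followed by a
chart. -/
theorem mk_fieldPtOfHom_comp {X : Sp S} {Z : Over S} (c : (yon S).obj Z ⟶ X) {Ω : Type u} [Field Ω]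
    (w : Spec (CommRingCat.of Ω) ⟶ S) (l : Over.mk w ⟶ Z) :
    Points.mk (fieldPtOfHom w ((yon S).map l ≫ c)) =
      Points.ofPt c (l.left (IsLocalRing.closedPoint Ω)) := by
  rw [← H51.ofPt_map_comp, ← Points.ofPt_toHom (fieldPtOfHom w ((yon S).map l ≫ c))
    (IsLocalRing.closedPoint Ω), toHom_fieldPtOfHom]

theorem epi_over_of_fields {Ω₁ Ω : Type u} [Field Ω₁] [Field Ω]
    {w₁ : Spec (CommRingCat.of Ω₁) ⟶ S} {w : Spec (CommRingCat.of Ω) ⟶ S}
    (e : Over.mk w ⟶ Over.mk w₁) : Epi e := by
  have : Epi ((Over.forget S).map e) := epi_of_fields e.left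
  exact (Over.forget S).epi_of_epi_map this

section Translation

variable {X : Sp S} {U : Over S} (a : (yon S).obj U ⟶ X) (ha : RepWith @Etale a)
  {Z : Over S} (c : (yon S).obj Z ⟶ X)

/-- **Translation**: lifts along the base change of the chart. -/
theorem hasLifts_snd_iff (n : ℕ) (z : ↥Z.left) :
    HasLifts (ha.rep.snd c).left n z ↔ HasLiftsSp a n (Points.ofPt c z) := by
  have sq := ha.rep.isPullback' c
  constructor
  · rintro ⟨Ω, _, ω, σ, h1, h2, h3⟩
    let w : Spec (CommRingCat.of Ω) ⟶ S := ω ≫ Z.hom
    let ω' : Over.mk w ⟶ Z := Over.homMk ω rfl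
    have hσ : ∀ i, σ i ≫ (ha.rep.pullback c).hom = w := by
      intro i
      rw [← Over.w (ha.rep.snd c), ← Category.assoc, h2]
    let σ' : ∀ i, Over.mk w ⟶ ha.rep.pullback c := fun i => Over.homMk (σ i) (hσ i)
    have hσ' : ∀ i, σ' i ≫ ha.rep.snd c = ω' := fun i => Over.OverMorphism.ext (h2 i)
    refine ⟨fieldPtOfHom w ((yon S).map ω' ≫ c), fun i => σ' i ≫ ha.rep.fst' c, ?_, ?_, ?_⟩
    · rw [mk_fieldPtOfHom_comp]
      exact congrArg _ h1
    · intro i
      rw [toHom_fieldPtOfHom, Functor.map_comp, Category.assoc, sq.w, ← Category.assoc,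
        ← Functor.map_comp, hσ']
    · intro i j hij
      have : σ' i = σ' j := by
        apply (yon S).map_injective
        apply sq.hom_ext
        · rw [← Functor.map_comp, ← Functor.map_comp]; exact congrArg _ hij
        · rw [← Functor.map_comp, ← Functor.map_comp, hσ', hσ']
      exact h3 (congrArg (fun m => m.left) this)
  · rintro ⟨p, τ, h1, h2, h3⟩
    have hrel : FieldPt.Rel p (FieldPt.ofPt c z) := Points.mk_eq_mk_iff.1 h1
    rw [rel_iff_toHom] at hrel
    obtain ⟨Ω, _, w, a', b', hab⟩ := hrel
    have : Epi a' := epi_over_of_fields a'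
    let ω' : Over.mk w ⟶ Z := b' ≫ ofPtHom c z
    have hω' : (yon S).map a' ≫ p.toHom = (yon S).map ω' ≫ c := by
      rw [hab, toHom_ofPt', Functor.map_comp, Category.assoc]
    have hcomm : ∀ i, (yon S).map (a' ≫ τ i) ≫ a = (yon S).map ω' ≫ c := by
      intro i
      rw [Functor.map_comp, Category.assoc, h2, hω']
    choose σ' hσ' using fun i => (yon S).map_surjective (sq.lift _ _ (hcomm i))
    have hfst : ∀ i, σ' i ≫ ha.rep.fst' c = a' ≫ τ i := fun i =>
      (yon S).map_injective (by rw [Functor.map_comp, hσ', sq.lift_fst])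
    have hsnd : ∀ i, σ' i ≫ ha.rep.snd c = ω' := fun i =>
      (yon S).map_injective (by rw [Functor.map_comp, hσ', sq.lift_snd])
    refine ⟨Ω, inferInstance, ω'.left, fun i => (σ' i).left, ?_, ?_, ?_⟩
    · change (ofPtHom c z).left (b'.left _) = z
      exact ofPtHom_left_apply c z _
    · intro i
      exact congrArg (fun m => m.left) (hsnd i)
    · intro i j hij
      have : σ' i = σ' j := Over.OverMorphism.ext hij
      apply h3
      rw [← cancel_epi a', ← hfst, ← hfst, this]

/-- The base change of a chart with separated source is separated. -/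
theorem isSeparated_snd [IsSeparated U.hom] : IsSeparated (ha.rep.snd c).left := by
  have sq := ha.rep.isPullback' c
  let j : (ha.rep.pullback c).left ⟶ pullback Z.hom U.hom :=
    pullback.lift (ha.rep.snd c).left (ha.rep.fst' c).left
      ((Over.w (ha.rep.snd c)).trans (Over.w (ha.rep.fst' c)).symm)
  have hj1 : j ≫ pullback.fst Z.hom U.hom = (ha.rep.snd c).left := pullback.lift_fst _ _ _
  have hj2 : j ≫ pullback.snd Z.hom U.hom = (ha.rep.fst' c).left := pullback.lift_snd _ _ _
  have hmono : Mono j := by
    refine ⟨fun {W} α β hαβ => ?_⟩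
    have e1 : α ≫ (ha.rep.snd c).left = β ≫ (ha.rep.snd c).left := by
      have := congrArg (fun m => m ≫ pullback.fst Z.hom U.hom) hαβ
      simpa only [Category.assoc, hj1] using this
    have e2 : α ≫ (ha.rep.fst' c).left = β ≫ (ha.rep.fst' c).left := by
      have := congrArg (fun m => m ≫ pullback.snd Z.hom U.hom) hαβ
      simpa only [Category.assoc, hj2] using this
    have hβ : β ≫ (ha.rep.pullback c).hom = α ≫ (ha.rep.pullback c).hom := by
      rw [← Over.w (ha.rep.snd c), ← Category.assoc, ← e1, Category.assoc]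
    let α' : Over.mk (α ≫ (ha.rep.pullback c).hom) ⟶ ha.rep.pullback c := Over.homMk α rfl
    let β' : Over.mk (α ≫ (ha.rep.pullback c).hom) ⟶ ha.rep.pullback c := Over.homMk β hβ
    have : α' = β' := by
      apply (yon S).map_injective
      apply sq.hom_ext
      · rw [← Functor.map_comp, ← Functor.map_comp]
        exact congrArg _ (Over.OverMorphism.ext e2)
      · rw [← Functor.map_comp, ← Functor.map_comp]
        exact congrArg _ (Over.OverMorphism.ext e1)
    exact congrArg (fun m => m.left) this
  rw [← hj1]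
  infer_instance

end Translation


/-- A point with a quasi-compact representative has boundedly many lifts to a quasi-compact
étale chart. -/
theorem exists_not_hasLiftsSp {X : Sp S} {U : Over S} (a : (yon S).obj U ⟶ X)
    (ha : RepWith @Etale a) [CompactSpace ↥U.left] (q : FieldPt X)
    (hq : RepWith @QuasiCompact q.toHom) : ∃ N, ¬ HasLiftsSp a N (Points.mk q) := by
  have sq := ha.rep.isPullback' q.toHom
  let gF : (ha.rep.pullback q.toHom).left ⟶ Spec (CommRingCat.of q.K) := (ha.rep.snd q.toHom).left
  have he : Etale gF := ha.property_snd q.toHom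
  have hqc1 : QuasiCompact (ha.rep.fst' q.toHom).left := hq.property a _ _ sq.flip
  have hcpt : CompactSpace ↥(ha.rep.pullback q.toHom).left :=
    QuasiCompact.compactSpace_of_compactSpace (ha.rep.fst' q.toHom).left
  have hqc : QuasiCompact gF := (quasiCompact_iff_compactSpace gF).2 hcpt
  have hlqf : LocallyQuasiFinite gF := H50.locallyQuasiFinite_of_etale gF
  have hart : IsLocallyArtinian (Spec (CommRingCat.of q.K)) :=
    Scheme.isLocallyArtinianScheme_Spec.mpr inferInstance
  have hfin : IsFinite gF := IsFinite.of_locallyQuasiFinite gF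
  obtain ⟨N, hN⟩ := exists_not_hasLifts_of_isFinite gF
  refine ⟨N, fun h => ?_⟩
  rw [← Points.ofPt_toHom q (IsLocalRing.closedPoint q.K)] at h
  exact hN _ ((hasLifts_snd_iff a ha q.toHom N _).2 h)

end Groth.Agent.H52.SoberSp
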