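import Groth.Agent.H52.LocSepAlg
import Groth.Agent.H52.SoberSp
import Groth.Agent.H51.SpQc

/-!
# Locally separated algebraic spaces: bounded lifts along affine étale charts
-/

set_option autoImplicit false
universe u
open CategoryTheory CategoryTheory.Limits AlgebraicGeometry Opposite

namespace Groth.Agent.H52.LocSepBdd

open AlgSp Lifts SoberSp LocSepAlg

/-- A pullback square over `f ≫ i`, `g ≫ i` with `i` mono is a pullback square over `f`, `g`. -/
theorem isPullback_of_comp_mono {C : Type*} [Category C] {P X Y Z W : C} {fst : P ⟶ X}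
    {snd : P ⟶ Y} {f : X ⟶ Z} {g : Y ⟶ Z} (i : Z ⟶ W) [Mono i]
    (h : IsPullback fst snd (f ≫ i) (g ≫ i)) : IsPullback fst snd f g := by
  refine ⟨⟨by rw [← cancel_mono i, Category.assoc, Category.assoc, h.w]⟩,
    ⟨PullbackCone.IsLimit.mk _
      (fun c => h.lift c.fst c.snd (by rw [← Category.assoc, c.condition, Category.assoc]))
      (fun c => h.lift_fst _ _ _) (fun c => h.lift_snd _ _ _)
      (fun c m h1 h2 => h.hom_ext (by rw [h1, h.lift_fst]) (by rw [h2, h.lift_snd]))⟩⟩

variable {S : Scheme.{u}}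

/-- **Bounded lifts.** For a locally separated sheaf `X` and an étale chart `U ⟶ X` with `U` affine
mapping into an affine open of the base, the number of distinct lifts to `U` of a field valued
point of `X` is bounded independently of the point. -/
theorem exists_bound_hasLiftsSp {X : Sp S} (hX : IsLocallySeparatedSp X) {U R : Over S}
    [IsAffine U.left] (S' : S.Opens) (hS' : IsAffineOpen S') (hUS' : ∀ u, U.hom u ∈ S')
    (φ : (yon S).obj U ⟶ X) (hφ : RepWith @Etale φ) (s t : R ⟶ U)
    (sq : IsPullback ((yon S).map t) ((yon S).map s) φ φ) :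
    ∃ N, ∀ x, ¬ HasLiftsSp φ N x := by
  classical
  -- étaleness of the projections
  have het : Etale t.left := hφ.property φ _ _ sq.flip
  -- the diagonal section
  obtain ⟨d, hd⟩ := (yon S).map_surjective (sq.lift (𝟙 _) (𝟙 _) rfl)
  have hdt : d ≫ t = 𝟙 U := (yon S).map_injective (by
    rw [Functor.map_comp, hd, sq.lift_fst]; exact ((yon S).map_id U).symm)
  have hds : d ≫ s = 𝟙 U := (yon S).map_injective (by
    rw [Functor.map_comp, hd, sq.lift_snd]; exact ((yon S).map_id U).symm)
  have hdt' : d.left ≫ t.left = 𝟙 U.left := by rw [← Over.comp_left, hdt]; rfl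
  have hds' : d.left ≫ s.left = 𝟙 U.left := by rw [← Over.comp_left, hds]; rfl
  have hde : Etale d.left := by
    have : Etale (d.left ≫ t.left) := by rw [hdt']; infer_instance
    exact Etale.of_comp d.left t.left
  have hdm : Mono d.left := mono_of_mono_fac hdt'
  have hdo : IsOpenImmersion d.left := IsOpenImmersion.of_flat_of_mono d.left
  -- the immersion into the product
  have hj : IsImmersion (prod.lift t s).left := H51.prop_prod_lift_of_repWith_diag hX sq
  have hj1 : (prod.lift t s).left ≫ (prod.fst : U ⨯ U ⟶ U).left = t.left := by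
    rw [← Over.comp_left, prod.lift_fst]
  have hj2 : (prod.lift t s).left ≫ (prod.snd : U ⨯ U ⟶ U).left = s.left := by
    rw [← Over.comp_left, prod.lift_snd]
  have hpb : IsPullback (prod.fst : U ⨯ U ⟶ U).left (prod.snd : U ⨯ U ⟶ U).left U.hom U.hom :=
    Over.isPullback_of_binaryFan_isLimit (BinaryFan.mk prod.fst prod.snd) (prodIsProd U U)
  -- factor the structure morphism through the affine open `S'`
  have hrange : Set.range U.hom ⊆ Set.range S'.ι := by
    rw [Scheme.Opens.range_ι]
    rintro _ ⟨u, rfl⟩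
    exact hUS' u
  let f' : U.left ⟶ S'.toScheme := IsOpenImmersion.lift S'.ι U.hom hrange
  have hf' : f' ≫ S'.ι = U.hom := IsOpenImmersion.lift_fac _ _ _
  have hpb' : IsPullback (prod.fst : U ⨯ U ⟶ U).left (prod.snd : U ⨯ U ⟶ U).left f' f' := by
    apply isPullback_of_comp_mono S'.ι
    rw [hf']
    exact hpb
  have hS'aff : IsAffine S'.toScheme := hS'
  have hPaff : IsAffine (U ⨯ U).left := IsAffine.of_isPullback hpb'
  -- the closed sets
  have hDo : IsOpen (Set.range d.left) := d.left.isOpenEmbedding.isOpen_range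
  have hΔ1 : (d.left ≫ (prod.lift t s).left) ≫ (prod.fst : U ⨯ U ⟶ U).left = 𝟙 _ := by
    rw [Category.assoc, hj1, hdt']
  have hΔc : IsClosedImmersion (d.left ≫ (prod.lift t s).left) := by
    have : IsClosedImmersion ((d.left ≫ (prod.lift t s).left) ≫
        (prod.fst : U ⨯ U ⟶ U).left) := by rw [hΔ1]; infer_instance
    exact IsClosedImmersion.of_comp _ (prod.fst : U ⨯ U ⟶ U).left
  have hZc : IsClosed (Set.range (d.left ≫ (prod.lift t s).left)) :=
    (d.left ≫ (prod.lift t s).left).isClosedEmbedding.isClosed_range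
  have hdisj : closure ((prod.lift t s).left '' (Set.range d.left)ᶜ) ∩
      Set.range (d.left ≫ (prod.lift t s).left) = ∅ := by
    have hind : Topology.IsInducing (prod.lift t s).left :=
      (prod.lift t s).left.isEmbedding.isInducing
    rw [Set.eq_empty_iff_forall_notMem]
    rintro y ⟨hyT, u, rfl⟩
    have h1 : d.left u ∈ closure (Set.range d.left)ᶜ := by
      rw [hind.closure_eq_preimage_closure_image]
      exact hyT
    rw [hDo.isClosed_compl.closure_eq] at h1
    exact h1 ⟨u, rfl⟩
  obtain ⟨I, hI⟩ := (Scheme.eq_zeroLocus_of_isClosed_of_isAffine (U ⨯ U).left _).1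
    (isClosed_closure (s := (prod.lift t s).left '' (Set.range d.left)ᶜ))
  obtain ⟨J, hJ⟩ := (Scheme.eq_zeroLocus_of_isClosed_of_isAffine (U ⨯ U).left _).1 hZc
  have hIJ : I ⊔ J = ⊤ := by
    rw [← PrimeSpectrum.zeroLocus_empty_iff_eq_top, PrimeSpectrum.zeroLocus_sup,
      Set.eq_empty_iff_forall_notMem]
    rintro 𝔭 ⟨h𝔭I, h𝔭J⟩
    obtain ⟨y, rfl⟩ := (U ⨯ U).left.toSpecΓ.surjective 𝔭
    have hyI : y ∈ (U ⨯ U).left.zeroLocus (U := ⊤) (I : Set _) := by
      rw [← Scheme.toSpecΓ_preimage_zeroLocus]; exact h𝔭I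
    have hyJ : y ∈ (U ⨯ U).left.zeroLocus (U := ⊤) (J : Set _) := by
      rw [← Scheme.toSpecΓ_preimage_zeroLocus]; exact h𝔭J
    rw [← hI] at hyI
    rw [← hJ] at hyJ
    exact (Set.eq_empty_iff_forall_notMem.1 hdisj y) ⟨hyI, hyJ⟩
  obtain ⟨z, hz, w, hw, hzw⟩ := Submodule.mem_sup.1
    (hIJ ▸ Submodule.mem_top : (1 : Γ((U ⨯ U).left, ⊤)) ∈ I ⊔ J)
  obtain ⟨σ, hσ⟩ := exists_sum_of_isPullback hpb' z
  refine ⟨σ.card + 1, ?_⟩
  rintro x ⟨p', τ, -, h2, h3⟩
  -- the pairs of lifts, as points of the relation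
  have hex : ∀ nm : Fin (σ.card + 1) × Fin (σ.card + 1), ∃ ρ : p'.pt ⟶ R,
      ρ ≫ t = τ nm.1 ∧ ρ ≫ s = τ nm.2 := by
    intro nm
    obtain ⟨ρ, hρ⟩ := (yon S).map_surjective (sq.lift ((yon S).map (τ nm.1))
      ((yon S).map (τ nm.2)) (by rw [h2, h2]))
    exact ⟨ρ, (yon S).map_injective (by rw [Functor.map_comp, hρ, sq.lift_fst]),
      (yon S).map_injective (by rw [Functor.map_comp, hρ, sq.lift_snd])⟩
  choose ρ hρt hρs using hex
  -- evaluation at the pair `(n, m)`
  let e := (Scheme.ΓSpecIso (CommRingCat.of p'.K)).hom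
  have hcomp1 : ∀ n m (a : Γ(U.left, ⊤)),
      ((ρ (n, m)).left ≫ (prod.lift t s).left).appTop
        ((prod.fst : U ⨯ U ⟶ U).left.appTop a) = (τ n).left.appTop a := by
    intro n m a
    have : ((ρ (n, m)).left ≫ (prod.lift t s).left) ≫ (prod.fst : U ⨯ U ⟶ U).left =
        (τ n).left := by
      rw [Category.assoc, hj1, ← Over.comp_left, hρt]
    rw [← this, Scheme.Hom.comp_appTop]
    rfl
  have hcomp2 : ∀ n m (b : Γ(U.left, ⊤)),
      ((ρ (n, m)).left ≫ (prod.lift t s).left).appTop
        ((prod.snd : U ⨯ U ⟶ U).left.appTop b) = (τ m).left.appTop b := by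
    intro n m b
    have : ((ρ (n, m)).left ≫ (prod.lift t s).left) ≫ (prod.snd : U ⨯ U ⟶ U).left =
        (τ m).left := by
      rw [Category.assoc, hj2, ← Over.comp_left, hρs]
    rw [← this, Scheme.Hom.comp_appTop]
    rfl
  have hsum : ∀ n m, e (((ρ (n, m)).left ≫ (prod.lift t s).left).appTop z) =
      ∑ i : σ, e ((τ n).left.appTop i.1.1) * e ((τ m).left.appTop i.1.2) := by
    intro n m
    rw [hσ, map_sum, map_sum, ← Finset.sum_coe_sort]
    refine Finset.sum_congr rfl fun i _ => ?_
    rw [map_mul, map_mul, hcomp1, hcomp2]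
  -- off-diagonal values vanish
  have hoff : ∀ n m, n ≠ m → ((ρ (n, m)).left ≫ (prod.lift t s).left).appTop z = 0 := by
    intro n m hnm
    apply appTop_eq_zero_of_not_mem_basicOpen
    have hnotD : (ρ (n, m)).left (IsLocalRing.closedPoint p'.K) ∉ Set.range d.left := by
      intro hmem
      apply hnm
      apply h3
      have hr : Set.range (ρ (n, m)).left ⊆ Set.range d.left := by
        rintro _ ⟨y, rfl⟩
        have : y = IsLocalRing.closedPoint p'.K := Subsingleton.elim _ _
        rw [this]; exact hmem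
      have hl : IsOpenImmersion.lift d.left (ρ (n, m)).left hr ≫ d.left = (ρ (n, m)).left :=
        IsOpenImmersion.lift_fac _ _ _
      apply Over.OverMorphism.ext
      have e1 : (τ n).left = (ρ (n, m)).left ≫ t.left := by rw [← Over.comp_left, hρt]
      have e2 : (τ m).left = (ρ (n, m)).left ≫ s.left := by rw [← Over.comp_left, hρs]
      rw [e1, e2, ← hl, Category.assoc, Category.assoc, hdt', hds']
    have hmemT : ((ρ (n, m)).left ≫ (prod.lift t s).left) (IsLocalRing.closedPoint p'.K) ∈
        closure ((prod.lift t s).left '' (Set.range d.left)ᶜ) :=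
      subset_closure ⟨_, hnotD, rfl⟩
    rw [hI] at hmemT
    exact (Scheme.mem_zeroLocus_iff _ _ _).1 hmemT z hz
  -- diagonal values are one
  have hdiag : ∀ n, ((ρ (n, n)).left ≫ (prod.lift t s).left).appTop z = 1 := by
    intro n
    have hρd : ρ (n, n) = τ n ≫ d := by
      apply (yon S).map_injective
      apply sq.hom_ext
      · rw [← Functor.map_comp, ← Functor.map_comp, hρt, Category.assoc, hdt, Category.comp_id]
      · rw [← Functor.map_comp, ← Functor.map_comp, hρs, Category.assoc, hds, Category.comp_id]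
    have hw0 : ((ρ (n, n)).left ≫ (prod.lift t s).left).appTop w = 0 := by
      apply appTop_eq_zero_of_not_mem_basicOpen
      have hmemZ : ((ρ (n, n)).left ≫ (prod.lift t s).left) (IsLocalRing.closedPoint p'.K) ∈
          Set.range (d.left ≫ (prod.lift t s).left) := by
        refine ⟨(τ n).left (IsLocalRing.closedPoint p'.K), ?_⟩
        rw [hρd, Over.comp_left, Category.assoc]
        rfl
      rw [hJ] at hmemZ
      exact (Scheme.mem_zeroLocus_iff _ _ _).1 hmemZ w hw
    have : z = 1 - w := eq_sub_of_add_eq hzw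
    rw [this, map_sub, map_one, hw0, sub_zero]
  -- linear algebra
  have hle := card_le_of_dual_family (Ω := p'.K) (ι := Fin (σ.card + 1)) (κ := σ)
    (fun n i => e ((τ n).left.appTop i.1.1)) (fun m i => e ((τ m).left.appTop i.1.2))
    (fun n m hnm => by rw [← hsum, hoff n m hnm, map_zero])
    (fun n => by rw [← hsum, hdiag n, map_one])
  rw [Fintype.card_fin, Fintype.card_coe] at hle
  omega

end Groth.Agent.H52.LocSepBdd
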