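import Groth.Agent.H52.LocSepBdd
import Groth.Agent.H52.ChartFinite

/-!
# Locally separated algebraic spaces are decent
-/

set_option autoImplicit false
universe u
open CategoryTheory CategoryTheory.Limits AlgebraicGeometry Opposite

namespace Groth.Agent.H52.LocSepFin

open AlgSp Lifts SoberSp LocSepBdd

/-- Finitely many points in a fibre are the images of lifts of one field valued point. -/
theorem exists_lifts_of_points {P Q : Scheme.{u}} (g : P ⟶ Q) (q : Q) :
    ∀ (n : ℕ) (f : Fin n → P), (∀ i, g (f i) = q) →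
      ∃ (Ω : Type u) (_ : Field Ω) (ω : Spec (CommRingCat.of Ω) ⟶ Q)
        (σ : Fin n → (Spec (CommRingCat.of Ω) ⟶ P)),
        ω (IsLocalRing.closedPoint Ω) = q ∧ (∀ i, σ i ≫ g = ω) ∧
          ∀ i, σ i (IsLocalRing.closedPoint Ω) = f i := by
  intro n
  induction n with
  | zero =>
    intro f _
    exact ⟨Q.residueField q, inferInstance, Q.fromSpecResidueField q, Fin.elim0,
      Scheme.fromSpecResidueField_apply _ _, fun i => i.elim0, fun i => i.elim0⟩
  | succ n ih =>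
    intro f hf
    obtain ⟨Ω₀, _, ω₀, σ₀, h1, h2, h3⟩ := ih (fun i => f i.castSucc) (fun i => hf _)
    let ι₁ : Spec (CommRingCat.of (P.residueField (f (Fin.last n)))) ⟶ P :=
      P.fromSpecResidueField (f (Fin.last n))
    have hι₁ : ι₁ (IsLocalRing.closedPoint (P.residueField (f (Fin.last n)))) = f (Fin.last n) :=
      Scheme.fromSpecResidueField_apply _ _
    have hω₁ : (ι₁ ≫ g) (IsLocalRing.closedPoint (P.residueField (f (Fin.last n)))) = q := by
      rw [Scheme.Hom.comp_apply, hι₁, hf]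
    obtain ⟨Ω, _, e₀, e₁, he⟩ := exists_common_field ω₀ (ι₁ ≫ g) (h1.trans hω₁.symm)
    let σ : Fin (n + 1) → (Spec (CommRingCat.of Ω) ⟶ P) := fun i =>
      Fin.lastCases (motive := fun _ => Spec (CommRingCat.of Ω) ⟶ P) (e₁ ≫ ι₁)
        (fun i => e₀ ≫ σ₀ i) i
    have hσl : σ (Fin.last n) = e₁ ≫ ι₁ := Fin.lastCases_last
    have hσc : ∀ i : Fin n, σ i.castSucc = e₀ ≫ σ₀ i := fun i => Fin.lastCases_castSucc i
    refine ⟨Ω, inferInstance, e₀ ≫ ω₀, σ, ?_, ?_, ?_⟩
    · rw [Scheme.Hom.comp_apply, eq_closedPoint (e₀ _), h1]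
    · intro i
      refine Fin.lastCases ?_ (fun i => ?_) i
      · rw [hσl, Category.assoc]
        exact he.symm
      · rw [hσc, Category.assoc, h2]
    · intro i
      refine Fin.lastCases ?_ (fun i => ?_) i
      · rw [hσl, Scheme.Hom.comp_apply, eq_closedPoint (e₁ _)]
        exact hι₁
      · rw [hσc, Scheme.Hom.comp_apply, eq_closedPoint (e₀ _), h3]

/-- Distinct points of a fibre give distinct lifts of a field valued point. -/
theorem hasLifts_of_injective {P Q : Scheme.{u}} (g : P ⟶ Q) (q : Q) (n : ℕ) (f : Fin n → P)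
    (hf : ∀ i, g (f i) = q) (hinj : Function.Injective f) : HasLifts g n q := by
  obtain ⟨Ω, _, ω, σ, h1, h2, h3⟩ := exists_lifts_of_points g q n f hf
  refine ⟨Ω, inferInstance, ω, σ, h1, h2, fun i j hij => hinj ?_⟩
  rw [← h3 i, ← h3 j, hij]

/-- A bound on the number of lifts of field valued points bounds the fibre. -/
theorem finite_fibre_of_not_hasLifts {P Q : Scheme.{u}} (g : P ⟶ Q) (n : ℕ) (q : Q)
    (h : ¬ HasLifts g n q) : (g ⁻¹' {q}).Finite := by
  by_contra hinf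
  have hinf' : (g ⁻¹' {q}).Infinite := hinf
  let emb := hinf'.natEmbedding
  refine h (hasLifts_of_injective g q n (fun i => (emb i).1) (fun i => (emb i).2) ?_)
  intro i j hij
  have := emb.injective (Subtype.ext hij)
  exact Fin.ext this

variable {S : Scheme.{u}}

/-- A bound on the number of lifts of field valued points to an étale chart bounds the fibres
of the chart on points. -/
theorem finite_fibre_of_not_hasLiftsSp {X : Sp S} {V : Over S} (ψ : (yon S).obj V ⟶ X)
    (hψ : RepWith @Etale ψ) (N : ℕ) (x : Points X) (h : ¬ HasLiftsSp ψ N x) :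
    (Points.ofPt ψ ⁻¹' {x}).Finite := by
  obtain ⟨c, rfl⟩ := Points.mk_surjective x
  have sq := hψ.rep.isPullback' c.toHom
  have hfin : ((hψ.rep.snd c.toHom).left ⁻¹' {IsLocalRing.closedPoint c.K}).Finite := by
    refine finite_fibre_of_not_hasLifts _ N _ (fun hl => h ?_)
    have := (hasLifts_snd_iff ψ hψ c.toHom N (IsLocalRing.closedPoint c.K)).1 hl
    rwa [Points.ofPt_toHom] at this
  refine (hfin.image (hψ.rep.fst' c.toHom).left).subset ?_
  intro v hv
  have hv' : Points.ofPt ψ v = Points.ofPt c.toHom (IsLocalRing.closedPoint c.K) :=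
    (Set.mem_singleton_iff.1 hv).trans (Points.ofPt_toHom c (IsLocalRing.closedPoint c.K)).symm
  obtain ⟨w, hw1, hw2⟩ := (ofPt_eq_iff_of_isPullback sq v (IsLocalRing.closedPoint c.K)).1 hv'
  exact ⟨w, hw2, hw1⟩

/-- Every point of a scheme over `S` has an affine open neighbourhood mapping into an affine
open of `S`. -/
theorem exists_affine_nhd_over_affine (V : Over S) (v : ↥V.left) :
    ∃ W : V.left.Opens, IsAffineOpen W ∧ v ∈ W ∧
      ∃ S' : S.Opens, IsAffineOpen S' ∧ ∀ w ∈ W, V.hom w ∈ S' := by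
  obtain ⟨_, ⟨S', hS', rfl⟩, hvS', -⟩ :=
    S.isBasis_affineOpens.exists_subset_of_mem_open (Set.mem_univ (V.hom v)) isOpen_univ
  obtain ⟨_, ⟨W, hW, rfl⟩, hvW, hWS'⟩ :=
    V.left.isBasis_affineOpens.exists_subset_of_mem_open
      (show v ∈ ((V.hom ⁻¹ᵁ S' : V.left.Opens) : Set ↥V.left) from hvS') (V.hom ⁻¹ᵁ S').isOpen
  exact ⟨W, hW, hvW, S', hS', fun w hw => hWS' hw⟩

/-- Étale charts from affine schemes to a locally separated sheaf have finite fibres. -/
theorem finite_fibre_of_isLocallySeparatedSp {X : Sp S} (hX : IsLocallySeparatedSp X)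
    {V : Over S} (ψ : (yon S).obj V ⟶ X) [CompactSpace ↥V.left] (hψ : RepWith @Etale ψ)
    (x : Points X) : (Points.ofPt ψ ⁻¹' {x}).Finite := by
  choose W hW hvW S' hS' hWS' using exists_affine_nhd_over_affine V
  obtain ⟨F, hF⟩ := isCompact_univ.elim_finite_subcover (fun v => (W v : Set ↥V.left))
    (fun v => (W v).isOpen) (fun v _ => Set.mem_iUnion.2 ⟨v, hvW v⟩)
  have hsub : Points.ofPt ψ ⁻¹' {x} ⊆ ⋃ v ∈ F, (W v).ι ''
      (Points.ofPt ((yon S).map (openIncl V (W v)) ≫ ψ) ⁻¹' {x}) := by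
    intro v hv
    obtain ⟨v', hv'F, hvv'⟩ := Set.mem_iUnion₂.1 (hF (Set.mem_univ v))
    refine Set.mem_iUnion₂.2 ⟨v', hv'F, ⟨v, hvv'⟩, ?_, rfl⟩
    change Points.ofPt ((yon S).map (openIncl V (W v')) ≫ ψ) ⟨v, hvv'⟩ = x
    rw [ofPt_yon_map_comp]
    exact hv
  refine (Set.Finite.biUnion F.finite_toSet fun v _ => Set.Finite.image _ ?_).subset hsub
  have haff : IsAffine (Over.mk ((W v).ι ≫ V.hom)).left := hW v
  have hψ' := repWith_etale_restrict ψ hψ (W v)
  obtain ⟨N, hN⟩ := exists_bound_hasLiftsSp hX (S' v) (hS' v)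
    (U := Over.mk ((W v).ι ≫ V.hom)) (fun w => hWS' v w.1 w.2)
    ((yon S).map (openIncl V (W v)) ≫ ψ) hψ' (hψ'.rep.snd _) (hψ'.rep.fst' _)
    (hψ'.rep.isPullback' _)
  exact finite_fibre_of_not_hasLiftsSp _ hψ' N x (hN x)

/-- **S10378.** A locally separated algebraic space is decent. -/
theorem s10378 (X : AlgSp.Space S) (hX : IsLocallySeparatedSp X.obj) : IsDecent X.obj := by
  intro x
  obtain ⟨V₀, b, hb, hbs⟩ := X.property.atlas
  obtain ⟨v₀, hv₀⟩ := H51.surjective_ofPt_of_surjective b hbs x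
  obtain ⟨W, hW, hvW, S', hS', hWS'⟩ := exists_affine_nhd_over_affine V₀ v₀
  have haff : IsAffine (Over.mk (W.ι ≫ V₀.hom)).left := hW
  have hφ := repWith_etale_restrict b hb W
  have hu : Points.ofPt ((yon S).map (openIncl V₀ W) ≫ b) ⟨v₀, hvW⟩ = x := by
    rw [ofPt_yon_map_comp]
    exact hv₀
  have sq := hφ.rep.isPullback' ((yon S).map (openIncl V₀ W) ≫ b)
  obtain ⟨N, hN⟩ := exists_bound_hasLiftsSp hX S' hS'
    (U := Over.mk (W.ι ≫ V₀.hom)) (fun w => hWS' w.1 w.2)
    ((yon S).map (openIncl V₀ W) ≫ b) hφ (hφ.rep.snd _) (hφ.rep.fst' _) sq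
  have hfinR : {r : ↥(hφ.rep.pullback ((yon S).map (openIncl V₀ W) ≫ b)).left |
      (hφ.rep.fst' ((yon S).map (openIncl V₀ W) ≫ b)).left r = ⟨v₀, hvW⟩ ∧
      (hφ.rep.snd ((yon S).map (openIncl V₀ W) ≫ b)).left r = ⟨v₀, hvW⟩}.Finite := by
    refine (finite_fibre_of_not_hasLifts
      (hφ.rep.snd ((yon S).map (openIncl V₀ W) ≫ b)).left N ⟨v₀, hvW⟩
      (fun hl => hN _ ((hasLifts_snd_iff _ hφ _ N _).1 hl))).subset ?_
    intro r hr
    exact hr.2
  obtain ⟨p, c, -, hm, -, hp⟩ := exists_mono_point_of_chart X.property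
    ((yon S).map (openIncl V₀ W) ≫ b) hφ ⟨v₀, hvW⟩ (hφ.rep.snd _) (hφ.rep.fst' _) sq hfinR
  refine ⟨p, hp.trans hu, hm, repWith_quasiCompact_of_finite_fibres X.property p hm ?_⟩
  intro V ψ hV hψ
  have : IsAffine V.left := hV
  exact finite_fibre_of_isLocallySeparatedSp hX ψ hψ _

end Groth.Agent.H52.LocSepFin
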