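import Groth.Agent.H53.ZMT.FinEtQuot
import Groth.Agent.H51.SpGlue2
import Groth.Agent.H51.SpOpen
import Groth.Agent.H50.LqfDiscrete
import Groth.Agent.H52.GeomConn

/-!
# Algebraic spaces locally quasi-finite over a field are schemes
-/

set_option autoImplicit false
universe u
open CategoryTheory CategoryTheory.Limits AlgebraicGeometry Opposite

namespace Groth.Agent.H52.LqfField

open AlgSp Groth.Agent.H50 Groth.Agent.H51 Groth.Agent.H53.ZMT

variable {S : Scheme.{u}}

/-- Variant of `H53.ZMT.exists_affine_quot`: only finiteness of the projections of the kernel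
pair of the chart is needed. -/
theorem exists_affine_quot_of_finite {F : Sp S} {V : Over S} (hV : IsAffine V.left)
    (q : (yon S).obj V ⟶ F) (hqe : RepWith @Etale q) (hqs : RepWith @Surjective q)
    (hfin : ∀ (R : Over S) (s t : R ⟶ V),
      IsPullback ((yon S).map t) ((yon S).map s) q q → IsFinite s.left) :
    ∃ (M : Over S) (e : (yon S).obj M ≅ F) (π : V ⟶ M), IsAffine M.left ∧
      (yon S).map π ≫ e.hom = q ∧ IsFinite π.left := by
  have hrep : Representable q := hqe.rep
  have sq := hrep.isPullback q
  obtain ⟨t, ht⟩ := (yon S).map_surjective (hrep.fst q)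
  set s := hrep.snd q with hs
  rw [← ht] at sq
  have heq : IsEtaleEqvRel s t := isEtaleEqvRel_of_isPullback s t q hqe sq
  have hsfin : IsFinite s.left := hfin _ s t sq
  have htfin : IsFinite t.left := hfin _ t s sq.flip
  have hset : Etale s.left := heq.etale_left
  have htet : Etale t.left := heq.etale_right
  have hRaff : IsAffine (hrep.pullback q).left := isAffine_of_isAffineHom s.left
  let G := grpdOfEqv s t heq.toIsEqvRel
  have i1 : IsAffine G.U := hV
  have i2 : IsAffine G.R := hRaff
  have i3 : IsFinite G.s := hsfin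
  have i4 : Flat G.s := (inferInstance : Flat s.left)
  have i5 : LocallyOfFinitePresentation G.s := (inferInstance : LocallyOfFinitePresentation s.left)
  have i6 : IsFinite G.t := htfin
  have i7 : Flat G.t := (inferInstance : Flat t.left)
  have i8 : LocallyOfFinitePresentation G.t := (inferInstance : LocallyOfFinitePresentation t.left)
  have i9 : Mono G.j := mono_j_grpdOfEqv heq.toIsEqvRel
  obtain ⟨m, ⟨hm, -⟩, -⟩ := Groth.Agent.S7488.result S G
  let M : Over S := Over.mk m
  let π : V ⟶ M := Over.homMk G.toQuot hm
  have hpb : IsPullback t.left s.left π.left π.left := Groth.Agent.H40.FG.isPullback_ts G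
  have hpbO : IsPullback t s π π := by
    refine IsPullback.of_map (Over.forget S) ?_ hpb
    ext1
    exact hpb.w
  have sqM : IsPullback ((yon S).map t) ((yon S).map s) ((yon S).map π) ((yon S).map π) :=
    hpbO.map (yon S)
  have hπfl : Flat π.left := Groth.Agent.H40.FG.toQuot_flat G
  have hπlfp : LocallyOfFinitePresentation π.left :=
    Groth.Agent.H40.FG.toQuot_locallyOfFinitePresentation G
  have hπsurj : Surjective π.left := ⟨Groth.Agent.H40.FG.toQuot_surjective G⟩
  have hπfin : IsFinite π.left := Groth.Agent.H40.FG.toQuot_isFinite G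
  have hπls : Sheaf.IsLocallySurjective ((yon S).map π) := isLocallySurjective_yon_map_of_fppf π
  have hπepi : Epi ((yon S).map π) := (Sheaf.isLocallySurjective_iff_epi _).1 hπls
  have hqls : Sheaf.IsLocallySurjective q :=
    Groth.Agent.H53.isLocallySurjective_of_repWith q
      (Groth.Agent.H51.repWith_mono etale_le_flat hqe)
      (Groth.Agent.H51.repWith_mono etale_le_lfp hqe) hqs
  have hqepi : Epi q := (Sheaf.isLocallySurjective_iff_epi _).1 hqls
  obtain ⟨d, hd⟩ := exists_iso_of_kernelPair_eq ((yon S).map π) q sqM sq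
  exact ⟨M, d, π, (inferInstance : IsAffine (Spec (CommRingCat.of G.invariants))), hd, hπfin⟩

/-- A quasi-compact scheme locally quasi-finite over a field is finite over it. -/
theorem isFinite_of_lqf_field (k : Type u) [Field k] {W : Scheme.{u}} [CompactSpace ↥W]
    (f : W ⟶ Spec (CommRingCat.of k)) [LocallyQuasiFinite f] : IsFinite f := by
  have : IsLocallyArtinian (Spec (CommRingCat.of k)) :=
    Scheme.isLocallyArtinianScheme_Spec.2 (inferInstanceAs (IsArtinianRing k))
  exact IsFinite.of_locallyQuasiFinite f

theorem finite_of_isFinite_field (k : Type u) [Field k] {W : Scheme.{u}}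
    (f : W ⟶ Spec (CommRingCat.of k)) [IsFinite f] : Finite ↥W := by
  have h := f.finite_preimage_singleton (IsLocalRing.closedPoint k)
  refine Set.finite_univ_iff.1 (h.subset ?_)
  intro w _
  exact Subsingleton.elim _ _

/-- Over a field: the projections of the kernel pair of an etale chart from an affine scheme
locally quasi-finite over the field are finite. -/
theorem isFinite_kernelPair_field (k : Type u) [Field k] {F : Sp (Spec (CommRingCat.of k))}
    {V R : Over (Spec (CommRingCat.of k))} [IsAffine V.left] [LocallyQuasiFinite V.hom]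
    (q : (yon _).obj V ⟶ F) (hqe : RepWith @Etale q) (s t : R ⟶ V)
    (sq : IsPullback ((yon _).map t) ((yon _).map s) q q) : IsFinite s.left := by
  have hVfin : IsFinite V.hom := isFinite_of_lqf_field k V.hom
  have hse : Etale s.left := hqe.property q _ s sq
  let δ : R.left ⟶ pullback V.hom V.hom := pullback.lift t.left s.left (by rw [Over.w, Over.w])
  have hδ : Mono δ := by
    constructor
    intro T r r' h
    have h1 : r ≫ t.left = r' ≫ t.left := by
      have e : δ ≫ pullback.fst _ _ = t.left := pullback.lift_fst _ _ _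
      rw [← e, ← Category.assoc, h, Category.assoc]
    have h2 : r ≫ s.left = r' ≫ s.left := by
      have e : δ ≫ pullback.snd _ _ = s.left := pullback.lift_snd _ _ _
      rw [← e, ← Category.assoc, h, Category.assoc]
    let T' : Over (Spec (CommRingCat.of k)) := Over.mk (r ≫ R.hom)
    let ρ : T' ⟶ R := Over.homMk r rfl
    let ρ' : T' ⟶ R := Over.homMk r' (by
      change r' ≫ R.hom = r ≫ R.hom
      rw [← Over.w t, ← Category.assoc, ← h1, Category.assoc])
    have : ρ = ρ' := by
      apply (yon _).map_injective
      apply sq.hom_ext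
      · rw [← Functor.map_comp, ← Functor.map_comp]
        congr 1
        ext
        exact h1
      · rw [← Functor.map_comp, ← Functor.map_comp]
        congr 1
        ext
        exact h2
    exact congrArg (fun x => x.left) this
  have hPfin : IsFinite (pullback.fst V.hom V.hom ≫ V.hom) := inferInstance
  have hP : Finite ↥(pullback V.hom V.hom) :=
    finite_of_isFinite_field k (pullback.fst V.hom V.hom ≫ V.hom)
  have hR : Finite ↥R.left := Finite.of_injective _ δ.injective
  have : CompactSpace ↥R.left := inferInstance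
  have : IsLocallyArtinian (Spec (CommRingCat.of k)) :=
    Scheme.isLocallyArtinianScheme_Spec.2 (inferInstanceAs (IsArtinianRing k))
  have : IsLocallyArtinian V.left := IsLocallyArtinian.of_locallyQuasiFinite V.hom
  have : LocallyQuasiFinite s.left := locallyQuasiFinite_of_etale s.left
  exact IsFinite.of_locallyQuasiFinite s.left

/-- The structure morphism of an etale chart of a space lqf over `Spec k` is lqf. -/
theorem lqf_hom_of_chart (k : Type u) [Field k] {X : Sp (Spec (CommRingCat.of k))}
    (p : X ⟶ (yon (Spec (CommRingCat.of k))).obj (Over.mk (𝟙 _)))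
    (hp : LocP (@LocallyQuasiFinite ⊓ @LocallyOfFiniteType : MorphismProperty Scheme.{u}) p)
    {U : Over (Spec (CommRingCat.of k))} (a : (yon _).obj U ⟶ X) (ha : RepWith @Etale a) :
    (@LocallyQuasiFinite ⊓ @LocallyOfFiniteType : MorphismProperty Scheme.{u}) U.hom :=
  hp a (𝟙 _) (Over.homMk U.hom : U ⟶ Over.mk (𝟙 _)) ha (repWith_id _ _)
    ((GeomConn.isTerminalYon _).hom_ext _ _)

/-- An algebraic space locally quasi-finite over a field is a scheme. -/
theorem exists_iso_yon_of_lqf_field (k : Type u) [Field k] {X : Sp (Spec (CommRingCat.of k))}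
    (hX : IsAlgSpace X) (p : X ⟶ (yon (Spec (CommRingCat.of k))).obj (Over.mk (𝟙 _)))
    (hp : LocP (@LocallyQuasiFinite ⊓ @LocallyOfFiniteType : MorphismProperty Scheme.{u}) p) :
    ∃ G : Over (Spec (CommRingCat.of k)), Nonempty ((yon _).obj G ≅ X) := by
  obtain ⟨U, a, ha, has⟩ := hX.atlas
  have hU := lqf_hom_of_chart k p hp a ha
  refine exists_iso_yon_of_forall_point a has ?_
  intro u
  have hb : ∀ {W : TopologicalSpace.Opens ↥U.left} {x : ↥U.left}, x ∈ W →
      ∃ U' ∈ U.left.affineOpens, x ∈ U' ∧ U' ≤ W :=
    TopologicalSpace.Opens.isBasis_iff_nbhd.1 (Scheme.isBasis_affineOpens U.left)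
  obtain ⟨V, hV, huV, -⟩ := @hb ⊤ u trivial
  let q := (yon _).map (overOpenι U V) ≫ a
  have hq : RepWith @Etale q := repWith_etale_restrict a ha V
  have hW : IsOpen (Set.range (Points.ofPt q)) := (isOpenMap_ofPt_of_etale q hq).isOpen_range
  obtain ⟨F', j, hF', hj, hrange⟩ := exists_open_subspace hX _ hW
  obtain ⟨a', ha'j, ha'e, ha's, -⟩ := isPresentation_of_open_image q hq j hj hrange
  have hVa : IsAffine (overOpen U V).left := hV
  have hVq : LocallyQuasiFinite (overOpen U V).hom := by
    change LocallyQuasiFinite (V.ι ≫ U.hom)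
    have := hU.1
    infer_instance
  obtain ⟨M, e, π, -, hπ, -⟩ := exists_affine_quot_of_finite hVa a' ha'e ha's
    (fun R s t sq => isFinite_kernelPair_field k a' ha'e s t sq)
  refine ⟨M, e.hom ≫ j, MorphismProperty.RespectsIso.precomp _ e.hom j hj, ?_⟩
  refine ⟨Points.ofPt ((yon _).map π) ⟨u, huV⟩, ?_⟩
  rw [Points.map_ofPt, ← Category.assoc, hπ, ha'j]
  exact ofPt_restrict a V ⟨u, huV⟩

theorem isLocalRing_of_subsingleton_primeSpectrum (R : Type*) [CommRing R]
    [Subsingleton (PrimeSpectrum R)] [Nonempty (PrimeSpectrum R)] : IsLocalRing R := by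
  have : Nontrivial R := (PrimeSpectrum.nonempty_iff_nontrivial).1 inferInstance
  obtain ⟨m, hm⟩ := Ideal.exists_maximal R
  refine IsLocalRing.of_unique_max_ideal ⟨m, hm, fun m' hm' => ?_⟩
  have := Subsingleton.elim (⟨m', hm'.isPrime⟩ : PrimeSpectrum R) ⟨m, hm.isPrime⟩
  exact congrArg PrimeSpectrum.asIdeal this

/-- Structure of a scheme locally quasi-finite over a field: every point has an affine open
neighbourhood which is the spectrum of an Artinian local ring, finite over the field. -/
theorem exists_artinian_local_nbhd (k : Type u) [Field k] (G : Over (Spec (CommRingCat.of k)))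
    [LocallyQuasiFinite G.hom] (u : ↥G.left) :
    ∃ V : G.left.Opens, u ∈ V ∧ IsAffineOpen V ∧ IsArtinianRing ↥Γ(G.left, V) ∧
      IsLocalRing ↥Γ(G.left, V) ∧ IsFinite (V.ι ≫ G.hom) := by
  have : IsLocallyArtinian (Spec (CommRingCat.of k)) :=
    Scheme.isLocallyArtinianScheme_Spec.2 (inferInstanceAs (IsArtinianRing k))
  have hart : IsLocallyArtinian G.left := IsLocallyArtinian.of_locallyQuasiFinite G.hom
  have hdisc : DiscreteTopology ↥G.left := inferInstance
  have hb : ∀ {W : TopologicalSpace.Opens ↥G.left} {x : ↥G.left}, x ∈ W →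
      ∃ U' ∈ G.left.affineOpens, x ∈ U' ∧ U' ≤ W :=
    TopologicalSpace.Opens.isBasis_iff_nbhd.1 (Scheme.isBasis_affineOpens G.left)
  obtain ⟨W, hW, huW, -⟩ := @hb ⊤ u trivial
  let V₀ : G.left.Opens := ⟨{u}, isOpen_discrete _⟩
  obtain ⟨f, hfV, huf⟩ := IsAffineOpen.exists_basicOpen_le hW (V := V₀) ⟨u, rfl⟩ huW
  have hVaff : IsAffineOpen (G.left.basicOpen f) := hW.basicOpen f
  refine ⟨G.left.basicOpen f, huf, hVaff, hart.1 ⟨_, hVaff⟩, ?_, ?_⟩
  · have hsub : Subsingleton ↥(G.left.basicOpen f).toScheme := by
      constructor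
      intro x y
      apply Subtype.ext
      have hx : x.1 ∈ V₀ := hfV x.2
      have hy : y.1 ∈ V₀ := hfV y.2
      exact (Set.mem_singleton_iff.1 hx).trans (Set.mem_singleton_iff.1 hy).symm
    have hne : Nonempty ↥(G.left.basicOpen f).toScheme := ⟨⟨u, huf⟩⟩
    have e := hVaff.isoSpec.hom.homeomorph
    have : Subsingleton (PrimeSpectrum ↥Γ(G.left, G.left.basicOpen f)) :=
      e.symm.injective.subsingleton
    have : Nonempty (PrimeSpectrum ↥Γ(G.left, G.left.basicOpen f)) := ⟨e (Classical.choice hne)⟩
    exact isLocalRing_of_subsingleton_primeSpectrum _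
  · have : IsAffine (G.left.basicOpen f).toScheme := hVaff
    exact isFinite_of_lqf_field k _

/-- A scheme locally quasi-finite over a field is separated over it. -/
theorem isSeparated_of_lqf_field (k : Type u) [Field k] {W : Scheme.{u}}
    (f : W ⟶ Spec (CommRingCat.of k)) [LocallyQuasiFinite f] : IsSeparated f := by
  have : IsLocallyArtinian (Spec (CommRingCat.of k)) :=
    Scheme.isLocallyArtinianScheme_Spec.2 (inferInstanceAs (IsArtinianRing k))
  have : LocallyQuasiFinite (pullback.fst f f ≫ f) := inferInstance
  have hart : IsLocallyArtinian (pullback f f) :=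
    IsLocallyArtinian.of_locallyQuasiFinite (pullback.fst f f ≫ f)
  have hdisc : DiscreteTopology ↥(pullback f f) := inferInstance
  rw [AlgebraicGeometry.isSeparated_iff]
  exact IsClosedImmersion.of_isPreimmersion _ (isClosed_discrete _)

/-- Quasi-compact opens of a scheme locally quasi-finite over a field are affine. -/
theorem isAffineOpen_of_lqf_field (k : Type u) [Field k] {W : Scheme.{u}}
    (f : W ⟶ Spec (CommRingCat.of k)) [LocallyQuasiFinite f] (V : W.Opens)
    (hV : IsCompact (V : Set ↥W)) : IsAffineOpen V := by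
  have : CompactSpace ↥V.toScheme := isCompact_iff_compactSpace.1 hV
  have : IsFinite (V.ι ≫ f) := isFinite_of_lqf_field k _
  exact isAffine_of_isAffineHom (V.ι ≫ f)

/-- A scheme locally of finite type over a field with Krull dimension `≤ 0` is locally
quasi-finite over the field. -/
theorem lqf_of_lft_of_dim_le_zero (k : Type u) [Field k] {W : Scheme.{u}}
    (f : W ⟶ Spec (CommRingCat.of k)) [LocallyOfFiniteType f]
    (hd : topologicalKrullDim ↥W ≤ 0) : LocallyQuasiFinite f := by
  have : IsLocallyNoetherian W := LocallyOfFiniteType.isLocallyNoetherian f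
  have hart : IsLocallyArtinian W := IsLocallyArtinian.of_topologicalKrullDim_le_zero hd
  have hdisc : DiscreteTopology ↥W := inferInstance
  rw [locallyQuasiFinite_iff_isDiscrete_preimage_singleton]
  intro y
  exact ⟨inferInstance⟩

end Groth.Agent.H52.LqfField
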