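import Groth.Agent.H52.LocSepFin
import Groth.Agent.H52.FibreFinite
import Groth.Agent.H52.EqvRelGeom
import Groth.Agent.H51.SpEtSrc2
import Groth.Agent.H50.FieldPts

/-!
# Monomorphic points descend along quasi-compact étale surjective morphisms
-/

set_option autoImplicit false
universe u
open CategoryTheory CategoryTheory.Limits AlgebraicGeometry Opposite

namespace Groth.Agent.H52.MonoDescent

open AlgSp Lifts

/-- A common field extension for finitely many nonempty schemes over a field. -/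
theorem exists_common_field_family {Ω : Type u} [Field Ω] :
    ∀ (n : ℕ) (P : Fin n → Scheme.{u}) (h : ∀ i, P i ⟶ Spec (CommRingCat.of Ω))
      (_ : ∀ i, Nonempty ↥(P i)),
      ∃ (Ω' : Type u) (_ : Field Ω') (e : Spec (CommRingCat.of Ω') ⟶ Spec (CommRingCat.of Ω))
        (l : ∀ i, Spec (CommRingCat.of Ω') ⟶ P i), ∀ i, l i ≫ h i = e := by
  intro n
  induction n with
  | zero =>
    intro P h _
    exact ⟨Ω, inferInstance, 𝟙 _, fun i => i.elim0, fun i => i.elim0⟩
  | succ n ih =>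
    intro P h hne
    obtain ⟨Ω₀, _, e₀, l₀, hl₀⟩ := ih (fun i => P i.castSucc) (fun i => h i.castSucc)
      (fun i => hne _)
    obtain ⟨π⟩ := hne (Fin.last n)
    let ι₁ : Spec (CommRingCat.of ((P (Fin.last n)).residueField π)) ⟶ P (Fin.last n) :=
      (P (Fin.last n)).fromSpecResidueField π
    obtain ⟨Ω', _, e₁, e₂, he⟩ := exists_common_field e₀ (ι₁ ≫ h (Fin.last n))
      (Subsingleton.elim _ _)
    let l : ∀ i : Fin (n + 1), Spec (CommRingCat.of Ω') ⟶ P i := fun i =>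
      Fin.lastCases (motive := fun i => Spec (CommRingCat.of Ω') ⟶ P i) (e₂ ≫ ι₁)
        (fun i => e₁ ≫ l₀ i) i
    have hll : l (Fin.last n) = e₂ ≫ ι₁ := Fin.lastCases_last
    have hlc : ∀ i : Fin n, l i.castSucc = e₁ ≫ l₀ i := fun i => Fin.lastCases_castSucc i
    refine ⟨Ω', inferInstance, e₁ ≫ e₀, l, ?_⟩
    intro i
    refine Fin.lastCases ?_ (fun i => ?_) i
    · rw [hll, Category.assoc]
      exact he.symm
    · rw [hlc, Category.assoc, hl₀]

variable {S : Scheme.{u}}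

/-- **Bounded lifts along a quasi-compact étale morphism**: the number of lifts of a field valued
point lying over a given field valued point `q` of the target is bounded. -/
theorem exists_bound_lifts_of_qc_etale {X Y : Sp S} (hX : IsAlgSpace X) (hY : IsAlgSpace Y)
    (f : X ⟶ Y) (hq : IsQuasiCompactMor f) (he : IsEtaleMor f) (q : FieldPt Y) :
    ∃ N : ℕ, ∀ (Ω : Type u) [Field Ω] (w : Spec (CommRingCat.of Ω) ⟶ S) (ω : Over.mk w ⟶ q.pt)
      (ζ : Fin N → ((yon S).obj (Over.mk w) ⟶ X)),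
      (∀ i, ζ i ≫ f = (yon S).map ω ≫ q.toHom) → ¬ Function.Injective ζ := by
  have sqZ := IsPullback.of_hasPullback f q.toHom
  have hZ : IsAlgSpace (pullback f q.toHom) := H50.isAlgSpace_pullback_yon hX hY f q.toHom
  have hKc : CompactSpace ↥q.pt.left :=
    inferInstanceAs (CompactSpace ↥(Spec (CommRingCat.of q.K)))
  have hqcK : IsQuasiCompactSp ((yon S).obj q.pt) :=
    ⟨q.pt, 𝟙 _, repWith_id @Etale _, repWith_id @Surjective _, hKc⟩
  obtain ⟨V, cV, hcV, hcVs, hVc⟩ := hq (IsAlgSpace.yon_obj q.pt) hqcK q.toHom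
    (pullback.fst f q.toHom) (pullback.snd f q.toHom) sqZ
  have hsnd : IsEtaleMor (pullback.snd f q.toHom) :=
    H51.isEtaleMor_of_isPullback hX (IsAlgSpace.yon_obj q.pt) sqZ.flip he
  have hgV : RepWith @Etale (cV ≫ pullback.snd f q.toHom) := hsnd cV hcV
  obtain ⟨gV, hgV'⟩ := (yon S).map_surjective (cV ≫ pullback.snd f q.toHom)
  have hgVe : Etale gV.left := (repWith_yon_map_iff @Etale gV).1 (hgV' ▸ hgV)
  have hVc' : CompactSpace ↥V.left := hVc
  have hgVqc : QuasiCompact gV.left :=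
    (quasiCompact_iff_compactSpace (f := (show V.left ⟶ Spec (CommRingCat.of q.K) from gV.left))).2
      hVc'
  have hfin : IsFinite (show V.left ⟶ Spec (CommRingCat.of q.K) from gV.left) :=
    isFinite_of_etale_of_quasiCompact _
  obtain ⟨N, hN⟩ := exists_not_hasLifts_of_isFinite
    (show V.left ⟶ Spec (CommRingCat.of q.K) from gV.left)
  refine ⟨N, ?_⟩
  intro Ω _ w ω ζ hζ hinj
  -- the points of the fibre
  let z : Fin N → ((yon S).obj (Over.mk w) ⟶ pullback f q.toHom) := fun i =>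
    pullback.lift (ζ i) ((yon S).map ω) (hζ i)
  have hz1 : ∀ i, z i ≫ pullback.fst f q.toHom = ζ i := fun i => pullback.lift_fst _ _ _
  have hz2 : ∀ i, z i ≫ pullback.snd f q.toHom = (yon S).map ω := fun i => pullback.lift_snd _ _ _
  have sqP := fun i => hcV.rep.isPullback' (z i)
  have hsurj : ∀ i, Surjective (hcV.rep.snd (z i)).left := fun i =>
    hcVs.property (z i) _ _ (sqP i)
  have hne : ∀ i, Nonempty ↥(hcV.rep.pullback (z i)).left := fun i => by
    obtain ⟨π, -⟩ := (hsurj i).surj (IsLocalRing.closedPoint Ω)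
    exact ⟨π⟩
  obtain ⟨Ω', _, e, l, hl⟩ := exists_common_field_family N
    (fun i => (hcV.rep.pullback (z i)).left) (fun i => (hcV.rep.snd (z i)).left) hne
  -- over `S`
  let e' : Over.mk (e ≫ w) ⟶ Over.mk w := Over.homMk e rfl
  have hl' : ∀ i, l i ≫ (hcV.rep.pullback (z i)).hom = e ≫ w := by
    intro i
    rw [← Over.w (hcV.rep.snd (z i)), ← Category.assoc, hl]
    rfl
  let l' : ∀ i, Over.mk (e ≫ w) ⟶ hcV.rep.pullback (z i) := fun i => Over.homMk (l i) (hl' i)
  have hl's : ∀ i, l' i ≫ hcV.rep.snd (z i) = e' := fun i => Over.OverMorphism.ext (hl i)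
  have hcomp : ∀ i, (yon S).map (l' i ≫ hcV.rep.fst' (z i)) ≫ cV = (yon S).map e' ≫ z i := by
    intro i
    rw [Functor.map_comp, Category.assoc, (sqP i).w, ← Category.assoc, ← Functor.map_comp, hl's]
  refine hN (IsLocalRing.closedPoint q.K) ⟨Ω', inferInstance, e ≫ ω.left,
    fun i => l i ≫ (hcV.rep.fst' (z i)).left, Subsingleton.elim _ _, ?_, ?_⟩
  · intro i
    have h1 : (l' i ≫ hcV.rep.fst' (z i)) ≫ gV = e' ≫ ω := by
      apply (yon S).map_injective
      rw [Functor.map_comp, hgV', ← Category.assoc, hcomp, Category.assoc, hz2,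
        ← Functor.map_comp]
    exact congrArg (fun m => m.left) h1
  · intro i j hij
    apply hinj
    have h1 : l' i ≫ hcV.rep.fst' (z i) = l' j ≫ hcV.rep.fst' (z j) :=
      Over.OverMorphism.ext hij
    have h2 : (yon S).map e' ≫ z i = (yon S).map e' ≫ z j := by
      rw [← hcomp, ← hcomp, h1]
    have h3 : (yon S).map e' ≫ ζ i = (yon S).map e' ≫ ζ j := by
      rw [← hz1 i, ← hz1 j, ← Category.assoc, ← Category.assoc, h2]
    exact H50.eq_of_eq_on_field_ext hX e' (ζ i) (ζ j) h3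

/-- Finset form of `exists_bound_lifts_of_qc_etale`. -/
theorem exists_bound_lifts_finset {X Y : Sp S} (hX : IsAlgSpace X) (hY : IsAlgSpace Y)
    (f : X ⟶ Y) (hq : IsQuasiCompactMor f) (he : IsEtaleMor f) (q : FieldPt Y) :
    ∃ N : ℕ, ∀ (Ω : Type u) [Field Ω] (w : Spec (CommRingCat.of Ω) ⟶ S) (ω : Over.mk w ⟶ q.pt)
      (s : Finset ((yon S).obj (Over.mk w) ⟶ X)),
      (∀ ζ ∈ s, ζ ≫ f = (yon S).map ω ≫ q.toHom) → s.card < N := by
  obtain ⟨N, hN⟩ := exists_bound_lifts_of_qc_etale hX hY f hq he q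
  refine ⟨N, ?_⟩
  intro Ω _ w ω s hs
  by_contra hlt
  obtain ⟨t, hts, htc⟩ := Finset.exists_subset_card_eq (not_lt.1 hlt)
  let g : Fin N ≃ t := (t.equivFinOfCardEq htc).symm
  refine hN Ω w ω (fun i => (g i).1) (fun i => hs _ (hts (g i).2)) ?_
  intro i j hij
  exact g.injective (Subtype.ext hij)

/-- The number of field valued points of `Spec K` with a given image in `X` is bounded, when
`Spec K ⟶ X` factors through a monomorphic point by a finite morphism. -/
theorem exists_bound_fibre_of_factor {X : Sp S} (p a : FieldPt X) (hm : Mono p.toHom)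
    (c : a.pt ⟶ p.pt) (hc : (yon S).map c ≫ p.toHom = a.toHom)
    (hfin : IsFinite (show Spec (CommRingCat.of a.K) ⟶ Spec (CommRingCat.of p.K) from c.left)) :
    ∃ N : ℕ, ∀ (Ω : Type u) [Field Ω] (w : Spec (CommRingCat.of Ω) ⟶ S)
      (s : Finset (Over.mk w ⟶ a.pt)),
      (∀ ω ∈ s, ∀ ω' ∈ s, (yon S).map ω ≫ a.toHom = (yon S).map ω' ≫ a.toHom) → s.card < N := by
  obtain ⟨N, hN⟩ := exists_not_hasLifts_of_isFinite
    (show Spec (CommRingCat.of a.K) ⟶ Spec (CommRingCat.of p.K) from c.left)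
  refine ⟨N, ?_⟩
  intro Ω _ w s hs
  by_contra hlt
  obtain ⟨t, hts, htc⟩ := Finset.exists_subset_card_eq (not_lt.1 hlt)
  let g : Fin N ≃ t := (t.equivFinOfCardEq htc).symm
  have hN0 : N ≠ 0 := by
    rintro rfl
    exact hN (IsLocalRing.closedPoint p.K) (hasLifts_zero _ _)
  let i₀ : Fin N := ⟨0, Nat.pos_of_ne_zero hN0⟩
  have hcomp : ∀ i, (g i).1 ≫ c = (g i₀).1 ≫ c := by
    intro i
    apply (yon S).map_injective
    rw [← cancel_mono p.toHom, Functor.map_comp, Functor.map_comp, Category.assoc, Category.assoc,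
      hc]
    exact hs _ (hts (g i).2) _ (hts (g i₀).2)
  refine hN (IsLocalRing.closedPoint p.K) ⟨Ω, inferInstance, ((g i₀).1 ≫ c).left,
    fun i => (g i).1.left, Subsingleton.elim _ _, fun i => ?_, ?_⟩
  · exact congrArg (fun m => m.left) (hcomp i)
  · intro i j hij
    have : (g i).1 = (g j).1 := Over.OverMorphism.ext hij
    exact g.injective (Subtype.ext this)

/-- The counting argument: a bound for the number of lifts along `f` and a bound for the fibres
of `Spec K ⟶ X` bound the number of points of the self fibre product of `Spec K ⟶ Y`. -/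
theorem not_hasLifts_self_fibre {X Y : Sp S} (f : X ⟶ Y) (a : FieldPt X) (q : FieldPt Y)
    (ι : q.pt ⟶ a.pt) [Mono ι] (hqa : q.toHom = (yon S).map ι ≫ a.toHom ≫ f) {R : Over S}
    (pr₁ pr₂ : R ⟶ q.pt)
    (sq : IsPullback ((yon S).map pr₁) ((yon S).map pr₂) q.toHom q.toHom) (N₁ N₂ : ℕ)
    (hN₁ : ∀ (Ω : Type u) [Field Ω] (w : Spec (CommRingCat.of Ω) ⟶ S) (ω : Over.mk w ⟶ q.pt)
      (s : Finset ((yon S).obj (Over.mk w) ⟶ X)),
      (∀ ζ ∈ s, ζ ≫ f = (yon S).map ω ≫ q.toHom) → s.card < N₁)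
    (hN₂ : ∀ (Ω : Type u) [Field Ω] (w : Spec (CommRingCat.of Ω) ⟶ S)
      (s : Finset (Over.mk w ⟶ a.pt)),
      (∀ ω ∈ s, ∀ ω' ∈ s, (yon S).map ω ≫ a.toHom = (yon S).map ω' ≫ a.toHom) → s.card < N₂) :
    ¬ HasLifts pr₁.left (N₁ * N₂) (IsLocalRing.closedPoint q.K) := by
  classical
  rintro ⟨Ω, _, ω, σ, -, h2, h3⟩
  let w : Spec (CommRingCat.of Ω) ⟶ S := ω ≫ q.str
  let ω' : Over.mk w ⟶ q.pt := Over.homMk ω rfl
  have hσ : ∀ i, σ i ≫ R.hom = w := by
    intro i
    rw [← Over.w pr₁, ← Category.assoc, h2]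
    rfl
  let σ' : ∀ i, Over.mk w ⟶ R := fun i => Over.homMk (σ i) (hσ i)
  have hσ'1 : ∀ i, σ' i ≫ pr₁ = ω' := fun i => Over.OverMorphism.ext (h2 i)
  -- the second projections, as points of `Spec K`
  let ω₂ : Fin (N₁ * N₂) → (Over.mk w ⟶ a.pt) := fun i => (σ' i ≫ pr₂) ≫ ι
  have hω₂inj : Function.Injective ω₂ := by
    intro i j hij
    apply h3
    have h' : σ' i ≫ pr₂ = σ' j ≫ pr₂ := (cancel_mono ι).1 hij
    have : σ' i = σ' j := hom_ext_of_isPullback_yon sq _ _ (by rw [hσ'1, hσ'1]) h'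
    exact congrArg (fun m => m.left) this
  have hω₂f : ∀ i, ((yon S).map (ω₂ i) ≫ a.toHom) ≫ f = (yon S).map ω' ≫ q.toHom := by
    intro i
    calc ((yon S).map (ω₂ i) ≫ a.toHom) ≫ f
        = (yon S).map (σ' i ≫ pr₂) ≫ ((yon S).map ι ≫ a.toHom ≫ f) := by
          simp only [ω₂, Functor.map_comp, Category.assoc]
      _ = (yon S).map (σ' i) ≫ (yon S).map pr₂ ≫ q.toHom := by
          rw [← hqa, Functor.map_comp, Category.assoc]
      _ = (yon S).map (σ' i) ≫ (yon S).map pr₁ ≫ q.toHom := by rw [sq.w]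
      _ = (yon S).map ω' ≫ q.toHom := by
          rw [← Category.assoc, ← Functor.map_comp, hσ'1]
  let s : Finset (Over.mk w ⟶ a.pt) := Finset.univ.image ω₂
  have hscard : s.card = N₁ * N₂ := by
    rw [Finset.card_image_of_injective _ hω₂inj, Finset.card_univ, Fintype.card_fin]
  let F : (Over.mk w ⟶ a.pt) → ((yon S).obj (Over.mk w) ⟶ X) := fun ω =>
    (yon S).map ω ≫ a.toHom
  have h1 : (s.image F).card < N₁ := by
    refine hN₁ Ω w ω' (s.image F) ?_
    intro ζ hζ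
    obtain ⟨ω₀, hω₀, rfl⟩ := Finset.mem_image.1 hζ
    obtain ⟨i, -, rfl⟩ := Finset.mem_image.1 hω₀
    exact hω₂f i
  have h2' : ∀ ζ ∈ s.image F, (s.filter fun ω => F ω = ζ).card ≤ N₂ - 1 := by
    intro ζ _
    have := hN₂ Ω w (s.filter fun ω => F ω = ζ) (by
      intro ω₀ hω₀ ω₁ hω₁
      exact ((Finset.mem_filter.1 hω₀).2).trans ((Finset.mem_filter.1 hω₁).2).symm)
    omega
  have h3' := Finset.card_le_mul_card_image (f := F) s (N₂ - 1) h2'
  rw [hscard] at h3'
  have hN₂0 : N₂ ≠ 0 := by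
    rintro rfl
    have := hN₂ Ω w ∅ (by simp)
    simp at this
  obtain ⟨n₁, rfl⟩ := Nat.exists_eq_succ_of_ne_zero (by omega : N₁ ≠ 0)
  obtain ⟨n₂, rfl⟩ := Nat.exists_eq_succ_of_ne_zero hN₂0
  simp only [Nat.succ_sub_one] at h3'
  have hle : n₂ * (s.image F).card ≤ n₂ * n₁ := Nat.mul_le_mul_left _ (by omega)
  nlinarith

/-- **S10385.** Monomorphic field valued representatives of points descend along quasi-compact,
étale, surjective morphisms. -/
theorem s10385 {X Y : AlgSp.Space S} (f : X ⟶ Y) (hq : IsQuasiCompactMor f.hom)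
    (he : IsEtaleMor f.hom) (hs : IsSurjectiveMor f.hom)
    (hX : ∀ x : Points X.obj, ∃ p : FieldPt X.obj, Points.mk p = x ∧ Mono p.toHom)
    (y : Points Y.obj) : ∃ q : FieldPt Y.obj, Points.mk q = y ∧ Mono q.toHom := by
  obtain ⟨x, rfl⟩ := hs y
  obtain ⟨p, hp, hm⟩ := hX x
  obtain ⟨U, φ, hφ, hφs⟩ := X.property.atlas
  obtain ⟨u, hu⟩ := H51.surjective_ofPt_of_surjective φ hφs x
  have hψ : RepWith @Etale (φ ≫ f.hom) := he φ hφ
  let ι : (FieldPt.ofPt (φ ≫ f.hom) u).pt ⟶ (FieldPt.ofPt φ u).pt := 𝟙 (FieldPt.ofPt φ u).pt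
  have hιm : Mono ι := inferInstanceAs (Mono (𝟙 (FieldPt.ofPt φ u).pt))
  have hqa₀ : (FieldPt.ofPt (φ ≫ f.hom) u).toHom = (FieldPt.ofPt φ u).toHom ≫ f.hom := by
    rw [toHom_ofPt', toHom_ofPt', Category.assoc]
    rfl
  have hqa : (FieldPt.ofPt (φ ≫ f.hom) u).toHom =
      (yon S).map ι ≫ (FieldPt.ofPt φ u).toHom ≫ f.hom := by
    have hι : (yon S).map ι ≫ (FieldPt.ofPt φ u).toHom ≫ f.hom =
        (FieldPt.ofPt φ u).toHom ≫ f.hom := by
      have h1 : (yon S).map (𝟙 (FieldPt.ofPt φ u).pt) = 𝟙 _ := (yon S).map_id _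
      change (yon S).map (𝟙 (FieldPt.ofPt φ u).pt) ≫ _ = _
      rw [h1, Category.id_comp]
    exact hqa₀.trans hι.symm
  -- the point of the chart factors through the monomorphic point by a finite morphism
  have hpr : Representable p.toHom := X.property.representable_from_yon _
  obtain ⟨c, hc⟩ := exists_factor_of_mono p (FieldPt.ofPt φ u) hm hpr (by rw [hp]; exact hu)
  have hclqf : LocallyQuasiFinite c.left := locallyQuasiFinite_of_factor φ hφ u p c hc
  have hcfin : IsFinite (show Spec (CommRingCat.of (FieldPt.ofPt φ u).K) ⟶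
      Spec (CommRingCat.of p.K) from c.left) :=
    isFinite_of_lqf_of_finite (Z := Spec (CommRingCat.of (FieldPt.ofPt φ u).K)) (K := p.K) c.left
  -- the bounds
  obtain ⟨N₁, hN₁⟩ := exists_bound_lifts_finset X.property Y.property f.hom hq he
    (FieldPt.ofPt (φ ≫ f.hom) u)
  obtain ⟨N₂, hN₂⟩ := exists_bound_fibre_of_factor p (FieldPt.ofPt φ u) hm c hc hcfin
  -- the self fibre product of the point of `Y`
  have hrep := Y.property.representable_from_yon (FieldPt.ofPt (φ ≫ f.hom) u).toHom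
  obtain ⟨pr₁, hpr₁⟩ := (yon S).map_surjective (hrep.fst (FieldPt.ofPt (φ ≫ f.hom) u).toHom)
  have sq : IsPullback ((yon S).map pr₁)
      ((yon S).map (hrep.snd (FieldPt.ofPt (φ ≫ f.hom) u).toHom))
      (FieldPt.ofPt (φ ≫ f.hom) u).toHom (FieldPt.ofPt (φ ≫ f.hom) u).toHom := by
    rw [hpr₁]
    exact hrep.isPullback _
  have hnl := not_hasLifts_self_fibre f.hom (FieldPt.ofPt φ u) (FieldPt.ofPt (φ ≫ f.hom) u) ι hqa
    pr₁ _ sq N₁ N₂ hN₁ hN₂
  have hfinR : Finite ↥(hrep.pullback (FieldPt.ofPt (φ ≫ f.hom) u).toHom).left := by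
    have := LocSepFin.finite_fibre_of_not_hasLifts pr₁.left _ _ hnl
    refine Set.finite_univ_iff.1 (this.subset fun r _ => ?_)
    exact Subsingleton.elim (α := PrimeSpectrum (FieldPt.ofPt (φ ≫ f.hom) u).K) _ _
  have hfin : IsFinite pr₁.left := isFinite_pr_of_chart (φ ≫ f.hom) hψ u pr₁ _ sq
  obtain ⟨p', c', -, hm', -, hp'⟩ := exists_mono_point_of_finite _ pr₁ _ sq
  refine ⟨p', hp'.trans ?_, hm'⟩
  change Points.ofPt (φ ≫ f.hom) u = _
  rw [← Points.map_ofPt, hu]

end Groth.Agent.H52.MonoDescent
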