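import Groth.Agent.H52.LqfField
import Groth.Agent.H52.JacobsonSp
import Mathlib.AlgebraicGeometry.ZariskisMainTheorem

/-!
# Decent one-point algebraic spaces are schemes
-/

set_option autoImplicit false
universe u
open CategoryTheory CategoryTheory.Limits AlgebraicGeometry Opposite

namespace Groth.Agent.H52.OnePt

open AlgSp Groth.Agent.H50 Groth.Agent.H51 Groth.Agent.H53.ZMT

/-- All points of a scheme integral over a one-point affine scheme are closed. -/
theorem isClosed_singleton_of_isIntegralHom {N V : Scheme.{u}} (ν : N ⟶ V) [IsIntegralHom ν]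
    [IsAffine V] [Subsingleton ↥V] (n : ↥N) : IsClosed ({n} : Set ↥N) := by
  have : IsAffine N := isAffine_of_isAffineHom ν
  have hφ : (ν.appTop).hom.IsIntegral := ν.isIntegral_app ⊤ (isAffineOpen_top V)
  have hA : Subsingleton (PrimeSpectrum Γ(V, ⊤)) :=
    (V.isoSpec.hom.homeomorph).symm.injective.subsingleton
  have key : ∀ q : PrimeSpectrum Γ(N, ⊤), q.asIdeal.IsMaximal := by
    intro q
    refine Ideal.isMaximal_of_isIntegral_of_isMaximal_comap' _ hφ q.asIdeal ?_
    have hp : (q.asIdeal.comap (ν.appTop).hom).IsPrime := inferInstance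
    obtain ⟨m, hm, hle⟩ := Ideal.exists_le_maximal _ hp.ne_top
    have := Subsingleton.elim (⟨m, hm.isPrime⟩ : PrimeSpectrum Γ(V, ⊤))
      ⟨q.asIdeal.comap (ν.appTop).hom, hp⟩
    have h2 : m = q.asIdeal.comap (ν.appTop).hom := congrArg PrimeSpectrum.asIdeal this
    rw [← h2]
    exact hm
  have hcl : IsClosed ({N.isoSpec.hom n} : Set ↥(Spec Γ(N, ⊤))) :=
    (PrimeSpectrum.isClosed_singleton_iff_isMaximal _).2 (key _)
  have h3 := hcl.preimage N.isoSpec.hom.continuous
  convert h3 using 1
  ext x
  simp only [Set.mem_singleton_iff, Set.mem_preimage]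
  exact (N.isoSpec.hom.homeomorph.injective.eq_iff (a := x) (b := n)).symm

/-- A scheme locally quasi-finite over a one-point scheme is discrete. -/
theorem discreteTopology_of_lqf_subsingleton {R V : Scheme.{u}} (f : R ⟶ V)
    [LocallyQuasiFinite f] [Subsingleton ↥V] : DiscreteTopology ↥R := by
  rcases isEmpty_or_nonempty ↥R with h | ⟨⟨r⟩⟩
  · exact ⟨Subsingleton.elim _ _⟩
  · have h := f.isDiscrete_preimage_singleton (f r)
    have huniv : f ⁻¹' {f r} = Set.univ := by
      ext w
      simp only [Set.mem_preimage, Set.mem_singleton_iff, Set.mem_univ, iff_true]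
      exact Subsingleton.elim _ _
    rw [huniv] at h
    exact isDiscrete_univ_iff.mp h

/-- A morphism locally quasi-finite to a one-point scheme is separated. -/
theorem isSeparated_of_lqf_subsingleton {R V : Scheme.{u}} (f : R ⟶ V)
    [LocallyQuasiFinite f] [Subsingleton ↥V] : IsSeparated f := by
  have : LocallyQuasiFinite (pullback.fst f f ≫ f) := inferInstance
  have hdisc : DiscreteTopology ↥(pullback f f) :=
    discreteTopology_of_lqf_subsingleton (pullback.fst f f ≫ f)
  rw [AlgebraicGeometry.isSeparated_iff]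
  exact IsClosedImmersion.of_isPreimmersion _ (isClosed_discrete _)

/-- A locally quasi-finite morphism locally of finite type from a finite scheme to a one-point
affine scheme is finite. -/
theorem isFinite_of_finite_of_subsingleton {R V : Scheme.{u}} (f : R ⟶ V)
    [LocallyQuasiFinite f] [LocallyOfFiniteType f] [IsAffine V] [Subsingleton ↥V]
    [Finite ↥R] : IsFinite f := by
  have : IsSeparated f := isSeparated_of_lqf_subsingleton f
  have : CompactSpace ↥R := Finite.compactSpace
  have : QuasiCompact f := inferInstance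
  have hj : IsOpenImmersion f.toNormalization := inferInstance
  have hcl : IsClosed (Set.range f.toNormalization) := by
    have h1 : Set.range f.toNormalization = ⋃ r : ↥R, {f.toNormalization r} := by
      ext x
      simp only [Set.mem_range, Set.mem_iUnion, Set.mem_singleton_iff]
      exact ⟨fun ⟨r, hr⟩ => ⟨r, hr.symm⟩, fun ⟨r, hr⟩ => ⟨r, hr.symm⟩⟩
    rw [h1]
    exact isClosed_iUnion_of_finite
      (fun r => isClosed_singleton_of_isIntegralHom f.fromNormalization _)
  have : IsClosedImmersion f.toNormalization := IsClosedImmersion.of_isPreimmersion _ hcl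
  have hint : IsIntegralHom f := by
    rw [← f.toNormalization_fromNormalization]
    infer_instance
  exact (IsFinite.iff_isIntegralHom_and_locallyOfFiniteType _).mpr ⟨hint, inferInstance⟩

variable {S : Scheme.{u}}

/-- If all points of an etale chart `V` (quasi-compact) of `F` lie over a point represented by a
quasi-compact monomorphism from the spectrum of a field, then `V ×_F V` has finitely many
points. -/
theorem finite_kernelPair_of_point {F : Sp S} (p : FieldPt F)
    (hpq : RepWith @QuasiCompact p.toHom) {V R : Over S} [CompactSpace ↥V.left]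
    (q : (yon S).obj V ⟶ F) (hq : RepWith @Etale q)
    (hpt : ∀ v : ↥V.left, Points.ofPt q v = Points.mk p)
    (s t : R ⟶ V) (sq : IsPullback ((yon S).map t) ((yon S).map s) q q) : Finite ↥R.left := by
  obtain ⟨W, φ, ψ, sqW, -⟩ := exists_fibre_scheme p q hq.rep
  have hφqc : QuasiCompact φ.left := hpq.property q _ φ sqW.flip
  have hψet : Etale ψ.left := hq.property p.toHom _ ψ sqW
  have : CompactSpace ↥W.left := QuasiCompact.compactSpace_of_compactSpace φ.left
  have : LocallyQuasiFinite ψ.left := locallyQuasiFinite_of_etale ψ.left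
  have hψfin : IsFinite ψ.left := LqfField.isFinite_of_lqf_field p.K ψ.left
  have htet : Etale t.left := hq.property q _ t sq.flip
  have hq' : RepWith @Etale ((yon S).map t ≫ q) :=
    (RepWith @Etale).comp_mem _ _ ((repWith_yon_map_iff _ _).2 htet) hq
  obtain ⟨P, πR, πK, sqP, hrange⟩ := exists_fibre_scheme p ((yon S).map t ≫ q) hq'.rep
  have hsurj : Function.Surjective πR.left := by
    rw [← Set.range_eq_univ, hrange]
    ext r
    simp only [Set.mem_preimage, Set.mem_singleton_iff, Set.mem_univ, iff_true]
    rw [ofPt_yon_map_comp]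
    exact hpt _
  obtain ⟨mt, hmt⟩ := (yon S).map_surjective (sqW.lift ((yon S).map (πR ≫ t)) ((yon S).map πK)
    (by rw [Functor.map_comp, Category.assoc]; exact sqP.w))
  obtain ⟨ms, hms⟩ := (yon S).map_surjective (sqW.lift ((yon S).map (πR ≫ s)) ((yon S).map πK)
    (by rw [Functor.map_comp, Category.assoc, ← sq.w]; exact sqP.w))
  have hmt1 : mt ≫ φ = πR ≫ t :=
    (yon S).map_injective (by rw [Functor.map_comp, hmt, sqW.lift_fst])
  have hmt2 : mt ≫ ψ = πK :=
    (yon S).map_injective (by rw [Functor.map_comp, hmt, sqW.lift_snd])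
  have hms1 : ms ≫ φ = πR ≫ s :=
    (yon S).map_injective (by rw [Functor.map_comp, hms, sqW.lift_fst])
  have hms2 : ms ≫ ψ = πK :=
    (yon S).map_injective (by rw [Functor.map_comp, hms, sqW.lift_snd])
  let δ : P.left ⟶ pullback ψ.left ψ.left := pullback.lift mt.left ms.left
    (by rw [← Over.comp_left, ← Over.comp_left, hmt2, hms2])
  have hδ : Mono δ := by
    constructor
    intro T r r' h
    have h1 : r ≫ mt.left = r' ≫ mt.left := by
      have e : δ ≫ pullback.fst _ _ = mt.left := pullback.lift_fst _ _ _
      rw [← e, ← Category.assoc, h, Category.assoc]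
    have h2 : r ≫ ms.left = r' ≫ ms.left := by
      have e : δ ≫ pullback.snd _ _ = ms.left := pullback.lift_snd _ _ _
      rw [← e, ← Category.assoc, h, Category.assoc]
    let T' : Over S := Over.mk (r ≫ P.hom)
    let ρ : T' ⟶ P := Over.homMk r rfl
    let ρ' : T' ⟶ P := Over.homMk r' (by
      change r' ≫ P.hom = r ≫ P.hom
      rw [← Over.w mt, ← Category.assoc, ← h1, Category.assoc])
    have H1 : ρ ≫ mt = ρ' ≫ mt := by
      ext
      exact h1
    have H2 : ρ ≫ ms = ρ' ≫ ms := by
      ext
      exact h2
    have : ρ = ρ' := by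
      apply (yon S).map_injective
      apply sqP.hom_ext
      · rw [← Functor.map_comp, ← Functor.map_comp]
        congr 1
        apply (yon S).map_injective
        apply sq.hom_ext
        · rw [← Functor.map_comp, ← Functor.map_comp, Category.assoc, Category.assoc, ← hmt1,
            ← Category.assoc, H1, Category.assoc]
        · rw [← Functor.map_comp, ← Functor.map_comp, Category.assoc, Category.assoc, ← hms1,
            ← Category.assoc, H2, Category.assoc]
      · rw [← Functor.map_comp, ← Functor.map_comp, ← hmt2, ← Category.assoc, H1, Category.assoc]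
    exact congrArg (fun x => x.left) this
  have hPfin : IsFinite (pullback.fst ψ.left ψ.left ≫ ψ.left) := inferInstance
  have hfin : Finite ↥(pullback ψ.left ψ.left) :=
    LqfField.finite_of_isFinite_field p.K (pullback.fst ψ.left ψ.left ≫ ψ.left)
  have hP : Finite ↥P.left := Finite.of_injective _ δ.injective
  exact Finite.of_surjective _ hsurj

/-- In a discrete scheme every point is an affine open subscheme. -/
theorem exists_isAffineOpen_eq_singleton (G : Scheme.{u}) [DiscreteTopology ↥G] (u : ↥G) :
    ∃ V : G.Opens, IsAffineOpen V ∧ (V : Set ↥G) = {u} := by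
  have hb : ∀ {W : TopologicalSpace.Opens ↥G} {x : ↥G}, x ∈ W →
      ∃ U' ∈ G.affineOpens, x ∈ U' ∧ U' ≤ W :=
    TopologicalSpace.Opens.isBasis_iff_nbhd.1 (Scheme.isBasis_affineOpens G)
  obtain ⟨W, hW, huW, -⟩ := @hb ⊤ u trivial
  let V₀ : G.Opens := ⟨{u}, isOpen_discrete _⟩
  obtain ⟨f, hfV, huf⟩ := IsAffineOpen.exists_basicOpen_le hW (V := V₀) ⟨u, rfl⟩ huW
  refine ⟨G.basicOpen f, hW.basicOpen f, ?_⟩
  ext x
  constructor
  · intro hx
    exact hfV hx
  · intro hx
    rw [Set.mem_singleton_iff] at hx
    rw [hx]
    exact huf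

/-- A decent algebraic space with exactly one point is a scheme. -/
theorem exists_iso_yon_of_isDecent_of_subsingleton {X : Sp S} (hX : IsAlgSpace X)
    (hd : IsDecent X) [Nonempty (Points X)] [Subsingleton (Points X)] :
    ∃ G : Over S, Nonempty ((yon S).obj G ≅ X) := by
  obtain ⟨U₀, a₀, ha₀, has₀⟩ := hX.atlas
  obtain ⟨x⟩ := (inferInstance : Nonempty (Points X))
  obtain ⟨u₀, -⟩ := surjective_ofPt_of_surjective a₀ has₀ x
  have hdisc : DiscreteTopology ↥U₀.left := by
    have h := isDiscrete_fibre_of_isDecent hd a₀ ha₀ x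
    have huniv : Points.ofPt a₀ ⁻¹' {x} = Set.univ := by
      ext w
      simp only [Set.mem_preimage, Set.mem_singleton_iff, Set.mem_univ, iff_true]
      exact Subsingleton.elim _ _
    rw [huniv] at h
    exact isDiscrete_univ_iff.mp h
  obtain ⟨V, hV, hVu⟩ := exists_isAffineOpen_eq_singleton U₀.left u₀
  let q := (yon S).map (overOpenι U₀ V) ≫ a₀
  have hq : RepWith @Etale q := repWith_etale_restrict a₀ ha₀ V
  have hVa : IsAffine (overOpen U₀ V).left := hV
  have hVsub : Subsingleton ↥(overOpen U₀ V).left := by
    constructor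
    intro a b
    apply Subtype.ext
    have ha : a.1 ∈ (V : Set ↥U₀.left) := a.2
    have hb : b.1 ∈ (V : Set ↥U₀.left) := b.2
    rw [hVu, Set.mem_singleton_iff] at ha hb
    exact ha.trans hb.symm
  have hu₀V : u₀ ∈ V := by
    change u₀ ∈ (V : Set ↥U₀.left)
    rw [hVu]
    rfl
  have hqs : RepWith @Surjective q := by
    refine repWith_surjective_of_surjective_ofPt q hq.rep ?_
    intro y
    exact ⟨⟨u₀, hu₀V⟩, Subsingleton.elim _ _⟩
  obtain ⟨p, hp1, -, hpq⟩ := hd x
  have hfin : ∀ (R : Over S) (s t : R ⟶ overOpen U₀ V),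
      IsPullback ((yon S).map t) ((yon S).map s) q q → IsFinite s.left := by
    intro R s t sq
    have hR : Finite ↥R.left := finite_kernelPair_of_point p hpq q hq
      (fun v => Subsingleton.elim _ _) s t sq
    have hse : Etale s.left := hq.property q _ s sq
    have : LocallyQuasiFinite s.left := locallyQuasiFinite_of_etale s.left
    exact isFinite_of_finite_of_subsingleton s.left
  obtain ⟨M, e, -, -, -, -⟩ := LqfField.exists_affine_quot_of_finite hVa q hq hqs hfin
  exact ⟨M, ⟨e⟩⟩

end Groth.Agent.H52.OnePt
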