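import Groth.Agent.H52.FieldStalks
import Groth.Agent.H52.OnePt
import Mathlib.AlgebraicGeometry.Morphisms.FlatMono

/-!
# Monomorphisms into a scheme etale over a field are open immersions
-/

set_option autoImplicit false
universe u
open CategoryTheory CategoryTheory.Limits AlgebraicGeometry Opposite TopologicalSpace MorphismProperty

namespace Groth.Agent.H52

/-- A flat monomorphism into a scheme with discrete underlying space is an open immersion. -/
theorem isOpenImmersion_of_flat_of_mono_of_discrete {R Y : Scheme.{u}} [DiscreteTopology ↥Y]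
    (f : R ⟶ Y) [Flat f] [Mono f] : IsOpenImmersion f := by
  let U : Y.Opens := ⟨Set.range f.base, isOpen_discrete _⟩
  have hU : IsOpenImmersion U.ι := U.instIsOpenImmersionι
  let f' := hU.lift U.ι f (by simp [U])
  have heq : f = f' ≫ U.ι := by simp [f']
  have hflat : Flat f' :=
    of_postcomp (W := @Flat) f' U.ι hU (by rwa [← heq])
  have hmono : Mono f' := mono_of_mono_fac heq.symm
  have hsurj : Surjective f' := ⟨fun ⟨x, ⟨y, hy⟩⟩ ↦
      ⟨y, by apply U.ι.injective; simp [← Scheme.Hom.comp_apply, f', hy]⟩⟩
  have hdU : DiscreteTopology ↥U.toScheme := inferInstanceAs (DiscreteTopology ↥(U : Set Y))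
  have hdR : DiscreteTopology ↥R := by
    rw [discreteTopology_iff_forall_isOpen]
    intro s
    have : s = f' ⁻¹' (f' '' s) := (Set.preimage_image_eq s f'.injective).symm
    rw [this]
    exact (isOpen_discrete _).preimage f'.continuous
  have hhomeo : IsHomeomorph f'.base :=
    ⟨f'.continuous, fun s _ => isOpen_discrete _, f'.injective, f'.surjective⟩
  have : QuasiCompact f' := ⟨fun V hV hc ↦ hhomeo.homeomorph.isCompact_preimage.mpr hc⟩
  have := Flat.isIso_of_surjective_of_mono f'
  rw [heq]
  infer_instance

/-- A monomorphism into a scheme etale over the spectrum of a field is an open immersion. -/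
theorem isOpenImmersion_of_mono_of_etale_field {R Y : Scheme.{u}} {k : Type u} [Field k]
    (p : Y ⟶ Spec (CommRingCat.of k)) [Etale p] (f : R ⟶ Y) [Mono f] : IsOpenImmersion f := by
  have : Subsingleton ↥(Spec (CommRingCat.of k)) :=
    inferInstanceAs (Subsingleton (PrimeSpectrum k))
  have : LocallyQuasiFinite p := Groth.Agent.H50.locallyQuasiFinite_of_etale p
  have hd : DiscreteTopology ↥Y := OnePt.discreteTopology_of_lqf_subsingleton p
  have : Flat f := flat_of_isField_stalk f fun x => isField_stalk_of_etale_field p (f x)
  exact isOpenImmersion_of_flat_of_mono_of_discrete f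

end Groth.Agent.H52
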