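import Mathlib.RingTheory.Spectrum.Prime.Topology
import Mathlib.RingTheory.Spectrum.Prime.Noetherian
import Mathlib.RingTheory.LocalProperties.Reduced
import Mathlib.RingTheory.Localization.AtPrime.Basic

/-!
# Morphisms from reduced affine schemes into a set of primes without specializations

If `ψ : A → B` is a ring map with `A` Noetherian and `B` reduced such that `Spec B → Spec A` lands in a
set `E` of primes without nontrivial specializations among them, then the fibres of `Spec B → Spec A`
are open.
-/

set_option autoImplicit false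

namespace Groth.Agent.H52.NoSpecFibre

/-- In a reduced ring, an element lying in all primes below `q` is killed by an element outside
`q`. -/
theorem exists_mul_eq_zero_of_forall_mem {B : Type*} [CommRing B] [IsReduced B] (q : Ideal B)
    [q.IsPrime] (b : B) (hb : ∀ q' : Ideal B, q'.IsPrime → q' ≤ q → b ∈ q') :
    ∃ g : B, g ∉ q ∧ g * b = 0 := by
  have hred : IsReduced (Localization.AtPrime q) :=
    isReduced_localizationPreserves q.primeCompl (Localization.AtPrime q) inferInstance
  have hnil : IsNilpotent (algebraMap B (Localization.AtPrime q) b) := by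
    rw [nilpotent_iff_mem_prime]
    intro P hP
    have hPc : (P.comap (algebraMap B (Localization.AtPrime q))).IsPrime := Ideal.comap_isPrime _ P
    have hle : P.comap (algebraMap B (Localization.AtPrime q)) ≤ q := by
      intro x hx
      by_contra hxq
      have hu : IsUnit (algebraMap B (Localization.AtPrime q) x) :=
        IsLocalization.map_units (Localization.AtPrime q) (⟨x, hxq⟩ : q.primeCompl)
      exact hP.ne_top (Ideal.eq_top_of_isUnit_mem _ hx hu)
    exact hb _ hPc hle
  have h0 : algebraMap B (Localization.AtPrime q) b = 0 := hnil.eq_zero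
  obtain ⟨⟨g, hg⟩, hgb⟩ := (IsLocalization.map_eq_zero_iff q.primeCompl _ b).1 h0
  exact ⟨g, hg, hgb⟩

/-- Finitely many elements. -/
theorem exists_forall_mul_eq_zero_of_forall_mem {B : Type*} [CommRing B] [IsReduced B]
    (q : Ideal B) [q.IsPrime] (s : Finset B)
    (hb : ∀ b ∈ s, ∀ q' : Ideal B, q'.IsPrime → q' ≤ q → b ∈ q') :
    ∃ g : B, g ∉ q ∧ ∀ b ∈ s, g * b = 0 := by
  classical
  induction s using Finset.induction_on with
  | empty => exact ⟨1, fun h => (Ideal.IsPrime.ne_top ‹_›) (q.eq_top_of_isUnit_mem h isUnit_one), by simp⟩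
  | insert a s _ ih =>
    obtain ⟨g, hg, hgs⟩ := ih fun b hb' => hb b (Finset.mem_insert_of_mem hb')
    obtain ⟨g', hg', hga⟩ := exists_mul_eq_zero_of_forall_mem q a (hb a (Finset.mem_insert_self a s))
    refine ⟨g * g', fun h => ?_, fun b hb' => ?_⟩
    · rcases (Ideal.IsPrime.mem_or_mem ‹_› h) with h | h
      · exact hg h
      · exact hg' h
    · rcases Finset.mem_insert.1 hb' with rfl | hbs
      · rw [mul_assoc, hga, mul_zero]
      · rw [mul_comm g g', mul_assoc, hgs b hbs, mul_zero]

/-- **Open fibres.**  Let `ψ : A → B` be a ring map with `A` Noetherian and `B` reduced, and `E` a set of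
primes of `A` without nontrivial specializations containing the image of `Spec B`.  Then every prime `q` of
`B` has a basic open neighbourhood all of whose points lie over the same prime of `A`. -/
theorem exists_basicOpen_fibre {A B : Type*} [CommRing A] [CommRing B] [IsNoetherianRing A]
    [IsReduced B] (ψ : A →+* B) (E : Set (PrimeSpectrum A))
    (hE : ∀ v ∈ E, ∀ w ∈ E, w.asIdeal ≤ v.asIdeal → w = v)
    (him : ∀ q : PrimeSpectrum B, PrimeSpectrum.comap ψ q ∈ E) (q : PrimeSpectrum B) :
    ∃ g : B, g ∉ q.asIdeal ∧ ∀ q'' : PrimeSpectrum B, g ∉ q''.asIdeal →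
      PrimeSpectrum.comap ψ q'' = PrimeSpectrum.comap ψ q := by
  classical
  set p := PrimeSpectrum.comap ψ q with hp
  obtain ⟨s, hs⟩ : p.asIdeal.FG := (isNoetherianRing_iff_ideal_fg A).1 inferInstance _
  have hmem : ∀ b ∈ s.image ψ, ∀ q' : Ideal B, q'.IsPrime → q' ≤ q.asIdeal → b ∈ q' := by
    intro b hb q' hq' hle
    obtain ⟨a, ha, rfl⟩ := Finset.mem_image.1 hb
    have h1 : PrimeSpectrum.comap ψ ⟨q', hq'⟩ = p := by
      refine hE p (him q) _ (him _) ?_
      intro x hx
      exact hle hx
    have h2 : a ∈ p.asIdeal := by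
      rw [← hs]; exact Ideal.subset_span ha
    rw [← h1] at h2
    exact h2
  obtain ⟨g, hg, hgs⟩ := exists_forall_mul_eq_zero_of_forall_mem q.asIdeal (s.image ψ) hmem
  refine ⟨g, hg, fun q'' hq'' => ?_⟩
  refine (hE _ (him q'') p (him q) ?_).symm
  change p.asIdeal ≤ (q''.asIdeal).comap ψ
  rw [← hs, Ideal.span_le]
  intro a ha
  change ψ a ∈ q''.asIdeal
  have h0 : g * ψ a = 0 := hgs _ (Finset.mem_image_of_mem ψ ha)
  rcases q''.isPrime.mem_or_mem (h0 ▸ q''.asIdeal.zero_mem : g * ψ a ∈ q''.asIdeal) with h | h
  · exact (hq'' h).elim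
  · exact h

end Groth.Agent.H52.NoSpecFibre
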