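import Groth.Agent.H52.NoSpecFibreA
import Mathlib.AlgebraicGeometry.Noetherian
import Mathlib.AlgebraicGeometry.Properties

/-!
# Morphisms from reduced schemes into a set of points without specializations: open fibres
-/

set_option autoImplicit false
universe u
open CategoryTheory AlgebraicGeometry TopologicalSpace

namespace Groth.Agent.H52.NoSpecFibre

/-- Let `φ : T ⟶ U` be a morphism from a reduced scheme to a locally Noetherian scheme whose image lies
in a set `E` of points without nontrivial specializations among them.  Then every point of `T` has an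
open neighbourhood mapping to a single point, inside the preimage of an affine open. -/
theorem exists_open_fibre {T U : Scheme.{u}} [IsReduced T] [IsLocallyNoetherian U] (φ : T ⟶ U)
    (E : Set ↥U) (hE : ∀ v ∈ E, ∀ w ∈ E, w ⤳ v → w = v) (him : ∀ t : T, φ t ∈ E) (t : T) :
    ∃ (V : U.Opens) (W : T.Opens), IsAffineOpen V ∧ t ∈ W ∧ W ≤ φ ⁻¹ᵁ V ∧
      ∀ t' ∈ W, φ t' = φ t := by
  obtain ⟨V, hV, htV, -⟩ := exists_isAffineOpen_mem_and_subset (x := φ t) (U := ⊤) trivial
  obtain ⟨T₂, hT₂, htT₂, hle⟩ :=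
    exists_isAffineOpen_mem_and_subset (x := t) (U := φ ⁻¹ᵁ V) htV
  have hN : IsNoetherianRing Γ(U, V) := IsLocallyNoetherian.component_noetherian ⟨V, hV⟩
  have hR : _root_.IsReduced Γ(T, T₂) := inferInstance
  let ψ : Γ(U, V) →+* Γ(T, T₂) := (φ.appLE V T₂ hle).hom
  let E' : Set (PrimeSpectrum Γ(U, V)) := {p | hV.fromSpec p ∈ E}
  have hE' : ∀ v ∈ E', ∀ w ∈ E', w.asIdeal ≤ v.asIdeal → w = v := by
    intro v hv w hw hwv
    have hs : w ⤳ v := (PrimeSpectrum.le_iff_specializes w v).1 hwv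
    have hs' : hV.fromSpec w ⤳ hV.fromSpec v := hs.map hV.fromSpec.continuous
    exact hV.fromSpec.isOpenEmbedding.injective (hE _ hv _ hw hs')
  have hcomm : ∀ q : PrimeSpectrum Γ(T, T₂),
      hV.fromSpec (PrimeSpectrum.comap ψ q) = φ (hT₂.fromSpec q) := by
    intro q
    have := IsAffineOpen.SpecMap_appLE_fromSpec φ hV hT₂ hle
    change hV.fromSpec (Spec.map (φ.appLE V T₂ hle) q) = φ (hT₂.fromSpec q)
    rw [← Scheme.Hom.comp_apply, ← Scheme.Hom.comp_apply, this]
  have him' : ∀ q : PrimeSpectrum Γ(T, T₂), PrimeSpectrum.comap ψ q ∈ E' := by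
    intro q
    change hV.fromSpec (PrimeSpectrum.comap ψ q) ∈ E
    rw [hcomm]
    exact him _
  obtain ⟨g, hg, hgq⟩ := exists_basicOpen_fibre ψ E' hE' him' (hT₂.primeIdealOf ⟨t, htT₂⟩)
  have hmem : ∀ (t' : T) (ht' : t' ∈ T₂), t' ∈ T.basicOpen g ↔
      g ∉ (hT₂.primeIdealOf ⟨t', ht'⟩).asIdeal := by
    intro t' ht'
    have h1 : hT₂.fromSpec (hT₂.primeIdealOf ⟨t', ht'⟩) = t' := hT₂.fromSpec_primeIdealOf ⟨t', ht'⟩
    have h2 := hT₂.fromSpec_preimage_basicOpen g
    constructor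
    · intro h
      have : hT₂.primeIdealOf ⟨t', ht'⟩ ∈ hT₂.fromSpec ⁻¹ᵁ T.basicOpen g := by
        change hT₂.fromSpec _ ∈ T.basicOpen g
        rw [h1]; exact h
      rw [h2] at this
      exact this
    · intro h
      have : hT₂.primeIdealOf ⟨t', ht'⟩ ∈ hT₂.fromSpec ⁻¹ᵁ T.basicOpen g := by
        rw [h2]; exact h
      have h3 : hT₂.fromSpec (hT₂.primeIdealOf ⟨t', ht'⟩) ∈ T.basicOpen g := this
      rwa [h1] at h3
  have hWle : T.basicOpen g ≤ T₂ := T.basicOpen_le g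
  refine ⟨V, T.basicOpen g, hV, (hmem t htT₂).2 hg, hWle.trans hle, fun t' ht' => ?_⟩
  have ht'₂ : t' ∈ T₂ := hWle ht'
  have h1 := hgq (hT₂.primeIdealOf ⟨t', ht'₂⟩) ((hmem t' ht'₂).1 ht')
  have h2 := congrArg hV.fromSpec h1
  rw [hcomm, hcomm, hT₂.fromSpec_primeIdealOf, hT₂.fromSpec_primeIdealOf] at h2
  exact h2

end Groth.Agent.H52.NoSpecFibre
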