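import Groth.Agent.H52.CodimZeroQF
import Groth.Agent.H52.Special
import Groth.Agent.H52.SoberSp2
import Groth.Agent.H20.EtaleNormal
import Mathlib.RingTheory.LocalProperties.IntegrallyClosed

set_option autoImplicit false
universe u
open CategoryTheory CategoryTheory.Limits AlgebraicGeometry Opposite

namespace Groth.Agent.H52.NormalChart

open AlgSp

/-- Points with no proper generization. -/
def IsGen {W : Scheme.{u}} (η : W) : Prop := ∀ x' : W, x' ⤳ η → x' = η

theorem exists_gen (W : Scheme.{u}) (w : W) : ∃ η : W, IsGen η ∧ η ⤳ w := by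
  obtain ⟨η, hs, hd⟩ := H49.FibreGeneric.exists_specializes_ringKrullDim_stalk_eq_zero W w
  exact ⟨η, (CZ.stalk_dim_zero_iff η).1 hd, hs⟩

theorem gen_unique_of_isDomain_stalk {W : Scheme.{u}} (u : W) [IsDomain (W.presheaf.stalk u)]
    (η η' : W) (hη : IsGen η) (hη' : IsGen η') (h : η ⤳ u) (h' : η' ⤳ u) : η = η' := by
  have key : ∀ ζ : W, IsGen ζ → ζ ⤳ u →
      ζ = W.fromSpecStalk u (⊥ : PrimeSpectrum (W.presheaf.stalk u)) := by
    intro ζ hζ hζu
    have hmem : ζ ∈ Set.range (W.fromSpecStalk u) := by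
      rw [Scheme.range_fromSpecStalk]; exact hζu
    obtain ⟨p, rfl⟩ := hmem
    have hbp : (⊥ : PrimeSpectrum (W.presheaf.stalk u)) ⤳ p :=
      (PrimeSpectrum.le_iff_specializes _ _).1 bot_le
    exact (hζ _ (hbp.map (W.fromSpecStalk u).continuous)).symm
  rw [key η hη h, key η' hη' h']

/-- If the set of maximal generic points is finite and all stalks are domains, every point has an
open neighbourhood with a generic point. -/
theorem exists_open_generic (W : Scheme.{u}) (hfin : {η : W | IsGen η}.Finite)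
    (hdom : ∀ w : W, IsDomain (W.presheaf.stalk w)) (u₀ : W) :
    ∃ V : W.Opens, u₀ ∈ V ∧ ∃ η₁ : W, η₁ ∈ V ∧ ∀ v ∈ V, η₁ ⤳ v := by
  obtain ⟨η₁, hη₁, hη₁u⟩ := exists_gen W u₀
  let G : Set W := {η : W | IsGen η ∧ η ≠ η₁}
  have hG : G.Finite := hfin.subset (fun η h => h.1)
  have hcl : IsClosed (⋃ η ∈ G, closure ({η} : Set W)) :=
    hG.isClosed_biUnion (fun _ _ => isClosed_closure)
  let V : W.Opens := ⟨(⋃ η ∈ G, closure ({η} : Set W))ᶜ, hcl.isOpen_compl⟩
  have hu₀ : u₀ ∈ V := by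
    change u₀ ∉ ⋃ η ∈ G, closure ({η} : Set W)
    simp only [Set.mem_iUnion, not_exists]
    intro η hη hmem
    have : η ⤳ u₀ := specializes_iff_mem_closure.2 hmem
    have := hdom u₀
    exact hη.2 (gen_unique_of_isDomain_stalk u₀ η η₁ hη.1 hη₁ ‹_› hη₁u)
  refine ⟨V, hu₀, η₁, hη₁u.mem_open V.2 hu₀, ?_⟩
  intro v hv
  obtain ⟨η, hη, hηv⟩ := exists_gen W v
  by_cases he : η = η₁
  · rw [← he]; exact hηv
  · exfalso
    apply hv
    simp only [Set.mem_iUnion]
    exact ⟨η, ⟨hη, he⟩, specializes_iff_mem_closure.1 hηv⟩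


theorem isIntegral_of_generic (Z : Scheme.{u}) (η : Z) (hη : ∀ z : Z, η ⤳ z)
    (hdom : ∀ z : Z, IsDomain (Z.presheaf.stalk z)) : IsIntegral Z := by
  have hirr : IrreducibleSpace Z := by
    rw [irreducibleSpace_def]
    have h1 : IsIrreducible (closure ({η} : Set Z)) := isIrreducible_singleton.closure
    have h2 : closure ({η} : Set Z) = Set.univ := by
      rw [Set.eq_univ_iff_forall]
      intro z
      exact specializes_iff_mem_closure.1 (hη z)
    rwa [h2] at h1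
  have : ∀ z : Z, _root_.IsReduced (Z.presheaf.stalk z) := fun z => by
    have := hdom z
    infer_instance
  have : IsReduced Z := isReduced_of_isReduced_stalk Z
  exact isIntegral_of_irreducibleSpace_of_isReduced Z

theorem isIntegrallyClosed_Γ (Z : Scheme.{u}) [IsAffine Z] [IsIntegral Z]
    (hn : ∀ z : Z, IsIntegrallyClosed (Z.presheaf.stalk z)) : IsIntegrallyClosed Γ(Z, ⊤) := by
  have hU : IsAffineOpen (⊤ : Z.Opens) := isAffineOpen_top Z
  refine IsIntegrallyClosed.of_localization_maximal ?_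
  intro p _ hp
  let y : PrimeSpectrum Γ(Z, ⊤) := ⟨p, hp.isPrime⟩
  have hy : hU.fromSpec y ∈ (⊤ : Z.Opens) := trivial
  let _ := TopCat.Presheaf.algebra_section_stalk Z.presheaf ⟨hU.fromSpec y, hy⟩
  have hloc : IsLocalization.AtPrime (Z.presheaf.stalk (hU.fromSpec y)) p :=
    hU.isLocalization_stalk' y hy
  let e : Z.presheaf.stalk (hU.fromSpec y) ≃+* Localization.AtPrime p :=
    (IsLocalization.algEquiv p.primeCompl (Z.presheaf.stalk (hU.fromSpec y))
      (Localization.AtPrime p)).toRingEquiv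
  have := hn (hU.fromSpec y)
  exact IsIntegrallyClosed.of_equiv e


theorem normal_stalk_opens {U : Scheme.{u}} (W : U.Opens)
    (hn : ∀ u : U, IsDomain (U.presheaf.stalk u) ∧ IsIntegrallyClosed (U.presheaf.stalk u))
    (w : W.toScheme) : IsDomain (W.toScheme.presheaf.stalk w) ∧
      IsIntegrallyClosed (W.toScheme.presheaf.stalk w) :=
  H20.isDomain_and_isIntegrallyClosed_stalk_of_etale W.ι w (hn _)

variable {S : Scheme.{u}}

/-- The statement of S10492. -/
theorem s10492 (X : AlgSp.Space S)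
    (hXi : AlgSp.IsIntegralSp X.obj)
    (hXn : AlgSp.EtaleLocally (fun U => ∀ u : ↥U, IsDomain ↥(U.presheaf.stalk u) ∧
      IsIntegrallyClosed ↥(U.presheaf.stalk u)) X.obj)
    (x : AlgSp.Points X.obj) :
    ∃ (U : Over S) (a : (AlgSp.yon S).obj U ⟶ X.obj), AlgSp.RepWith @Etale a ∧ IsAffine U.left ∧
      IsIntegral U.left ∧ IsIntegrallyClosed ↥Γ(U.left, ⊤) ∧
      x ∈ Set.range (AlgSp.Points.ofPt a) := by
  obtain ⟨U₀, a₀, ha₀, ha₀s, hn⟩ := hXn
  obtain ⟨u₀, rfl⟩ := H51.surjective_ofPt_of_surjective a₀ ha₀s x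
  have hXd : IsDecent X.obj := hXi.2.1
  have hirr : IrreducibleSpace (Points X.obj) := hXi.2.2
  have hsob : QuasiSober (Points X.obj) := SoberSp.quasiSober_points_of_isDecent X hXd
  obtain ⟨ξ, hξ⟩ := QuasiSober.sober (irreducibleSpace_def (Points X.obj) |>.1 hirr)
    isClosed_univ
  obtain ⟨q, hq, -, hqc⟩ := hXd ξ
  -- affine open neighbourhood
  obtain ⟨_, ⟨W, hW, rfl⟩, hu₀W, -⟩ :=
    U₀.left.isBasis_affineOpens.exists_subset_of_mem_open (Set.mem_univ u₀) isOpen_univ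
  have hW' : IsAffineOpen W := hW
  let U₁ : Over S := Over.mk (Scheme.Opens.ι W ≫ U₀.hom)
  let a₁ : (yon S).obj U₁ ⟶ X.obj := (yon S).map (openIncl U₀ W) ≫ a₀
  have ha₁ : RepWith @Etale a₁ := repWith_etale_restrict a₀ ha₀ W
  have : IsAffine U₁.left := hW'
  have hnW : ∀ w : U₁.left, IsDomain (U₁.left.presheaf.stalk w) ∧
      IsIntegrallyClosed (U₁.left.presheaf.stalk w) := normal_stalk_opens W hn
  have hfin : {η : U₁.left | IsGen η}.Finite := by
    refine (finite_fibre_of_quasiCompact_point q hqc a₁ ha₁).subset ?_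
    intro η hη
    have hs : ξ ⤳ Points.ofPt a₁ η := by
      rw [specializes_iff_mem_closure, hξ.def]; trivial
    obtain ⟨u', hu'η, hu'⟩ := exists_specializes_lift _ ξ hs q hq hqc a₁ ha₁ η rfl
    have : u' = η := hη u' hu'η
    change Points.ofPt a₁ η = Points.mk q
    rw [← this, hu', hq]
  obtain ⟨V, hu₀V, η₁, hη₁V, hη₁⟩ :=
    exists_open_generic U₁.left hfin (fun w => (hnW w).1) ⟨u₀, hu₀W⟩
  obtain ⟨_, ⟨W₂, hW₂, rfl⟩, hu₀W₂, hW₂V⟩ :=
    U₁.left.isBasis_affineOpens.exists_subset_of_mem_open hu₀V V.2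
  have hW₂' : IsAffineOpen W₂ := hW₂
  let U₂ : Over S := Over.mk (Scheme.Opens.ι W₂ ≫ U₁.hom)
  let a₂ : (yon S).obj U₂ ⟶ X.obj := (yon S).map (openIncl U₁ W₂) ≫ a₁
  have ha₂ : RepWith @Etale a₂ := repWith_etale_restrict a₁ ha₁ W₂
  have hA : IsAffine U₂.left := hW₂'
  have hnW₂ : ∀ w : U₂.left, IsDomain (U₂.left.presheaf.stalk w) ∧
      IsIntegrallyClosed (U₂.left.presheaf.stalk w) := normal_stalk_opens W₂ hnW
  have hη₁W₂ : η₁ ∈ W₂ := (hη₁ _ hu₀V).mem_open W₂.2 hu₀W₂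
  have hI : IsIntegral U₂.left := by
    refine isIntegral_of_generic U₂.left ⟨η₁, hη₁W₂⟩ ?_ (fun w => (hnW₂ w).1)
    intro z
    refine (Topology.IsInducing.subtypeVal.specializes_iff).1 ?_
    exact hη₁ z.1 (hW₂V z.2)
  refine ⟨U₂, a₂, ha₂, hA, hI, ?_, ⟨⟨⟨u₀, hu₀W⟩, hu₀W₂⟩, ?_⟩⟩
  · exact isIntegrallyClosed_Γ U₂.left (fun w => (hnW₂ w).2)
  · change Points.ofPt ((yon S).map (openIncl U₁ W₂) ≫ a₁) _ = _
    rw [H51.ofPt_map_comp]
    change Points.ofPt ((yon S).map (openIncl U₀ W) ≫ a₀) _ = _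
    rw [H51.ofPt_map_comp]
    rfl

end Groth.Agent.H52.NormalChart
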