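import Groth.Agent.H52.NormalChart
import Groth.Agent.H52.GsectDomain
import Mathlib.Topology.Sheaves.SheafCondition.UniqueGluing
import Mathlib.RingTheory.IntegralClosure.IntegrallyClosed
import Mathlib.RingTheory.Localization.FractionRing

set_option autoImplicit false
universe u
open CategoryTheory CategoryTheory.Limits AlgebraicGeometry Opposite TopologicalSpace

namespace Groth.Agent.H52.NormalGsect

open AlgSp GsectDomain NormalChart

variable {S : Scheme.{u}}

/-- A global function from a compatible family of functions on étale charts. -/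
noncomputable def mkSection {X : Sp S} (c : ∀ E : EtOver X, Γ(E.obj.left.left, ⊤))
    (hc : ∀ {E E' : EtOver X} (g : E ⟶ E'), c E = g.hom.left.left.appTop.hom (c E')) :
    ↥(gsectEt (OEt X)) :=
  (Types.isLimitEquivSections (isLimitOfPreserves (forget CommRingCat.{u + 1})
    (limit.isLimit (OEt X).obj))).symm
    ⟨fun E => (ULift.up (c E.unop) : ((OEt X).obj.obj E)), by
      intro E E' g
      change (OEt X).obj.map g.unop.op (ULift.up (c E.unop)) = ULift.up (c E'.unop)
      rw [OEt_map, hc g.unop]⟩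

theorem res_mkSection {X : Sp S} (c : ∀ E : EtOver X, Γ(E.obj.left.left, ⊤))
    (hc : ∀ {E E' : EtOver X} (g : E ⟶ E'), c E = g.hom.left.left.appTop.hom (c E'))
    (E : EtOver X) : res (mkSection c hc) E = c E := by
  have := Types.isLimitEquivSections_symm_apply (isLimitOfPreserves (forget CommRingCat.{u + 1})
    (limit.isLimit (OEt X).obj))
    ⟨fun E => (ULift.up (c E.unop) : ((OEt X).obj.obj E)), by
      intro E E' g
      change (OEt X).obj.map g.unop.op (ULift.up (c E.unop)) = ULift.up (c E'.unop)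
      rw [OEt_map, hc g.unop]⟩ (op E)
  exact congrArg ULift.down this

theorem gsect_ext {X : Sp S} (f g : ↥(gsectEt (OEt X))) (h : ∀ E : EtOver X, res f E = res g E) :
    f = g := by
  refine Concrete.limit_ext _ _ _ ?_
  intro E
  have := h E.unop
  unfold res at this
  exact ULift.ext _ _ this


/-- Non-vanishing of a global function at a point of a chart only depends on the image point. -/
theorem mem_basicOpen_res_iff {X : Sp S} (f : ↥(gsectEt (OEt X))) (E : EtOver X)
    (e : ↥E.obj.left.left) :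
    e ∈ E.obj.left.left.basicOpen (res f E) ↔ Points.ofPt E.obj.hom e ∈ nonvan f := by
  constructor
  · intro he
    exact ⟨E, e, he, rfl⟩
  · rintro ⟨E₂, e₂, he₂, hx₂⟩
    have hpb := E₂.property.1.isPullback' E.obj.hom
    obtain ⟨v, hv2, hv1⟩ := (ofPt_eq_iff_of_isPullback hpb e₂ e).1 hx₂
    let P := EtOver.prodObj E E₂
    have h1 : res f P = (EtOver.prodFst E E₂).hom.left.left.appTop.hom (res f E) := res_map f _
    have h2 : res f P = (EtOver.prodSnd E E₂).hom.left.left.appTop.hom (res f E₂) := res_map f _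
    have hv1' : (EtOver.prodFst E E₂).hom.left.left v = e := hv1
    have hv2' : (EtOver.prodSnd E E₂).hom.left.left v = e₂ := hv2
    have m2 : v ∈ P.obj.left.left.basicOpen (res f P) := by
      rw [h2]
      have := (Scheme.preimage_basicOpen_top (EtOver.prodSnd E E₂).hom.left.left (res f E₂)).symm
      refine this ▸ ?_
      change (EtOver.prodSnd E E₂).hom.left.left v ∈ E₂.obj.left.left.basicOpen (res f E₂)
      rw [hv2']; exact he₂
    rw [h1] at m2
    have := (Scheme.preimage_basicOpen_top (EtOver.prodFst E E₂).hom.left.left (res f E))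
    have m3 : v ∈ (EtOver.prodFst E E₂).hom.left.left ⁻¹ᵁ E.obj.left.left.basicOpen (res f E) := by
      rw [this]; exact m2
    have m4 : (EtOver.prodFst E E₂).hom.left.left v ∈ E.obj.left.left.basicOpen (res f E) := m3
    rwa [hv1'] at m4


section integral

variable (X : AlgSp.Space S) (hXi : IsIntegralSp X.obj)
include hXi

theorem nonvan_nonempty (f : ↥(gsectEt (OEt X.obj))) (hf : f ≠ 0) : (nonvan f).Nonempty := by
  by_contra h
  rw [Set.not_nonempty_iff_eq_empty] at h
  apply hf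
  refine (Groth.Agent.H51.gsectEt_reduced X hXi.1).2 f fun E => ?_
  rw [eq_bot_iff]
  intro e he
  have : Points.ofPt E.obj.hom e ∈ nonvan f := ⟨E, e, he, rfl⟩
  rw [h] at this
  exact this.elim

/-- Maximal generic points of charts map to the generic point. -/
theorem ofPt_gen_eq (ξ : Points X.obj) (hξ : IsGenericPoint ξ (Set.univ : Set (Points X.obj)))
    (E : EtOver X.obj) (e : ↥E.obj.left.left) (he : IsGen e) : Points.ofPt E.obj.hom e = ξ := by
  obtain ⟨q, hq, -, hqc⟩ := hXi.2.1 ξ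
  have hs : ξ ⤳ Points.ofPt E.obj.hom e := by
    rw [specializes_iff_mem_closure, hξ.def]; trivial
  obtain ⟨u', hu'e, hu'⟩ := exists_specializes_lift _ ξ hs q hq hqc E.obj.hom E.property e rfl
  have : u' = e := he u' hu'e
  rw [← this, hu']

theorem mem_basicOpen_of_gen (ξ : Points X.obj)
    (hξ : IsGenericPoint ξ (Set.univ : Set (Points X.obj)))
    (b : ↥(gsectEt (OEt X.obj))) (hb : b ≠ 0)
    (E : EtOver X.obj) (e : ↥E.obj.left.left) (he : IsGen e) :
    e ∈ E.obj.left.left.basicOpen (res b E) := by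
  rw [mem_basicOpen_res_iff, ofPt_gen_eq X hXi ξ hξ E e he,
    hξ.mem_open_set_iff (isOpen_nonvan b), Set.univ_inter]
  exact nonvan_nonempty X hXi b hb

/-- A nonzero global function restricts to a nonzerodivisor on every open of every chart. -/
theorem nzd_res (ξ : Points X.obj) (hξ : IsGenericPoint ξ (Set.univ : Set (Points X.obj)))
    (b : ↥(gsectEt (OEt X.obj))) (hb : b ≠ 0)
    (E : EtOver X.obj) (V : E.obj.left.left.Opens) (t : Γ(E.obj.left.left, V))
    (h : E.obj.left.left.presheaf.map (homOfLE (le_top : V ≤ ⊤)).op (res b E) * t = 0) :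
    t = 0 := by
  have : AlgebraicGeometry.IsReduced E.obj.left.left :=
    Groth.Agent.H51.isReduced_of_isReducedSp hXi.1 E
  rw [← basicOpen_eq_bot_iff, eq_bot_iff]
  intro e he
  obtain ⟨e', hgen, hs⟩ := exists_gen _ e
  have he' : e' ∈ E.obj.left.left.basicOpen t := hs.mem_open (E.obj.left.left.basicOpen t).2 he
  have heV : e' ∈ V := E.obj.left.left.basicOpen_le t he'
  have hb' := mem_basicOpen_of_gen X hXi ξ hξ b hb E e' hgen
  have hmem : e' ∈ E.obj.left.left.basicOpen
      (E.obj.left.left.presheaf.map (homOfLE (le_top : V ≤ ⊤)).op (res b E) * t) := by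
    rw [Scheme.basicOpen_mul, Scheme.basicOpen_res]
    exact ⟨⟨heV, hb'⟩, he'⟩
  rw [h, Scheme.basicOpen_zero] at hmem
  exact hmem.elim

end integral

theorem map_map_top {T : Scheme.{u}} {V W : T.Opens} (i : W ⟶ V) (s : Γ(T, ⊤)) :
    T.presheaf.map i.op (T.presheaf.map (homOfLE (le_top : V ≤ ⊤)).op s) =
      T.presheaf.map (homOfLE (le_top : W ≤ ⊤)).op s := by
  rw [← CommRingCat.comp_apply, ← Functor.map_comp]
  rfl

/-- Divisibility of global functions can be checked locally when the divisor is a nonzerodivisor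
on all opens. -/
theorem exists_mul_eq_of_locally {T : Scheme.{u}} (a b : Γ(T, ⊤))
    (hnzd : ∀ (V : T.Opens) (t : Γ(T, V)),
      T.presheaf.map (homOfLE (le_top : V ≤ ⊤)).op b * t = 0 → t = 0)
    (hloc : ∀ t : T, ∃ V : T.Opens, t ∈ V ∧ ∃ c : Γ(T, V),
      T.presheaf.map (homOfLE (le_top : V ≤ ⊤)).op a =
        T.presheaf.map (homOfLE (le_top : V ≤ ⊤)).op b * c) :
    ∃ c : Γ(T, ⊤), a = b * c := by
  choose V hV c hc using hloc
  have hcompat : TopCat.Presheaf.IsCompatible T.sheaf.1 V c := by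
    intro i j
    have h1 := congrArg (T.presheaf.map (Opens.infLELeft (V i) (V j)).op) (hc i)
    have h2 := congrArg (T.presheaf.map (Opens.infLERight (V i) (V j)).op) (hc j)
    rw [map_mul, map_map_top] at h1 h2
    rw [map_map_top] at h1 h2
    have h3 : T.presheaf.map (homOfLE (le_top : V i ⊓ V j ≤ ⊤)).op b *
        (T.presheaf.map (Opens.infLELeft (V i) (V j)).op (c i) -
          T.presheaf.map (Opens.infLERight (V i) (V j)).op (c j)) = 0 := by
      rw [mul_sub, ← h1, ← h2, sub_self]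
    exact sub_eq_zero.1 (hnzd _ _ h3)
  have hcover : (⊤ : T.Opens) ≤ iSup V := by
    intro t _
    exact Opens.mem_iSup.2 ⟨t, hV t⟩
  obtain ⟨s, hs, -⟩ := T.sheaf.existsUnique_gluing' V ⊤ (fun i => homOfLE le_top) hcover c hcompat
  let s' : Γ(T, ⊤) := s
  refine ⟨s', ?_⟩
  refine T.sheaf.eq_of_locally_eq' V ⊤ (fun i => homOfLE le_top) hcover _ _ ?_
  intro i
  have := hs i
  change T.presheaf.map (homOfLE (le_top : V i ≤ ⊤)).op a =
    T.presheaf.map (homOfLE (le_top : V i ≤ ⊤)).op (b * s')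
  rw [map_mul, hc i]
  congr 1
  exact this.symm


/-- Relative form of `NormalChart.exists_open_generic`. -/
theorem exists_open_generic_in (T : Scheme.{u}) (W : T.Opens)
    (hfin : {η : T | IsGen η ∧ η ∈ W}.Finite)
    (hdom : ∀ w : T, IsDomain (T.presheaf.stalk w)) (u₀ : T) (hu₀ : u₀ ∈ W) :
    ∃ V : T.Opens, V ≤ W ∧ u₀ ∈ V ∧ ∃ η₁ : T, η₁ ∈ V ∧ ∀ v ∈ V, η₁ ⤳ v := by
  obtain ⟨η₁, hη₁, hη₁u⟩ := exists_gen T u₀
  let G : Set T := {η : T | (IsGen η ∧ η ∈ W) ∧ η ≠ η₁}
  have hG : G.Finite := hfin.subset (fun η h => h.1)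
  have hcl : IsClosed (⋃ η ∈ G, closure ({η} : Set T)) :=
    hG.isClosed_biUnion (fun _ _ => isClosed_closure)
  let V₀ : T.Opens := ⟨(⋃ η ∈ G, closure ({η} : Set T))ᶜ, hcl.isOpen_compl⟩
  have hu₀V : u₀ ∈ V₀ := by
    change u₀ ∉ ⋃ η ∈ G, closure ({η} : Set T)
    simp only [Set.mem_iUnion, not_exists]
    intro η hη hmem
    have h1 : η ⤳ u₀ := specializes_iff_mem_closure.2 hmem
    have := hdom u₀
    exact hη.2 (gen_unique_of_isDomain_stalk u₀ η η₁ hη.1.1 hη₁ h1 hη₁u)
  refine ⟨W ⊓ V₀, inf_le_left, ⟨hu₀, hu₀V⟩, η₁,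
    hη₁u.mem_open (W ⊓ V₀).2 ⟨hu₀, hu₀V⟩, ?_⟩
  rintro v ⟨hvW, hvV⟩
  obtain ⟨η, hη, hηv⟩ := exists_gen T v
  by_cases he : η = η₁
  · rw [← he]; exact hηv
  · exfalso
    apply hvV
    simp only [Set.mem_iUnion]
    exact ⟨η, ⟨⟨hη, hηv.mem_open W.2 hvW⟩, he⟩, specializes_iff_mem_closure.1 hηv⟩


/-- Every scheme étale over a normal algebraic space has normal local rings. -/
theorem normal_stalks_chart {X : Sp S}
    (hXn : AlgSp.EtaleLocally (fun U => ∀ u : ↥U, IsDomain ↥(U.presheaf.stalk u) ∧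
      IsIntegrallyClosed ↥(U.presheaf.stalk u)) X) (E : EtOver X) (e : ↥E.obj.left.left) :
    IsDomain (E.obj.left.left.presheaf.stalk e) ∧
      IsIntegrallyClosed (E.obj.left.left.presheaf.stalk e) := by
  obtain ⟨U, a, hae, has, hn⟩ := hXn
  have hpb := hae.1.isPullback E.obj.hom
  have het : Etale (hae.1.snd E.obj.hom).left := hae.2 _ _ _ hpb
  have hsu : Surjective (hae.1.snd E.obj.hom).left := has.2 _ _ _ hpb
  have het' : Etale (hae.1.fst' E.obj.hom).left := by
    have hpb' : IsPullback ((yon S).map (hae.1.snd E.obj.hom)) ((yon S).map (hae.1.fst' E.obj.hom))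
        E.obj.hom a := by
      have := hpb.flip
      rwa [← Functor.relativelyRepresentable.map_fst'] at this
    exact E.property.2 _ _ _ hpb'
  obtain ⟨w, hw⟩ := hsu.surj e
  have h1 := H20.isDomain_and_isIntegrallyClosed_stalk_of_etale (hae.1.fst' E.obj.hom).left w
    (hn _)
  have h2 := (H20.isDomain_and_isIntegrallyClosed_stalk_iff_of_etale
    (hae.1.snd E.obj.hom).left w).1 h1
  rw [hw] at h2
  exact h2

/-- Points of charts of a normal integral space have affine open neighbourhoods whose ring of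
functions is a normal domain. -/
theorem exists_normal_affine_nbhd (X : AlgSp.Space S) (hXi : IsIntegralSp X.obj)
    (ξ : Points X.obj) (hξ : IsGenericPoint ξ (Set.univ : Set (Points X.obj)))
    (E : EtOver X.obj)
    (hn : ∀ e : ↥E.obj.left.left, IsDomain (E.obj.left.left.presheaf.stalk e) ∧
      IsIntegrallyClosed (E.obj.left.left.presheaf.stalk e)) (e₀ : ↥E.obj.left.left) :
    ∃ W : E.obj.left.left.Opens, e₀ ∈ W ∧ IsDomain Γ(E.obj.left.left, W) ∧
      IsIntegrallyClosed Γ(E.obj.left.left, W) := by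
  obtain ⟨q, hq, -, hqc⟩ := hXi.2.1 ξ
  obtain ⟨_, ⟨W, hW, rfl⟩, he₀W, -⟩ :=
    E.obj.left.left.isBasis_affineOpens.exists_subset_of_mem_open (Set.mem_univ e₀) isOpen_univ
  have hW' : IsAffineOpen W := hW
  let U₁ : Over S := Over.mk (Scheme.Opens.ι W ≫ E.obj.left.hom)
  let a₁ : (yon S).obj U₁ ⟶ X.obj := (yon S).map (openIncl E.obj.left W) ≫ E.obj.hom
  have ha₁ : RepWith @Etale a₁ := repWith_etale_restrict E.obj.hom E.property W
  have : IsAffine U₁.left := hW'
  have hfin : {η : E.obj.left.left | IsGen η ∧ η ∈ W}.Finite := by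
    have h1 := (finite_fibre_of_quasiCompact_point q hqc a₁ ha₁).image
      (fun w : U₁.left => (Scheme.Opens.ι W) w)
    refine h1.subset ?_
    rintro η ⟨hη, hηW⟩
    refine ⟨⟨η, hηW⟩, ?_, rfl⟩
    change Points.ofPt a₁ ⟨η, hηW⟩ = Points.mk q
    rw [hq]
    change Points.ofPt ((yon S).map (openIncl E.obj.left W) ≫ E.obj.hom) _ = _
    rw [H51.ofPt_map_comp]
    exact ofPt_gen_eq X hXi ξ hξ E η hη
  obtain ⟨V, hVW, he₀V, η₁, hη₁V, hη₁⟩ :=
    exists_open_generic_in E.obj.left.left W hfin (fun w => (hn w).1) e₀ he₀W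
  obtain ⟨_, ⟨W₂, hW₂, rfl⟩, he₀W₂, hW₂V⟩ :=
    E.obj.left.left.isBasis_affineOpens.exists_subset_of_mem_open he₀V V.2
  have hW₂' : IsAffineOpen W₂ := hW₂
  let W₂' : E.obj.left.left.Opens := W₂
  have hA : IsAffine (W₂' : Scheme.{u}) := hW₂'
  have hnW₂ : ∀ w : (W₂' : Scheme.{u}), IsDomain ((W₂' : Scheme.{u}).presheaf.stalk w) ∧
      IsIntegrallyClosed ((W₂' : Scheme.{u}).presheaf.stalk w) := normal_stalk_opens W₂' hn
  have hη₁W₂ : η₁ ∈ W₂' := (hη₁ _ he₀V).mem_open W₂'.2 he₀W₂
  have hI : IsIntegral (W₂' : Scheme.{u}) := by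
    refine isIntegral_of_generic (W₂' : Scheme.{u}) ⟨η₁, hη₁W₂⟩ ?_ (fun w => (hnW₂ w).1)
    intro z
    refine (Topology.IsInducing.subtypeVal.specializes_iff).1 ?_
    exact hη₁ z.1 (hW₂V z.2)
  have hIC : IsIntegrallyClosed Γ((W₂' : Scheme.{u}), ⊤) :=
    isIntegrallyClosed_Γ (W₂' : Scheme.{u}) (fun w => (hnW₂ w).2)
  let eqv : Γ((W₂' : Scheme.{u}), ⊤) ≃+* Γ(E.obj.left.left, W₂') :=
    (Scheme.Opens.topIso W₂').commRingCatIsoToRingEquiv
  refine ⟨W₂', he₀W₂, ?_, ?_⟩
  · have : IsDomain Γ((W₂' : Scheme.{u}), ⊤) := inferInstance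
    exact eqv.symm.toMulEquiv.isDomain _
  · exact IsIntegrallyClosed.of_equiv eqv

theorem exists_mul_eq_of_isIntegral {R D : Type*} [CommRing R] [IsDomain R] [CommRing D] [IsDomain D]
    [IsIntegrallyClosed D] (ρ : R →+* D) (hρ : Function.Injective ρ) (a b : R)
    (x : FractionRing R) (hx : IsIntegral R x)
    (hab : x * algebraMap R (FractionRing R) b = algebraMap R (FractionRing R) a) :
    ∃ c : D, ρ a = ρ b * c := by
  let K := FractionRing R
  let L := FractionRing D
  let g : R →+* L := (algebraMap D L).comp ρ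
  have hg : Function.Injective g := (IsFractionRing.injective D L).comp hρ
  let ψ : K →+* L := IsFractionRing.lift hg
  have hψ : ∀ r : R, ψ (algebraMap R K r) = algebraMap D L (ρ r) :=
    fun r => IsFractionRing.lift_algebraMap hg r
  have hint : IsIntegral D (ψ x) := by
    refine IsIntegral.map_of_comp_eq ρ ψ ?_ hx
    ext r
    exact (hψ r).symm
  obtain ⟨c, hc⟩ := IsIntegrallyClosed.isIntegral_iff.1 hint
  refine ⟨c, ?_⟩
  apply IsFractionRing.injective D L
  rw [map_mul, hc, ← hψ, ← hψ, ← map_mul, mul_comm, hab]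


/-- Restriction to a chart as a ring homomorphism. -/
noncomputable def resHom {X : Sp S} (E : EtOver X) :
    ↥(gsectEt (OEt X)) →+* Γ(E.obj.left.left, ⊤) :=
  (ULift.ringEquiv : ULift.{u + 1} Γ(E.obj.left.left, ⊤) ≃+* Γ(E.obj.left.left, ⊤)).toRingHom.comp
    (limit.π (OEt X).obj (op E)).hom

theorem resHom_apply {X : Sp S} (E : EtOver X) (f : ↥(gsectEt (OEt X))) :
    resHom E f = res f E := rfl

theorem nzd_res_top (X : AlgSp.Space S) (hXi : IsIntegralSp X.obj)
    (ξ : Points X.obj) (hξ : IsGenericPoint ξ (Set.univ : Set (Points X.obj)))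
    (b : ↥(gsectEt (OEt X.obj))) (hb : b ≠ 0)
    (E : EtOver X.obj) (t : Γ(E.obj.left.left, ⊤)) (h : res b E * t = 0) : t = 0 := by
  refine nzd_res X hXi ξ hξ b hb E ⊤ t ?_
  have : E.obj.left.left.presheaf.map (homOfLE (le_top : (⊤ : E.obj.left.left.Opens) ≤ ⊤)).op
      (res b E) = res b E := by
    have h1 : (homOfLE (le_top : (⊤ : E.obj.left.left.Opens) ≤ ⊤)).op = 𝟙 _ := rfl
    rw [h1, CategoryTheory.Functor.map_id]
    rfl
  rw [this]
  exact h

/-- **S10495**: global functions on a normal integral algebraic space form a normal domain. -/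
theorem s10495 (X : AlgSp.Space S) (hXi : AlgSp.IsIntegralSp X.obj)
    (hXn : AlgSp.EtaleLocally (fun U => ∀ u : ↥U, IsDomain ↥(U.presheaf.stalk u) ∧
      IsIntegrallyClosed ↥(U.presheaf.stalk u)) X.obj) :
    IsDomain ↥(AlgSp.gsectEt (AlgSp.OEt X.obj)) ∧
      IsIntegrallyClosed ↥(AlgSp.gsectEt (AlgSp.OEt X.obj)) := by
  have hdom : IsDomain ↥(gsectEt (OEt X.obj)) := isDomain_gsectEt X hXi
  refine ⟨hdom, ?_⟩
  have hXd : IsDecent X.obj := hXi.2.1
  have hirr : IrreducibleSpace (Points X.obj) := hXi.2.2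
  have hsob : QuasiSober (Points X.obj) := SoberSp.quasiSober_points_of_isDecent X hXd
  obtain ⟨ξ, hξ₀⟩ := QuasiSober.sober (irreducibleSpace_def (Points X.obj) |>.1 hirr)
    isClosed_univ
  have hξ : IsGenericPoint ξ (Set.univ : Set (Points X.obj)) := hξ₀
  rw [isIntegrallyClosed_iff (FractionRing ↥(gsectEt (OEt X.obj)))]
  intro x hx
  obtain ⟨a, b, hb, hab⟩ := IsFractionRing.div_surjective (A := ↥(gsectEt (OEt X.obj))) x
  have hb0 : b ≠ 0 := nonZeroDivisors.ne_zero hb
  have hbK : algebraMap ↥(gsectEt (OEt X.obj)) (FractionRing ↥(gsectEt (OEt X.obj))) b ≠ 0 := by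
    intro h0
    exact hb0 ((IsFractionRing.injective _ _) (h0.trans (map_zero _).symm))
  have hab' : x * algebraMap ↥(gsectEt (OEt X.obj)) (FractionRing ↥(gsectEt (OEt X.obj))) b =
      algebraMap ↥(gsectEt (OEt X.obj)) (FractionRing ↥(gsectEt (OEt X.obj))) a := by
    rw [← hab, div_mul_cancel₀ _ hbK]
  -- local existence on every chart
  have hex : ∀ E : EtOver X.obj, ∃ c : Γ(E.obj.left.left, ⊤), res a E = res b E * c := by
    intro E
    refine exists_mul_eq_of_locally (res a E) (res b E) (nzd_res X hXi ξ hξ b hb0 E) ?_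
    intro t
    obtain ⟨W, htW, hD, hIC⟩ := exists_normal_affine_nbhd X hXi ξ hξ E
      (normal_stalks_chart hXn E) t
    refine ⟨W, htW, ?_⟩
    let ρ : ↥(gsectEt (OEt X.obj)) →+* Γ(E.obj.left.left, W) :=
      (E.obj.left.left.presheaf.map (homOfLE (le_top : W ≤ ⊤)).op).hom.comp (resHom E)
    have hρ : Function.Injective ρ := by
      rw [injective_iff_map_eq_zero]
      intro r hr
      by_contra hr0
      have h1 : (1 : Γ(E.obj.left.left, W)) = 0 := by
        refine nzd_res X hXi ξ hξ r hr0 E W 1 ?_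
        rw [mul_one]
        exact hr
      exact one_ne_zero h1
    exact exists_mul_eq_of_isIntegral ρ hρ a b x hx hab'
  choose c hc using hex
  have hcompat : ∀ {E E' : EtOver X.obj} (g : E ⟶ E'),
      c E = g.hom.left.left.appTop.hom (c E') := by
    intro E E' g
    have h1 : res a E = res b E * g.hom.left.left.appTop.hom (c E') := by
      rw [res_map a g, res_map b g, hc E', map_mul]
    have h2 : res b E * (c E - g.hom.left.left.appTop.hom (c E')) = 0 := by
      rw [mul_sub, ← hc E, ← h1, sub_self]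
    exact sub_eq_zero.1 (nzd_res_top X hXi ξ hξ b hb0 E _ h2)
  refine ⟨mkSection c hcompat, ?_⟩
  have hmul : a = b * mkSection c hcompat := by
    refine gsect_ext _ _ fun E => ?_
    rw [res_mul, res_mkSection, hc E]
  rw [← hab, hmul, map_mul, mul_div_cancel_left₀ _ hbK]

end Groth.Agent.H52.NormalGsect
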