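import Groth.Agent.H52.GeomUnibranchSp3
import Groth.Agent.H52.GeomRed
import Groth.Agent.H51.SpDim

/-!
# Reducedness of the etale local ring of an algebraic space
-/

set_option autoImplicit false
universe u
open CategoryTheory CategoryTheory.Limits AlgebraicGeometry TopologicalSpace Opposite
open AlgSp

namespace Groth.Agent.H52.OEtStalkReduced

open Groth.Agent.H51 Groth.Agent.H52.GeomUnibranchSp

variable {S : Scheme.{u}} (X : AlgSp.Space S) (p : FieldPt X.obj) (hp : p.IsGeometric)

/-- A function whose germ at the centre of an etale neighbourhood vanishes has zero image in the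
etale local ring. -/
theorem germR_eq_zero_of_germ (U : EtOver X.obj) (l : (FieldPt.liftsTo p).obj U)
    (v : ↥U.obj.left.left) (hv : l.1.left (IsLocalRing.closedPoint p.K) = v)
    (r : Γ(U.obj.left.left, ⊤))
    (hr : U.obj.left.left.presheaf.germ ⊤ v trivial r = 0) :
    germR X p hp U l r = 0 := by
  subst hv
  obtain ⟨W, hvW, hW0⟩ := exists_opens_appTop_eq_zero _ _ hr
  obtain ⟨l'', hl''⟩ := exists_lift_ofOpen X p U l W (by
    rintro _ ⟨y, rfl⟩
    have : y = IsLocalRing.closedPoint p.K :=
      Subsingleton.elim (α := ↥(Spec (CommRingCat.of p.K))) _ _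
    rw [this]; exact hvW)
  rw [germR_w X p hp (EtOver.ofOpenι U W) l'' l hl'']
  change germR X p hp _ l'' ((EtOver.ofOpenι U W).hom.left.left.appTop.hom r) = 0
  rw [show (EtOver.ofOpenι U W).hom.left.left.appTop.hom r = 0 from hW0, map_zero]

/-- A function with zero image in the etale local ring has zero germ at the centre of the etale
neighbourhood. -/
theorem germ_eq_zero_of_germR (U : EtOver X.obj) (l : (FieldPt.liftsTo p).obj U)
    (v : ↥U.obj.left.left) (hv : l.1.left (IsLocalRing.closedPoint p.K) = v)
    (r : Γ(U.obj.left.left, ⊤)) (hr : germR X p hp U l r = 0) :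
    U.obj.left.left.presheaf.germ ⊤ v trivial r = 0 := by
  subst hv
  rw [germR_eq_zero_iff] at hr
  obtain ⟨V, φ, l', hl', hV⟩ := hr
  subst hl'
  have het : Etale φ.hom.left.left := EtOver.etale_left φ
  apply stalkMap_injective_of_flat φ.hom.left.left (l'.1.left (IsLocalRing.closedPoint p.K))
  have := Scheme.Hom.germ_stalkMap_apply φ.hom.left.left ⊤
    (l'.1.left (IsLocalRing.closedPoint p.K)) trivial r
  refine this.trans ?_
  rw [show φ.hom.left.left.app ⊤ r = 0 from hV, map_zero]
  exact (map_zero _).symm

/-- Reducedness of the local rings of etale charts at points over `x` does not depend on the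
chart. -/
theorem isReduced_stalk_of_hasAt {F : Sp S} (x : Points F)
    (h : HasAt (fun U u => _root_.IsReduced ↥(U.presheaf.stalk u)) F x)
    {V : Over S} (b : (yon S).obj V ⟶ F) (hb : RepWith @Etale b) (v : ↥V.left)
    (hv : Points.ofPt b v = x) : _root_.IsReduced (V.left.presheaf.stalk v) := by
  obtain ⟨U₀, a₀, u₀, ha₀, hu₀, hred⟩ := h
  obtain ⟨W, p₁, p₂, w, hp₁, hp₂, hw1, hw2, -⟩ :=
    exists_common_etale_refinement a₀ ha₀ b hb u₀ v (hu₀.trans hv.symm)
  have h1 : _root_.IsReduced (W.left.presheaf.stalk w) := by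
    apply Groth.Agent.H52.isReduced_stalk_of_etale p₁.left w
    rw [hw1]; exact hred
  have h2 := Groth.Agent.H52.isReduced_stalk_of_flat p₂.left w h1
  rw [hw2] at h2
  exact h2

include hp in
/-- If the local ring of `X` at the point under `p` is reduced, the etale local ring is. -/
theorem isReduced_OEtStalk
    (h : HasAt (fun U u => _root_.IsReduced ↥(U.presheaf.stalk u)) X.obj (Points.mk p)) :
    _root_.IsReduced ↥(OEtStalk p) := by
  refine ⟨fun a ha => ?_⟩
  obtain ⟨U, l, s, rfl⟩ := germR_jointly_surjective X p hp a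
  have h1 := isNilpotent_germ_of_germR X p hp U l _ rfl s ha
  have hred : _root_.IsReduced (U.obj.left.left.presheaf.stalk
      (l.1.left (IsLocalRing.closedPoint p.K))) :=
    isReduced_stalk_of_hasAt _ h U.obj.hom U.property _ (ofPt_lift_eq p l _)
  exact germR_eq_zero_of_germ X p hp U l _ rfl s (hred.eq_zero _ h1)

/-- A localization is reduced as soon as nilpotent images of elements of the base ring vanish. -/
theorem isReduced_of_isLocalization {A B : Type*} [CommRing A] [CommRing B]
    [Algebra A B] (M : Submonoid A) [IsLocalization M B]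
    (H : ∀ s : A, IsNilpotent (algebraMap A B s) → algebraMap A B s = 0) :
    _root_.IsReduced B := by
  refine ⟨fun b hb => ?_⟩
  obtain ⟨⟨s, m⟩, hs⟩ := IsLocalization.surj M b
  have hc : IsUnit (algebraMap A B m) := IsLocalization.map_units B m
  have h1 : IsNilpotent (algebraMap A B s) := by
    rw [← hs]
    exact (Commute.all _ _).isNilpotent_mul_right hb
  have h2 := H s h1
  rw [← hs] at h2
  exact (hc.mul_left_eq_zero).1 h2

include hp in
/-- If the etale local ring is reduced, so is the local ring of `X` at the point under `p`. -/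
theorem hasAt_isReduced_of_OEtStalk (hred : _root_.IsReduced ↥(OEtStalk p)) :
    HasAt (fun U u => _root_.IsReduced ↥(U.presheaf.stalk u)) X.obj (Points.mk p) := by
  obtain ⟨U, a, hae, has⟩ := X.property.atlas
  obtain ⟨u', hu'⟩ := exists_lift_of_chart p hp a hae has
  obtain ⟨E', φ, l', -, hE'⟩ := exists_affine_nbhd X p (EtOver.mk a hae) ⟨u', hu'⟩
  refine ⟨E'.obj.left, E'.obj.hom, l'.1.left (IsLocalRing.closedPoint p.K), E'.property,
    ofPt_lift_eq p l' _, ?_⟩
  have hY : IsAffineOpen (⊤ : E'.obj.left.left.Opens) := isAffineOpen_top E'.obj.left.left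
  let _ : Algebra Γ(E'.obj.left.left, ⊤)
      (E'.obj.left.left.presheaf.stalk (l'.1.left (IsLocalRing.closedPoint p.K))) :=
    E'.obj.left.left.presheaf.algebra_section_stalk
      (⟨l'.1.left (IsLocalRing.closedPoint p.K), trivial⟩ : (⊤ : E'.obj.left.left.Opens))
  have hloc : IsLocalization.AtPrime
      (E'.obj.left.left.presheaf.stalk (l'.1.left (IsLocalRing.closedPoint p.K)))
      (hY.primeIdealOf ⟨l'.1.left (IsLocalRing.closedPoint p.K), trivial⟩).asIdeal :=
    hY.isLocalization_stalk ⟨l'.1.left (IsLocalRing.closedPoint p.K), trivial⟩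
  refine isReduced_of_isLocalization
    (hY.primeIdealOf ⟨l'.1.left (IsLocalRing.closedPoint p.K), trivial⟩).asIdeal.primeCompl
    (fun s hs => ?_)
  have h1 := isNilpotent_germR_of_germ X p hp E' l' _ rfl s hs
  exact germ_eq_zero_of_germR X p hp E' l' _ rfl s (hred.eq_zero _ h1)

end Groth.Agent.H52.OEtStalkReduced
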