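import Mathlib
import Groth.Agent.H10.ZariskiJacobson

set_option autoImplicit false
universe u
open CategoryTheory AlgebraicGeometry

namespace Groth.Agent.H52.Punct

/-- In a Noetherian local ring, if `q₁ < q₂ < 𝔪` are primes and `f ∉ q₁`, there is a prime `Q` with
`q₁ < Q`, `Q ≠ 𝔪` and `f ∉ Q`. -/
theorem exists_prime_between {R : Type*} [CommRing R] [IsNoetherianRing R] [IsLocalRing R]
    (q₁ q₂ : Ideal R) [q₁.IsPrime] [q₂.IsPrime] (h12 : q₁ < q₂)
    (h2 : q₂ ≠ IsLocalRing.maximalIdeal R) (f : R) (hf : f ∉ q₁) :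
    ∃ Q : Ideal R, Q.IsPrime ∧ q₁ < Q ∧ Q ≠ IsLocalRing.maximalIdeal R ∧ f ∉ Q := by
  by_contra hcon
  push Not at hcon
  by_cases hfm : f ∈ IsLocalRing.maximalIdeal R
  · have h : ∀ Q : Ideal R, Q.IsPrime → q₁ < Q → f ∈ Q := by
      intro Q hQ hlt
      by_cases hQm : Q = IsLocalRing.maximalIdeal R
      · rw [hQm]; exact hfm
      · exact hcon Q hQ hlt hQm
    have hmax := H10.isMaximal_of_lt_of_forall_mem q₁ f hf h q₂ h12
    exact h2 (IsLocalRing.eq_maximalIdeal hmax)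
  · have := hcon q₂ inferInstance h12 h2
    exact hfm (IsLocalRing.le_maximalIdeal (Ideal.IsPrime.ne_top inferInstance) this)

/-- In a locally Noetherian scheme, a point `u₁` with `u₁ ⤳ u₂ ⤳ u`, all distinct, is not isolated
among the proper generizations of `u` lying in its closure. -/
theorem exists_between {U : Scheme.{u}} [IsLocallyNoetherian U] (u₁ u₂ u₀ : ↥U) (h12 : u₁ ⤳ u₂)
    (h2 : u₂ ⤳ u₀) (hne12 : u₁ ≠ u₂) (hne2 : u₂ ≠ u₀) (V : Set ↥U) (hV : IsOpen V)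
    (hu₁ : u₁ ∈ V) :
    ∃ t : ↥U, u₁ ⤳ t ∧ t ⤳ u₀ ∧ t ≠ u₁ ∧ t ≠ u₀ ∧ t ∈ V := by
  let φ := U.fromSpecStalk u₀
  have hemb : Topology.IsEmbedding φ := (inferInstance : IsPreimmersion φ).isEmbedding
  have hrange : Set.range φ = {y | y ⤳ u₀} := Scheme.range_fromSpecStalk
  have h1 : u₁ ⤳ u₀ := h12.trans h2
  obtain ⟨p₁, hp₁⟩ : u₁ ∈ Set.range φ := by rw [hrange]; exact h1
  obtain ⟨p₂, hp₂⟩ : u₂ ∈ Set.range φ := by rw [hrange]; exact h2
  have hcl : φ (IsLocalRing.closedPoint _) = u₀ := Scheme.fromSpecStalk_closedPoint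
  have hsp12 : p₁ ⤳ p₂ :=
    hemb.isInducing.specializes_iff.1 (by rw [hp₁, hp₂]; exact h12)
  have hle12 : p₁.asIdeal ≤ p₂.asIdeal := (PrimeSpectrum.le_iff_specializes p₁ p₂).2 hsp12
  have hne12' : p₁.asIdeal ≠ p₂.asIdeal := by
    intro h
    apply hne12
    rw [← hp₁, ← hp₂, PrimeSpectrum.ext h]
  have hne2' : p₂.asIdeal ≠ IsLocalRing.maximalIdeal _ := by
    intro h
    have h' : p₂ = IsLocalRing.closedPoint _ := PrimeSpectrum.ext h
    exact hne2 (hp₂.symm.trans ((congrArg φ h').trans hcl))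
  -- a basic open around `p₁` inside the preimage of `V`
  have hopen : IsOpen (φ ⁻¹' V) := hV.preimage φ.continuous
  have hp₁V : p₁ ∈ φ ⁻¹' V := by change φ p₁ ∈ V; rw [hp₁]; exact hu₁
  obtain ⟨_, ⟨f, rfl⟩, hp₁f, hfV⟩ :=
    PrimeSpectrum.isTopologicalBasis_basic_opens.exists_subset_of_mem_open hp₁V hopen
  have hf : f ∉ p₁.asIdeal := hp₁f
  have := p₁.isPrime
  have := p₂.isPrime
  obtain ⟨Q, hQ, hlt, hQm, hfQ⟩ := exists_prime_between p₁.asIdeal p₂.asIdeal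
    (lt_of_le_of_ne hle12 hne12') hne2' f hf
  let pQ : ↥(Spec (U.presheaf.stalk u₀)) := (⟨Q, hQ⟩ : PrimeSpectrum _)
  refine ⟨φ pQ, ?_, ?_, ?_, ?_, ?_⟩
  · have : φ p₁ ⤳ φ pQ :=
      hemb.isInducing.specializes_iff.2 ((PrimeSpectrum.le_iff_specializes p₁ pQ).1 hlt.le)
    rwa [hp₁] at this
  · have : φ pQ ∈ Set.range φ := ⟨_, rfl⟩
    rw [hrange] at this
    exact this
  · intro h
    have := hemb.injective (h.trans hp₁.symm)
    exact hlt.ne (congrArg PrimeSpectrum.asIdeal this).symm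
  · intro h
    have := hemb.injective (h.trans hcl.symm)
    exact hQm (congrArg PrimeSpectrum.asIdeal this)
  · apply hfV
    exact hfQ

end Groth.Agent.H52.Punct
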