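import Mathlib
import Groth.Agent.H52.JacobsonTop

set_option autoImplicit false
open Topology TopologicalSpace

namespace Groth.Agent.H52.Punct

variable {Xp : Type*} [TopologicalSpace Xp]

/-- The proper generizations of a point in the open Noetherian image of a map form a Noetherian
space. -/
theorem noetherianSpace_pg {A : Type*} [TopologicalSpace A] [NoetherianSpace A] (π : A → Xp)
    (hc : Continuous π) (ho : IsOpen (Set.range π)) (x : Xp) (hx : x ∈ Set.range π) :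
    NoetherianSpace {x' : Xp // x' ⤳ x ∧ x' ≠ x} := by
  have h1 : NoetherianSpace (Set.range π) := NoetherianSpace.range π hc
  have hsub : ∀ w : {x' : Xp // x' ⤳ x ∧ x' ≠ x}, w.1 ∈ Set.range π :=
    fun w => w.2.1.mem_open ho hx
  let ι : {x' : Xp // x' ⤳ x ∧ x' ≠ x} → Set.range π := fun w => ⟨w.1, hsub w⟩
  have hιc : Continuous ι := Continuous.subtype_mk continuous_subtype_val _
  have hι : IsInducing ι :=
    IsInducing.of_comp hιc continuous_subtype_val IsInducing.subtypeVal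
  exact hι.noetherianSpace

/-- The proper generizations of a point of a sober `T₀` space form a sober space. -/
theorem quasiSober_pg [QuasiSober Xp] [T0Space Xp] (x : Xp) :
    QuasiSober {x' : Xp // x' ⤳ x ∧ x' ≠ x} := by
  constructor
  intro Z hZirr hZcl
  have hind : IsInducing (Subtype.val : {x' : Xp // x' ⤳ x ∧ x' ≠ x} → Xp) :=
    IsInducing.subtypeVal
  have hirr : IsIrreducible (closure (Subtype.val '' Z)) :=
    (hZirr.image _ continuous_subtype_val.continuousOn).closure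
  obtain ⟨ξ, hξ⟩ := QuasiSober.sober hirr isClosed_closure
  obtain ⟨z, hz⟩ := hZirr.nonempty
  have hξz : ξ ⤳ z.1 := hξ.specializes (subset_closure ⟨z, hz, rfl⟩)
  have hξx : ξ ⤳ x := hξz.trans z.2.1
  have hξne : ξ ≠ x := by
    rintro rfl
    exact z.2.2 ((z.2.1.antisymm hξz).eq)
  refine ⟨⟨ξ, hξx, hξne⟩, ?_⟩
  change closure _ = Z
  rw [hind.closure_eq_preimage_closure_image, Set.image_singleton, hξ.def,
    ← hind.closure_eq_preimage_closure_image, hZcl.closure_eq]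

/-- A Noetherian sober `T₀` space is spectral. -/
theorem spectralSpace_of_noetherianSpace {W : Type*} [TopologicalSpace W] [NoetherianSpace W]
    [QuasiSober W] [T0Space W] : SpectralSpace W where
  toQuasiSeparatedSpace := ⟨fun _ _ _ _ _ _ => NoetherianSpace.isCompact _⟩
  toPrespectralSpace := PrespectralSpace.of_isTopologicalBasis (B := {U | IsOpen U})
    isTopologicalBasis_opens (fun U _ => NoetherianSpace.isCompact U)

/-- The proper generizations of a point `x = π u` form a Jacobson space, if `π` is a continuous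
generalizing map with discrete fibres from a space in which no point is isolated among the proper
generizations of `u` it specializes to nontrivially. -/
theorem jacobsonSpace_pg {A : Type*} [TopologicalSpace A] [T0Space Xp] (π : A → Xp)
    (hc : Continuous π) (hg : GeneralizingMap π) (hd : ∀ b, IsDiscrete (π ⁻¹' {b})) (x : Xp)
    (u : A) (hu : π u = x) [NoetherianSpace {x' : Xp // x' ⤳ x ∧ x' ≠ x}]
    (hbetween : ∀ u₁ u₂ : A, u₁ ⤳ u₂ → u₂ ⤳ u → u₁ ≠ u₂ → u₂ ≠ u → ∀ V : Set A, IsOpen V →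
      u₁ ∈ V → ∃ t, u₁ ⤳ t ∧ t ⤳ u ∧ t ≠ u₁ ∧ t ≠ u ∧ t ∈ V) :
    JacobsonSpace {x' : Xp // x' ⤳ x ∧ x' ≠ x} := by
  rw [jacobsonSpace_iff_locallyClosed]
  rintro Z hne ⟨O, C, hO, hC, rfl⟩
  have hind : IsInducing (Subtype.val : {x' : Xp // x' ⤳ x ∧ x' ≠ x} → Xp) :=
    IsInducing.subtypeVal
  -- a closed point of the subspace `O ∩ C`
  have hcomp : CompactSpace ↥(O ∩ C) :=
    isCompact_iff_compactSpace.1 (NoetherianSpace.isCompact _)
  have hne' : (Set.univ : Set ↥(O ∩ C)).Nonempty := by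
    obtain ⟨z, hz⟩ := hne
    exact ⟨⟨z, hz⟩, trivial⟩
  obtain ⟨ξ, -, hξcl⟩ := IsClosed.exists_closed_singleton isClosed_univ hne'
  have hmin : ∀ w : {x' : Xp // x' ⤳ x ∧ x' ≠ x}, w ∈ O ∩ C → ξ.1 ⤳ w → w = ξ.1 := by
    intro w hw hs
    have h2 : ξ ⤳ (⟨w, hw⟩ : ↥(O ∩ C)) := (subtype_specializes_iff _ _).mpr hs
    have h3 : (⟨w, hw⟩ : ↥(O ∩ C)) ∈ closure ({ξ} : Set ↥(O ∩ C)) :=
      specializes_iff_mem_closure.1 h2
    rw [hξcl.closure_eq] at h3
    exact congrArg Subtype.val h3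
  refine ⟨ξ.1, ξ.2, ?_⟩
  rw [mem_closedPoints_iff, ← closure_subset_iff_isClosed]
  intro ξ' hξ'
  have hs : ξ.1 ⤳ ξ' := specializes_iff_mem_closure.2 hξ'
  by_contra hne2
  have hne2' : ξ' ≠ ξ.1 := hne2
  have hsX : ξ.1.1 ⤳ ξ'.1 := hs.map continuous_subtype_val
  -- lift to `A`
  obtain ⟨u₂, hu₂u, hu₂⟩ := hg (show ξ'.1 ⤳ π u from hu ▸ ξ'.2.1)
  obtain ⟨u₁, hu₁u₂, hu₁⟩ := hg (show ξ.1.1 ⤳ π u₂ from hu₂ ▸ hsX)
  have hne12 : u₁ ≠ u₂ := by
    rintro rfl
    exact hne2' (Subtype.ext (hu₂.symm.trans hu₁))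
  have hne2u : u₂ ≠ u := by
    rintro rfl
    exact ξ'.2.2 (hu₂.symm.trans hu)
  obtain ⟨O', hO', rfl⟩ := isOpen_induced_iff.1 hO
  obtain ⟨t, hu₁t, htu, htu₁, htne, htV⟩ := hbetween u₁ u₂ hu₁u₂ hu₂u hne12 hne2u
    (π ⁻¹' O') (hO'.preimage hc) (by change π u₁ ∈ O'; rw [hu₁]; exact ξ.2.1)
  have hπt : π t ⤳ x := hu ▸ htu.map hc
  have hπtne : π t ≠ x := by
    intro h
    exact htne (eq_of_specializes_of_isDiscrete_fibre hd htu (h.trans hu.symm))
  let w : {x' : Xp // x' ⤳ x ∧ x' ≠ x} := ⟨π t, hπt, hπtne⟩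
  have hξw : ξ.1 ⤳ w := by
    rw [hind.specializes_iff.symm]
    change ξ.1.1 ⤳ π t
    rw [← hu₁]
    exact hu₁t.map hc
  have hwZ : w ∈ (Subtype.val ⁻¹' O') ∩ C := ⟨htV, hξw.mem_closed hC ξ.2.2⟩
  have hwξ := hmin w hwZ hξw
  have h4 : π t = π u₁ := (congrArg Subtype.val hwξ).trans hu₁.symm
  exact htu₁ (eq_of_specializes_of_isDiscrete_fibre hd hu₁t h4.symm).symm

end Groth.Agent.H52.Punct
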