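import Groth.Agent.H49.AlgSpQC
import Groth.Agent.H52.DecentMorLocal
import Groth.Agent.S10361

set_option autoImplicit false
universe u
open CategoryTheory CategoryTheory.Limits AlgebraicGeometry Opposite TopologicalSpace

namespace Groth.Agent.H52

open AlgSp

variable {S : Scheme.{u}}

/-- An algebraic space each of whose points lies in the image of a quasi-compact morphism from a decent
algebraic space is decent. -/
theorem isDecent_of_quasiCompact_cover {Y : Sp S} (hY : IsAlgSpace Y)
    (h : ∀ y : Points Y, ∃ (X : Sp S) (f : X ⟶ Y), IsAlgSpace X ∧ IsDecent X ∧ IsQuasiCompactMor f ∧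
      y ∈ Set.range (Points.map f)) : IsDecent Y := by
  intro y
  obtain ⟨X, f, hXs, hX, hq, x, rfl⟩ := h y
  obtain ⟨p, rfl, hm, hqc⟩ := hX x
  have hqY : RepWith @QuasiCompact (p.map f).toHom := by
    rw [FieldPt.toHom_map]
    have h1 : IsQuasiCompactMor p.toHom :=
      (Groth.Agent.H49.repWith_quasiCompact_iff p.toHom hqc.rep).1 hqc
    have h2 : IsQuasiCompactMor (p.toHom ≫ f) :=
      Groth.Agent.H49.isQuasiCompactMor_comp hXs hY h1 hq
    exact (Groth.Agent.H49.repWith_quasiCompact_iff _ (hY.representable_from_yon _)).2 h2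
  exact Groth.Agent.S10361.result (⟨Y, hY⟩ : AlgSp.Space S) (p.map f) hqY

/-- **Decency of a morphism can be checked after base change to an etale atlas of the target.** -/
theorem isDecentMor_of_atlas {X Y : Sp S} (hX : IsAlgSpace X) (hY : IsAlgSpace Y) (f : X ⟶ Y)
    {V : Over S} (p : (yon S).obj V ⟶ Y) (hp : RepWith @Etale p) (hps : RepWith @Surjective p)
    (X' : Sp S) (fst : X' ⟶ X) (snd : X' ⟶ (yon S).obj V) (hsq : IsPullback fst snd f p)
    (h : IsDecentMor snd) : IsDecentMor f := by
  refine isDecentMor_of_affine hX hY f fun Z g P fstP sndP hZ sqP => ?_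
  have hP : IsAlgSpace P := isAlgSpace_of_isPullback_yon hX hY f g fstP sndP sqP
  refine isDecent_of_quasiCompact_cover hP fun y => ?_
  -- the point of `Z` below `y`
  obtain ⟨z, hz⟩ := (Points.schemeEquiv Z).surjective (Points.map sndP y)
  -- the base change of the atlas to `Z`
  have sq := hp.rep.isPullback g
  obtain ⟨b', hb'⟩ := (yon S).map_surjective (hp.rep.fst g)
  rw [← hb'] at sq
  have hes : Surjective (hp.rep.snd g).left := hps.property _ _ _ sq
  obtain ⟨z', hz'⟩ := hes.surj z
  obtain ⟨U, hU, hz'U, -⟩ := exists_isAffineOpen_mem_and_subset (x := z') (U := ⊤) trivial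
  have hUaff : IsAffine (Over.mk (U.ι ≫ (hp.rep.pullback g).hom)).left := hU
  -- the base change of `P` to `U`
  have sqU := IsPullback.of_hasPullback sndP ((yon S).map (openIncl _ U ≫ hp.rep.snd g))
  have sqO : IsPullback (pullback.fst sndP ((yon S).map (openIncl _ U ≫ hp.rep.snd g)) ≫ fstP)
      (pullback.snd sndP ((yon S).map (openIncl _ U ≫ hp.rep.snd g))) f
      ((yon S).map (openIncl _ U ≫ hp.rep.snd g) ≫ g) := sqU.paste_horiz sqP
  have hcomm : (yon S).map (openIncl _ U ≫ hp.rep.snd g) ≫ g =
      (yon S).map (openIncl _ U ≫ b') ≫ p := by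
    rw [Functor.map_comp, Functor.map_comp, Category.assoc, Category.assoc, sq.w]
  rw [hcomm] at sqO
  have hPU : IsAlgSpace (pullback sndP ((yon S).map (openIncl _ U ≫ hp.rep.snd g))) :=
    isAlgSpace_of_isPullback_yon hX hY f _ _ _ sqO
  refine ⟨_, pullback.fst sndP ((yon S).map (openIncl _ U ≫ hp.rep.snd g)), hPU, ?_, ?_, ?_⟩
  · -- decency, from the hypothesis over the atlas
    let l : pullback sndP ((yon S).map (openIncl _ U ≫ hp.rep.snd g)) ⟶ X' :=
      hsq.lift (pullback.fst sndP ((yon S).map (openIncl _ U ≫ hp.rep.snd g)) ≫ fstP)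
        (pullback.snd sndP ((yon S).map (openIncl _ U ≫ hp.rep.snd g)) ≫
          (yon S).map (openIncl _ U ≫ b')) (by rw [sqO.w, Category.assoc])
    have hl1 : l ≫ fst = pullback.fst sndP ((yon S).map (openIncl _ U ≫ hp.rep.snd g)) ≫ fstP :=
      hsq.lift_fst _ _ _
    have hl2 : l ≫ snd = pullback.snd sndP ((yon S).map (openIncl _ U ≫ hp.rep.snd g)) ≫
        (yon S).map (openIncl _ U ≫ b') := hsq.lift_snd _ _ _
    rw [← hl1] at sqO
    have sqL := IsPullback.of_right sqO hl2 hsq
    exact h _ _ _ sqL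
  · -- quasi-compactness
    have hqc : QuasiCompact (openIncl _ U ≫ hp.rep.snd g).left := by
      have : IsAffine Z.left := hZ
      have : IsAffine (Over.mk (U.ι ≫ (hp.rep.pullback g).hom)).left := hUaff
      infer_instance
    have h1 : RepWith @QuasiCompact ((yon S).map (openIncl _ U ≫ hp.rep.snd g)) :=
      (repWith_yon_map_iff @QuasiCompact _).2 hqc
    have h2 : IsQuasiCompactMor ((yon S).map (openIncl _ U ≫ hp.rep.snd g)) :=
      Groth.Agent.H50.isQuasiCompactMor_of_repWith le_rfl _ h1
    exact Groth.Agent.H49.isQuasiCompactMor_of_isPullback sqU.flip h2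
  · -- the point lifts
    have e : Points.map sndP y = Points.map ((yon S).map (openIncl _ U ≫ hp.rep.snd g))
        (Points.ofScheme _ ⟨z', hz'U⟩) := by
      rw [← Points.ofPt_eq_map_ofScheme, ofPt_yon_map]
      rw [← hz]
      change Points.ofScheme Z z = _
      congr 1
      exact hz'.symm
    obtain ⟨w, hw, -⟩ := exists_point_of_isPullback sqU y _ e
    exact ⟨w, hw⟩

end Groth.Agent.H52
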