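import Groth.Agent.H52.QFAt

set_option autoImplicit false
universe u
open CategoryTheory CategoryTheory.Limits AlgebraicGeometry

namespace Groth.Agent.H52.QFAt

/-- **Descent of quasi-finiteness at a point along an arbitrary base change.** -/
theorem quasiFiniteAt_of_isPullback_descent {U V T U' : Scheme.{u}} {h : U ⟶ V} {t : T ⟶ V}
    {s : U' ⟶ U} {h' : U' ⟶ T} (sq : IsPullback s h' h t) [LocallyOfFiniteType h] (u' : U')
    (hq : h'.QuasiFiniteAt u') : h.QuasiFiniteAt (s u') := by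
  have hlft' : LocallyOfFiniteType h' := MorphismProperty.of_isPullback sq inferInstance
  rw [Scheme.Hom.quasiFiniteAt_iff_isOpen_singleton_asFiber] at hq
  set t₀ : T := h' u' with ht₀
  -- the comparison of fibres
  have sqF := isPullback_fiberToSpecResidueField_of_isPullback sq t₀
  set ψ : h'.fiber t₀ ⟶ h.fiber (t t₀) :=
    pullback.map _ _ _ _ s (Spec.map (t.residueFieldMap t₀)) t sq.w.symm (by simp) with hψ
  have hψι : ψ ≫ h.fiberι (t t₀) = h'.fiberι t₀ ≫ s := by
    rw [hψ]
    exact pullback.lift_fst _ _ _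
  have hψo : UniversallyOpen ψ := MorphismProperty.of_isPullback sqF.flip inferInstance
  have hopen : IsOpen ({ψ (h'.asFiber u')} : Set (h.fiber (t t₀))) := by
    have := ψ.isOpenMap _ hq
    rwa [Set.image_singleton] at this
  have hw : h.fiberι (t t₀) (ψ (h'.asFiber u')) = s u' := by
    rw [← Scheme.Hom.comp_apply, hψι, Scheme.Hom.comp_apply, Scheme.Hom.fiberι_asFiber]
  have hv : h (s u') = t t₀ := by
    rw [← Scheme.Hom.comp_apply, sq.w, Scheme.Hom.comp_apply]
  rw [quasiFiniteAt_iff_exists_isOpen]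
  obtain ⟨O, hO, hOe⟩ := (h.fiberι (t t₀)).isEmbedding.isInducing.isOpen_iff.1 hopen
  refine ⟨O, hO, ?_⟩
  rw [hv]
  ext z
  constructor
  · rintro ⟨hzO, hzf⟩
    rw [← h.range_fiberι (t t₀)] at hzf
    obtain ⟨w, rfl⟩ := hzf
    have : w ∈ h.fiberι (t t₀) ⁻¹' O := hzO
    rw [hOe, Set.mem_singleton_iff] at this
    rw [this, hw]
    rfl
  · rintro rfl
    refine ⟨?_, hv⟩
    have : ψ (h'.asFiber u') ∈ h.fiberι (t t₀) ⁻¹' O := by rw [hOe]; rfl
    rw [Set.mem_preimage, hw] at this
    exact this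

end Groth.Agent.H52.QFAt
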