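import Groth.Agent.H52.LiftsQC
import Groth.Agent.H52.SoberSp
import Groth.Agent.H49.AlgSpDiagProps
import Groth.Agent.H51.SpQc

/-!
# Locally Noetherian decent algebraic spaces are quasi-separated
-/

set_option autoImplicit false
universe u
open CategoryTheory CategoryTheory.Limits AlgebraicGeometry Opposite

namespace Groth.Agent.H52.QSepNoeth

open AlgSp Lifts SoberSp

variable {S : Scheme.{u}}

/-- A morphism from a locally Noetherian scheme is quasi-compact as soon as the preimages of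
the members of an open cover of the target are compact. -/
theorem quasiCompact_of_cover {R P : Scheme.{u}} (j : R ⟶ P) [IsLocallyNoetherian R]
    {ι : Type*} (O : ι → P.Opens) (hO : ⨆ i, O i = ⊤)
    (hc : ∀ i, IsCompact ((j ⁻¹ᵁ O i : R.Opens) : Set R)) : QuasiCompact j := by
  refine (IsZariskiLocalAtTarget.iff_of_iSup_eq_top (P := @QuasiCompact) O hO).2 fun i => ?_
  have h1 : CompactSpace ↥(j ⁻¹ᵁ O i).toScheme := isCompact_iff_compactSpace.1 (hc i)
  have h2 : IsLocallyNoetherian (j ⁻¹ᵁ O i).toScheme :=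
    LocallyOfFiniteType.isLocallyNoetherian (j ⁻¹ᵁ O i).ι
  have h3 : IsNoetherian (j ⁻¹ᵁ O i).toScheme := {}
  infer_instance

/-- The two projections of a fibre product of representables over a sheaf are jointly
monic on the underlying schemes. -/
theorem hom_ext_of_isPullback {X : Sp S} {U V R : Over S} {a : (yon S).obj U ⟶ X}
    {c : (yon S).obj V ⟶ X} {t : R ⟶ U} {s : R ⟶ V}
    (sq : IsPullback ((yon S).map t) ((yon S).map s) a c) {W : Scheme.{u}} (α β : W ⟶ R.left)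
    (h1 : α ≫ t.left = β ≫ t.left) (h2 : α ≫ s.left = β ≫ s.left) : α = β := by
  have hβ : β ≫ R.hom = α ≫ R.hom := by
    rw [← Over.w s, ← Category.assoc, ← h2, Category.assoc]
  let α' : Over.mk (α ≫ R.hom) ⟶ R := Over.homMk α rfl
  let β' : Over.mk (α ≫ R.hom) ⟶ R := Over.homMk β hβ
  have : α' = β' := by
    apply (yon S).map_injective
    apply sq.hom_ext
    · rw [← Functor.map_comp, ← Functor.map_comp]
      exact congrArg _ (Over.OverMorphism.ext h1)
    · rw [← Functor.map_comp, ← Functor.map_comp]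
      exact congrArg _ (Over.OverMorphism.ext h2)
  exact congrArg (fun m => m.left) this

section Restrict

variable {X : Sp S} {U R : Over S} (p : (yon S).obj U ⟶ X) (s t : R ⟶ U)
  (sq : IsPullback ((yon S).map t) ((yon S).map s) p p) (V : U.left.Opens)

include sq in
theorem restrict_hom_ext {W : Scheme.{u}} (α β : W ⟶ (t.left ⁻¹ᵁ V).toScheme)
    (e1 : α ≫ (t.left ∣_ V) = β ≫ (t.left ∣_ V))
    (e2 : α ≫ (t.left ⁻¹ᵁ V).ι ≫ s.left = β ≫ (t.left ⁻¹ᵁ V).ι ≫ s.left) : α = β := by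
  have e1' : (α ≫ (t.left ⁻¹ᵁ V).ι) ≫ t.left = (β ≫ (t.left ⁻¹ᵁ V).ι) ≫ t.left := by
    rw [Category.assoc, Category.assoc, ← morphismRestrict_ι, ← Category.assoc, e1,
      Category.assoc]
  have e2' : (α ≫ (t.left ⁻¹ᵁ V).ι) ≫ s.left = (β ≫ (t.left ⁻¹ᵁ V).ι) ≫ s.left := by
    simpa only [Category.assoc] using e2
  have := hom_ext_of_isPullback sq _ _ e1' e2'
  exact (cancel_mono _).1 this

include sq in
theorem isSeparated_restrict (hV : IsAffineOpen V) :
    IsSeparated ((t.left ⁻¹ᵁ V).ι ≫ s.left) := by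
  have : IsAffine V.toScheme := hV
  have hcomm : (t.left ∣_ V) ≫ (V.ι ≫ U.hom) = ((t.left ⁻¹ᵁ V).ι ≫ s.left) ≫ U.hom := by
    rw [← Category.assoc, morphismRestrict_ι, Category.assoc, Over.w t, Category.assoc, Over.w s]
  let j' : (t.left ⁻¹ᵁ V).toScheme ⟶ pullback (V.ι ≫ U.hom) U.hom :=
    pullback.lift (t.left ∣_ V) ((t.left ⁻¹ᵁ V).ι ≫ s.left) hcomm
  have hj1 : j' ≫ pullback.fst _ _ = t.left ∣_ V := pullback.lift_fst _ _ _
  have hj2 : j' ≫ pullback.snd _ _ = (t.left ⁻¹ᵁ V).ι ≫ s.left := pullback.lift_snd _ _ _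
  have hmono : Mono j' := by
    refine ⟨fun {W} α β hαβ => ?_⟩
    have e1 : α ≫ (t.left ∣_ V) = β ≫ (t.left ∣_ V) := by
      have := congrArg (fun m => m ≫ pullback.fst _ _) hαβ
      simpa only [Category.assoc, hj1] using this
    have e2 : α ≫ (t.left ⁻¹ᵁ V).ι ≫ s.left = β ≫ (t.left ⁻¹ᵁ V).ι ≫ s.left := by
      have := congrArg (fun m => m ≫ pullback.snd _ _) hαβ
      simpa only [Category.assoc, hj2] using this
    exact restrict_hom_ext p s t sq V α β e1 e2
  rw [← hj2]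
  infer_instance

include sq in
/-- Lifts along the restricted projection give lifts along the restricted chart. -/
theorem hasLiftsSp_of_hasLifts_restrict (n : ℕ) (u : ↥U.left)
    (h : HasLifts ((t.left ⁻¹ᵁ V).ι ≫ s.left) n u) :
    HasLiftsSp ((yon S).map (openIncl U V) ≫ p) n (Points.ofPt p u) := by
  obtain ⟨Ω, _, ω, σ, h1, h2, h3⟩ := h
  let w : Spec (CommRingCat.of Ω) ⟶ S := ω ≫ U.hom
  let ω' : Over.mk w ⟶ U := Over.homMk ω rfl
  have hcomm : (t.left ∣_ V) ≫ (V.ι ≫ U.hom) = ((t.left ⁻¹ᵁ V).ι ≫ s.left) ≫ U.hom := by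
    rw [← Category.assoc, morphismRestrict_ι, Category.assoc, Over.w t, Category.assoc, Over.w s]
  have hτ : ∀ i, (σ i ≫ (t.left ∣_ V)) ≫ (Over.mk (V.ι ≫ U.hom)).hom = w := by
    intro i
    change (σ i ≫ (t.left ∣_ V)) ≫ (V.ι ≫ U.hom) = ω ≫ U.hom
    rw [Category.assoc, hcomm, ← Category.assoc, h2]
  let τ : Fin n → (Over.mk w ⟶ Over.mk (V.ι ≫ U.hom)) := fun i =>
    Over.homMk (σ i ≫ (t.left ∣_ V)) (hτ i)
  have hρ : ∀ i, (σ i ≫ (t.left ⁻¹ᵁ V).ι) ≫ R.hom = w := by
    intro i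
    change _ = ω ≫ U.hom
    rw [← Over.w s, ← Category.assoc, Category.assoc (σ i), h2]
  let ρ : Fin n → (Over.mk w ⟶ R) := fun i => Over.homMk (σ i ≫ (t.left ⁻¹ᵁ V).ι) (hρ i)
  have hρs : ∀ i, ρ i ≫ s = ω' := by
    intro i
    apply Over.OverMorphism.ext
    change (σ i ≫ (t.left ⁻¹ᵁ V).ι) ≫ s.left = ω
    rw [Category.assoc, h2]
  have hρt : ∀ i, ρ i ≫ t = τ i ≫ openIncl U V := by
    intro i
    apply Over.OverMorphism.ext
    change (σ i ≫ (t.left ⁻¹ᵁ V).ι) ≫ t.left = (σ i ≫ (t.left ∣_ V)) ≫ V.ι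
    rw [Category.assoc, Category.assoc, morphismRestrict_ι]
  refine ⟨fieldPtOfHom w ((yon S).map ω' ≫ p), τ, ?_, ?_, ?_⟩
  · rw [mk_fieldPtOfHom_comp]
    exact congrArg _ h1
  · intro i
    rw [toHom_fieldPtOfHom, ← Category.assoc, ← Functor.map_comp, ← hρt, Functor.map_comp,
      Category.assoc, sq.w, ← Category.assoc, ← Functor.map_comp, hρs]
  · intro i j hij
    have e1 : σ i ≫ (t.left ∣_ V) = σ j ≫ (t.left ∣_ V) := congrArg (fun m => m.left) hij
    apply h3
    exact restrict_hom_ext p s t sq V _ _ e1 ((h2 i).trans (h2 j).symm)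

include sq in
/-- For a decent space with a locally Noetherian étale chart `U`, the projection
`V ×_X U ⟶ U` is quasi-compact for every affine open `V` of `U`. -/
theorem quasiCompact_restrict (hX : IsDecent X) (hpe : RepWith @Etale p) [Etale s.left]
    [IsLocallyNoetherian U.left] (hV : IsAffineOpen V) :
    QuasiCompact ((t.left ⁻¹ᵁ V).ι ≫ s.left) := by
  have hsep := isSeparated_restrict p s t sq V hV
  have het : Etale ((t.left ⁻¹ᵁ V).ι ≫ s.left) := inferInstance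
  refine quasiCompact_of_finite_lifts _ fun u => ?_
  obtain ⟨q, hq, -, hqc⟩ := hX (Points.ofPt p u)
  have haV := repWith_etale_restrict p hpe V
  have hcpt : CompactSpace ↥(Over.mk (V.ι ≫ U.hom)).left :=
    isCompact_iff_compactSpace.1 hV.isCompact
  obtain ⟨N, hN⟩ := exists_not_hasLiftsSp ((yon S).map (openIncl U V) ≫ p) haV q hqc
  refine ⟨N, fun h => hN ?_⟩
  rw [hq]
  exact hasLiftsSp_of_hasLifts_restrict p s t sq V N u h

end Restrict

/-- **S10354.** A locally Noetherian decent algebraic space is quasi-separated. -/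
theorem s10354 (X : AlgSp.Space S) (hN : IsLocNoethSp X.obj) (hX : IsDecent X.obj) :
    IsQuasiSeparatedSp X.obj := by
  obtain ⟨U, p, hpe, hps, hU⟩ := hN
  have sq := hpe.rep.isPullback' p
  have hU' : IsLocallyNoetherian U.left := hU
  have hets : Etale (hpe.rep.snd p).left := hpe.property_snd p
  have hR : IsLocallyNoetherian (hpe.rep.pullback p).left :=
    LocallyOfFiniteType.isLocallyNoetherian (hpe.rep.snd p).left
  refine H49.repWith_diag_of_atlas @QuasiCompact X.property p hpe hps (hpe.rep.snd p)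
    (hpe.rep.fst' p) sq ?_
  have e1 : (prod.lift (hpe.rep.fst' p) (hpe.rep.snd p)).left ≫ (prod.fst : U ⨯ U ⟶ U).left =
      (hpe.rep.fst' p).left := by
    rw [← Over.comp_left, prod.lift_fst]
  have e2 : (prod.lift (hpe.rep.fst' p) (hpe.rep.snd p)).left ≫ (prod.snd : U ⨯ U ⟶ U).left =
      (hpe.rep.snd p).left := by
    rw [← Over.comp_left, prod.lift_snd]
  let O : U.left.affineOpens × U.left.affineOpens → (U ⨯ U).left.Opens := fun VW =>
    ((prod.fst : U ⨯ U ⟶ U).left ⁻¹ᵁ VW.1.1) ⊓ ((prod.snd : U ⨯ U ⟶ U).left ⁻¹ᵁ VW.2.1)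
  have hO : ⨆ i, O i = ⊤ := by
    rw [eq_top_iff]
    rintro z -
    obtain ⟨_, ⟨V, hV, rfl⟩, hzV, -⟩ := U.left.isBasis_affineOpens.exists_subset_of_mem_open
      (Set.mem_univ ((prod.fst : U ⨯ U ⟶ U).left z)) isOpen_univ
    obtain ⟨_, ⟨W, hW, rfl⟩, hzW, -⟩ := U.left.isBasis_affineOpens.exists_subset_of_mem_open
      (Set.mem_univ ((prod.snd : U ⨯ U ⟶ U).left z)) isOpen_univ
    exact TopologicalSpace.Opens.mem_iSup.2 ⟨(⟨V, hV⟩, ⟨W, hW⟩), hzV, hzW⟩
  refine quasiCompact_of_cover _ O hO fun VW => ?_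
  obtain ⟨V, W⟩ := VW
  have hqc := quasiCompact_restrict p (hpe.rep.snd p) (hpe.rep.fst' p) sq V.1 hX hpe V.2
  have hc := hqc.1 _ W.1.isOpen W.2.isCompact
  have hc' := hc.image ((hpe.rep.fst' p).left ⁻¹ᵁ V.1).ι.continuous
  convert hc' using 1
  ext r
  constructor
  · rintro ⟨hr1, hr2⟩
    have hr1' : (hpe.rep.fst' p).left r ∈ V.1 := by
      rw [← e1]; exact hr1
    have hr2' : (hpe.rep.snd p).left r ∈ W.1 := by
      rw [← e2]; exact hr2
    exact ⟨⟨r, hr1'⟩, hr2', rfl⟩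
  · rintro ⟨r', hr', rfl⟩
    refine ⟨?_, ?_⟩
    · change ((prod.lift (hpe.rep.fst' p) (hpe.rep.snd p)).left ≫
        (prod.fst : U ⨯ U ⟶ U).left) _ ∈ V.1
      rw [e1]
      exact r'.2
    · change ((prod.lift (hpe.rep.fst' p) (hpe.rep.snd p)).left ≫
        (prod.snd : U ⨯ U ⟶ U).left) _ ∈ W.1
      rw [e2]
      exact hr'

end Groth.Agent.H52.QSepNoeth
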