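import Groth.Agent.H65.QuotSpFppf
import Groth.Agent.H52.Epi

/-!
# Abstract descent of sheaves along an epimorphism

`exists_descent`: let `u : A ⟶ X` be an epimorphism of fppf sheaves with kernel pair `(p₁, p₂) : K ⇉ A`,
`a : M ⟶ A` a sheaf over `A`, and `L = M ×_{A, p₁} K` with a second map `τ : L ⟶ M` over `p₂` such that
`(σ, τ)` is an equivalence relation on `M`.  Then the quotient `N = M / L` maps to `X` and
`M = N ×_X A`.
-/

set_option autoImplicit false
universe u
open CategoryTheory CategoryTheory.Limits AlgebraicGeometry Opposite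

namespace Groth.Agent.H52.RelNorm

open AlgSp

variable {S : Scheme.{u}}

/-- Abstract descent along an epimorphism of sheaves. -/
theorem exists_descent {X A K M L : Sp S} (u : A ⟶ X) (p₁ p₂ : K ⟶ A)
    (hK : IsPullback p₁ p₂ u u)
    (a : M ⟶ A) (b : L ⟶ K) (σ τ : L ⟶ M)
    (sqσ : IsPullback σ b a p₁) (wτ : τ ≫ a = b ≫ p₂)
    (hrel : IsEqvRelSp σ τ) :
    ∃ (N : Sp S) (ν : N ⟶ X) (q : M ⟶ N), Epi q ∧ IsPullback q a ν u ∧ IsPullback τ σ q q ∧
      ∀ {G : Sp S} (φ : M ⟶ G), σ ≫ φ = τ ≫ φ → ∃ ψ : N ⟶ G, q ≫ ψ = φ := by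
  have hw : σ ≫ a ≫ u = τ ≫ a ≫ u := by
    rw [← Category.assoc, sqσ.w, ← Category.assoc τ, wτ, Category.assoc, Category.assoc, hK.w]
  refine ⟨quotSp σ τ, quotSpDesc (a ≫ u) hw, quotSpπ σ τ, ?_, ?_,
    Groth.Agent.H65.QuotSpFppf.isPullback_quotSpπ σ τ hrel, ?_⟩
  · exact epi_of_isColimit_cofork (c := Cofork.ofπ (quotSpπ σ τ) (quotSp_condition σ τ))
      (quotSpIsCoequalizer σ τ)
  · set q := quotSpπ σ τ with hq
    set ν := quotSpDesc (a ≫ u) hw with hν
    have : Epi q := epi_of_isColimit_cofork (c := Cofork.ofπ (quotSpπ σ τ) (quotSp_condition σ τ))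
      (quotSpIsCoequalizer σ τ)
    have hqν : q ≫ ν = a ≫ u := quotSpπ_desc _ _ _ _
    have heff : IsPullback τ σ q q := Groth.Agent.H65.QuotSpFppf.isPullback_quotSpπ σ τ hrel
    let θ : M ⟶ pullback ν u := pullback.lift q a hqν
    have hθ1 : θ ≫ pullback.fst ν u = q := pullback.lift_fst _ _ _
    have hθ2 : θ ≫ pullback.snd ν u = a := pullback.lift_snd _ _ _
    -- θ is a monomorphism
    have : Mono θ := by
      refine mono_of_yon_injective θ fun T m₁ m₂ h => ?_
      have h1 : m₁ ≫ q = m₂ ≫ q := by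
        rw [← hθ1, ← Category.assoc, h, Category.assoc]
      have h2 : m₁ ≫ a = m₂ ≫ a := by
        rw [← hθ2, ← Category.assoc, h, Category.assoc]
      let l := heff.lift m₁ m₂ h1
      have hl1 : l ≫ τ = m₁ := heff.lift_fst _ _ _
      have hl2 : l ≫ σ = m₂ := heff.lift_snd _ _ _
      obtain ⟨l', hl'1, hl'2⟩ := (hrel.equivalence T).refl m₂
      have hll' : l' = l := by
        apply sqσ.hom_ext
        · rw [hl'2, hl2]
        · apply hK.hom_ext
          · rw [Category.assoc, Category.assoc, ← sqσ.w, ← Category.assoc, ← Category.assoc,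
              hl'2, hl2]
          · rw [Category.assoc, Category.assoc, ← wτ, ← Category.assoc, ← Category.assoc,
              hl'1, hl1, h2]
      rw [← hl1, ← hll', hl'1]
    -- θ is an epimorphism
    have : Epi θ := by
      refine epi_of_exists_local_lift θ fun T x => ?_
      obtain ⟨W, hW, hlift⟩ := exists_local_lift_of_epi q (x ≫ pullback.fst ν u)
      refine ⟨W, hW, fun T' g hg => ?_⟩
      obtain ⟨m', hm'⟩ := hlift g hg
      have hk : (m' ≫ a) ≫ u = ((yon S).map g ≫ x ≫ pullback.snd ν u) ≫ u := by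
        rw [Category.assoc, ← hqν, ← Category.assoc, hm', Category.assoc, Category.assoc,
          Category.assoc, Category.assoc, pullback.condition]
      let k := hK.lift (m' ≫ a) ((yon S).map g ≫ x ≫ pullback.snd ν u) hk
      have hk1 : k ≫ p₁ = m' ≫ a := hK.lift_fst _ _ _
      have hk2 : k ≫ p₂ = (yon S).map g ≫ x ≫ pullback.snd ν u := hK.lift_snd _ _ _
      let l := sqσ.lift m' k hk1.symm
      have hl1 : l ≫ σ = m' := sqσ.lift_fst _ _ _
      have hl2 : l ≫ b = k := sqσ.lift_snd _ _ _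
      refine ⟨l ≫ τ, ?_⟩
      apply pullback.hom_ext
      · rw [Category.assoc, Category.assoc, hθ1, ← quotSp_condition σ τ, ← Category.assoc, hl1, hm',
          Category.assoc]
      · rw [Category.assoc, Category.assoc, hθ2, wτ, ← Category.assoc, hl2, hk2, Category.assoc]
    have : IsIso θ := isIso_of_mono_of_epi θ
    exact IsPullback.of_iso_pullback ⟨hqν⟩ (asIso θ) hθ1 hθ2
  · intro G φ hφ
    exact ⟨quotSpDesc φ hφ, quotSpπ_desc _ _ _ _⟩

end Groth.Agent.H52.RelNorm
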