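import Groth.Agent.H52.RelNormA
import Groth.Agent.H51.SpNormalization
import Groth.Agent.H30.ShfQuot

/-!
# Localisation of the relative normalization along an epimorphic chart

`isRelNormalization_of_chart`: a factorisation `Y ⟶ N ⟶ B` through an integral `ν` whose base changes
to an epimorphic chart `C ⟶ B` and to `D = C ×_B C` are relative normalizations is a relative
normalization.
-/

set_option autoImplicit false
universe u
open CategoryTheory CategoryTheory.Limits AlgebraicGeometry Opposite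

namespace Groth.Agent.H52.RelNorm

open AlgSp

variable {S : Scheme.{u}}

/-- If `N_C = N ×_B C` and `N_D = N ×_B D` with `D = C ×_B C`, then `N_D = N_C ×_N N_C`. -/
theorem isPullback_kernelPair_baseChange {𝒞 : Type*} [Category 𝒞] {B C D N NC ND : 𝒞} {c : C ⟶ B}
    {d₁ d₂ : D ⟶ C}
    (hD : IsPullback d₁ d₂ c c) {ν : N ⟶ B} {nC : NC ⟶ N} {νC : NC ⟶ C}
    (sqN : IsPullback nC νC ν c) {nD : ND ⟶ N} {νD : ND ⟶ D}
    (sqND : IsPullback nD νD ν (d₁ ≫ c)) (n₁ n₂ : ND ⟶ NC)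
    (h11 : n₁ ≫ nC = nD) (h12 : n₁ ≫ νC = νD ≫ d₁)
    (h21 : n₂ ≫ nC = nD) (h22 : n₂ ≫ νC = νD ≫ d₂) :
    IsPullback n₁ n₂ nC nC := by
  have left : IsPullback n₁ νD νC d₁ := IsPullback.of_right (by rwa [h11]) h12 sqN
  have big : IsPullback n₁ (νD ≫ d₂) (νC ≫ c) c := left.paste_vert hD
  have big' : IsPullback (n₂ ≫ νC) n₁ c (nC ≫ ν) := by
    rw [h22, sqN.w]
    exact big.flip
  exact (IsPullback.of_right big' (h21.trans h11.symm) sqN.flip).flip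

/-- Base change of an integral morphism of sheaves is integral. -/
theorem isIntegralMor_of_isPullback {P X Y Z : Sp S} {fst : P ⟶ X} {snd : P ⟶ Y} {f : X ⟶ Z}
    {g : Y ⟶ Z} (sq : IsPullback fst snd f g) (hf : IsIntegralMor f) : IsIntegralMor snd := by
  rw [Groth.Agent.H51.isIntegralMor_iff_repWith] at hf ⊢
  exact MorphismProperty.of_isPullback (P := RepWith @IsIntegralHom) sq hf

/-- A sheaf integral over an algebraic space is an algebraic space. -/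
theorem isAlgSpace_of_isIntegralMor {Z C : Sp S} (π : Z ⟶ C) (hπ : IsIntegralMor π)
    (hC : IsAlgSpace C) : IsAlgSpace Z := by
  rw [Groth.Agent.H51.isIntegralMor_iff_repWith] at hπ
  exact Groth.Agent.H49.isAlgSpace_of_representable_to π hπ.rep hC

/-- Localisation of the relative normalization along an epimorphic chart. -/
theorem isRelNormalization_of_chart {B Y N C D YC NC YD ND : Sp S}
    (f : Y ⟶ B) (ν : N ⟶ B) (f' : Y ⟶ N) (hf' : f' ≫ ν = f) (hν : IsIntegralMor ν)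
    (c : C ⟶ B) [Epi c] (d₁ d₂ : D ⟶ C) (hD : IsPullback d₁ d₂ c c)
    (hC : IsAlgSpace C) (hDa : IsAlgSpace D)
    -- base change to `C`
    (yC : YC ⟶ Y) (fC : YC ⟶ C) (sqY : IsPullback yC fC f c)
    (nC : NC ⟶ N) (νC : NC ⟶ C) (sqN : IsPullback nC νC ν c)
    (f'C : YC ⟶ NC) (hC1 : f'C ≫ nC = yC ≫ f') (hC2 : f'C ≫ νC = fC)
    (hnC : IsRelNormalization fC νC f'C)
    -- base change to `D`
    (yD : YD ⟶ Y) (fD : YD ⟶ D) (sqYD : IsPullback yD fD f (d₁ ≫ c))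
    (nD : ND ⟶ N) (νD : ND ⟶ D) (sqND : IsPullback nD νD ν (d₁ ≫ c))
    (f'D : YD ⟶ ND) (hD1 : f'D ≫ nD = yD ≫ f') (hD2 : f'D ≫ νD = fD)
    (hnD : IsRelNormalization fD νD f'D) :
    IsRelNormalization f ν f' := by
  refine ⟨hf', hν, ?_⟩
  intro Z hZ π g hπ hg
  have hdc : d₁ ≫ c = d₂ ≫ c := hD.w
  -- the maps `N_D ⇉ N_C` and `Y_D ⇉ Y_C`
  let n₁ : ND ⟶ NC := sqN.lift nD (νD ≫ d₁) (by rw [sqND.w, Category.assoc])
  let n₂ : ND ⟶ NC := sqN.lift nD (νD ≫ d₂) (by rw [sqND.w, Category.assoc, hdc])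
  have hn11 : n₁ ≫ nC = nD := sqN.lift_fst _ _ _
  have hn12 : n₁ ≫ νC = νD ≫ d₁ := sqN.lift_snd _ _ _
  have hn21 : n₂ ≫ nC = nD := sqN.lift_fst _ _ _
  have hn22 : n₂ ≫ νC = νD ≫ d₂ := sqN.lift_snd _ _ _
  let y₁ : YD ⟶ YC := sqY.lift yD (fD ≫ d₁) (by rw [sqYD.w, Category.assoc])
  let y₂ : YD ⟶ YC := sqY.lift yD (fD ≫ d₂) (by rw [sqYD.w, Category.assoc, hdc])
  have hy11 : y₁ ≫ yC = yD := sqY.lift_fst _ _ _
  have hy12 : y₁ ≫ fC = fD ≫ d₁ := sqY.lift_snd _ _ _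
  have hy21 : y₂ ≫ yC = yD := sqY.lift_fst _ _ _
  have hy22 : y₂ ≫ fC = fD ≫ d₂ := sqY.lift_snd _ _ _
  have hkp : IsPullback n₁ n₂ nC nC :=
    isPullback_kernelPair_baseChange hD sqN sqND n₁ n₂ hn11 hn12 hn21 hn22
  have hfn1 : f'D ≫ n₁ = y₁ ≫ f'C := by
    apply sqN.hom_ext
    · rw [Category.assoc, hn11, hD1, Category.assoc, hC1, ← Category.assoc, hy11]
    · rw [Category.assoc, hn12, ← Category.assoc, hD2, Category.assoc, hC2, hy12]
  have hfn2 : f'D ≫ n₂ = y₂ ≫ f'C := by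
    apply sqN.hom_ext
    · rw [Category.assoc, hn21, hD1, Category.assoc, hC1, ← Category.assoc, hy21]
    · rw [Category.assoc, hn22, ← Category.assoc, hD2, Category.assoc, hC2, hy22]
  haveI : Epi nC := Groth.Agent.H30.ShfQuot.epi_of_isPullback sqN
  haveI : Epi yC := Groth.Agent.H30.ShfQuot.epi_of_isPullback sqY
  -- base change of `Z` to `C`
  let ZC := pullback π c
  let zC : ZC ⟶ Z := pullback.fst π c
  let πC : ZC ⟶ C := pullback.snd π c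
  have sqZ : IsPullback zC πC π c := IsPullback.of_hasPullback π c
  have hπC : IsIntegralMor πC := isIntegralMor_of_isPullback sqZ hπ
  have hZC : IsAlgSpace ZC := isAlgSpace_of_isIntegralMor πC hπC hC
  let gC : YC ⟶ ZC := sqZ.lift (yC ≫ g) fC (by rw [Category.assoc, hg, sqY.w])
  have hgC1 : gC ≫ zC = yC ≫ g := sqZ.lift_fst _ _ _
  have hgC2 : gC ≫ πC = fC := sqZ.lift_snd _ _ _
  obtain ⟨hC', ⟨hC'1, hC'2⟩, hC'u⟩ := hnC.2.2 hZC πC gC hπC hgC2
  -- base change of `Z` to `D`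
  let ZD := pullback π (d₁ ≫ c)
  let zD : ZD ⟶ Z := pullback.fst π (d₁ ≫ c)
  let πD : ZD ⟶ D := pullback.snd π (d₁ ≫ c)
  have sqZD : IsPullback zD πD π (d₁ ≫ c) := IsPullback.of_hasPullback π (d₁ ≫ c)
  have hπD : IsIntegralMor πD := isIntegralMor_of_isPullback sqZD hπ
  have hZD : IsAlgSpace ZD := isAlgSpace_of_isIntegralMor πD hπD hDa
  let gD : YD ⟶ ZD := sqZD.lift (yD ≫ g) fD (by rw [Category.assoc, hg, sqYD.w])
  have hgD1 : gD ≫ zD = yD ≫ g := sqZD.lift_fst _ _ _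
  have hgD2 : gD ≫ πD = fD := sqZD.lift_snd _ _ _
  obtain ⟨hD', ⟨hD'1, hD'2⟩, hD'u⟩ := hnD.2.2 hZD πD gD hπD hgD2
  -- the two maps `N_D ⟶ Z_D`
  let ψ₁ : ND ⟶ ZD := sqZD.lift (n₁ ≫ hC' ≫ zC) νD (by
    rw [Category.assoc, Category.assoc, sqZ.w, ← Category.assoc hC', hC'2, ← Category.assoc,
      hn12, Category.assoc])
  let ψ₂ : ND ⟶ ZD := sqZD.lift (n₂ ≫ hC' ≫ zC) νD (by
    rw [Category.assoc, Category.assoc, sqZ.w, ← Category.assoc hC', hC'2, ← Category.assoc,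
      hn22, Category.assoc, hdc])
  have hψ11 : ψ₁ ≫ zD = n₁ ≫ hC' ≫ zC := sqZD.lift_fst _ _ _
  have hψ12 : ψ₁ ≫ πD = νD := sqZD.lift_snd _ _ _
  have hψ21 : ψ₂ ≫ zD = n₂ ≫ hC' ≫ zC := sqZD.lift_fst _ _ _
  have hψ22 : ψ₂ ≫ πD = νD := sqZD.lift_snd _ _ _
  have hψ1 : ψ₁ = hD' := by
    apply hD'u
    refine ⟨?_, hψ12⟩
    apply sqZD.hom_ext
    · rw [Category.assoc, hψ11, ← Category.assoc, hfn1, Category.assoc, ← Category.assoc f'C,
        hC'1, hgC1, ← Category.assoc, hy11, hgD1]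
    · rw [Category.assoc, hψ12, hD2, hgD2]
  have hψ2 : ψ₂ = hD' := by
    apply hD'u
    refine ⟨?_, hψ22⟩
    apply sqZD.hom_ext
    · rw [Category.assoc, hψ21, ← Category.assoc, hfn2, Category.assoc, ← Category.assoc f'C,
        hC'1, hgC1, ← Category.assoc, hy21, hgD1]
    · rw [Category.assoc, hψ22, hD2, hgD2]
  have hcoeq : n₁ ≫ hC' ≫ zC = n₂ ≫ hC' ≫ zC := by
    rw [← hψ11, ← hψ21, hψ1, hψ2]
  obtain ⟨h, hh⟩ := exists_desc_of_epi_of_isKernelPair nC hkp (hC' ≫ zC) hcoeq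
  have hh1 : f' ≫ h = g := by
    rw [← cancel_epi yC, ← Category.assoc, ← hC1, Category.assoc, hh, ← Category.assoc, hC'1, hgC1]
  have hh2 : h ≫ π = ν := by
    rw [← cancel_epi nC, ← Category.assoc, hh, Category.assoc, sqZ.w, ← Category.assoc, hC'2, sqN.w]
  refine ⟨h, ⟨hh1, hh2⟩, ?_⟩
  rintro h₂ ⟨h₂1, h₂2⟩
  let k : NC ⟶ ZC := sqZ.lift (nC ≫ h₂) νC (by rw [Category.assoc, h₂2, sqN.w])
  have hk1 : k ≫ zC = nC ≫ h₂ := sqZ.lift_fst _ _ _
  have hk2 : k ≫ πC = νC := sqZ.lift_snd _ _ _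
  have hk : k = hC' := by
    apply hC'u
    refine ⟨?_, hk2⟩
    apply sqZ.hom_ext
    · rw [Category.assoc, hk1, ← Category.assoc, hC1, Category.assoc, h₂1, hgC1]
    · rw [Category.assoc, hk2, hC2, hgC2]
  rw [← cancel_epi nC, hh, ← hk, hk1]

end Groth.Agent.H52.RelNorm
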