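import Groth.Agent.H52.RelNormB

/-!
# Relative normalizations that stay normalizations after étale base change

* `isRelNormalization_of_iso`, `exists_iso_of_isRelNormalization`, `isRelNormalization_hom_ext`
* `IsNormEt f ν f'`: `(ν, f')` is a relative normalization of `f` after base change along every étale
  map from a scheme.
* `IsNormEt.baseChange`, `IsNormEt.isRelNormalization`, `IsNormEt.of_chart`.
-/

set_option autoImplicit false
universe u
open CategoryTheory CategoryTheory.Limits AlgebraicGeometry Opposite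

namespace Groth.Agent.H52.RelNorm

open AlgSp

variable {S : Scheme.{u}}

/-- Transport of a relative normalization along isomorphisms of source and middle term. -/
theorem isRelNormalization_of_iso {F F₂ G N N₂ : Sp S} {f : F ⟶ G} {ν : N ⟶ G} {f' : F ⟶ N}
    (h : IsRelNormalization f ν f') (eF : F₂ ≅ F) (eN : N ≅ N₂) (f₂ : F₂ ⟶ G) (ν₂ : N₂ ⟶ G)
    (f'₂ : F₂ ⟶ N₂) (h1 : f₂ = eF.hom ≫ f) (h2 : eN.hom ≫ ν₂ = ν)
    (h3 : f'₂ = eF.hom ≫ f' ≫ eN.hom) : IsRelNormalization f₂ ν₂ f'₂ := by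
  obtain ⟨hf, hν, huniv⟩ := h
  have hν₂ : ν₂ = eN.inv ≫ ν := by rw [← h2, eN.inv_hom_id_assoc]
  refine ⟨?_, ?_, ?_⟩
  · rw [h3, h1, Category.assoc, Category.assoc, h2, hf]
  · rw [Groth.Agent.H51.isIntegralMor_iff_repWith] at hν ⊢
    rw [hν₂]
    exact (MorphismProperty.cancel_left_of_respectsIso (RepWith @IsIntegralHom) eN.inv ν).2 hν
  · intro Z hZ π g hπ hg
    have hg' : (eF.inv ≫ g) ≫ π = f := by
      rw [Category.assoc, hg, h1, eF.inv_hom_id_assoc]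
    obtain ⟨k, ⟨hk1, hk2⟩, hku⟩ := huniv hZ π (eF.inv ≫ g) hπ hg'
    refine ⟨eN.inv ≫ k, ⟨?_, ?_⟩, ?_⟩
    · rw [h3, Category.assoc, Category.assoc, eN.hom_inv_id_assoc, hk1, eF.hom_inv_id_assoc]
    · rw [Category.assoc, hk2, hν₂]
    · rintro k' ⟨hk'1, hk'2⟩
      have : eN.hom ≫ k' = k := by
        apply hku
        refine ⟨?_, ?_⟩
        · rw [← hk'1, h3, Category.assoc, Category.assoc, eF.inv_hom_id_assoc]
        · rw [Category.assoc, hk'2, h2]
      rw [← this, eN.inv_hom_id_assoc]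

/-- Two maps out of a relative normalization into a sheaf integral over a sheaf `A`, lying over the
same map of the base, and agreeing on the source, are equal. -/
theorem isRelNormalization_hom_ext {F G N A M : Sp S} {f : F ⟶ G} {ν : N ⟶ G} {f' : F ⟶ N}
    (h : IsRelNormalization f ν f') (hG : IsAlgSpace G) (a : M ⟶ A) (ha : IsIntegralMor a)
    (w : G ⟶ A) (φ₁ φ₂ : N ⟶ M) (h1 : φ₁ ≫ a = ν ≫ w) (h2 : φ₂ ≫ a = ν ≫ w)
    (h12 : f' ≫ φ₁ = f' ≫ φ₂) : φ₁ = φ₂ := by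
  obtain ⟨hf, hν, huniv⟩ := h
  have sqZ : IsPullback (pullback.fst a w) (pullback.snd a w) a w := IsPullback.of_hasPullback a w
  have hπ : IsIntegralMor (pullback.snd a w) := isIntegralMor_of_isPullback sqZ ha
  have hZ : IsAlgSpace (pullback a w) := isAlgSpace_of_isIntegralMor _ hπ hG
  let k₁ : N ⟶ pullback a w := pullback.lift φ₁ ν h1
  let k₂ : N ⟶ pullback a w := pullback.lift φ₂ ν h2
  have hg : (f' ≫ k₁) ≫ pullback.snd a w = f := by
    rw [Category.assoc, pullback.lift_snd, hf]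
  obtain ⟨k, -, hku⟩ := huniv hZ (pullback.snd a w) (f' ≫ k₁) hπ hg
  have e1 : k₁ = k := hku k₁ ⟨rfl, pullback.lift_snd _ _ _⟩
  have e2 : k₂ = k := by
    apply hku
    refine ⟨?_, pullback.lift_snd _ _ _⟩
    apply pullback.hom_ext
    · rw [Category.assoc, Category.assoc, pullback.lift_fst, pullback.lift_fst, h12]
    · rw [Category.assoc, Category.assoc, pullback.lift_snd, pullback.lift_snd]
  have : k₁ ≫ pullback.fst a w = k₂ ≫ pullback.fst a w := by rw [e1, e2]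
  rwa [pullback.lift_fst, pullback.lift_fst] at this

/-- Two relative normalizations of the same morphism are uniquely isomorphic. -/
theorem exists_iso_of_isRelNormalization {F G N N₂ : Sp S} {f : F ⟶ G} {ν : N ⟶ G} {f' : F ⟶ N}
    {ν₂ : N₂ ⟶ G} {f'₂ : F ⟶ N₂} (hG : IsAlgSpace G)
    (h : IsRelNormalization f ν f') (h₂ : IsRelNormalization f ν₂ f'₂) :
    ∃ e : N ≅ N₂, f' ≫ e.hom = f'₂ ∧ e.hom ≫ ν₂ = ν := by
  have hN : IsAlgSpace N := isAlgSpace_of_isIntegralMor ν h.2.1 hG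
  have hN₂ : IsAlgSpace N₂ := isAlgSpace_of_isIntegralMor ν₂ h₂.2.1 hG
  obtain ⟨k, ⟨hk1, hk2⟩, -⟩ := h.2.2 hN₂ ν₂ f'₂ h₂.2.1 h₂.1
  obtain ⟨l, ⟨hl1, hl2⟩, -⟩ := h₂.2.2 hN ν f' h.2.1 h.1
  obtain ⟨i, -, hiu⟩ := h.2.2 hN ν f' h.2.1 h.1
  obtain ⟨j, -, hju⟩ := h₂.2.2 hN₂ ν₂ f'₂ h₂.2.1 h₂.1
  have e1 : k ≫ l = 𝟙 N := by
    rw [hiu (k ≫ l) ⟨by rw [← Category.assoc, hk1, hl1], by rw [Category.assoc, hl2, hk2]⟩,
      hiu (𝟙 N) ⟨Category.comp_id _, Category.id_comp _⟩]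
  have e2 : l ≫ k = 𝟙 N₂ := by
    rw [hju (l ≫ k) ⟨by rw [← Category.assoc, hl1, hk1], by rw [Category.assoc, hk2, hl2]⟩,
      hju (𝟙 N₂) ⟨Category.comp_id _, Category.id_comp _⟩]
  exact ⟨⟨k, l, e1, e2⟩, hk1, hk2⟩

/-- `(ν, f')` is a relative normalization of `f` after base change along every étale map from a
scheme. -/
def IsNormEt {F G N : Sp S} (f : F ⟶ G) (ν : N ⟶ G) (f' : F ⟶ N) : Prop :=
  f' ≫ ν = f ∧ IsIntegralMor ν ∧
  ∀ ⦃W : Over S⦄ (w : (yon S).obj W ⟶ G), RepWith @Etale w →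
    ∀ ⦃FW NW : Sp S⦄ (yW : FW ⟶ F) (fW : FW ⟶ (yon S).obj W) (nW : NW ⟶ N)
      (νW : NW ⟶ (yon S).obj W) (f'W : FW ⟶ NW),
      IsPullback yW fW f w → IsPullback nW νW ν w → f'W ≫ nW = yW ≫ f' → f'W ≫ νW = fW →
      IsRelNormalization fW νW f'W

/-- Base change of `IsNormEt` along an étale morphism. -/
theorem IsNormEt.baseChange {F G N G' F' N' : Sp S} {f : F ⟶ G} {ν : N ⟶ G} {f' : F ⟶ N}
    (h : IsNormEt f ν f') (g : G' ⟶ G)
    (hg : ∀ ⦃W : Over S⦄ (w : (yon S).obj W ⟶ G'), RepWith @Etale w → RepWith @Etale (w ≫ g))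
    (yG : F' ⟶ F) (fG : F' ⟶ G') (nG : N' ⟶ N) (νG : N' ⟶ G') (f'G : F' ⟶ N')
    (sqF : IsPullback yG fG f g) (sqN : IsPullback nG νG ν g) (h1 : f'G ≫ nG = yG ≫ f')
    (h2 : f'G ≫ νG = fG) : IsNormEt fG νG f'G := by
  refine ⟨h2, isIntegralMor_of_isPullback sqN h.2.1, ?_⟩
  intro W w hw FW NW yW fW nW νW f'W sq1 sq2 e1 e2
  refine h.2.2 (w ≫ g) (hg w hw) (yW ≫ yG) fW (nW ≫ nG) νW f'W (sq1.paste_horiz sqF)
    (sq2.paste_horiz sqN) ?_ e2
  rw [← Category.assoc, e1, Category.assoc, h1, Category.assoc]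

/-- Over an algebraic space, `IsNormEt` implies `IsRelNormalization`. -/
theorem IsNormEt.isRelNormalization {F G N : Sp S} {f : F ⟶ G} {ν : N ⟶ G} {f' : F ⟶ N}
    (h : IsNormEt f ν f') (hG : IsAlgSpace G) : IsRelNormalization f ν f' := by
  obtain ⟨U, u, hue, hus⟩ := hG.atlas
  haveI : Epi u := epi_of_repWith_etale_surjective u hue hus
  obtain ⟨R, t, s, sq⟩ := hue.rep u
  have hs : RepWith @Etale s := MorphismProperty.of_isPullback (P := RepWith @Etale) sq.flip hue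
  have hsu : RepWith @Etale (s ≫ u) :=
    MorphismProperty.comp_mem (RepWith @Etale) _ _ hs hue
  have hD : IsPullback s ((yon S).map t) u u := sq
  have hUa : IsAlgSpace ((yon S).obj U) := IsAlgSpace.yon_obj U
  have hRa : IsAlgSpace ((yon S).obj R) := IsAlgSpace.yon_obj R
  have sqYC := IsPullback.of_hasPullback f u
  have sqNC := IsPullback.of_hasPullback ν u
  have sqYD := IsPullback.of_hasPullback f (s ≫ u)
  have sqND := IsPullback.of_hasPullback ν (s ≫ u)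
  let f'C : pullback f u ⟶ pullback ν u := pullback.lift (pullback.fst f u ≫ f') (pullback.snd f u)
    (by rw [Category.assoc, h.1, pullback.condition])
  let f'D : pullback f (s ≫ u) ⟶ pullback ν (s ≫ u) :=
    pullback.lift (pullback.fst f (s ≫ u) ≫ f') (pullback.snd f (s ≫ u))
      (by rw [Category.assoc, h.1, pullback.condition])
  refine isRelNormalization_of_chart f ν f' h.1 h.2.1 u s ((yon S).map t) hD hUa hRa
    _ _ sqYC _ _ sqNC f'C (pullback.lift_fst _ _ _) (pullback.lift_snd _ _ _) ?_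
    _ _ sqYD _ _ sqND f'D (pullback.lift_fst _ _ _) (pullback.lift_snd _ _ _) ?_
  · exact h.2.2 u hue _ _ _ _ f'C sqYC sqNC (pullback.lift_fst _ _ _) (pullback.lift_snd _ _ _)
  · exact h.2.2 (s ≫ u) hsu _ _ _ _ f'D sqYD sqND (pullback.lift_fst _ _ _)
      (pullback.lift_snd _ _ _)

/-- Auxiliary: a base change of a triple over `X` which factors through a chart `A ⟶ X` over which
the triple is `IsNormEt` is a relative normalization. -/
theorem isRelNormalization_of_factor {X A G F N FA NA FG NG FT NT : Sp S}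
    {f : F ⟶ X} {ν : N ⟶ X} {f' : F ⟶ N}
    (u : A ⟶ X) {yA : FA ⟶ F} {fA : FA ⟶ A} {nA : NA ⟶ N} {νA : NA ⟶ A} {f'A : FA ⟶ NA}
    (sqYA : IsPullback yA fA f u) (sqNA : IsPullback nA νA ν u)
    (hA1 : f'A ≫ nA = yA ≫ f') (hA2 : f'A ≫ νA = fA) (hA : IsNormEt fA νA f'A)
    (w : G ⟶ X) {yG : FG ⟶ F} {fG : FG ⟶ G} {nG : NG ⟶ N} {νG : NG ⟶ G} {f'G : FG ⟶ NG}
    (sqYG : IsPullback yG fG f w) (sqNG : IsPullback nG νG ν w)
    (hG1 : f'G ≫ nG = yG ≫ f') (_hG2 : f'G ≫ νG = fG)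
    {T : Over S} (cG : (yon S).obj T ⟶ G) (cA : (yon S).obj T ⟶ A) (hc : cA ≫ u = cG ≫ w)
    (hcA : RepWith @Etale cA)
    {yT : FT ⟶ FG} {fT : FT ⟶ (yon S).obj T} {nT : NT ⟶ NG} {νT : NT ⟶ (yon S).obj T}
    {f'T : FT ⟶ NT}
    (sqYT : IsPullback yT fT fG cG) (sqNT : IsPullback nT νT νG cG)
    (hT1 : f'T ≫ nT = yT ≫ f'G) (hT2 : f'T ≫ νT = fT) :
    IsRelNormalization fT νT f'T := by
  let yTA : FT ⟶ FA := sqYA.lift (yT ≫ yG) (fT ≫ cA) (by
    rw [Category.assoc, sqYG.w, ← Category.assoc, sqYT.w, Category.assoc, Category.assoc, hc])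
  let nTA : NT ⟶ NA := sqNA.lift (nT ≫ nG) (νT ≫ cA) (by
    rw [Category.assoc, sqNG.w, ← Category.assoc, sqNT.w, Category.assoc, Category.assoc, hc])
  have hy1 : yTA ≫ yA = yT ≫ yG := sqYA.lift_fst _ _ _
  have hy2 : yTA ≫ fA = fT ≫ cA := sqYA.lift_snd _ _ _
  have hn1 : nTA ≫ nA = nT ≫ nG := sqNA.lift_fst _ _ _
  have hn2 : nTA ≫ νA = νT ≫ cA := sqNA.lift_snd _ _ _
  have bigY : IsPullback (yTA ≫ yA) fT f (cA ≫ u) := by
    rw [hy1, hc]; exact sqYT.paste_horiz sqYG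
  have bigN : IsPullback (nTA ≫ nA) νT ν (cA ≫ u) := by
    rw [hn1, hc]; exact sqNT.paste_horiz sqNG
  have sq1 : IsPullback yTA fT fA cA := IsPullback.of_right bigY hy2 sqYA
  have sq2 : IsPullback nTA νT νA cA := IsPullback.of_right bigN hn2 sqNA
  refine hA.2.2 cA hcA yTA fT nTA νT f'T sq1 sq2 ?_ hT2
  apply sqNA.hom_ext
  · rw [Category.assoc, hn1, ← Category.assoc, hT1, Category.assoc, hG1, Category.assoc, hA1,
      ← Category.assoc, ← Category.assoc, hy1]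
  · rw [Category.assoc, hn2, ← Category.assoc, hT2, Category.assoc, hA2, hy2]

/-- A triple over an algebraic space whose base change to an étale surjective chart is `IsNormEt` is
`IsNormEt`. -/
theorem IsNormEt.of_chart {X F N FU NU : Sp S} {f : F ⟶ X} {ν : N ⟶ X} {f' : F ⟶ N}
    (hf' : f' ≫ ν = f) (hν : IsIntegralMor ν)
    {U : Over S} (u : (yon S).obj U ⟶ X) (hue : RepWith @Etale u) (hus : RepWith @Surjective u)
    {yU : FU ⟶ F} {fU : FU ⟶ (yon S).obj U} {nU : NU ⟶ N} {νU : NU ⟶ (yon S).obj U}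
    {f'U : FU ⟶ NU}
    (sqYU : IsPullback yU fU f u) (sqNU : IsPullback nU νU ν u)
    (hU1 : f'U ≫ nU = yU ≫ f') (hU2 : f'U ≫ νU = fU) (hU : IsNormEt fU νU f'U) :
    IsNormEt f ν f' := by
  refine ⟨hf', hν, ?_⟩
  intro W w hw FW NW yW fW nW νW f'W sq1 sq2 e1 e2
  obtain ⟨WU, cW, cU, sqC⟩ := hue.rep w
  have hcU : RepWith @Etale cU :=
    MorphismProperty.of_isPullback (P := RepWith @Etale) sqC.flip hw
  have hcWe : RepWith @Etale ((yon S).map cW) :=
    MorphismProperty.of_isPullback (P := RepWith @Etale) sqC hue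
  have hcWs : RepWith @Surjective ((yon S).map cW) :=
    MorphismProperty.of_isPullback (P := RepWith @Surjective) sqC hus
  haveI : Epi ((yon S).map cW) := epi_of_repWith_etale_surjective _ hcWe hcWs
  obtain ⟨WD, d₂, d₁, sqD⟩ := hcWe.rep ((yon S).map cW)
  have hd₁ : RepWith @Etale d₁ :=
    MorphismProperty.of_isPullback (P := RepWith @Etale) sqD.flip hcWe
  have hd₁cU : RepWith @Etale (d₁ ≫ cU) := MorphismProperty.comp_mem (RepWith @Etale) _ _ hd₁ hcU
  have sqYC := IsPullback.of_hasPullback fW ((yon S).map cW)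
  have sqNC := IsPullback.of_hasPullback νW ((yon S).map cW)
  have sqYD := IsPullback.of_hasPullback fW (d₁ ≫ (yon S).map cW)
  have sqND := IsPullback.of_hasPullback νW (d₁ ≫ (yon S).map cW)
  let f'C : pullback fW ((yon S).map cW) ⟶ pullback νW ((yon S).map cW) :=
    pullback.lift (pullback.fst _ _ ≫ f'W) (pullback.snd _ _)
      (by rw [Category.assoc, e2, pullback.condition])
  let f'D : pullback fW (d₁ ≫ (yon S).map cW) ⟶ pullback νW (d₁ ≫ (yon S).map cW) :=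
    pullback.lift (pullback.fst _ _ ≫ f'W) (pullback.snd _ _)
      (by rw [Category.assoc, e2, pullback.condition])
  have hνW : IsIntegralMor νW := isIntegralMor_of_isPullback sq2 hν
  refine isRelNormalization_of_chart fW νW f'W e2 hνW ((yon S).map cW) d₁ ((yon S).map d₂) sqD
    (IsAlgSpace.yon_obj WU) (IsAlgSpace.yon_obj WD)
    _ _ sqYC _ _ sqNC f'C (pullback.lift_fst _ _ _) (pullback.lift_snd _ _ _) ?_
    _ _ sqYD _ _ sqND f'D (pullback.lift_fst _ _ _) (pullback.lift_snd _ _ _) ?_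
  · exact isRelNormalization_of_factor u sqYU sqNU hU1 hU2 hU w sq1 sq2 e1 e2
      ((yon S).map cW) cU sqC.w hcU sqYC sqNC (pullback.lift_fst _ _ _) (pullback.lift_snd _ _ _)
  · refine isRelNormalization_of_factor u sqYU sqNU hU1 hU2 hU w sq1 sq2 e1 e2
      (d₁ ≫ (yon S).map cW) (d₁ ≫ cU) ?_ hd₁cU sqYD sqND (pullback.lift_fst _ _ _)
      (pullback.lift_snd _ _ _)
    rw [Category.assoc, Category.assoc, sqC.w]

end Groth.Agent.H52.RelNorm
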