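import Groth.Agent.H52.RelNormC

/-!
# Descent of a relative normalization along an étale atlas: the equivalence relation

Setting: `u : A ⟶ X` with kernel pair `(p₁, p₂) : K ⇉ A` (where `A = h_U`, `K = h_R`), a triple
`(fU, a, f'U)` over `A` which is `IsNormEt`.  We construct `L = M ×_{A, p₁} K`, the second map
`τ : L ⟶ M` and show that `(σ, τ)` is an equivalence relation on `M`.
-/

set_option autoImplicit false
universe u
open CategoryTheory CategoryTheory.Limits AlgebraicGeometry Opposite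

namespace Groth.Agent.H52.RelNorm

open AlgSp

variable {S : Scheme.{u}}

/-- The descent datum attached to an `IsNormEt` triple over an atlas. -/
theorem exists_descent_datum {X Y YU M : Sp S} {U R : Over S} (f : Y ⟶ X)
    (u : (yon S).obj U ⟶ X)
    (p₁ p₂ : (yon S).obj R ⟶ (yon S).obj U) (hK : IsPullback p₁ p₂ u u)
    (hp₁ : RepWith @Etale p₁) (hp₂ : RepWith @Etale p₂)
    (yU : YU ⟶ Y) (fU : YU ⟶ (yon S).obj U) (sqYU : IsPullback yU fU f u)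
    (a : M ⟶ (yon S).obj U) (f'U : YU ⟶ M) (hM : IsNormEt fU a f'U) :
    ∃ (L YR : Sp S) (σ τ : L ⟶ M) (b : L ⟶ (yon S).obj R) (yR1 yR2 : YR ⟶ YU)
      (fR : YR ⟶ (yon S).obj R) (f'R : YR ⟶ L),
      IsPullback σ b a p₁ ∧ IsPullback τ b a p₂ ∧ IsPullback yR1 fR fU p₁ ∧
      IsPullback yR2 fR fU p₂ ∧ yR1 ≫ yU = yR2 ≫ yU ∧ f'R ≫ σ = yR1 ≫ f'U ∧
      f'R ≫ τ = yR2 ≫ f'U ∧ f'R ≫ b = fR ∧ IsRelNormalization fR b f'R := by
  have hKa : IsAlgSpace ((yon S).obj R) := IsAlgSpace.yon_obj R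
  have sqσ := IsPullback.of_hasPullback a p₁
  have sqYR1 := IsPullback.of_hasPullback fU p₁
  set L := pullback a p₁
  set σ : L ⟶ M := pullback.fst a p₁
  set b : L ⟶ (yon S).obj R := pullback.snd a p₁
  set YR := pullback fU p₁
  set yR1 : YR ⟶ YU := pullback.fst fU p₁
  set fR : YR ⟶ (yon S).obj R := pullback.snd fU p₁
  let f'R : YR ⟶ L := sqσ.lift (yR1 ≫ f'U) fR (by rw [Category.assoc, hM.1, sqYR1.w])
  have hf'R1 : f'R ≫ σ = yR1 ≫ f'U := sqσ.lift_fst _ _ _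
  have hf'R2 : f'R ≫ b = fR := sqσ.lift_snd _ _ _
  have hL : IsRelNormalization fR b f'R := hM.2.2 p₁ hp₁ yR1 fR σ b f'R sqYR1 sqσ hf'R1 hf'R2
  let yR2 : YR ⟶ YU := sqYU.lift (yR1 ≫ yU) (fR ≫ p₂) (by
    rw [Category.assoc, sqYU.w, ← Category.assoc, sqYR1.w, Category.assoc, Category.assoc, hK.w])
  have hyR21 : yR2 ≫ yU = yR1 ≫ yU := sqYU.lift_fst _ _ _
  have hyR22 : yR2 ≫ fU = fR ≫ p₂ := sqYU.lift_snd _ _ _
  have sqYR2 : IsPullback yR2 fR fU p₂ := by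
    have big : IsPullback (yR2 ≫ yU) fR f (p₂ ≫ u) := by
      rw [hyR21, ← hK.w]; exact sqYR1.paste_horiz sqYU
    exact IsPullback.of_right big hyR22 sqYU
  have sqτ' := IsPullback.of_hasPullback a p₂
  let f'R' : YR ⟶ pullback a p₂ := sqτ'.lift (yR2 ≫ f'U) fR (by rw [Category.assoc, hM.1, hyR22])
  have hf'R'1 : f'R' ≫ pullback.fst a p₂ = yR2 ≫ f'U := sqτ'.lift_fst _ _ _
  have hf'R'2 : f'R' ≫ pullback.snd a p₂ = fR := sqτ'.lift_snd _ _ _
  have hL' : IsRelNormalization fR (pullback.snd a p₂) f'R' :=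
    hM.2.2 p₂ hp₂ yR2 fR _ _ f'R' sqYR2 sqτ' hf'R'1 hf'R'2
  obtain ⟨ε, hε1, hε2⟩ := exists_iso_of_isRelNormalization hKa hL hL'
  refine ⟨L, YR, σ, ε.hom ≫ pullback.fst a p₂, b, yR1, yR2, fR, f'R, sqσ, ?_, sqYR1, sqYR2,
    hyR21.symm, hf'R1, ?_, hf'R2, hL⟩
  · exact IsPullback.of_iso sqτ' ε.symm (Iso.refl _) (Iso.refl _) (Iso.refl _)
      (by simp) (by simp [← hε2]) (by simp) (by simp)
  · rw [← Category.assoc, hε1, hf'R'1]

end Groth.Agent.H52.RelNorm
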