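import Groth.Agent.H52.RelNormD

/-!
# The descent datum of a relative normalization is an equivalence relation
-/

set_option autoImplicit false
universe u
open CategoryTheory CategoryTheory.Limits AlgebraicGeometry Opposite

namespace Groth.Agent.H52.RelNorm

open AlgSp

variable {S : Scheme.{u}}

set_option maxHeartbeats 800000 in
/-- The descent datum of `exists_descent_datum` is an equivalence relation. -/
theorem isEqvRelSp_of_descent_datum {X Y YU M L YR : Sp S} {U R : Over S} (f : Y ⟶ X)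
    (u : (yon S).obj U ⟶ X)
    (p₁ p₂ : (yon S).obj R ⟶ (yon S).obj U) (hK : IsPullback p₁ p₂ u u)
    (hp₁ : RepWith @Etale p₁) (hp₂ : RepWith @Etale p₂)
    (yU : YU ⟶ Y) (fU : YU ⟶ (yon S).obj U) (sqYU : IsPullback yU fU f u)
    (a : M ⟶ (yon S).obj U) (f'U : YU ⟶ M) (hM : IsNormEt fU a f'U)
    (σ τ : L ⟶ M) (b : L ⟶ (yon S).obj R) (yR1 yR2 : YR ⟶ YU)
    (fR : YR ⟶ (yon S).obj R) (f'R : YR ⟶ L)
    (sqσ : IsPullback σ b a p₁) (sqτ : IsPullback τ b a p₂) (sqYR1 : IsPullback yR1 fR fU p₁)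
    (sqYR2 : IsPullback yR2 fR fU p₂) (hy : yR1 ≫ yU = yR2 ≫ yU) (hσ : f'R ≫ σ = yR1 ≫ f'U)
    (hτ : f'R ≫ τ = yR2 ≫ f'U) (hb : f'R ≫ b = fR) (hL : IsRelNormalization fR b f'R) :
    IsEqvRelSp σ τ := by
  have ha : IsIntegralMor a := hM.2.1
  have hfa : f'U ≫ a = fU := hM.1
  have hUa : IsAlgSpace ((yon S).obj U) := IsAlgSpace.yon_obj U
  have hRa : IsAlgSpace ((yon S).obj R) := IsAlgSpace.yon_obj R
  have hA : IsRelNormalization fU a f'U := hM.isRelNormalization hUa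
  -- reflexivity
  let e : (yon S).obj U ⟶ (yon S).obj R := hK.lift (𝟙 _) (𝟙 _) rfl
  have he1 : e ≫ p₁ = 𝟙 _ := hK.lift_fst _ _ _
  have he2 : e ≫ p₂ = 𝟙 _ := hK.lift_snd _ _ _
  let εM : M ⟶ L := sqσ.lift (𝟙 M) (a ≫ e) (by rw [Category.id_comp, Category.assoc, he1,
    Category.comp_id])
  have hεM1 : εM ≫ σ = 𝟙 M := sqσ.lift_fst _ _ _
  have hεM2 : εM ≫ b = a ≫ e := sqσ.lift_snd _ _ _
  let eY : YU ⟶ YR := sqYR1.lift (𝟙 YU) (fU ≫ e) (by rw [Category.id_comp, Category.assoc, he1,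
    Category.comp_id])
  have heY1 : eY ≫ yR1 = 𝟙 YU := sqYR1.lift_fst _ _ _
  have heY2 : eY ≫ fR = fU ≫ e := sqYR1.lift_snd _ _ _
  have hεY : f'U ≫ εM = eY ≫ f'R := by
    apply sqσ.hom_ext
    · rw [Category.assoc, hεM1, Category.comp_id, Category.assoc, hσ, ← Category.assoc, heY1,
        Category.id_comp]
    · rw [Category.assoc, hεM2, ← Category.assoc, hfa, Category.assoc, hb, heY2]
  have heY3 : eY ≫ yR2 = 𝟙 YU := by
    apply sqYU.hom_ext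
    · rw [Category.assoc, ← hy, ← Category.assoc, heY1]
    · rw [Category.assoc, sqYR2.w, ← Category.assoc, heY2, Category.assoc, he2, Category.comp_id,
        Category.id_comp]
  have hrefl : εM ≫ τ = 𝟙 M := by
    refine isRelNormalization_hom_ext hA hUa a ha (𝟙 _) _ _ ?_ ?_ ?_
    · rw [Category.assoc, sqτ.w, ← Category.assoc, hεM2, Category.assoc, he2]
    · rw [Category.id_comp, Category.comp_id]
    · rw [← Category.assoc, hεY, Category.assoc, hτ, ← Category.assoc, heY3, Category.id_comp,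
        Category.comp_id]
  -- symmetry
  let inv : (yon S).obj R ⟶ (yon S).obj R := hK.lift p₂ p₁ hK.w.symm
  have hinv1 : inv ≫ p₁ = p₂ := hK.lift_fst _ _ _
  have hinv2 : inv ≫ p₂ = p₁ := hK.lift_snd _ _ _
  let ιL : L ⟶ L := sqσ.lift τ (b ≫ inv) (by rw [Category.assoc, hinv1, sqτ.w])
  have hιL1 : ιL ≫ σ = τ := sqσ.lift_fst _ _ _
  have hιL2 : ιL ≫ b = b ≫ inv := sqσ.lift_snd _ _ _
  let invY : YR ⟶ YR := sqYR1.lift yR2 (fR ≫ inv) (by rw [Category.assoc, hinv1, sqYR2.w])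
  have hinvY1 : invY ≫ yR1 = yR2 := sqYR1.lift_fst _ _ _
  have hinvY2 : invY ≫ fR = fR ≫ inv := sqYR1.lift_snd _ _ _
  have hιY : f'R ≫ ιL = invY ≫ f'R := by
    apply sqσ.hom_ext
    · rw [Category.assoc, hιL1, hτ, Category.assoc, hσ, ← Category.assoc, hinvY1]
    · rw [Category.assoc, hιL2, ← Category.assoc, hb, Category.assoc, hb, hinvY2]
  have hinvY3 : invY ≫ yR2 = yR1 := by
    apply sqYU.hom_ext
    · rw [Category.assoc, ← hy, ← Category.assoc, hinvY1, hy]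
    · rw [Category.assoc, sqYR2.w, ← Category.assoc, hinvY2, Category.assoc, hinv2, sqYR1.w]
  have hsymm : ιL ≫ τ = σ := by
    refine isRelNormalization_hom_ext hL hRa a ha p₁ _ _ ?_ sqσ.w ?_
    · rw [Category.assoc, sqτ.w, ← Category.assoc, hιL2, Category.assoc, hinv2]
    · rw [← Category.assoc, hιY, Category.assoc, hτ, ← Category.assoc, hinvY3, hσ]
  -- transitivity
  obtain ⟨R₂, π₂₀, π₁, sqK₂⟩ := hp₁.rep p₂
  set π₂ : (yon S).obj R₂ ⟶ (yon S).obj R := (yon S).map π₂₀ with hπ₂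
  have hπ₁ : RepWith @Etale π₁ :=
    MorphismProperty.of_isPullback (P := RepWith @Etale) sqK₂.flip hp₂
  have hw₂ : RepWith @Etale (π₁ ≫ p₁) := MorphismProperty.comp_mem (RepWith @Etale) _ _ hπ₁ hp₁
  have hR₂a : IsAlgSpace ((yon S).obj R₂) := IsAlgSpace.yon_obj R₂
  have sqL₂ := IsPullback.of_hasPullback a (π₁ ≫ p₁)
  have sqY₂ := IsPullback.of_hasPullback fU (π₁ ≫ p₁)
  set L₂ := pullback a (π₁ ≫ p₁)
  set m₂ : L₂ ⟶ M := pullback.fst a (π₁ ≫ p₁)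
  set ν₂ : L₂ ⟶ (yon S).obj R₂ := pullback.snd a (π₁ ≫ p₁)
  set Y₂ := pullback fU (π₁ ≫ p₁)
  set y₂ : Y₂ ⟶ YU := pullback.fst fU (π₁ ≫ p₁)
  set f₂ : Y₂ ⟶ (yon S).obj R₂ := pullback.snd fU (π₁ ≫ p₁)
  let f'₂ : Y₂ ⟶ L₂ := sqL₂.lift (y₂ ≫ f'U) f₂ (by rw [Category.assoc, hfa, sqY₂.w])
  have hf'₂1 : f'₂ ≫ m₂ = y₂ ≫ f'U := sqL₂.lift_fst _ _ _
  have hf'₂2 : f'₂ ≫ ν₂ = f₂ := sqL₂.lift_snd _ _ _
  have h₂ : IsRelNormalization f₂ ν₂ f'₂ :=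
    hM.2.2 (π₁ ≫ p₁) hw₂ y₂ f₂ m₂ ν₂ f'₂ sqY₂ sqL₂ hf'₂1 hf'₂2
  let lam₁ : L₂ ⟶ L := sqσ.lift m₂ (ν₂ ≫ π₁) (by rw [Category.assoc, sqL₂.w])
  have hlam₁1 : lam₁ ≫ σ = m₂ := sqσ.lift_fst _ _ _
  have hlam₁2 : lam₁ ≫ b = ν₂ ≫ π₁ := sqσ.lift_snd _ _ _
  let lam₂ : L₂ ⟶ L := sqτ.lift m₂ (ν₂ ≫ π₂) (by rw [Category.assoc, ← sqK₂.w, sqL₂.w])
  have hlam₂1 : lam₂ ≫ τ = m₂ := sqτ.lift_fst _ _ _
  have hlam₂2 : lam₂ ≫ b = ν₂ ≫ π₂ := sqτ.lift_snd _ _ _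
  let k₃ : (yon S).obj R₂ ⟶ (yon S).obj R := hK.lift (π₂ ≫ p₁) (π₁ ≫ p₂) (by
    rw [Category.assoc, Category.assoc, hK.w, ← Category.assoc, ← sqK₂.w, Category.assoc, hK.w])
  have hk₃1 : k₃ ≫ p₁ = π₂ ≫ p₁ := hK.lift_fst _ _ _
  have hk₃2 : k₃ ≫ p₂ = π₁ ≫ p₂ := hK.lift_snd _ _ _
  let lam₃ : L₂ ⟶ L := sqσ.lift (lam₂ ≫ σ) (ν₂ ≫ k₃) (by
    rw [Category.assoc, sqσ.w, ← Category.assoc, hlam₂2, Category.assoc, Category.assoc, hk₃1])
  have hlam₃1 : lam₃ ≫ σ = lam₂ ≫ σ := sqσ.lift_fst _ _ _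
  have hlam₃2 : lam₃ ≫ b = ν₂ ≫ k₃ := sqσ.lift_snd _ _ _
  let η₁ : Y₂ ⟶ YR := sqYR1.lift y₂ (f₂ ≫ π₁) (by rw [Category.assoc, sqY₂.w])
  have hη₁1 : η₁ ≫ yR1 = y₂ := sqYR1.lift_fst _ _ _
  have hη₁2 : η₁ ≫ fR = f₂ ≫ π₁ := sqYR1.lift_snd _ _ _
  let η₂ : Y₂ ⟶ YR := sqYR2.lift y₂ (f₂ ≫ π₂) (by rw [Category.assoc, ← sqK₂.w, sqY₂.w])
  have hη₂1 : η₂ ≫ yR2 = y₂ := sqYR2.lift_fst _ _ _
  have hη₂2 : η₂ ≫ fR = f₂ ≫ π₂ := sqYR2.lift_snd _ _ _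
  let η₃ : Y₂ ⟶ YR := sqYR1.lift (η₂ ≫ yR1) (f₂ ≫ k₃) (by
    rw [Category.assoc, sqYR1.w, ← Category.assoc, hη₂2, Category.assoc, Category.assoc, hk₃1])
  have hη₃1 : η₃ ≫ yR1 = η₂ ≫ yR1 := sqYR1.lift_fst _ _ _
  have hη₃2 : η₃ ≫ fR = f₂ ≫ k₃ := sqYR1.lift_snd _ _ _
  have hlamη₁ : f'₂ ≫ lam₁ = η₁ ≫ f'R := by
    apply sqσ.hom_ext
    · rw [Category.assoc, hlam₁1, hf'₂1, Category.assoc, hσ, ← Category.assoc, hη₁1]
    · rw [Category.assoc, hlam₁2, ← Category.assoc, hf'₂2, Category.assoc, hb, hη₁2]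
  have hlamη₂ : f'₂ ≫ lam₂ = η₂ ≫ f'R := by
    apply sqτ.hom_ext
    · rw [Category.assoc, hlam₂1, hf'₂1, Category.assoc, hτ, ← Category.assoc, hη₂1]
    · rw [Category.assoc, hlam₂2, ← Category.assoc, hf'₂2, Category.assoc, hb, hη₂2]
  have hlamη₃ : f'₂ ≫ lam₃ = η₃ ≫ f'R := by
    apply sqσ.hom_ext
    · rw [Category.assoc, hlam₃1, ← Category.assoc, hlamη₂, Category.assoc, hσ, Category.assoc, hσ,
        ← Category.assoc, ← Category.assoc, hη₃1]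
    · rw [Category.assoc, hlam₃2, ← Category.assoc, hf'₂2, Category.assoc, hb, hη₃2]
  have hη₃₁ : η₃ ≫ yR2 = η₁ ≫ yR2 := by
    apply sqYU.hom_ext
    · rw [Category.assoc, ← hy, ← Category.assoc, hη₃1, Category.assoc, hy, ← Category.assoc,
        hη₂1, Category.assoc, ← hy, ← Category.assoc, hη₁1]
    · rw [Category.assoc, sqYR2.w, ← Category.assoc, hη₃2, Category.assoc, hk₃2, Category.assoc,
        sqYR2.w, ← Category.assoc η₁, hη₁2, Category.assoc]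
  have htrans : lam₃ ≫ τ = lam₁ ≫ τ := by
    refine isRelNormalization_hom_ext h₂ hR₂a a ha (π₁ ≫ p₂) _ _ ?_ ?_ ?_
    · rw [Category.assoc, sqτ.w, ← Category.assoc, hlam₃2, Category.assoc, hk₃2]
    · rw [Category.assoc, sqτ.w, ← Category.assoc, hlam₁2, Category.assoc]
    · rw [← Category.assoc, hlamη₃, Category.assoc, hτ, ← Category.assoc, hη₃₁, ← Category.assoc,
        hlamη₁, Category.assoc, Category.assoc, hτ]
  refine ⟨?_, ?_⟩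
  · intro T r r' h1 h2
    apply sqσ.hom_ext h2
    apply hK.hom_ext
    · rw [Category.assoc, Category.assoc, ← sqσ.w, ← Category.assoc, ← Category.assoc, h2]
    · rw [Category.assoc, Category.assoc, ← sqτ.w, ← Category.assoc, ← Category.assoc, h1]
  · intro T
    refine ⟨?_, ?_, ?_⟩
    · intro m
      exact ⟨m ≫ εM, by rw [Category.assoc, hrefl, Category.comp_id],
        by rw [Category.assoc, hεM1, Category.comp_id]⟩
    · rintro x y ⟨r, hr1, hr2⟩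
      exact ⟨r ≫ ιL, by rw [Category.assoc, hsymm, hr2], by rw [Category.assoc, hιL1, hr1]⟩
    · rintro x y z ⟨r₁, hr₁1, hr₁2⟩ ⟨r₂, hr₂1, hr₂2⟩
      let κ : (yon S).obj T ⟶ (yon S).obj R₂ := sqK₂.lift (r₁ ≫ b) (r₂ ≫ b) (by
        rw [Category.assoc, Category.assoc, ← sqσ.w, ← sqτ.w, ← Category.assoc, ← Category.assoc,
          hr₁2, hr₂1])
      have hκ1 : κ ≫ π₁ = r₁ ≫ b := sqK₂.lift_fst _ _ _
      have hκ2 : κ ≫ π₂ = r₂ ≫ b := sqK₂.lift_snd _ _ _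
      let ρ : (yon S).obj T ⟶ L₂ := sqL₂.lift y κ (by
        rw [← Category.assoc, hκ1, Category.assoc, ← sqσ.w, ← Category.assoc, hr₁2])
      have hρ1 : ρ ≫ m₂ = y := sqL₂.lift_fst _ _ _
      have hρ2 : ρ ≫ ν₂ = κ := sqL₂.lift_snd _ _ _
      have hρlam₁ : ρ ≫ lam₁ = r₁ := by
        apply sqσ.hom_ext
        · rw [Category.assoc, hlam₁1, hρ1, hr₁2]
        · rw [Category.assoc, hlam₁2, ← Category.assoc, hρ2, hκ1]
      have hρlam₂ : ρ ≫ lam₂ = r₂ := by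
        apply sqτ.hom_ext
        · rw [Category.assoc, hlam₂1, hρ1, hr₂1]
        · rw [Category.assoc, hlam₂2, ← Category.assoc, hρ2, hκ2]
      refine ⟨ρ ≫ lam₃, ?_, ?_⟩
      · rw [Category.assoc, htrans, ← Category.assoc, hρlam₁, hr₁1]
      · rw [Category.assoc, hlam₃1, ← Category.assoc, hρlam₂, hr₂2]

end Groth.Agent.H52.RelNorm
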