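import Groth.Agent.H52.RelNormE
import Groth.Agent.H65.FppfDescAffHom
import Groth.Agent.H1.Descent

/-!
# Descent of a relative normalization along an étale atlas

`exists_isNormEt_of_atlas`: if the base change of `f : Y ⟶ X` to an étale atlas `h_U ⟶ X` has an
`IsNormEt` normalization, then `f` has one.
-/

set_option autoImplicit false
universe u
open CategoryTheory CategoryTheory.Limits AlgebraicGeometry Opposite

namespace Groth.Agent.H52.RelNorm

open AlgSp

variable {S : Scheme.{u}}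

/-- A morphism of sheaves whose base change to an étale atlas is integral is integral. -/
theorem isIntegralMor_of_isPullback_atlas {X N M : Sp S} {U : Over S} (u : (yon S).obj U ⟶ X)
    (hue : RepWith @Etale u) (hus : RepWith @Surjective u) (ν : N ⟶ X)
    (a : M ⟶ (yon S).obj U) (q : M ⟶ N) (sqN : IsPullback q a ν u) (ha : IsIntegralMor a) :
    IsIntegralMor ν := by
  rw [Groth.Agent.H51.isIntegralMor_iff_repWith] at ha
  intro Z hZ g
  obtain ⟨ZU, c, cU, sqC⟩ := hue.rep g
  have hce : Etale c.left := ((repWith_iff _ _).1 hue).2 g cU c sqC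
  have hcs : Surjective c.left := ((repWith_iff _ _).1 hus).2 g cU c sqC
  obtain ⟨V', a', t₀, sq'⟩ := ha.rep cU
  have ha' : IsIntegralHom a'.left := ((repWith_iff _ _).1 ha).2 cU t₀ a' sq'
  have sqP := IsPullback.of_hasPullback ν g
  let t : (yon S).obj V' ⟶ pullback ν g :=
    pullback.lift (t₀ ≫ q) ((yon S).map a' ≫ (yon S).map c) (by
      rw [Category.assoc, sqN.w, ← Category.assoc, sq'.w, Category.assoc, Category.assoc, sqC.w])
  have ht1 : t ≫ pullback.fst ν g = t₀ ≫ q := pullback.lift_fst _ _ _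
  have ht2 : t ≫ pullback.snd ν g = (yon S).map a' ≫ (yon S).map c := pullback.lift_snd _ _ _
  have sqt : IsPullback t ((yon S).map a') (pullback.snd ν g) ((yon S).map c) := by
    have big : IsPullback (t ≫ pullback.fst ν g) ((yon S).map a') ν ((yon S).map c ≫ g) := by
      rw [ht1, ← sqC.w]; exact sq'.paste_horiz sqN
    exact IsPullback.of_right big ht2 sqP
  haveI : IsAffineHom a'.left := inferInstance
  obtain ⟨G, e, γ, hγ, hγaff⟩ := Groth.Agent.H65.FppfDescAffHom.exists_rep_of_fppf_descent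
    (pullback.snd ν g) (ι := PUnit.{u + 1}) (fun _ => ZU) (fun _ => V') (fun _ => c)
    (fun _ => inferInstance) (fun _ => inferInstance)
    (fun y => ⟨PUnit.unit, hcs.surj y⟩) (fun _ => a') (fun _ => inferInstance) (fun _ => t)
    (fun _ => sqt)
  haveI : IsAffine Z.left := hZ
  haveI : IsAffineHom γ.left := hγaff
  have hGaff : IsAffine G.left := isAffine_of_isAffineHom γ.left
  have sqG : IsPullback (e.hom ≫ pullback.fst ν g) ((yon S).map γ) ν g := by
    rw [← hγ]
    exact IsPullback.of_iso sqP e.symm (Iso.refl _) (Iso.refl _) (Iso.refl _) (by simp) (by simp)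
      (by simp) (by simp)
  obtain ⟨k, hk⟩ := (yon S).map_surjective (t ≫ e.inv)
  have h2 : IsPullback (t ≫ e.inv) ((yon S).map a') (e.hom ≫ pullback.snd ν g) ((yon S).map c) :=
    IsPullback.of_iso sqt (Iso.refl _) e.symm (Iso.refl _) (Iso.refl _) (by simp) (by simp)
      (by simp) (by simp)
  rw [hγ, ← hk] at h2
  have h3 : IsPullback k a' γ c :=
    IsPullback.of_map (yon S) ((yon S).map_injective (by
      rw [Functor.map_comp, Functor.map_comp]; exact h2.w)) h2
  have h4 : IsPullback k.left a'.left γ.left c.left := h3.map (Over.forget S)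
  have := Groth.Agent.H1.isIntegralHom_descendsAlong_fpqc.{u}
  have hγint : IsIntegralHom γ.left :=
    Groth.Agent.H65.FppfDesc.of_fppf_family @IsIntegralHom γ.left (ι := PUnit.{u + 1})
      (fun _ => ZU.left) (fun _ => V'.left) (fun _ => c.left) (fun _ => inferInstance)
      (fun _ => inferInstance) (fun y => ⟨PUnit.unit, hcs.surj y⟩) (fun _ => k.left)
      (fun _ => a'.left) (fun _ => h4) (fun _ => ha')
  exact ⟨G, γ, e.hom ≫ pullback.fst ν g, sqG, hGaff, hγint⟩

/-- Descent of an `IsNormEt` normalization along an étale atlas. -/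
theorem exists_isNormEt_of_atlas {X Y YU M : Sp S} {U : Over S} (f : Y ⟶ X)
    (u : (yon S).obj U ⟶ X) (hue : RepWith @Etale u) (hus : RepWith @Surjective u)
    (yU : YU ⟶ Y) (fU : YU ⟶ (yon S).obj U) (sqYU : IsPullback yU fU f u)
    (a : M ⟶ (yon S).obj U) (f'U : YU ⟶ M) (hM : IsNormEt fU a f'U) :
    ∃ (N : Sp S) (ν : N ⟶ X) (f' : Y ⟶ N) (q : M ⟶ N),
      IsNormEt f ν f' ∧ IsPullback q a ν u ∧ f'U ≫ q = yU ≫ f' := by
  obtain ⟨R, t, p₁, sqK⟩ := hue.rep u
  have hp₁ : RepWith @Etale p₁ := MorphismProperty.of_isPullback (P := RepWith @Etale) sqK.flip hue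
  have hp₂ : RepWith @Etale ((yon S).map t) :=
    MorphismProperty.of_isPullback (P := RepWith @Etale) sqK hue
  obtain ⟨L, YR, σ, τ, b, yR1, yR2, fR, f'R, sqσ, sqτ, sqYR1, sqYR2, hy, hσ, hτ, hb, hL⟩ :=
    exists_descent_datum f u p₁ ((yon S).map t) sqK hp₁ hp₂ yU fU sqYU a f'U hM
  have hrel : IsEqvRelSp σ τ :=
    isEqvRelSp_of_descent_datum f u p₁ ((yon S).map t) sqK hp₁ hp₂ yU fU sqYU a f'U hM σ τ b
      yR1 yR2 fR f'R sqσ sqτ sqYR1 sqYR2 hy hσ hτ hb hL
  obtain ⟨N, ν, q, hq, sqN, hqq, -⟩ :=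
    exists_descent u p₁ ((yon S).map t) sqK a b σ τ sqσ sqτ.w hrel
  haveI : Epi u := epi_of_repWith_etale_surjective u hue hus
  haveI : Epi yU := Groth.Agent.H30.ShfQuot.epi_of_isPullback sqYU
  have hkp : IsPullback yR1 yR2 yU yU :=
    isPullback_kernelPair_baseChange sqK sqYU (sqYR1.paste_horiz sqYU) yR1 yR2 rfl sqYR1.w
      hy.symm sqYR2.w
  have hcoeq : yR1 ≫ f'U ≫ q = yR2 ≫ f'U ≫ q := by
    rw [← Category.assoc, ← hσ, ← Category.assoc yR2, ← hτ, Category.assoc, Category.assoc, hqq.w]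
  obtain ⟨f', hf'⟩ := exists_desc_of_epi_of_isKernelPair yU hkp (f'U ≫ q) hcoeq
  have hf'ν : f' ≫ ν = f := by
    rw [← cancel_epi yU, ← Category.assoc, hf', Category.assoc, sqN.w, ← Category.assoc, hM.1,
      sqYU.w]
  have hν : IsIntegralMor ν := isIntegralMor_of_isPullback_atlas u hue hus ν a q sqN hM.2.1
  exact ⟨N, ν, f', q, IsNormEt.of_chart hf'ν hν u hue hus sqYU sqN hf'.symm hM.1 hM, sqN,
    hf'.symm⟩

end Groth.Agent.H52.RelNorm
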