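import Groth.Agent.H52.RelNormF

/-!
# The relative normalization of a quasi-compact quasi-separated morphism of schemes is `IsNormEt`
-/

set_option autoImplicit false
universe u
open CategoryTheory CategoryTheory.Limits AlgebraicGeometry Opposite

namespace Groth.Agent.H52.RelNorm

open AlgSp

variable {S : Scheme.{u}}

/-- A pullback square of schemes, as a pullback square of representable sheaves. -/
theorem isPullback_yon_of_left {P A B C : Over S} {fst : P ⟶ A} {snd : P ⟶ B} {f : A ⟶ C}
    {g : B ⟶ C} (h : IsPullback fst.left snd.left f.left g.left) :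
    IsPullback ((yon S).map fst) ((yon S).map snd) ((yon S).map f) ((yon S).map g) := by
  have hcomm : fst ≫ f = snd ≫ g := by
    ext : 1
    exact h.w
  exact (IsPullback.of_map (Over.forget S) hcomm h).map (yon S)

set_option maxHeartbeats 800000 in
/-- The relative normalization of a qcqs morphism of schemes stays a relative normalization after
étale base change. -/
theorem exists_isNormEt_yon {V U : Over S} (g : V ⟶ U) [QuasiCompact g.left]
    [QuasiSeparated g.left] :
    ∃ (N : Over S) (ν : N ⟶ U) (f' : V ⟶ N),
      IsNormEt ((yon S).map g) ((yon S).map ν) ((yon S).map f') ∧ IsIntegralHom ν.left := by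
  let N : Over S := Over.mk (g.left.fromNormalization ≫ U.hom)
  let ν : N ⟶ U := Over.homMk g.left.fromNormalization rfl
  let f' : V ⟶ N := Over.homMk g.left.toNormalization (by
    change g.left.toNormalization ≫ g.left.fromNormalization ≫ U.hom = V.hom
    rw [← Category.assoc, Scheme.Hom.toNormalization_fromNormalization, Over.w g])
  have hf'ν : f' ≫ ν = g := by
    ext : 1
    exact Scheme.Hom.toNormalization_fromNormalization g.left
  have hνint : IsIntegralHom ν.left := inferInstanceAs (IsIntegralHom g.left.fromNormalization)
  refine ⟨N, ν, f', ⟨by rw [← Functor.map_comp, hf'ν], ?_, ?_⟩, hνint⟩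
  · rw [Groth.Agent.H51.isIntegralMor_iff_repWith]
    exact (repWith_yon_map_iff _ _).2 hνint
  · intro W w hw FW NW yW fW nW νW f'W sq1 sq2 e1 e2
    obtain ⟨w₀, rfl⟩ := (yon S).map_surjective w
    haveI hw₀ : Etale w₀.left := (repWith_yon_map_iff _ _).1 hw
    -- the model squares
    let P : Over S := Over.mk (pullback.snd g.left w₀.left ≫ W.hom)
    let pV : P ⟶ V := Over.homMk (pullback.fst g.left w₀.left) (by
      change pullback.fst g.left w₀.left ≫ V.hom = pullback.snd g.left w₀.left ≫ W.hom
      rw [← Over.w g, ← Category.assoc, pullback.condition, Category.assoc, Over.w w₀])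
    let pW : P ⟶ W := Over.homMk (pullback.snd g.left w₀.left) rfl
    have sqP : IsPullback ((yon S).map pV) ((yon S).map pW) ((yon S).map g) ((yon S).map w₀) :=
      isPullback_yon_of_left (IsPullback.of_hasPullback g.left w₀.left)
    let Q : Over S := Over.mk (pullback.snd g.left.fromNormalization w₀.left ≫ W.hom)
    let qN : Q ⟶ N := Over.homMk (pullback.fst g.left.fromNormalization w₀.left) (by
      change pullback.fst g.left.fromNormalization w₀.left ≫ g.left.fromNormalization ≫ U.hom =
        pullback.snd g.left.fromNormalization w₀.left ≫ W.hom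
      rw [← Category.assoc, pullback.condition, Category.assoc, Over.w w₀])
    let qW : Q ⟶ W := Over.homMk (pullback.snd g.left.fromNormalization w₀.left) rfl
    have sqQ : IsPullback ((yon S).map qN) ((yon S).map qW) ((yon S).map ν) ((yon S).map w₀) :=
      isPullback_yon_of_left (IsPullback.of_hasPullback g.left.fromNormalization w₀.left)
    let m : pullback g.left w₀.left ⟶ pullback g.left.fromNormalization w₀.left :=
      pullback.map g.left w₀.left g.left.fromNormalization w₀.left g.left.toNormalization (𝟙 _)
        (𝟙 _) (by simp) (by simp)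
    let f'₀ : P ⟶ Q := Over.homMk m (by
      change m ≫ pullback.snd g.left.fromNormalization w₀.left ≫ W.hom =
        pullback.snd g.left w₀.left ≫ W.hom
      rw [← Category.assoc, pullback.lift_snd, Category.comp_id])
    have hf'₀1 : f'₀ ≫ qN = pV ≫ f' := by
      ext : 1
      exact pullback.lift_fst _ _ _
    have hf'₀2 : f'₀ ≫ qW = pW := by
      ext : 1
      change m ≫ pullback.snd _ _ = pullback.snd _ _
      rw [pullback.lift_snd, Category.comp_id]
    haveI : QuasiCompact pW.left := inferInstanceAs (QuasiCompact (pullback.snd g.left w₀.left))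
    haveI : QuasiSeparated pW.left :=
      inferInstanceAs (QuasiSeparated (pullback.snd g.left w₀.left))
    let e : Q.left ≅ pW.left.normalization := (asIso (g.left.normalizationPullback w₀.left)).symm
    have he1 : f'₀.left ≫ e.hom = pW.left.toNormalization := by
      change m ≫ inv (g.left.normalizationPullback w₀.left) = _
      rw [IsIso.comp_inv_eq]
      apply pullback.hom_ext
      · rw [Category.assoc]
        erw [Scheme.Hom.toNormalization_normalizationPullback_fst]
        exact pullback.lift_fst _ _ _
      · rw [Category.assoc]
        erw [Scheme.Hom.normalizationPullback_snd,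
          Scheme.Hom.toNormalization_fromNormalization]
        change m ≫ pullback.snd _ _ = pullback.snd _ _
        rw [pullback.lift_snd, Category.comp_id]
    have he2 : e.hom ≫ pW.left.fromNormalization = qW.left := by
      change inv (g.left.normalizationPullback w₀.left) ≫ _ = pullback.snd _ _
      rw [IsIso.inv_comp_eq]
      exact (Scheme.Hom.normalizationPullback_snd g.left w₀.left).symm
    have hmodel : IsRelNormalization ((yon S).map pW) ((yon S).map qW) ((yon S).map f'₀) :=
      Groth.Agent.H51.isRelNormalization_yon pW f'₀ qW e he1 he2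
    -- transport to the given squares
    let eF : FW ≅ (yon S).obj P := sq1.isoIsPullback _ _ sqP
    let eN : (yon S).obj Q ≅ NW := sqQ.isoIsPullback _ _ sq2
    have heF1 : eF.hom ≫ (yon S).map pV = yW := sq1.isoIsPullback_hom_fst _ _ sqP
    have heF2 : eF.hom ≫ (yon S).map pW = fW := sq1.isoIsPullback_hom_snd _ _ sqP
    have heN1 : eN.hom ≫ nW = (yon S).map qN := sqQ.isoIsPullback_hom_fst _ _ sq2
    have heN2 : eN.hom ≫ νW = (yon S).map qW := sqQ.isoIsPullback_hom_snd _ _ sq2
    refine isRelNormalization_of_iso hmodel eF eN fW νW f'W heF2.symm heN2 ?_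
    apply sq2.hom_ext
    · rw [e1, Category.assoc, Category.assoc, heN1, ← Functor.map_comp, hf'₀1, Functor.map_comp,
        ← Category.assoc, heF1]
    · rw [e2, Category.assoc, Category.assoc, heN2, ← Functor.map_comp, hf'₀2, heF2]

end Groth.Agent.H52.RelNorm
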