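import Groth.Agent.H52.RelNormG
import Groth.Agent.H49.AlgSpQC
import Groth.Agent.H49.AlgSpBasic

/-!
# Extending an integral morphism over a quasi-compact open immersion (sheaf level)
-/

set_option autoImplicit false
universe u
open CategoryTheory CategoryTheory.Limits AlgebraicGeometry Opposite

namespace Groth.Agent.H52.RelNorm

open AlgSp

variable {S : Scheme.{u}}

/-- An integral morphism is its own relative normalization. -/
theorem isRelNormalization_self {F G : Sp S} (f : F ⟶ G) (hf : IsIntegralMor f) :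
    IsRelNormalization f f (𝟙 F) :=
  ⟨Category.id_comp _, hf, fun _ _ _ g _ hg =>
    ⟨g, ⟨Category.id_comp _, hg⟩, fun h hh => by rw [← hh.1, Category.id_comp]⟩⟩

/-- For a monomorphism `j`, `Z = Z ×_Y V` for any `π : Z ⟶ V`. -/
theorem isPullback_id_of_mono {𝒞 : Type*} [Category 𝒞] {Z V Y : 𝒞} (π : Z ⟶ V) (j : V ⟶ Y)
    [Mono j] : IsPullback (𝟙 Z) π (π ≫ j) j := by
  refine ⟨⟨Category.id_comp _⟩, ⟨PullbackCone.IsLimit.mk _ (fun s => s.fst) (fun s => ?_)
    (fun s => ?_) (fun s m hm _ => ?_)⟩⟩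
  · exact Category.comp_id _
  · rw [← cancel_mono j, Category.assoc]; exact s.condition
  · rw [← hm, Category.comp_id]

/-- A representable open immersion is representable étale. -/
theorem repWith_etale_of_repWith_isOpenImmersion {F G : Sp S} {j : F ⟶ G}
    (hj : RepWith @IsOpenImmersion j) : RepWith @Etale j :=
  ⟨hj.rep, fun _ _ g fst snd sq => by
    haveI : IsOpenImmersion snd.left := ((repWith_iff _ _).1 hj).2 g fst snd sq
    exact (inferInstance : Etale snd.left)⟩

/-- Extending an integral morphism over a quasi-compact open immersion. -/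
theorem exists_integral_extension {V Y Z : Sp S} (hY : IsAlgSpace Y) (hV : IsAlgSpace V)
    (j : V ⟶ Y) (hj : RepWith @IsOpenImmersion j) (hjq : IsQuasiCompactMor j) (π : Z ⟶ V)
    (hπ : IsIntegralMor π) :
    ∃ (N : Sp S) (ν : N ⟶ Y) (j' : Z ⟶ N), IsAlgSpace N ∧ IsIntegralMor ν ∧
      IsPullback j' π ν j := by
  have hπr : RepWith @IsIntegralHom π := (Groth.Agent.H51.isIntegralMor_iff_repWith π).1 hπ
  have hjqc : RepWith @QuasiCompact j := (Groth.Agent.H49.repWith_quasiCompact_iff j hj.rep).2 hjq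
  obtain ⟨U, u, hue, hus⟩ := hY.atlas
  obtain ⟨VU, jU, vU, sqV⟩ := hj.rep u
  haveI hjU : IsOpenImmersion jU.left := ((repWith_iff _ _).1 hj).2 u vU jU sqV
  haveI hjUqc : QuasiCompact jU.left := ((repWith_iff _ _).1 hjqc).2 u vU jU sqV
  obtain ⟨ZU, πU, zU, sqZ⟩ := hπr.rep vU
  haveI hπU : IsIntegralHom πU.left := ((repWith_iff _ _).1 hπr).2 vU zU πU sqZ
  let g : ZU ⟶ U := πU ≫ jU
  have sqYU : IsPullback zU ((yon S).map g) (π ≫ j) u := by
    change IsPullback zU ((yon S).map (πU ≫ jU)) (π ≫ j) u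
    rw [Functor.map_comp]
    exact sqZ.paste_vert sqV
  haveI : QuasiCompact g.left := inferInstanceAs (QuasiCompact (πU.left ≫ jU.left))
  haveI : QuasiSeparated g.left := inferInstanceAs (QuasiSeparated (πU.left ≫ jU.left))
  obtain ⟨N₀, ν₀, f'₀, hN₀, -⟩ := exists_isNormEt_yon g
  obtain ⟨N, ν, f', q, hNE, sqN, hq⟩ := exists_isNormEt_of_atlas (π ≫ j) u hue hus zU
    ((yon S).map g) sqYU ((yon S).map ν₀) ((yon S).map f'₀) hN₀
  have hNalg : IsAlgSpace N := isAlgSpace_of_isIntegralMor ν hNE.2.1 hY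
  refine ⟨N, ν, f', hNalg, hNE.2.1, ?_⟩
  haveI : Mono j := Groth.Agent.H49.mono_of_repWith_mono (P := @IsOpenImmersion)
    (fun _ _ f hf => by
      haveI : IsOpenImmersion f := hf
      exact (inferInstance : Mono f)) j hj
  have hje : RepWith @Etale j := repWith_etale_of_repWith_isOpenImmersion hj
  let θ : Z ⟶ pullback ν j := pullback.lift f' π hNE.1
  have hθ1 : θ ≫ pullback.fst ν j = f' := pullback.lift_fst _ _ _
  have hθ2 : θ ≫ pullback.snd ν j = π := pullback.lift_snd _ _ _
  have hbc : IsNormEt π (pullback.snd ν j) θ :=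
    hNE.baseChange j (fun W w hw => MorphismProperty.comp_mem (RepWith @Etale) _ _ hw hje)
      (𝟙 Z) π (pullback.fst ν j) (pullback.snd ν j) θ (isPullback_id_of_mono π j)
      (IsPullback.of_hasPullback ν j) (by rw [hθ1, Category.id_comp]) hθ2
  have hrel : IsRelNormalization π (pullback.snd ν j) θ := hbc.isRelNormalization hV
  obtain ⟨e, he1, he2⟩ := exists_iso_of_isRelNormalization hV (isRelNormalization_self π hπ) hrel
  rw [Category.id_comp] at he1
  exact IsPullback.of_iso_pullback ⟨hNE.1⟩ e (by rw [he1, hθ1]) (by rw [he1, hθ2])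

end Groth.Agent.H52.RelNorm
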