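import Groth.Agent.H52.MonoEtaleField
import Groth.Agent.H52.Residual
import Groth.Agent.H52.MonoPoint
import Groth.Agent.H52.Chart
import Groth.Agent.H65.QuotEtale
import Groth.Agent.H53.Charts
import Groth.Agent.H49.DiagPullback
import Mathlib.CategoryTheory.Sites.Subsheaf

/-!
# Existence of the residual space of an algebraic space at a point
-/

set_option autoImplicit false
universe u
open CategoryTheory CategoryTheory.Limits AlgebraicGeometry Opposite TopologicalSpace

namespace Groth.Agent.H52.ResidualExists

open AlgSp Groth.Agent.H52 Groth.Agent.H53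

variable {S : Scheme.{u}}

/-- The kernel pair of a field valued point which factors through an etale chart by a monomorphism of
schemes is etale over the point. -/
theorem etale_kernelPair_of_factor {X : Sp S} (hX : IsAlgSpace X) {U : Over S}
    (a : (yon S).obj U ⟶ X) (ha : RepWith @Etale a) (pt : FieldPt X) (ι : pt.pt ⟶ U)
    [Mono ι.left] (hz : pt.toHom = (yon S).map ι ≫ a) {R : Over S}
    (t s : R ⟶ pt.pt)
    (sq : IsPullback ((yon S).map t) ((yon S).map s) pt.toHom pt.toHom) : Etale s.left := by
  -- the fibre of the chart over the point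
  obtain ⟨Y, qY, pY, sqY⟩ := exists_pullback_yon a pt.toHom (hX.representable_from_yon _)
  have hpY : Etale pY.left := prop_of_isPullback_yon sqY.flip ha
  -- the map R → Y
  have hw : (yon S).map (t ≫ ι) ≫ a = (yon S).map s ≫ pt.toHom := by
    rw [Functor.map_comp, Category.assoc, ← hz]
    exact sq.w
  obtain ⟨r, hr⟩ := (yon S).map_surjective (sqY.lift _ _ hw)
  have hr1 : r ≫ qY = t ≫ ι :=
    (yon S).map_injective (by rw [Functor.map_comp, hr, sqY.lift_fst])
  have hr2 : r ≫ pY = s :=
    (yon S).map_injective (by rw [Functor.map_comp, hr, sqY.lift_snd])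
  -- the left square is a pullback
  have sqL : IsPullback ((yon S).map r) ((yon S).map t) ((yon S).map qY) ((yon S).map ι) := by
    refine IsPullback.of_right ?_ (by rw [← Functor.map_comp, ← Functor.map_comp, hr1]) sqY.flip
    rw [← Functor.map_comp, hr2, ← hz]
    exact sq.flip
  have sqL' : IsPullback r t qY ι := IsPullback.of_map (yon S) (by
    apply (yon S).map_injective
    rw [Functor.map_comp, Functor.map_comp]
    exact sqL.w) sqL
  have sqL'' : IsPullback r.left t.left qY.left ι.left := sqL'.map (Over.forget S)
  have hmr : Mono r.left := sqL''.mono_fst_of_mono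
  have : Etale pY.left := hpY
  have hoi : IsOpenImmersion r.left :=
    isOpenImmersion_of_mono_of_etale_field (k := pt.K) pY.left r.left
  rw [← hr2, Over.comp_left]
  infer_instance

/-- **Existence of the residual space**: for a point `x` of an algebraic space `X` there is a
monomorphism `i : Z ⟶ X` from an algebraic space with image `{x}` together with a representable etale
surjective morphism from the spectrum of a field onto `Z`. -/
theorem exists_residual {X : Sp S} (hX : IsAlgSpace X) (x : Points X) :
    ∃ (Z : Sp S) (i : Z ⟶ X), IsAlgSpace Z ∧ Mono i ∧ Set.range (Points.map i) = {x} ∧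
      ∃ (k : Type u) (_ : Field k) (str : Spec (CommRingCat.of k) ⟶ S)
        (p : (yon S).obj (Over.mk str) ⟶ Z), RepWith @Etale p ∧ RepWith @Surjective p := by
  obtain ⟨U, a, hae, has⟩ := hX.atlas
  obtain ⟨u, hu⟩ := ofPt_surjective_of_repWith_surjective a has x
  obtain ⟨R, t, s, sq⟩ := exists_pullback_yon (FieldPt.ofPt a u).toHom (FieldPt.ofPt a u).toHom
    (hX.representable_from_yon _)
  have hmono : Mono (ofPtHom a u).left := by
    change Mono (U.left.fromSpecResidueField u)
    infer_instance
  have hsE : Etale s.left :=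
    etale_kernelPair_of_factor hX a hae (FieldPt.ofPt a u) (ofPtHom a u) (toHom_ofPt' a u) t s sq
  have hsS : Surjective s.left := by
    obtain ⟨d, hd⟩ := (yon S).map_surjective (sq.lift (𝟙 _) (𝟙 _) rfl)
    have hds : d ≫ s = 𝟙 _ :=
      (yon S).map_injective (by
        rw [Functor.map_comp, hd, sq.lift_snd]
        exact ((yon S).map_id _).symm)
    refine ⟨fun y => ⟨d.left y, ?_⟩⟩
    rw [← Scheme.Hom.comp_apply, ← Over.comp_left, hds]
    rfl
  let g : (yon S).obj (FieldPt.ofPt a u).pt ⟶ Sheaf.image (FieldPt.ofPt a u).toHom :=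
    Sheaf.toImage (FieldPt.ofPt a u).toHom
  let i : Sheaf.image (FieldPt.ofPt a u).toHom ⟶ X := Sheaf.imageι (FieldPt.ofPt a u).toHom
  have hgi : g ≫ i = (FieldPt.ofPt a u).toHom := Sheaf.toImage_ι _
  have hmi : Mono i := inferInstance
  have hepi : Epi g := inferInstance
  have sqg : IsPullback ((yon S).map t) ((yon S).map s) g g :=
    Groth.Agent.H49.isPullback_of_comp_mono i (by rw [hgi]; exact sq)
  have hZ : IsAlgSpace (Sheaf.image (FieldPt.ofPt a u).toHom) :=
    Groth.Agent.H65.QuotEtale.isAlgSpace_of_etale_kernelPair s t g sqg hsE hsS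
  have hge : RepWith @Etale g := by
    refine MorphismProperty.relative.of_exists fun T ξ => ?_
    obtain ⟨G, fst, σ, sq', h1, -⟩ := Groth.Agent.H65.QuotEtale.exists_rep s t g sqg hsE hsS ξ
    exact ⟨G, fst, σ, sq', h1⟩
  have hgs : RepWith @Surjective g := by
    refine MorphismProperty.relative.of_exists fun T ξ => ?_
    obtain ⟨G, fst, σ, sq', -, h2⟩ := Groth.Agent.H65.QuotEtale.exists_rep s t g sqg hsE hsS ξ
    exact ⟨G, fst, σ, sq', h2⟩
  refine ⟨_, i, hZ, hmi, ?_, _, inferInstance, (FieldPt.ofPt a u).str, g, hge, hgs⟩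
  have hsurj : Function.Surjective (Points.map g) := by
    intro w
    obtain ⟨y, rfl⟩ := ofPt_surjective_of_repWith_surjective g hgs w
    exact ⟨Points.ofScheme _ y, by rw [Points.map_ofPt, Category.id_comp]⟩
  have h1 : Set.range (Points.map i) = Set.range (Points.map (g ≫ i)) := by
    have : Points.map (g ≫ i) = Points.map i ∘ Points.map g := by
      funext w
      exact Points.map_comp g i w
    rw [this, Set.range_comp, hsurj.range_eq, Set.image_univ]
  have h2 : Set.range (Points.map (g ≫ i)) = {Points.mk (FieldPt.ofPt a u)} :=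
    (congrArg (fun f => Set.range (Points.map f)) hgi).trans (range_map_toHom _)
  rw [h1, h2]
  exact congrArg _ hu

end Groth.Agent.H52.ResidualExists
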