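import Groth.Agent.H52.NoSpecFibreB
import Groth.Agent.H52.NoSpec
import Groth.Agent.H52.ReducedPoint
import Groth.Agent.H52.Residual

/-!
# Morphisms from reduced spaces with one-point image factor through the residual space
(locally Noetherian target)
-/

set_option autoImplicit false
universe u
open CategoryTheory CategoryTheory.Limits AlgebraicGeometry Opposite

namespace Groth.Agent.H52.ResidualFactor

open AlgSp Groth.Agent.H52 Groth.Agent.H53

variable {S : Scheme.{u}}

/-- A field valued point whose class lies in the image of a monomorphism of algebraic spaces factors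
through the monomorphism. -/
theorem exists_factor_fieldPt_of_mono {X Z : Sp S} (hX : IsAlgSpace X) (hZ : IsAlgSpace Z)
    (i : Z ⟶ X) [Mono i] (q : FieldPt X) (hq : Points.mk q ∈ Set.range (Points.map i)) :
    ∃ c : (yon S).obj q.pt ⟶ Z, c ≫ i = q.toHom := by
  have sq := IsPullback.of_hasPullback i q.toHom
  have hW : IsAlgSpace (pullback i q.toHom) :=
    Groth.Agent.H49.isAlgSpace_of_isPullback sq hX.diag hZ (IsAlgSpace.yon_obj _)
  obtain ⟨z, hz⟩ := hq
  obtain ⟨y, hy⟩ : Points.mk q ∈ Set.range (Points.map q.toHom) := by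
    rw [range_map_toHom]; rfl
  obtain ⟨w, -, -⟩ := exists_point_of_isPullback sq z y (hz.trans hy.symm)
  have hm : Mono (pullback.snd i q.toHom) := inferInstance
  have hiso : IsIso (pullback.snd i q.toHom) :=
    Groth.Agent.H49.isIso_of_mono_to_field hW q.str (pullback.snd i q.toHom) w
  refine ⟨inv (pullback.snd i q.toHom) ≫ pullback.fst i q.toHom, ?_⟩
  rw [Category.assoc, sq.w, IsIso.inv_hom_id_assoc]

/-- A morphism from a reduced scheme to a locally Noetherian algebraic space whose image is a single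
point `x` factors through every monomorphism of algebraic spaces whose image contains `x`. -/
theorem exists_factor_of_reduced_scheme {X Z : Sp S} (hX : IsAlgSpace X) (hZ : IsAlgSpace Z)
    (hN : IsLocNoethSp X) (i : Z ⟶ X) [Mono i] (x : Points X)
    (hx : x ∈ Set.range (Points.map i)) {T : Over S} [AlgebraicGeometry.IsReduced T.left]
    (f : (yon S).obj T ⟶ X) (hf : ∀ t : ↥T.left, Points.ofPt f t = x) :
    ∃ g : (yon S).obj T ⟶ Z, g ≫ i = f := by
  have hN' := hN
  obtain ⟨U₀, b, hb, hbs, hNU⟩ := hN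
  have : IsLocallyNoetherian U₀.left := hNU
  let F : Set ↥U₀.left := Points.ofPt b ⁻¹' {x}
  have hsp : ∀ v ∈ F, ∀ w ∈ F, w ⤳ v → w = v := by
    intro v hv w hw hs
    exact (eq_of_specializes_of_ofPt_eq_of_isLocNoethSp hN' b hb v w
      ((Set.mem_singleton_iff.1 hv).trans (Set.mem_singleton_iff.1 hw).symm) hs).symm
  -- the pullback
  have sq := hb.rep.isPullback f
  obtain ⟨φ, hφ⟩ := (yon S).map_surjective (hb.rep.fst f)
  have sq' : IsPullback ((yon S).map φ) ((yon S).map (hb.rep.snd f)) b f := by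
    rw [hφ]; exact sq
  have het : Etale (hb.rep.snd f).left := hb.property_snd f
  have hsurj : Surjective (hb.rep.snd f).left := hbs.property_snd f
  have hred : AlgebraicGeometry.IsReduced (hb.rep.pullback f).left :=
    isReduced_of_etale_scheme (hb.rep.snd f).left
  have hφF : ∀ t₁, φ.left t₁ ∈ F := by
    intro t₁
    change Points.ofPt b (φ.left t₁) = x
    rw [(ofPt_eq_iff_of_isPullback sq' (φ.left t₁) ((hb.rep.snd f).left t₁)).2 ⟨t₁, rfl, rfl⟩]
    exact hf _
  -- the family
  choose V W hV htW hWle hconst using fun t₁ : ↥(hb.rep.pullback f).left =>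
    NoSpecFibre.exists_open_fibre φ.left F hsp hφF t₁
  refine exists_factor_of_mono_of_fppf_family (κ := ↥(hb.rep.pullback f).left) i f
    (fun t₁ => Over.mk ((W t₁).ι ≫ (hb.rep.pullback f).hom))
    (fun t₁ => openIncl _ (W t₁) ≫ hb.rep.snd f) ?_ ?_ ?_ ?_
  · intro v
    change Flat ((W v).ι ≫ (hb.rep.snd f).left)
    infer_instance
  · intro v
    change LocallyOfFinitePresentation ((W v).ι ≫ (hb.rep.snd f).left)
    infer_instance
  · intro t
    obtain ⟨t₁, rfl⟩ := hsurj.surj t
    exact ⟨t₁, ⟨⟨t₁, htW t₁⟩, rfl⟩⟩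
  · intro t₁
    -- the restriction of `φ` to `W t₁` has image `{φ t₁}` inside the affine open `V t₁`
    have hrange : Set.range ((W t₁).ι ≫ φ.left) ⊆ Set.range (V t₁).ι := by
      rintro _ ⟨w, rfl⟩
      rw [Scheme.Opens.range_ι]
      exact hWle t₁ w.2
    let lft : (W t₁).toScheme ⟶ (V t₁).toScheme :=
      IsOpenImmersion.lift (V t₁).ι ((W t₁).ι ≫ φ.left) hrange
    have hlft : lft ≫ (V t₁).ι = (W t₁).ι ≫ φ.left := IsOpenImmersion.lift_fac _ _ _
    have hmemV : φ.left t₁ ∈ V t₁ := hWle t₁ (htW t₁)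
    let v₀ : (V t₁).toScheme := ⟨φ.left t₁, hmemV⟩
    have him : ∀ w : (W t₁).toScheme, lft w = v₀ := by
      intro w
      apply (V t₁).ι.isOpenEmbedding.injective
      rw [← Scheme.Hom.comp_apply, hlft]
      exact hconst t₁ w.1 w.2
    let 𝔭 : PrimeSpectrum Γ(U₀.left, V t₁) := (hV t₁).isoSpec.hom v₀
    obtain ⟨h', hh'⟩ := exists_factor_residueField_of_isReduced (lft ≫ (hV t₁).isoSpec.hom) 𝔭
      (fun w => by
        change (hV t₁).isoSpec.hom (lft w) = _
        rw [him])
    let s : Spec (CommRingCat.of 𝔭.asIdeal.ResidueField) ⟶ U₀.left :=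
      Spec.map (CommRingCat.ofHom (algebraMap Γ(U₀.left, V t₁) 𝔭.asIdeal.ResidueField)) ≫
        (hV t₁).isoSpec.inv ≫ (V t₁).ι
    have hhs : (W t₁).ι ≫ φ.left = h' ≫ s := by
      rw [← hlft]
      change _ = h' ≫ Spec.map _ ≫ (hV t₁).isoSpec.inv ≫ (V t₁).ι
      rw [← Category.assoc h', ← hh', Category.assoc, Iso.hom_inv_id_assoc]
    have hsz : ∀ z, s z = φ.left t₁ := by
      intro z
      change (V t₁).ι ((hV t₁).isoSpec.inv (Spec.map _ z)) = _
      rw [specMap_algebraMap_residueField_apply]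
      change (V t₁).ι (((hV t₁).isoSpec.hom ≫ (hV t₁).isoSpec.inv) v₀) = _
      rw [Iso.hom_inv_id]
      rfl
    let ŝ : Over.mk (s ≫ U₀.hom) ⟶ U₀ := Over.homMk s rfl
    let q : FieldPt X := fieldPtOfHom (s ≫ U₀.hom) ((yon S).map ŝ ≫ b)
    have hqx : Points.mk q = x := by
      let z : ↥(Spec (CommRingCat.of 𝔭.asIdeal.ResidueField)) :=
        (⊥ : PrimeSpectrum 𝔭.asIdeal.ResidueField)
      rw [← Points.ofPt_toHom q z, toHom_fieldPtOfHom, ofPt_yon_map_comp]
      change Points.ofPt b (s z) = _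
      rw [hsz]
      exact hφF t₁
    obtain ⟨c', hc'⟩ := exists_factor_fieldPt_of_mono hX hZ i q (by rw [hqx]; exact hx)
    rw [toHom_fieldPtOfHom] at hc'
    let ĥ : Over.mk ((W t₁).ι ≫ (hb.rep.pullback f).hom) ⟶ Over.mk (s ≫ U₀.hom) :=
      Over.homMk h' (by
        change h' ≫ s ≫ U₀.hom = (W t₁).ι ≫ (hb.rep.pullback f).hom
        rw [← Category.assoc, ← hhs, Category.assoc, Over.w φ])
    have hĥ : ĥ ≫ ŝ = openIncl _ (W t₁) ≫ φ := by
      ext
      change h' ≫ s = (W t₁).ι ≫ φ.left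
      exact hhs.symm
    refine ⟨(yon S).map ĥ ≫ c', ?_⟩
    rw [Category.assoc, hc', ← Category.assoc, ← Functor.map_comp, hĥ, Functor.map_comp,
      Category.assoc, sq'.w, Functor.map_comp, Category.assoc]

/-- **S10415 at the level of sheaves.** -/
theorem exists_factor_of_reduced {Y X Z : Sp S} (hX : IsAlgSpace X) (hZ : IsAlgSpace Z)
    (hN : IsLocNoethSp X) (i : Z ⟶ X) [Mono i] (x : Points X)
    (hx : x ∈ Set.range (Points.map i)) (f : Y ⟶ X)
    (hY : EtaleLocally (fun U => AlgebraicGeometry.IsReduced U) Y)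
    (hf : ∀ y : Points Y, Points.map f y = x) :
    ∃ g : Y ⟶ Z, g ≫ i = f := by
  obtain ⟨Y₀, c, hc, hcs, hred⟩ := hY
  have : AlgebraicGeometry.IsReduced Y₀.left := hred
  obtain ⟨ℓ, hℓ⟩ := exists_factor_of_reduced_scheme hX hZ hN i x hx (c ≫ f)
    (fun t => by rw [← Points.map_ofPt, hf])
  have : Epi c := epi_of_repWith_etale_surjective c hc hcs
  exact exists_factor_of_mono_of_epi i f c ℓ hℓ

end Groth.Agent.H52.ResidualFactor
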