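import Groth.Agent.H52.GeomConn
import Groth.Agent.H11.SepPointsSch
import Groth.Agent.H38.FibreIso
import Groth.Agent.H51.SpBasic

/-!
# Points with finite separable residue field are dense in a smooth algebraic space over a field
-/

set_option autoImplicit false
set_option linter.style.haveILetI false
universe u

open CategoryTheory CategoryTheory.Limits AlgebraicGeometry Opposite

namespace Groth.Agent.H52.SepPts

open AlgSp

variable {S : Scheme.{u}}

/-- Changing the structure morphism of a field-valued point along an equality. -/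
theorem exists_val_of_str_eq {F : Sp S} (K : Type u) [Field K]
    (str str' : Spec (CommRingCat.of K) ⟶ S) (val : F.obj.obj (op (Over.mk str)))
    (h : str' = str) :
    ∃ v : F.obj.obj (op (Over.mk str')),
      Points.mk (⟨K, str', v⟩ : FieldPt F) = Points.mk ⟨K, str, val⟩ := by
  subst h
  exact ⟨val, rfl⟩

theorem dense_sep (k : Type u) [Field k] (X : Sp (Spec (CommRingCat.of k))) (hX : IsAlgSpace X)
    (p : X ⟶ (yon (Spec (CommRingCat.of k))).obj (Over.mk (𝟙 _))) (hp : LocP @Smooth p) :
    Dense {x : Points X | ∃ (k' : Type u) (_ : Field k') (_ : Algebra k k'),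
      Module.Finite k k' ∧ Algebra.IsSeparable k k' ∧
        ∃ v : X.obj.obj (op (Over.mk (Spec.map (CommRingCat.ofHom (algebraMap k k'))))),
          Points.mk ⟨k', Spec.map (CommRingCat.ofHom (algebraMap k k')), v⟩ = x} := by
  obtain ⟨U, a, ha, has⟩ := hX.atlas
  letI : U.left.Over (Spec (CommRingCat.of k)) := ⟨U.hom⟩
  have hT := GeomConn.isTerminalYon (Spec (CommRingCat.of k))
  let h : U ⟶ Over.mk (𝟙 (Spec (CommRingCat.of k))) := Over.homMk U.hom (Category.comp_id _)
  have hsm : Smooth h.left :=
    hp a (𝟙 _) h ha (repWith_id @Etale _) (hT.hom_ext _ _)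
  haveI : Smooth (U.left ↘ Spec (CommRingCat.of k)) := hsm
  have hD := Groth.Agent.H11.SepPointsSch.dense_sep k U.left
  have hsurj := Groth.Agent.H51.surjective_ofPt_of_surjective a has
  refine (hsurj.denseRange.dense_image (Points.continuous_ofPt a) hD).mono ?_
  rintro _ ⟨u, ⟨-, hfin, hsep⟩, rfl⟩
  refine ⟨U.left.residueField u, inferInstance, Curv2.resAlgebra k U.left u, hfin, hsep, ?_⟩
  have hstr := Groth.Agent.H38.FibreIso.fromSpecResidueField_over k U.left u
  exact exists_val_of_str_eq (U.left.residueField u) (FieldPt.ofPt a u).str _ (FieldPt.ofPt a u).val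
    hstr.symm

end Groth.Agent.H52.SepPts
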