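import Groth.Prelude.Def_AlgSpCov
import Groth.Prelude.Def_AlgSpEt
import Mathlib.CategoryTheory.Sites.CoverLifting
import Groth.Agent.H52.Chart

set_option autoImplicit false
universe u
open CategoryTheory CategoryTheory.Limits AlgebraicGeometry Opposite

set_option backward.isDefEq.respectTransparency false

namespace Groth.Agent.H52.SmallBig

open AlgSp

variable {S : Scheme.{u}}

/-- The functor from the small etale site of `Y` (scheme objects) to algebraic spaces over `Y`. -/
noncomputable abbrev G (Y : Space S) : EtOver Y.obj ⥤ Over Y :=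
  EtOver.toEtSpOver Y ⋙ ObjectProperty.ι (fun E : Over Y => IsEtaleMor E.hom.hom)

/-- A sieve of the small etale site containing, for every point, a member through which the point
factors is covering. -/
theorem mem_etTop_of_forall_exists {X : Sp S} {E : EtOver X} (T : Sieve E)
    (h : ∀ x : ↥E.obj.left.left, ∃ (E' : EtOver X) (g : E' ⟶ E), T g ∧ x ∈ Set.range g.hom.left.left) :
    T ∈ etTop X E := by
  choose E' g hT hx using h
  refine (etTop X).superset_covering ?_ (ofArrows_mem_etTop E' g fun x => ⟨x, hx x⟩)
  rw [Sieve.ofArrows, Sieve.generate_le_iff]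
  rintro _ _ ⟨x⟩
  exact hT x

/-- The sieve on an object `E` of the small etale site pulled back from a sieve on an algebraic
space `Z` along a morphism `h_E ⟶ Z`. -/
noncomputable def pbS {Y : Space S} {Z : Space S} (T : Sieve Z) (E : EtOver Y.obj)
    (g : (ofScheme S).obj E.obj.left ⟶ Z) : Sieve E where
  arrows E' h := T ((ofScheme S).map h.hom.left ≫ g)
  downward_closed {E' E''} h hh k := by
    have : (ofScheme S).map (k ≫ h).hom.left ≫ g =
        (ofScheme S).map k.hom.left ≫ (ofScheme S).map h.hom.left ≫ g := by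
      rw [← Category.assoc, ← Functor.map_comp]; rfl
    rw [this]
    exact T.downward_closed hh _

/-- Key induction: covering sieves of the big etale site of spaces pull back to covering sieves of
the small etale site. -/
theorem pbS_mem {Y : Space S} {Z : Space S} (T : Sieve Z)
    (hT : (spacesPre S IsEtaleMor).Saturate Z T) :
    ∀ (E : EtOver Y.obj) (g : (ofScheme S).obj E.obj.left ⟶ Z), pbS T E g ∈ etTop Y.obj E := by
  induction hT with
  | of Z R hR =>
    intro E g
    obtain ⟨hR1, hR2⟩ := hR
    apply mem_etTop_of_forall_exists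
    intro u
    obtain ⟨W, w, hw, x', hx'⟩ := hR2 (Points.ofPt g.hom u)
    obtain ⟨T₀, c, hc1, hc2⟩ := W.property.atlas
    obtain ⟨t, rfl⟩ := ofPt_surjective_of_repWith_surjective c hc2 x'
    rw [Points.map_ofPt] at hx'
    have ha : RepWith @Etale (c ≫ w.hom) := hR1 w hw c hc1
    obtain ⟨φ, hφ⟩ := (yon S).map_surjective (ha.rep.fst g.hom)
    have hpb : IsPullback ((yon S).map φ) ((yon S).map (ha.rep.snd g.hom)) (c ≫ w.hom) g.hom := by
      rw [hφ]; exact ha.rep.isPullback g.hom
    obtain ⟨v, hv1, hv2⟩ := (ofPt_eq_iff_of_isPullback hpb t u).1 hx'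
    have het : Etale (ha.rep.snd g.hom).left := ha.property_snd g.hom
    refine ⟨EtOver.mk ((yon S).map (ha.rep.snd g.hom) ≫ E.obj.hom)
      ((repWith_isMultiplicative (S := S) @Etale).comp_mem _ _
        ((repWith_yon_map_iff _ _).2 het) E.property),
      EtOver.homMk (ha.rep.snd g.hom) rfl, ?_, ⟨v, hv2⟩⟩
    refine ⟨W, ObjectProperty.homMk ((yon S).map φ ≫ c), w, hw, ?_⟩
    apply ObjectProperty.hom_ext
    change ((yon S).map φ ≫ c) ≫ w.hom = (yon S).map (ha.rep.snd g.hom) ≫ g.hom
    rw [Category.assoc]
    exact hpb.w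
  | top Z =>
    intro E g
    refine (etTop Y.obj).superset_covering ?_ ((etTop Y.obj).top_mem E)
    intro E' h _
    trivial
  | pullback Z T₀ _ Z' f ih =>
    intro E g
    refine (etTop Y.obj).superset_covering ?_ (ih E (g ≫ f))
    intro E' h hh
    change T₀ (((ofScheme S).map h.hom.left ≫ g) ≫ f)
    rw [Category.assoc]
    exact hh
  | transitive Z T₀ T₁ _ _ ih1 ih2 =>
    intro E g
    refine (etTop Y.obj).transitive (ih1 E g) _ ?_
    intro E' h hh
    refine (etTop Y.obj).superset_covering ?_ (ih2 hh E' (𝟙 _))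
    intro E'' k hk
    change T₁ ((ofScheme S).map (k ≫ h).hom.left ≫ g)
    have : (ofScheme S).map (k ≫ h).hom.left ≫ g =
        ((ofScheme S).map k.hom.left ≫ 𝟙 _) ≫ (ofScheme S).map h.hom.left ≫ g := by
      rw [Category.comp_id, ← Category.assoc, ← Functor.map_comp]; rfl
    rw [this]
    exact hk

/-- The inclusion of the small etale site into the big etale site is cocontinuous. -/
instance isCocontinuous_G (Y : Space S) :
    (G Y).IsCocontinuous (etTop Y.obj) (spacesTopOver IsEtaleMor Y) where
  cover_lift {E T} hT := by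
    rw [GrothendieckTopology.mem_over_iff] at hT
    refine (etTop Y.obj).superset_covering ?_
      (pbS_mem (Y := Y) _ hT E (𝟙 _))
    intro E' h hh
    change (Sieve.overEquiv _ T) ((ofScheme S).map h.hom.left ≫ 𝟙 _) at hh
    rw [Sieve.overEquiv_iff] at hh
    change T ((G Y).map h)
    have hw : ((G Y).obj E').hom = ((ofScheme S).map h.hom.left ≫ 𝟙 _) ≫ ((G Y).obj E).hom := by
      rw [Category.comp_id]
      exact (Over.w ((G Y).map h)).symm
    have : (G Y).map h = (Over.homMk (𝟙 _) (by rw [Category.id_comp]; exact hw.symm) :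
        (G Y).obj E' ⟶ Over.mk (((ofScheme S).map h.hom.left ≫ 𝟙 _) ≫ ((G Y).obj E).hom)) ≫
        Over.homMk ((ofScheme S).map h.hom.left ≫ 𝟙 _) := by
      apply Over.OverMorphism.ext
      simp
      rfl
    rw [this]
    exact T.downward_closed hh _

end Groth.Agent.H52.SmallBig
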