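import Groth.Agent.H52.SmallBig
import Mathlib.CategoryTheory.Sites.Continuous

set_option autoImplicit false
universe u w
open CategoryTheory CategoryTheory.Limits AlgebraicGeometry Opposite

set_option backward.isDefEq.respectTransparency false

namespace Groth.Agent.H52.SmallBig

open AlgSp

variable {S : Scheme.{u}}

/-- `G` carries the fibre product squares of the small etale site to pullback squares of algebraic
spaces over `Y`. -/
theorem isPullback_map_G (Y : Space S) {E₁ E₂ E₀ : EtOver Y.obj} (g₁ : E₁ ⟶ E₀) (g₂ : E₂ ⟶ E₀) :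
    IsPullback ((G Y).map (EtOver.pullbackFst g₁ g₂)) ((G Y).map (EtOver.pullbackSnd g₁ g₂))
      ((G Y).map g₁) ((G Y).map g₂) := by
  have comm : (G Y).map (EtOver.pullbackFst g₁ g₂) ≫ (G Y).map g₁ =
      (G Y).map (EtOver.pullbackSnd g₁ g₂) ≫ (G Y).map g₂ := by
    rw [← Functor.map_comp, ← Functor.map_comp, EtOver.pullback_condition]
  refine IsPullback.of_map (Over.forget Y) comm ?_
  have comm2 : (ofScheme S).map (pullback.fst g₁.hom.left g₂.hom.left) ≫ (ofScheme S).map g₁.hom.left =
      (ofScheme S).map (pullback.snd g₁.hom.left g₂.hom.left) ≫ (ofScheme S).map g₂.hom.left := by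
    rw [← Functor.map_comp, ← Functor.map_comp, pullback.condition]
  change IsPullback ((ofScheme S).map (pullback.fst g₁.hom.left g₂.hom.left))
    ((ofScheme S).map (pullback.snd g₁.hom.left g₂.hom.left))
    ((ofScheme S).map g₁.hom.left) ((ofScheme S).map g₂.hom.left)
  refine IsPullback.of_map (ObjectProperty.ι _) comm2 ?_
  exact (IsPullback.of_hasPullback g₁.hom.left g₂.hom.left).map (yon S)

noncomputable instance preservesLimit_cospan_G (Y : Space S) {E₁ E₂ E₀ : EtOver Y.obj}
    (g₁ : E₁ ⟶ E₀) (g₂ : E₂ ⟶ E₀) : PreservesLimit (cospan g₁ g₂) (G Y) :=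
  preservesLimit_of_preserves_limit_cone (EtOver.pullbackIsLimit g₁ g₂)
    ((isLimitMapConePullbackConeEquiv _ _).symm (isPullback_map_G Y g₁ g₂).isLimit)

noncomputable instance preservesPullbacks_G (Y : Space S) :
    PreservesLimitsOfShape WalkingCospan (G Y) where
  preservesLimit {K} := preservesLimit_of_iso_diagram _ (diagramIsoCospan K).symm

/-- The image in the big etale site of a covering family of the small etale site generates a
covering sieve. -/
theorem generate_map_G_mem (Y : Space S) {E : EtOver Y.obj} (R : Presieve E)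
    (hR : R ∈ etPre Y.obj E) :
    Sieve.generate (R.map (G Y)) ∈ spacesTopOver IsEtaleMor Y ((G Y).obj E) := by
  obtain ⟨ι, E', g, rfl⟩ := R.exists_eq_ofArrows
  rw [ofArrows_mem_etPre_iff] at hR
  rw [Presieve.map_ofArrows, GrothendieckTopology.mem_over_iff]
  change (Sieve.overEquiv _) (Sieve.ofArrows _ _) ∈ _
  rw [Sieve.overEquiv_ofArrows]
  refine Precoverage.Saturate.of _ _ ?_
  rw [mem_spacesPre_iff]
  refine ⟨?_, fun x => ?_⟩
  · rintro _ _ ⟨i⟩
    exact (isEtaleMor_yon_map_iff _).2 (EtOver.etale_left (g i))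
  · obtain ⟨i, v, hv⟩ := hR (Points.toScheme E.obj.left x)
    refine ⟨_, _, ⟨i⟩, Points.ofScheme _ v, ?_⟩
    change Points.map ((yon S).map (g i).hom.left) (Points.ofPt (𝟙 _) v) = x
    rw [Points.map_ofPt, Category.id_comp, ofPt_yon_map, hv, Points.ofScheme_toScheme]

/-- The inclusion of the small etale site into the big etale site is continuous. -/
instance isContinuous_G (Y : Space S) :
    (G Y).IsContinuous (etTop Y.obj) (spacesTopOver IsEtaleMor Y) where
  op_comp_isSheaf_of_types := fun ⟨P, hP⟩ => by
    rw [isSheaf_iff_isSheaf_of_type] at hP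
    unfold etTop
    rw [Precoverage.isSheaf_toGrothendieck_iff_of_isStableUnderBaseChange]
    intro E R hR
    rw [Presieve.IsSheafFor.comp_iff_of_preservesPairwisePullbacks, Presieve.isSheafFor_iff_generate]
    exact hP _ (generate_map_G_mem Y R hR)

end Groth.Agent.H52.SmallBig
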