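import Groth.Agent.H52.EtDegB
import Groth.Agent.H53.Charts
import Mathlib.AlgebraicGeometry.Morphisms.FlatMono

/-!
# Agreement loci of two lifts along a representable etale map

For two morphisms `x y : T ⟶ U` of schemes, `AgreeAt x y τ` says that `x` and `y` agree on the residue
field point at `τ`.  If `x` and `y` lift the same `T`-point of a sheaf `X` along a representable etale
map `e : h_U ⟶ X`, the agreement locus is open (closed if `e` is separated), and `x = y` as soon as
they agree at every point.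
-/

set_option autoImplicit false
universe u
open CategoryTheory CategoryTheory.Limits AlgebraicGeometry Opposite

namespace Groth.Agent.H52.SymQuot

open AlgSp Groth.Agent.H53 Groth.Agent.H52.EtDeg

/-- `x` and `y` agree on the residue field point at `τ`. -/
def AgreeAt {T U : Scheme.{u}} (x y : T ⟶ U) (τ : T) : Prop :=
  T.fromSpecResidueField τ ≫ x = T.fromSpecResidueField τ ≫ y

theorem agreeAt_refl {T U : Scheme.{u}} (x : T ⟶ U) (τ : T) : AgreeAt x x τ := rfl

theorem AgreeAt.symm {T U : Scheme.{u}} {x y : T ⟶ U} {τ : T} (h : AgreeAt x y τ) :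
    AgreeAt y x τ := Eq.symm h

theorem AgreeAt.trans {T U : Scheme.{u}} {x y z : T ⟶ U} {τ : T} (h : AgreeAt x y τ)
    (h' : AgreeAt y z τ) : AgreeAt x z τ := Eq.trans h h'

theorem agreeAt_comp_iff {T' T U : Scheme.{u}} (g : T' ⟶ T) (x y : T ⟶ U) (τ' : T') :
    AgreeAt (g ≫ x) (g ≫ y) τ' ↔ AgreeAt x y (g τ') := by
  unfold AgreeAt
  have hc : T'.fromSpecResidueField τ' ≫ g =
      Spec.map (g.residueFieldMap τ') ≫ T.fromSpecResidueField (g τ') :=
    (Scheme.Hom.SpecMap_residueFieldMap_fromSpecResidueField g τ').symm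
  have hepi : Epi (Spec.map (g.residueFieldMap τ')) :=
    epi_of_fields (K := ↥(T.residueField (g τ'))) (K' := ↥(T'.residueField τ'))
      (Spec.map (g.residueFieldMap τ'))
  constructor
  · intro h
    rw [← Category.assoc, ← Category.assoc, hc, Category.assoc, Category.assoc] at h
    exact (cancel_epi _).1 h
  · intro h
    rw [← Category.assoc, ← Category.assoc, hc, Category.assoc, Category.assoc, h]

theorem AgreeAt.comp_right {T U U' : Scheme.{u}} {x y : T ⟶ U} {τ : T} (h : AgreeAt x y τ)
    (f : U ⟶ U') : AgreeAt (x ≫ f) (y ≫ f) τ := by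
  unfold AgreeAt at h ⊢
  rw [← Category.assoc, h, Category.assoc]

/-- For field valued points, agreeing at the point means being equal. -/
theorem agreeAt_field_iff {K : Type u} [Field K] {U : Scheme.{u}} (x y : Spec (.of K) ⟶ U)
    (τ : Spec (.of K)) : AgreeAt x y τ ↔ x = y := by
  constructor
  · intro h
    have hepi : Epi ((Spec (.of K)).fromSpecResidueField τ) :=
      epi_of_fields (K := K) (K' := ↥((Spec (.of K)).residueField τ)) _
    exact (cancel_epi _).1 h
  · rintro rfl
    rfl

variable {S : Scheme.{u}}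

section KernelPair

variable {X : Sp S} {U R : Over S} {e : (yon S).obj U ⟶ X} {t s : R ⟶ U}
  (sq : IsPullback ((yon S).map t) ((yon S).map s) e e)

include sq in
/-- The diagonal of a kernel pair. -/
theorem exists_diag : ∃ δ : U ⟶ R, δ ≫ t = 𝟙 U ∧ δ ≫ s = 𝟙 U := by
  obtain ⟨δ, hδ⟩ := (yon S).map_surjective (sq.lift (𝟙 _) (𝟙 _) rfl)
  refine ⟨δ, ?_, ?_⟩
  · apply (yon S).map_injective
    rw [Functor.map_comp, hδ, sq.lift_fst]
    exact ((yon S).map_id _).symm
  · apply (yon S).map_injective
    rw [Functor.map_comp, hδ, sq.lift_snd]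
    exact ((yon S).map_id _).symm

include sq in
theorem hom_ext_kernelPair {T : Over S} (a b : T ⟶ R) (h1 : a ≫ t = b ≫ t) (h2 : a ≫ s = b ≫ s) :
    a = b := by
  apply (yon S).map_injective
  apply sq.hom_ext
  · rw [← Functor.map_comp, ← Functor.map_comp, h1]
  · rw [← Functor.map_comp, ← Functor.map_comp, h2]

include sq in
theorem exists_lift_kernelPair {T : Over S} (x y : T ⟶ U)
    (h : (yon S).map x ≫ e = (yon S).map y ≫ e) : ∃ ℓ : T ⟶ R, ℓ ≫ t = x ∧ ℓ ≫ s = y := by
  obtain ⟨ℓ, hℓ⟩ := (yon S).map_surjective (sq.lift _ _ h)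
  refine ⟨ℓ, ?_, ?_⟩
  · apply (yon S).map_injective
    rw [Functor.map_comp, hℓ, sq.lift_fst]
  · apply (yon S).map_injective
    rw [Functor.map_comp, hℓ, sq.lift_snd]

/-- The diagonal of the kernel pair of an etale map is an open immersion. -/
theorem isOpenImmersion_diag (hs : Etale s.left) (δ : U ⟶ R) (hδs : δ ≫ s = 𝟙 U) :
    IsOpenImmersion δ.left := by
  have h1 : δ.left ≫ s.left = 𝟙 _ := by
    rw [← Over.comp_left, hδs]; rfl
  have : Etale (δ.left ≫ s.left) := by rw [h1]; infer_instance
  have : Etale δ.left := Etale.of_comp δ.left s.left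
  have : Mono δ.left := mono_of_mono_fac h1
  exact IsOpenImmersion.of_flat_of_mono δ.left

/-- The diagonal of the kernel pair of a separated map is a closed immersion. -/
theorem isClosedImmersion_diag (hs : IsSeparated s.left) (δ : U ⟶ R) (hδs : δ ≫ s = 𝟙 U) :
    IsClosedImmersion δ.left := by
  have h1 : δ.left ≫ s.left = 𝟙 _ := by
    rw [← Over.comp_left, hδs]; rfl
  have : IsClosedImmersion (δ.left ≫ s.left) := by rw [h1]; infer_instance
  exact IsClosedImmersion.of_comp δ.left s.left

include sq in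
/-- The agreement locus is the preimage of the diagonal. -/
theorem agreeAt_iff_mem_range_diag (hs : Etale s.left) (δ : U ⟶ R) (hδt : δ ≫ t = 𝟙 U)
    (hδs : δ ≫ s = 𝟙 U) {T : Over S} (ℓ : T ⟶ R) (τ : ↥T.left) :
    AgreeAt (ℓ ≫ t).left (ℓ ≫ s).left τ ↔ ℓ.left τ ∈ Set.range δ.left := by
  have hoi := isOpenImmersion_diag hs δ hδs
  have h1 : δ.left ≫ s.left = 𝟙 _ := by rw [← Over.comp_left, hδs]; rfl
  have h2 : δ.left ≫ t.left = 𝟙 _ := by rw [← Over.comp_left, hδt]; rfl
  constructor
  · intro h
    -- the residue field point as a morphism over `S`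
    let P : Over S := Over.mk (T.left.fromSpecResidueField τ ≫ T.hom)
    let ι : P ⟶ T := Over.homMk (T.left.fromSpecResidueField τ) rfl
    have hι : ι ≫ ℓ ≫ t = ι ≫ ℓ ≫ s := by
      ext
      have h' : T.left.fromSpecResidueField τ ≫ (ℓ ≫ t).left =
          T.left.fromSpecResidueField τ ≫ (ℓ ≫ s).left := h
      simp only [Over.comp_left]
      simp only [Over.comp_left] at h'
      exact h'
    have key : ι ≫ ℓ = (ι ≫ ℓ ≫ t) ≫ δ := by
      apply hom_ext_kernelPair sq
      · rw [Category.assoc, Category.assoc, Category.assoc, hδt, Category.comp_id]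
      · rw [Category.assoc, Category.assoc, Category.assoc, hδs, Category.comp_id, hι]
    have key' := congrArg (fun f => f.left) key
    simp only [Over.comp_left] at key'
    have hpt : ℓ.left τ = ℓ.left (T.left.fromSpecResidueField τ
        (IsLocalRing.closedPoint _)) := by
      rw [Scheme.fromSpecResidueField_apply]
    rw [hpt]
    change (ι.left ≫ ℓ.left) _ ∈ _
    rw [key']
    exact ⟨_, rfl⟩
  · rintro ⟨u, hu⟩
    have hr : Set.range (T.left.fromSpecResidueField τ ≫ ℓ.left) ⊆ Set.range δ.left := by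
      rintro _ ⟨q, rfl⟩
      refine ⟨u, ?_⟩
      rw [hu, Scheme.Hom.comp_apply, Scheme.fromSpecResidueField_apply]
    let c := IsOpenImmersion.lift δ.left (T.left.fromSpecResidueField τ ≫ ℓ.left) hr
    have hc : c ≫ δ.left = T.left.fromSpecResidueField τ ≫ ℓ.left :=
      IsOpenImmersion.lift_fac _ _ _
    unfold AgreeAt
    rw [Over.comp_left, Over.comp_left, ← Category.assoc, ← Category.assoc, ← hc, Category.assoc,
      Category.assoc, h1, h2]

end KernelPair

/-- The agreement locus of two lifts along a representable etale map is open. -/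
theorem isOpen_agreeAt {X : Sp S} {U : Over S} (e : (yon S).obj U ⟶ X) (he : RepWith @Etale e)
    {T : Over S} (x y : T ⟶ U) (h : (yon S).map x ≫ e = (yon S).map y ≫ e) :
    IsOpen {τ : ↥T.left | AgreeAt x.left y.left τ} := by
  obtain ⟨R, t, s, sq⟩ := exists_pullback_yon e e he.rep
  have hs : Etale s.left := prop_of_isPullback_yon sq.flip he
  obtain ⟨δ, hδt, hδs⟩ := exists_diag sq
  obtain ⟨ℓ, rfl, rfl⟩ := exists_lift_kernelPair sq x y h
  have hoi := isOpenImmersion_diag hs δ hδs
  have : {τ : ↥T.left | AgreeAt (ℓ ≫ t).left (ℓ ≫ s).left τ} = ℓ.left ⁻¹' Set.range δ.left := by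
    ext τ
    exact agreeAt_iff_mem_range_diag sq hs δ hδt hδs ℓ τ
  rw [this]
  exact δ.left.isOpenEmbedding.isOpen_range.preimage ℓ.left.continuous

/-- The agreement locus of two lifts along a representable etale separated map is closed. -/
theorem isClosed_agreeAt {X : Sp S} {U : Over S} (e : (yon S).obj U ⟶ X) (he : RepWith @Etale e)
    (hsep : RepWith @IsSeparated e)
    {T : Over S} (x y : T ⟶ U) (h : (yon S).map x ≫ e = (yon S).map y ≫ e) :
    IsClosed {τ : ↥T.left | AgreeAt x.left y.left τ} := by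
  obtain ⟨R, t, s, sq⟩ := exists_pullback_yon e e he.rep
  have hs : Etale s.left := prop_of_isPullback_yon sq.flip he
  have hs' : IsSeparated s.left := prop_of_isPullback_yon sq.flip hsep
  obtain ⟨δ, hδt, hδs⟩ := exists_diag sq
  obtain ⟨ℓ, rfl, rfl⟩ := exists_lift_kernelPair sq x y h
  have hci := isClosedImmersion_diag hs' δ hδs
  have : {τ : ↥T.left | AgreeAt (ℓ ≫ t).left (ℓ ≫ s).left τ} = ℓ.left ⁻¹' Set.range δ.left := by
    ext τ
    exact agreeAt_iff_mem_range_diag sq hs δ hδt hδs ℓ τ
  rw [this]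
  exact δ.left.isClosedEmbedding.isClosed_range.preimage ℓ.left.continuous

/-- Two lifts along a representable etale map which agree at every point are equal. -/
theorem eq_of_forall_agreeAt {X : Sp S} {U : Over S} (e : (yon S).obj U ⟶ X)
    (he : RepWith @Etale e) {T : Over S} (x y : T ⟶ U)
    (h : (yon S).map x ≫ e = (yon S).map y ≫ e) (hall : ∀ τ, AgreeAt x.left y.left τ) : x = y := by
  obtain ⟨R, t, s, sq⟩ := exists_pullback_yon e e he.rep
  have hs : Etale s.left := prop_of_isPullback_yon sq.flip he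
  obtain ⟨δ, hδt, hδs⟩ := exists_diag sq
  obtain ⟨ℓ, rfl, rfl⟩ := exists_lift_kernelPair sq x y h
  have hoi := isOpenImmersion_diag hs δ hδs
  have hr : Set.range ℓ.left ⊆ Set.range δ.left := by
    rintro _ ⟨τ, rfl⟩
    exact (agreeAt_iff_mem_range_diag sq hs δ hδt hδs ℓ τ).1 (hall τ)
  let c := IsOpenImmersion.lift δ.left ℓ.left hr
  have hc : c ≫ δ.left = ℓ.left := IsOpenImmersion.lift_fac _ _ _
  have h1 : δ.left ≫ s.left = 𝟙 _ := by rw [← Over.comp_left, hδs]; rfl
  have h2 : δ.left ≫ t.left = 𝟙 _ := by rw [← Over.comp_left, hδt]; rfl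
  ext
  rw [Over.comp_left, Over.comp_left, ← hc, Category.assoc, Category.assoc, h1, h2]

end Groth.Agent.H52.SymQuot
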