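import Groth.Prelude.Def_AlgSpCov
import Mathlib.CategoryTheory.Limits.Shapes.WidePullbacks

set_option autoImplicit false
universe u
open CategoryTheory CategoryTheory.Limits AlgebraicGeometry Opposite

set_option backward.isDefEq.respectTransparency false

namespace Groth.Agent.H52.WidePb

open AlgSp

variable {S : Scheme.{u}}

/-- `h_T` with `r : T ⟶ T₁` and `q k : T ⟶ Us k` is a fibre product of `b : h_{T₁} ⟶ B` and the
`p k : h_{Us k} ⟶ B`. -/
def IsWP {B : Sp S} {T₁ : Over S} (b : (yon S).obj T₁ ⟶ B) {n : ℕ} (Us : Fin n → Over S)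
    (p : ∀ k, (yon S).obj (Us k) ⟶ B) (T : Over S) (r : T ⟶ T₁) (q : ∀ k, T ⟶ Us k) : Prop :=
  (∀ k, (yon S).map (q k) ≫ p k = (yon S).map r ≫ b) ∧
  ∀ (Z : Sp S) (z₁ : Z ⟶ (yon S).obj T₁) (z : ∀ k, Z ⟶ (yon S).obj (Us k)),
    (∀ k, z k ≫ p k = z₁ ≫ b) →
    ∃! l : Z ⟶ (yon S).obj T, l ≫ (yon S).map r = z₁ ∧ ∀ k, l ≫ (yon S).map (q k) = z k

/-- Finite fibre products of schemes over a sheaf along maps that are representable with a property
`Q` are representable, and the projection to the first factor has `Q`. -/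
theorem exists_isWP (Q : MorphismProperty Scheme.{u}) [Q.IsStableUnderBaseChange]
    [Q.IsMultiplicative] {B : Sp S} :
    ∀ (n : ℕ) {T₁ : Over S} (b : (yon S).obj T₁ ⟶ B) (Us : Fin n → Over S)
      (p : ∀ k, (yon S).obj (Us k) ⟶ B), (∀ k, RepWith Q (p k)) →
      ∃ (T : Over S) (r : T ⟶ T₁) (q : ∀ k, T ⟶ Us k), IsWP b Us p T r q ∧ Q r.left := by
  intro n
  induction n with
  | zero =>
    intro T₁ b Us p _
    refine ⟨T₁, 𝟙 _, fun k => k.elim0, ⟨fun k => k.elim0, ?_⟩, Q.id_mem _⟩
    intro Z z₁ z _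
    refine ⟨z₁, ⟨?_, fun k => k.elim0⟩, ?_⟩
    · rw [CategoryTheory.Functor.map_id, Category.comp_id]
    · rintro l ⟨hl, -⟩
      rw [CategoryTheory.Functor.map_id, Category.comp_id] at hl
      exact hl
  | succ n ih =>
    intro T₁ b Us p hp
    have h0 := hp 0
    obtain ⟨φ, hφ⟩ := (yon S).map_surjective (h0.rep.fst b)
    have sq : IsPullback ((yon S).map φ) ((yon S).map (h0.rep.snd b)) (p 0) b := by
      rw [hφ]; exact h0.rep.isPullback b
    have hsnd : Q (h0.rep.snd b).left := h0.property_snd b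
    obtain ⟨T, r', q', ⟨hc, hu⟩, hr'⟩ := ih ((yon S).map (h0.rep.snd b) ≫ b) (fun k => Us k.succ)
      (fun k => p k.succ) (fun k => hp k.succ)
    refine ⟨T, r' ≫ h0.rep.snd b,
      Fin.cases (motive := fun k => T ⟶ Us k) (r' ≫ φ) q', ⟨?_, ?_⟩, ?_⟩
    · intro k
      refine Fin.cases ?_ (fun k' => ?_) k
      · rw [Fin.cases_zero, Functor.map_comp, Functor.map_comp, Category.assoc, Category.assoc, sq.w]
      · rw [Fin.cases_succ, hc k', Functor.map_comp, Category.assoc]
    · intro Z z₁ z hz
      obtain ⟨l, ⟨hl1, hl2⟩, hluniq⟩ := hu Z (sq.lift (z 0) z₁ (hz 0)) (fun k => z k.succ)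
        (fun k => by rw [hz k.succ, ← Category.assoc, sq.lift_snd])
      refine ⟨l, ⟨?_, ?_⟩, ?_⟩
      · rw [Functor.map_comp, ← Category.assoc, hl1, sq.lift_snd]
      · intro k
        refine Fin.cases ?_ (fun k' => ?_) k
        · rw [Fin.cases_zero, Functor.map_comp, ← Category.assoc, hl1, sq.lift_fst]
        · rw [Fin.cases_succ]; exact hl2 k'
      · rintro l₂ ⟨h1, h2⟩
        apply hluniq
        refine ⟨?_, fun k' => ?_⟩
        · apply sq.hom_ext
          · rw [sq.lift_fst, Category.assoc, ← Functor.map_comp]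
            have := h2 0
            rw [Fin.cases_zero] at this
            exact this
          · rw [sq.lift_snd, Category.assoc, ← Functor.map_comp]
            exact h1
        · have := h2 k'.succ
          rw [Fin.cases_succ] at this
          exact this
    · rw [Over.comp_left]
      exact Q.comp_mem _ _ hr' hsnd

/-- The chosen wide pullback of finitely many schemes over a sheaf, along maps representable with
`Q`, is representable; the base map is computed through the first projection, which has `Q`. -/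
theorem exists_iso_widePullback (Q : MorphismProperty Scheme.{u}) [Q.IsStableUnderBaseChange]
    [Q.IsMultiplicative] {B : Sp S} (n : ℕ) (Us : Fin (n + 1) → Over S)
    (p : ∀ k, (yon S).obj (Us k) ⟶ B) (hp : ∀ k, RepWith Q (p k)) :
    ∃ (T : Over S) (r : T ⟶ Us 0)
      (e : widePullback B (fun k => (yon S).obj (Us k)) p ≅ (yon S).obj T),
      Q r.left ∧ WidePullback.base p = e.hom ≫ (yon S).map r ≫ p 0 := by
  obtain ⟨T, r, q, ⟨hc, hu⟩, hr⟩ := exists_isWP Q n (p 0) (fun k => Us k.succ) (fun k => p k.succ)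
    (fun k => hp k.succ)
  obtain ⟨l, ⟨hl1, hl2⟩, -⟩ := hu _ (WidePullback.π p 0) (fun k => WidePullback.π p k.succ)
    (fun k => by rw [WidePullback.π_arrow, WidePullback.π_arrow])
  let legs : ∀ k, (yon S).obj T ⟶ (yon S).obj (Us k) :=
    Fin.cases (motive := fun k => (yon S).obj T ⟶ (yon S).obj (Us k)) ((yon S).map r)
      (fun k => (yon S).map (q k))
  have hlegs : ∀ k, legs k ≫ p k = (yon S).map r ≫ p 0 := by
    intro k
    refine Fin.cases ?_ (fun k' => ?_) k
    · rfl
    · change (yon S).map (q k') ≫ p k'.succ = _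
      exact hc k'
  let inv : (yon S).obj T ⟶ widePullback B (fun k => (yon S).obj (Us k)) p :=
    WidePullback.lift ((yon S).map r ≫ p 0) legs hlegs
  have hl : ∀ k, l ≫ legs k = WidePullback.π p k := by
    intro k
    refine Fin.cases ?_ (fun k' => ?_) k
    · exact hl1
    · exact hl2 k'
  have h1 : l ≫ inv = 𝟙 _ := by
    apply WidePullback.hom_ext
    · intro k
      rw [Category.assoc, WidePullback.lift_π, hl k, Category.id_comp]
    · rw [Category.assoc, WidePullback.lift_base, ← Category.assoc, hl1, WidePullback.π_arrow,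
        Category.id_comp]
  have h2 : inv ≫ l = 𝟙 _ := by
    obtain ⟨l', -, hl'uniq⟩ := hu _ ((yon S).map r) (fun k => (yon S).map (q k)) hc
    have e1 : inv ≫ l = l' := by
      apply hl'uniq
      refine ⟨?_, fun k => ?_⟩
      · rw [Category.assoc, hl1]
        exact WidePullback.lift_π _ _ _ _ 0
      · rw [Category.assoc, hl2 k]
        exact WidePullback.lift_π _ _ _ _ k.succ
    have e2 : 𝟙 _ = l' := by
      apply hl'uniq
      exact ⟨Category.id_comp _, fun k => Category.id_comp _⟩
    rw [e1, ← e2]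
  refine ⟨T, r, ⟨l, inv, h1, h2⟩, hr, ?_⟩
  change _ = l ≫ _
  rw [← Category.assoc, hl1, WidePullback.π_arrow]

end Groth.Agent.H52.WidePb
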