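import Groth.Agent.H52.SymQuotA
import Groth.Agent.H52.WidePb
import Groth.Agent.H52.Special

/-!
# The scheme of tuples of pairwise disjoint lifts along an etale separated chart
-/

set_option autoImplicit false
universe u
open CategoryTheory CategoryTheory.Limits AlgebraicGeometry Opposite

namespace Groth.Agent.H52.SymQuot

open AlgSp Groth.Agent.H53 Groth.Agent.H52

variable {S : Scheme.{u}}

/-- `W` with `ρ k : W ⟶ U` represents the functor of `(n+1)`-tuples of lifts along `e : h_U ⟶ X` of a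
common point of `X` which are pairwise nowhere equal. -/
structure IsTuple {X : Sp S} {U : Over S} (e : (yon S).obj U ⟶ X) (n : ℕ) (W : Over S)
    (ρ : Fin (n + 1) → (W ⟶ U)) : Prop where
  comm : ∀ k l, (yon S).map (ρ k) ≫ e = (yon S).map (ρ l) ≫ e
  disj : ∀ k l, k ≠ l → ∀ τ : ↥W.left, ¬ AgreeAt (ρ k).left (ρ l).left τ
  exists_lift : ∀ (T : Over S) (a : Fin (n + 1) → (T ⟶ U)),
    (∀ k l, (yon S).map (a k) ≫ e = (yon S).map (a l) ≫ e) →
    (∀ k l, k ≠ l → ∀ τ : ↥T.left, ¬ AgreeAt (a k).left (a l).left τ) →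
    ∃ φ : T ⟶ W, ∀ k, φ ≫ ρ k = a k
  hom_ext : ∀ (T : Over S) (φ ψ : T ⟶ W), (∀ k, φ ≫ ρ k = ψ ≫ ρ k) → φ = ψ
  etale : Etale (ρ 0).left
  separated : IsSeparated (ρ 0).left

theorem repWith_inf {P Q : MorphismProperty Scheme.{u}} {F G : Sp S} {f : F ⟶ G}
    (hP : RepWith P f) (hQ : RepWith Q f) : RepWith (P ⊓ Q) f :=
  ⟨hP.rep, fun _ _ g fst snd sq => ⟨hP.property g fst snd sq, hQ.property g fst snd sq⟩⟩

theorem exists_isTuple {X : Sp S} {U : Over S} (e : (yon S).obj U ⟶ X) (he : RepWith @Etale e)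
    (hsep : RepWith @IsSeparated e) (n : ℕ) :
    ∃ (W : Over S) (ρ : Fin (n + 1) → (W ⟶ U)), IsTuple e n W ρ := by
  classical
  obtain ⟨P, r, q, ⟨hc, hu⟩, hr⟩ := WidePb.exists_isWP (@Etale ⊓ @IsSeparated) n e
    (fun _ : Fin n => U) (fun _ => e) (fun _ => repWith_inf he hsep)
  let π : Fin (n + 1) → (P ⟶ U) := Fin.cases r q
  have hπ0 : π 0 = r := rfl
  have hπs : ∀ k : Fin n, π k.succ = q k := fun k => rfl
  have hcomm0 : ∀ k, (yon S).map (π k) ≫ e = (yon S).map r ≫ e := by
    intro k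
    refine Fin.cases ?_ (fun k' => ?_) k
    · rfl
    · rw [hπs]; exact hc k'
  have hcomm : ∀ k l, (yon S).map (π k) ≫ e = (yon S).map (π l) ≫ e := fun k l =>
    (hcomm0 k).trans (hcomm0 l).symm
  -- uniqueness of maps to `P`
  have hPext : ∀ (T : Over S) (φ ψ : T ⟶ P), (∀ k, φ ≫ π k = ψ ≫ π k) → φ = ψ := by
    intro T φ ψ h
    have hz : ∀ k : Fin n, (yon S).map (ψ ≫ q k) ≫ e = (yon S).map (ψ ≫ r) ≫ e := by
      intro k
      rw [Functor.map_comp, Functor.map_comp, Category.assoc, Category.assoc, hc k]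
    obtain ⟨l, -, hl⟩ := hu _ ((yon S).map (ψ ≫ r)) (fun k => (yon S).map (ψ ≫ q k)) hz
    have h1 : (yon S).map φ = l := by
      apply hl
      refine ⟨?_, fun k => ?_⟩
      · rw [← Functor.map_comp]
        exact congrArg _ (h 0)
      · rw [← Functor.map_comp]
        exact congrArg _ (h k.succ)
    have h2 : (yon S).map ψ = l := by
      apply hl
      exact ⟨by rw [← Functor.map_comp], fun k => by rw [← Functor.map_comp]⟩
    exact (yon S).map_injective (h1.trans h2.symm)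
  -- the open subscheme
  let Wset : Set ↥P.left := ⋂ (kl : {kl : Fin (n + 1) × Fin (n + 1) // kl.1 ≠ kl.2}),
    {τ | AgreeAt (π kl.1.1).left (π kl.1.2).left τ}ᶜ
  have hWopen : IsOpen Wset := by
    refine isOpen_iInter_of_finite fun kl => ?_
    exact (isClosed_agreeAt e he hsep (π kl.1.1) (π kl.1.2) (hcomm _ _)).isOpen_compl
  let Wo : P.left.Opens := ⟨Wset, hWopen⟩
  have hmemW : ∀ τ : ↥P.left, τ ∈ Wo ↔
      ∀ k l, k ≠ l → ¬ AgreeAt (π k).left (π l).left τ := by
    intro τ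
    change τ ∈ Wset ↔ _
    simp only [Wset, Set.mem_iInter, Set.mem_compl_iff, Set.mem_setOf_eq, Subtype.forall,
      Prod.forall]
  refine ⟨Over.mk (Wo.ι ≫ P.hom), fun k => openIncl P Wo ≫ π k, ?_⟩
  refine ⟨?_, ?_, ?_, ?_, ?_, ?_⟩
  · intro k l
    rw [Functor.map_comp, Functor.map_comp, Category.assoc, Category.assoc, hcomm k l]
  · intro k l hkl τ h
    have h' : AgreeAt (Wo.ι ≫ (π k).left) (Wo.ι ≫ (π l).left) τ := h
    rw [agreeAt_comp_iff] at h'
    exact (hmemW _).1 τ.2 k l hkl h'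
  · intro T a hac had
    have hz : ∀ k : Fin n, (yon S).map (a k.succ) ≫ e = (yon S).map (a 0) ≫ e := fun k => hac _ _
    obtain ⟨l, ⟨hl1, hl2⟩, -⟩ := hu _ ((yon S).map (a 0)) (fun k => (yon S).map (a k.succ)) hz
    obtain ⟨φ₀, rfl⟩ := (yon S).map_surjective l
    have hφ₀ : ∀ k, φ₀ ≫ π k = a k := by
      intro k
      refine Fin.cases ?_ (fun k' => ?_) k
      · apply (yon S).map_injective
        rw [Functor.map_comp]; exact hl1
      · apply (yon S).map_injective
        rw [Functor.map_comp]; exact hl2 k'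
    have hrange : Set.range φ₀.left ⊆ Set.range Wo.ι := by
      rintro _ ⟨τ, rfl⟩
      rw [Scheme.Opens.range_ι]
      refine (hmemW _).2 fun k l hkl h => ?_
      rw [← agreeAt_comp_iff, ← Over.comp_left, ← Over.comp_left, hφ₀, hφ₀] at h
      exact had k l hkl τ h
    let φl := IsOpenImmersion.lift Wo.ι φ₀.left hrange
    have hφl : φl ≫ Wo.ι = φ₀.left := IsOpenImmersion.lift_fac _ _ _
    refine ⟨Over.homMk φl (by
      change φl ≫ Wo.ι ≫ P.hom = T.hom
      rw [← Category.assoc, hφl, Over.w φ₀]), fun k => ?_⟩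
    rw [← hφ₀ k, ← Category.assoc]
    congr 1
    ext
    exact hφl
  · intro T φ ψ h
    have h1 : φ ≫ openIncl P Wo = ψ ≫ openIncl P Wo := by
      apply hPext
      intro k
      rw [Category.assoc, Category.assoc]
      exact h k
    ext
    have h2 := congrArg (fun f => f.left) h1
    simp only [Over.comp_left] at h2
    exact (cancel_mono Wo.ι).1 h2
  · change Etale (Wo.ι ≫ r.left)
    have : Etale r.left := hr.1
    infer_instance
  · change IsSeparated (Wo.ι ≫ r.left)
    have : IsSeparated r.left := hr.2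
    infer_instance

end Groth.Agent.H52.SymQuot
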