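import Groth.Agent.H52.SymQuotB

/-!
# The permutation relation on the scheme of tuples
-/

set_option autoImplicit false
universe u
open CategoryTheory CategoryTheory.Limits AlgebraicGeometry Opposite

namespace Groth.Agent.H52.SymQuot

open AlgSp Groth.Agent.H53 Groth.Agent.H52

variable {S : Scheme.{u}} {X : Sp S} {U : Over S} {e : (yon S).obj U ⟶ X} {n : ℕ} {W : Over S}
  {ρ : Fin (n + 1) → (W ⟶ U)}

/-- Two `T`-points of the scheme of tuples are related when they lie over the same point of `X` and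
everywhere every member of the first tuple agrees with some member of the second. -/
def TRel (e : (yon S).obj U ⟶ X) (ρ : Fin (n + 1) → (W ⟶ U)) {T : Over S} (a b : T ⟶ W) : Prop :=
  (yon S).map (a ≫ ρ 0) ≫ e = (yon S).map (b ≫ ρ 0) ≫ e ∧
    ∀ (τ : ↥T.left) (k : Fin (n + 1)), ∃ l, AgreeAt (a ≫ ρ k).left (b ≫ ρ l).left τ

theorem TRel.refl {T : Over S} (a : T ⟶ W) : TRel e ρ a a :=
  ⟨rfl, fun τ k => ⟨k, agreeAt_refl _ τ⟩⟩

theorem TRel.trans {T : Over S} {a b c : T ⟶ W} (h : TRel e ρ a b) (h' : TRel e ρ b c) :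
    TRel e ρ a c := by
  refine ⟨h.1.trans h'.1, fun τ k => ?_⟩
  obtain ⟨l, hl⟩ := h.2 τ k
  obtain ⟨m, hm⟩ := h'.2 τ l
  exact ⟨m, hl.trans hm⟩

/-- different members of a tuple never agree. -/
theorem IsTuple.not_agreeAt (hW : IsTuple e n W ρ) {T : Over S} (a : T ⟶ W) {k l : Fin (n + 1)}
    (hkl : k ≠ l) (τ : ↥T.left) : ¬ AgreeAt (a ≫ ρ k).left (a ≫ ρ l).left τ := by
  intro h
  rw [Over.comp_left, Over.comp_left, agreeAt_comp_iff] at h
  exact hW.disj k l hkl _ h

theorem TRel.symm (hW : IsTuple e n W ρ) {T : Over S} {a b : T ⟶ W} (h : TRel e ρ a b) :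
    TRel e ρ b a := by
  refine ⟨h.1.symm, fun τ l => ?_⟩
  choose c hc using h.2 τ
  have hinj : Function.Injective c := by
    intro k k' hkk'
    by_contra hne
    have h1 := hc k
    have h2 := hc k'
    rw [← hkk'] at h2
    exact hW.not_agreeAt a hne τ (h1.trans h2.symm)
  obtain ⟨k, rfl⟩ := (Finite.injective_iff_surjective.1 hinj) l
  exact ⟨k, (hc k).symm⟩

theorem TRel.comp {T T' : Over S} (g : T' ⟶ T) {a b : T ⟶ W} (h : TRel e ρ a b) :
    TRel e ρ (g ≫ a) (g ≫ b) := by
  refine ⟨?_, fun τ' k => ?_⟩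
  · have h1 := h.1
    rw [Category.assoc, Category.assoc, Functor.map_comp, Functor.map_comp (yon S) g,
      Category.assoc, Category.assoc, h1]
  · obtain ⟨l, hl⟩ := h.2 (g.left τ') k
    refine ⟨l, ?_⟩
    rw [Category.assoc, Category.assoc, Over.comp_left, Over.comp_left (f := g), agreeAt_comp_iff]
    exact hl

/-- The relation scheme: an open subscheme of the kernel pair of `h_W ⟶ X`. -/
theorem exists_relation (hW : IsTuple e n W ρ) (he : RepWith @Etale e)
    (hsep : RepWith @IsSeparated e) :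
    ∃ (E : Over S) (sE tE : E ⟶ W), Etale sE.left ∧ IsSeparated sE.left ∧
      (∀ (T : Over S) (r r' : T ⟶ E), r ≫ tE = r' ≫ tE → r ≫ sE = r' ≫ sE → r = r') ∧
      ∀ (T : Over S) (a b : T ⟶ W), (∃ r : T ⟶ E, r ≫ tE = a ∧ r ≫ sE = b) ↔ TRel e ρ a b := by
  classical
  have hw : RepWith @Etale ((yon S).map (ρ 0) ≫ e) :=
    (RepWith @Etale).comp_mem _ _ ((repWith_yon_map_iff _ _).2 hW.etale) he
  have hwsep : RepWith @IsSeparated ((yon S).map (ρ 0) ≫ e) :=
    (RepWith @IsSeparated).comp_mem _ _ ((repWith_yon_map_iff _ _).2 hW.separated) hsep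
  obtain ⟨WW, p₁, p₂, sqW⟩ := exists_pullback_yon ((yon S).map (ρ 0) ≫ e)
    ((yon S).map (ρ 0) ≫ e) hw.rep
  have hp₂e : Etale p₂.left := prop_of_isPullback_yon sqW.flip hw
  have hp₂s : IsSeparated p₂.left := prop_of_isPullback_yon sqW.flip hwsep
  have hcommW : ∀ k l, (yon S).map (p₁ ≫ ρ k) ≫ e = (yon S).map (p₂ ≫ ρ l) ≫ e := by
    intro k l
    rw [Functor.map_comp, Functor.map_comp, Category.assoc, Category.assoc, hW.comm k 0,
      hW.comm l 0]
    exact sqW.w
  let Eset : Set ↥WW.left := ⋂ k : Fin (n + 1), ⋃ l : Fin (n + 1),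
    {z | AgreeAt (p₁ ≫ ρ k).left (p₂ ≫ ρ l).left z}
  have hEopen : IsOpen Eset := by
    refine isOpen_iInter_of_finite fun k => isOpen_iUnion fun l => ?_
    exact isOpen_agreeAt e he _ _ (hcommW k l)
  let Eo : WW.left.Opens := ⟨Eset, hEopen⟩
  have hmemE : ∀ z : ↥WW.left, z ∈ Eo ↔
      ∀ k, ∃ l, AgreeAt (p₁ ≫ ρ k).left (p₂ ≫ ρ l).left z := by
    intro z
    change z ∈ Eset ↔ _
    simp only [Eset, Set.mem_iInter, Set.mem_iUnion]
    rfl
  refine ⟨Over.mk (Eo.ι ≫ WW.hom), openIncl WW Eo ≫ p₂, openIncl WW Eo ≫ p₁, ?_, ?_, ?_, ?_⟩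
  · change Etale (Eo.ι ≫ p₂.left)
    infer_instance
  · change IsSeparated (Eo.ι ≫ p₂.left)
    infer_instance
  · intro T r r' h1 h2
    have h3 : r ≫ openIncl WW Eo = r' ≫ openIncl WW Eo := by
      apply hom_ext_kernelPair sqW
      · rw [Category.assoc, Category.assoc]; exact h1
      · rw [Category.assoc, Category.assoc]; exact h2
    ext
    have h4 := congrArg (fun f => f.left) h3
    simp only [Over.comp_left] at h4
    exact (cancel_mono Eo.ι).1 h4
  · intro T a b
    constructor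
    · rintro ⟨r, rfl, rfl⟩
      refine ⟨?_, fun τ k => ?_⟩
      · rw [Category.assoc, Category.assoc, Category.assoc, Category.assoc]
        rw [Functor.map_comp, Functor.map_comp (yon S) r, Category.assoc, Category.assoc]
        congr 1
        rw [Functor.map_comp, Functor.map_comp (yon S) (openIncl WW Eo), Category.assoc,
          Category.assoc]
        congr 1
        exact hcommW 0 0
      · have hz : (r ≫ openIncl WW Eo).left τ ∈ Eo := by
          rw [Over.comp_left]
          exact (r.left τ).2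
        obtain ⟨l, hl⟩ := (hmemE _).1 hz k
        refine ⟨l, ?_⟩
        rw [← agreeAt_comp_iff] at hl
        simpa [Category.assoc] using hl
    · rintro ⟨h1, h2⟩
      have h1' : (yon S).map a ≫ (yon S).map (ρ 0) ≫ e = (yon S).map b ≫ (yon S).map (ρ 0) ≫ e := by
        rw [← Category.assoc, ← Functor.map_comp, h1, Functor.map_comp, Category.assoc]
      obtain ⟨ℓ, hℓ1, hℓ2⟩ := exists_lift_kernelPair sqW a b h1'
      have hrange : Set.range ℓ.left ⊆ Set.range Eo.ι := by
        rintro _ ⟨τ, rfl⟩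
        rw [Scheme.Opens.range_ι]
        refine (hmemE _).2 fun k => ?_
        obtain ⟨l, hl⟩ := h2 τ k
        refine ⟨l, ?_⟩
        rw [← agreeAt_comp_iff, ← Over.comp_left, ← Over.comp_left, ← Category.assoc,
          ← Category.assoc, hℓ1, hℓ2]
        exact hl
      let rl := IsOpenImmersion.lift Eo.ι ℓ.left hrange
      have hrl : rl ≫ Eo.ι = ℓ.left := IsOpenImmersion.lift_fac _ _ _
      let r : T ⟶ Over.mk (Eo.ι ≫ WW.hom) := Over.homMk rl (by
        change rl ≫ Eo.ι ≫ WW.hom = T.hom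
        rw [← Category.assoc, hrl, Over.w ℓ])
      have hr : r ≫ openIncl WW Eo = ℓ := by
        ext
        exact hrl
      exact ⟨r, by rw [← Category.assoc, hr, hℓ1], by rw [← Category.assoc, hr, hℓ2]⟩

end Groth.Agent.H52.SymQuot
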