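import Groth.Agent.H52.SymQuotC
import Groth.Agent.H52.EtDegB
import Mathlib.GroupTheory.Perm.Basic

/-!
# The permutation relation is a finite etale equivalence relation
-/

set_option autoImplicit false
universe u
open CategoryTheory CategoryTheory.Limits AlgebraicGeometry Opposite

namespace Groth.Agent.H52.SymQuot

open AlgSp Groth.Agent.H53 Groth.Agent.H52 Groth.Agent.H52.EtDeg Groth.Agent.H53.ZMT

variable {S : Scheme.{u}} {X : Sp S} {U : Over S} {e : (yon S).obj U ⟶ X} {n : ℕ} {W : Over S}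
  {ρ : Fin (n + 1) → (W ⟶ U)}

theorem isEqvRel_of_relation (hW : IsTuple e n W ρ) {E : Over S} (sE tE : E ⟶ W)
    (hinj : ∀ (T : Over S) (r r' : T ⟶ E), r ≫ tE = r' ≫ tE → r ≫ sE = r' ≫ sE → r = r')
    (hrel : ∀ (T : Over S) (a b : T ⟶ W),
      (∃ r : T ⟶ E, r ≫ tE = a ∧ r ≫ sE = b) ↔ TRel e ρ a b) : IsEqvRel sE tE where
  injective := hinj
  equivalence T := by
    refine ⟨fun a => (hrel T a a).2 (TRel.refl a), fun {a b} h => ?_, fun {a b c} h h' => ?_⟩
    · exact (hrel T b a).2 (((hrel T a b).1 h).symm hW)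
    · exact (hrel T a c).2 (((hrel T a b).1 h).trans ((hrel T b c).1 h'))

/-- Permuting a tuple. -/
theorem IsTuple.exists_perm (hW : IsTuple e n W ρ) {T : Over S} (a : T ⟶ W)
    (σ : Equiv.Perm (Fin (n + 1))) :
    ∃ a' : T ⟶ W, (∀ k, a' ≫ ρ k = a ≫ ρ (σ k)) ∧ TRel e ρ a' a := by
  obtain ⟨a', ha'⟩ := hW.exists_lift T (fun k => a ≫ ρ (σ k))
    (fun k l => by
      rw [Functor.map_comp, Functor.map_comp, Category.assoc, Category.assoc, hW.comm])
    (fun k l hkl τ => hW.not_agreeAt a (fun h => hkl (σ.injective h)) τ)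
  refine ⟨a', ha', ?_, fun τ k => ⟨σ k, ?_⟩⟩
  · rw [ha' 0, Functor.map_comp, Functor.map_comp, Category.assoc, Category.assoc, hW.comm]
  · rw [ha' k]
    exact agreeAt_refl _ τ

/-- Equal members of a tuple have equal indices. -/
theorem IsTuple.index_injective (hW : IsTuple e n W ρ) {T : Over S} [Nonempty ↥T.left] (a : T ⟶ W)
    {k l : Fin (n + 1)} (h : a ≫ ρ k = a ≫ ρ l) : k = l := by
  by_contra hkl
  obtain ⟨τ⟩ := ‹Nonempty ↥T.left›
  refine hW.not_agreeAt a hkl τ ?_
  rw [h]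
  exact agreeAt_refl _ τ

/-- For field valued points, the relation says that the second tuple is a permutation of the
first. -/
theorem TRel.exists_eq_of_field {K : Type u} [Field K] {T : Over S}
    (hT : T.left = Spec (.of K)) {a b : T ⟶ W} (h : TRel e ρ a b) (k : Fin (n + 1)) :
    ∃ l, a ≫ ρ k = b ≫ ρ l := by
  obtain ⟨T₀, Tr, Th⟩ := T
  change T₀ = Spec (.of K) at hT
  subst hT
  obtain ⟨l, hl⟩ := h.2 (IsLocalRing.closedPoint K) k
  refine ⟨l, ?_⟩
  ext
  exact (agreeAt_field_iff _ _ _).1 hl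

section Degree

variable {E : Over S} (sE tE : E ⟶ W)

theorem strat_relation_eq_univ (hW : IsTuple e n W ρ)
    (hrel : ∀ (T : Over S) (a b : T ⟶ W),
      (∃ r : T ⟶ E, r ≫ tE = a ∧ r ≫ sE = b) ↔ TRel e ρ a b) :
    Strat sE.left (n + 1).factorial = Set.univ := by
  classical
  ext ω
  simp only [Set.mem_univ, iff_true]
  let y := W.left.fromSpecResidueField ω
  let T : Over S := Over.mk (y ≫ W.hom)
  let ŷ : T ⟶ W := Over.homMk y rfl
  have hne : Nonempty ↥T.left := ⟨IsLocalRing.closedPoint _⟩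
  choose a' ha' hrel' using fun σ : Equiv.Perm (Fin (n + 1)) => hW.exists_perm ŷ σ
  choose r hr1 hr2 using fun σ => (hrel T (a' σ) ŷ).2 (hrel' σ)
  have hinj : Function.Injective fun σ => (r σ).left := by
    intro σ σ' h
    have h1 : r σ = r σ' := by
      ext
      exact h
    have h2 : a' σ = a' σ' := by rw [← hr1 σ, ← hr1 σ', h1]
    ext k
    have h3 : ŷ ≫ ρ (σ k) = ŷ ≫ ρ (σ' k) := by rw [← ha' σ k, ← ha' σ' k, h2]
    exact congrArg _ (hW.index_injective ŷ h3)
  refine ⟨↥(W.left.residueField ω), inferInstance, y,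
    (Finset.univ : Finset (Equiv.Perm (Fin (n + 1)))).image (fun σ => (r σ).left),
    W.left.fromSpecResidueField_apply ω _, ?_, ?_⟩
  · intro x hx
    obtain ⟨σ, -, rfl⟩ := Finset.mem_image.1 hx
    have := congrArg (fun f => f.left) (hr2 σ)
    simp only [Over.comp_left] at this
    exact this
  · rw [Finset.card_image_of_injective _ hinj, Finset.card_univ, Fintype.card_perm,
      Fintype.card_fin]

theorem degLE_relation (hW : IsTuple e n W ρ)
    (hinj : ∀ (T : Over S) (r r' : T ⟶ E), r ≫ tE = r' ≫ tE → r ≫ sE = r' ≫ sE → r = r')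
    (hrel : ∀ (T : Over S) (a b : T ⟶ W),
      (∃ r : T ⟶ E, r ≫ tE = a ∧ r ≫ sE = b) ↔ TRel e ρ a b) :
    DegLE sE.left (n + 1).factorial := by
  classical
  intro K _ y s hs
  let T : Over S := Over.mk (y ≫ W.hom)
  let ŷ : T ⟶ W := Over.homMk y rfl
  have hne : Nonempty ↥T.left := ⟨IsLocalRing.closedPoint K⟩
  have hxw : ∀ x : {x // x ∈ s}, x.1 ≫ E.hom = T.hom := by
    intro x
    change _ = y ≫ W.hom
    rw [← hs x.1 x.2, Category.assoc, Over.w sE]
  let xh : {x // x ∈ s} → (T ⟶ E) := fun x => Over.homMk x.1 (hxw x)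
  have hxs : ∀ x, xh x ≫ sE = ŷ := by
    intro x
    ext
    exact hs x.1 x.2
  have hR : ∀ x, TRel e ρ (xh x ≫ tE) ŷ := fun x => (hrel T _ _).1 ⟨xh x, rfl, hxs x⟩
  choose c hc using fun x k => (hR x).exists_eq_of_field (K := K) rfl k
  have hcinj : ∀ x, Function.Injective (c x) := by
    intro x k k' hkk'
    have h1 := hc x k
    have h2 := hc x k'
    rw [← hkk', ← h1] at h2
    exact (hW.index_injective (xh x ≫ tE) h2).symm
  have hcbij : ∀ x, Function.Bijective (c x) := fun x =>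
    ⟨hcinj x, Finite.injective_iff_surjective.1 (hcinj x)⟩
  let F : {x // x ∈ s} → Equiv.Perm (Fin (n + 1)) := fun x => Equiv.ofBijective (c x) (hcbij x)
  have hF : Function.Injective F := by
    intro x x' h
    have hcc : c x = c x' := by
      funext k
      exact congrArg (fun σ : Equiv.Perm (Fin (n + 1)) => σ k) h
    have h1 : xh x ≫ tE = xh x' ≫ tE := by
      apply hW.hom_ext
      intro k
      rw [hc x k, hc x' k, hcc]
    have h2 : xh x = xh x' := hinj T _ _ h1 ((hxs x).trans (hxs x').symm)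
    apply Subtype.ext
    exact congrArg (fun f => f.left) h2
  have := Fintype.card_le_of_injective F hF
  rwa [Fintype.card_coe, Fintype.card_perm, Fintype.card_fin] at this

/-- The permutation relation is finite. -/
theorem isFinite_relation (hW : IsTuple e n W ρ) [Etale sE.left] [IsSeparated sE.left]
    (hinj : ∀ (T : Over S) (r r' : T ⟶ E), r ≫ tE = r' ≫ tE → r ≫ sE = r' ≫ sE → r = r')
    (hrel : ∀ (T : Over S) (a b : T ⟶ W),
      (∃ r : T ⟶ E, r ≫ tE = a ∧ r ≫ sE = b) ↔ TRel e ρ a b) : IsFinite sE.left :=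
  isFinite_of_exactDeg _ sE.left (strat_relation_eq_univ sE tE hW hrel)
    (degLE_relation sE tE hW hinj hrel)

end Degree

end Groth.Agent.H52.SymQuot
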