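import Groth.Agent.H53.ZMT.QAffZMT
import Groth.Agent.H40.GQ.InvNbhd
import Mathlib.AlgebraicGeometry.Morphisms.QuasiSeparated

/-!
# Finite sets of points of a scheme separated and locally quasi-finite over an affine scheme lie in
affine opens
-/

set_option autoImplicit false
universe u
open CategoryTheory CategoryTheory.Limits AlgebraicGeometry Opposite TopologicalSpace

namespace Groth.Agent.H52.SymQuot

/-- A finite set of points of a quasi-affine scheme lies in an affine open. -/
theorem exists_isAffineOpen_of_finite_of_isQuasiAffine (G : Scheme.{u}) [G.IsQuasiAffine]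
    (O : Set G) (hO : O.Finite) : ∃ V : G.Opens, IsAffineOpen V ∧ O ⊆ V := by
  let i := G.toSpecΓ
  obtain ⟨f, hfO, hfT⟩ := Groth.Agent.H40.GQ.exists_basicOpen_le_of_finite
    (isAffineOpen_top (Spec Γ(G, ⊤))) i.opensRange (i '' O) (hO.image _) (fun _ _ => trivial) (by
      rintro _ ⟨o, -, rfl⟩
      exact ⟨o, rfl⟩)
  refine ⟨i ⁻¹ᵁ (Spec Γ(G, ⊤)).basicOpen f,
    ((isAffineOpen_top (Spec Γ(G, ⊤))).basicOpen f).preimage_of_isOpenImmersion i hfO,
    fun o ho => ?_⟩
  exact hfT ⟨o, ho, rfl⟩

/-- A finite set of points of a scheme which is separated and locally quasi-finite over an affine scheme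
lies in an affine open. -/
theorem exists_isAffineOpen_of_finite_of_lqf {G T : Scheme.{u}} [IsAffine T] (f : G ⟶ T)
    [LocallyQuasiFinite f] [LocallyOfFiniteType f] [IsSeparated f] (O : Set G) (hO : O.Finite) :
    ∃ V : G.Opens, IsAffineOpen V ∧ O ⊆ V := by
  classical
  choose A hA hoA using fun o : G =>
    (exists_isAffineOpen_mem_and_subset (x := o) (U := ⊤) trivial)
  let W' : G.Opens := ⨆ o : O, A o.1
  have hW'c : IsCompact (W' : Set G) := by
    have : (W' : Set G) = ⋃ o : O, (A o.1 : Set G) := by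
      simp [W']
    rw [this]
    have : Finite O := hO
    exact isCompact_iUnion fun o => (hA o.1).isCompact
  have hOW' : O ⊆ W' := fun o ho => Opens.mem_iSup.2 ⟨⟨o, ho⟩, (hoA o).1⟩
  have : CompactSpace ↥W'.toScheme := isCompact_iff_compactSpace.1 hW'c
  have : QuasiCompact (W'.ι ≫ f) := inferInstance
  have hqa : W'.toScheme.IsQuasiAffine :=
    Groth.Agent.H53.ZMT.isQuasiAffine_of_lqf_separated (W'.ι ≫ f)
  obtain ⟨V, hV, hOV⟩ := exists_isAffineOpen_of_finite_of_isQuasiAffine W'.toScheme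
    (W'.ι ⁻¹' O) (hO.preimage (W'.ι.isOpenEmbedding.injective.injOn))
  refine ⟨W'.ι ''ᵁ V, hV.image_of_isOpenImmersion W'.ι, fun o ho => ?_⟩
  exact ⟨⟨o, hOW' ho⟩, hOV (by exact ho), rfl⟩

end Groth.Agent.H52.SymQuot
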