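import Groth.Agent.H52.SymQuotD
import Groth.Agent.H52.SymQuotE
import Groth.Agent.H40.GQ.EqvQuot
import Groth.Agent.H51.SpSep
import Groth.Agent.H52.Epi
import Groth.Agent.H50.LocPClass
import Groth.Agent.H51.EtSource
import Mathlib.AlgebraicGeometry.Morphisms.LocalFlatDescent

/-!
# The quotient of the scheme of tuples by the permutation relation
-/

set_option autoImplicit false
universe u
open CategoryTheory CategoryTheory.Limits AlgebraicGeometry Opposite

namespace Groth.Agent.H52.SymQuot

open AlgSp Groth.Agent.H53 Groth.Agent.H52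

variable {S : Scheme.{u}}

/-- **The symmetric quotient.**  For an etale chart `e : h_U ⟶ X` of an algebraic space from an affine
scheme, the scheme `W` of `(n+1)`-tuples of pairwise disjoint lifts has a quotient scheme `M` by the
permutation relation, finite etale under `W` and etale over `X`. -/
theorem exists_symQuot {X : Sp S} (hX : IsAlgSpace X) {U : Over S} [IsAffine U.left]
    (e : (yon S).obj U ⟶ X) (he : RepWith @Etale e) (n : ℕ) :
    ∃ (W : Over S) (ρ : Fin (n + 1) → (W ⟶ U)) (M : Over S) (m : W ⟶ M)
      (b : (yon S).obj M ⟶ X),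
      IsTuple e n W ρ ∧ Etale m.left ∧ Surjective m.left ∧ IsFinite m.left ∧
      RepWith @Etale b ∧ (yon S).map m ≫ b = (yon S).map (ρ 0) ≫ e ∧
      ∀ (T : Over S) (a a' : T ⟶ W), a ≫ m = a' ≫ m ↔ TRel e ρ a a' := by
  have hsep : RepWith @IsSeparated e :=
    Groth.Agent.H51.repWith_isSeparated_of_isSeparated e he.rep
  obtain ⟨W, ρ, hW⟩ := exists_isTuple e he hsep n
  obtain ⟨E, sE, tE, hsEe, hsEs, hinj, hrel⟩ := exists_relation hW he hsep
  have hEq : IsEqvRel sE tE := isEqvRel_of_relation hW sE tE hinj hrel
  have hfin : IsFinite sE.left := isFinite_relation sE tE hW hinj hrel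
  have hflat : Flat sE.left := inferInstance
  have hlfp : LocallyOfFinitePresentation sE.left := inferInstance
  have : Etale (ρ 0).left := hW.etale
  have : IsSeparated (ρ 0).left := hW.separated
  have : LocallyQuasiFinite (ρ 0).left := Groth.Agent.H50.locallyQuasiFinite_of_etale _
  have horb : ∀ x : W.left, ∃ V : W.left.Opens, IsAffineOpen V ∧
      ∀ r : E.left, sE.left r = x → tE.left r ∈ V := by
    intro x
    have hfib : (sE.left ⁻¹' {x}).Finite := sE.left.finite_preimage_singleton x
    obtain ⟨V, hV, hOV⟩ := exists_isAffineOpen_of_finite_of_lqf (ρ 0).left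
      (tE.left '' (sE.left ⁻¹' {x})) (hfib.image _)
    exact ⟨V, hV, fun r hr => hOV ⟨r, hr, rfl⟩⟩
  obtain ⟨M, m, hmfin, hmflat, hmlfp, hmsurj, hpb, -⟩ :=
    Groth.Agent.H40.GQ.exists_quotient_of_isEqvRel sE tE hEq horb
  -- `m` is etale by descent
  have hmet : Etale m.left :=
    MorphismProperty.of_isPullback_of_descendsAlong (P := @Etale)
      (Q := @Surjective ⊓ @Flat ⊓ @QuasiCompact) hpb.flip ⟨⟨hmsurj, hmflat⟩, inferInstance⟩ hsEe
  -- the kernel pair of `h_m`
  have hpbO : IsPullback tE sE m m := by
    refine IsPullback.of_map (Over.forget S) ?_ hpb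
    ext
    exact hpb.w
  have hpbY : IsPullback ((yon S).map tE) ((yon S).map sE) ((yon S).map m) ((yon S).map m) :=
    hpbO.map (yon S)
  have hepi : Epi ((yon S).map m) :=
    epi_of_repWith_fppf _ ((repWith_yon_map_iff _ _).2 hmflat) ((repWith_yon_map_iff _ _).2 hmlfp)
      ((repWith_yon_map_iff _ _).2 hmsurj)
  -- descend the map to `X`
  have hw : (yon S).map tE ≫ (yon S).map (ρ 0) ≫ e = (yon S).map sE ≫ (yon S).map (ρ 0) ≫ e := by
    have h1 : TRel e ρ tE sE := (hrel E tE sE).1 ⟨𝟙 E, Category.id_comp _, Category.id_comp _⟩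
    have := h1.1
    rw [Functor.map_comp, Functor.map_comp, Category.assoc, Category.assoc] at this
    exact this
  have hreg : IsRegularEpi ((yon S).map m) := IsRegularEpiCategory.regularEpiOfEpi _
  obtain ⟨b, hb⟩ := IsRegularEpi.exists_of_isKernelPair ((yon S).map m) hpbY
    ((yon S).map (ρ 0) ≫ e) hw
  -- `b` is etale
  have hbe : RepWith @Etale b := by
    refine ⟨hX.representable_from_yon b, ?_⟩
    intro T V g fst snd sq
    obtain ⟨q, rfl⟩ := (yon S).map_surjective fst
    -- pull back the cover `m`
    obtain ⟨V', m', q', sq'⟩ := exists_pullback_yon ((yon S).map q) ((yon S).map m)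
      ((repWith_yon_map_iff @Etale m).2 hmet).rep
    have hm'e : Etale m'.left :=
      prop_of_isPullback_yon sq' ((repWith_yon_map_iff @Etale m).2 hmet)
    have hm's : Surjective m'.left :=
      prop_of_isPullback_yon sq' ((repWith_yon_map_iff @Surjective m).2 hmsurj)
    -- the composite square
    have sqc : IsPullback ((yon S).map q') ((yon S).map (m' ≫ snd)) ((yon S).map m ≫ b) g := by
      rw [Functor.map_comp]
      exact sq'.flip.paste_vert sq
    have hwe : RepWith @Etale ((yon S).map m ≫ b) := by
      rw [hb]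
      exact (RepWith @Etale).comp_mem _ _ ((repWith_yon_map_iff _ _).2 hW.etale) he
    have hcomp : Etale (m' ≫ snd).left := hwe.property g _ _ sqc
    rw [Over.comp_left] at hcomp
    change Etale snd.left
    -- etale is local on the source for the etale topology
    exact Groth.Agent.H51.etale_of_comp_etale_surjective m'.left snd.left hcomp
  refine ⟨W, ρ, M, m, b, hW, hmet, hmsurj, hmfin, hbe, hb, fun T a a' => ?_⟩
  constructor
  · intro h
    have hl : a.left ≫ m.left = a'.left ≫ m.left := by
      rw [← Over.comp_left, ← Over.comp_left, h]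
    let r : T ⟶ E := Over.homMk (hpb.lift a.left a'.left hl) (by
      rw [← Over.w tE, ← Category.assoc, hpb.lift_fst, Over.w a])
    refine (hrel T a a').1 ⟨r, ?_, ?_⟩
    · ext
      exact hpb.lift_fst _ _ _
    · ext
      exact hpb.lift_snd _ _ _
  · intro h
    obtain ⟨r, rfl, rfl⟩ := (hrel T a a').2 h
    rw [Category.assoc, Category.assoc, hpbO.w]

end Groth.Agent.H52.SymQuot
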