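import Groth.Agent.H52.SymQuotF
import Groth.Agent.H52.EtDegC
import Groth.Agent.H52.Chart
import Groth.Agent.H51.SpOpen

/-!
# Points of the symmetric quotient
-/

set_option autoImplicit false
universe u
open CategoryTheory CategoryTheory.Limits AlgebraicGeometry Opposite

namespace Groth.Agent.H52.SymQuot

open AlgSp Groth.Agent.H53 Groth.Agent.H52 Groth.Agent.H52.EtDeg

/-- A field valued point lifts along a surjective morphism after a field extension. -/
theorem exists_lift_field_of_surjective {A B : Scheme.{u}} (m : A ⟶ B) (hm : Surjective m)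
    {L : Type u} [Field L] (v : Spec (.of L) ⟶ B) :
    ∃ (L₁ : Type u) (_ : Field L₁) (c : Spec (.of L₁) ⟶ Spec (.of L)) (w : Spec (.of L₁) ⟶ A),
      c ≫ v = w ≫ m := by
  obtain ⟨ω, hω⟩ := hm.surj (v (IsLocalRing.closedPoint L))
  obtain ⟨π, -, -⟩ := Scheme.Pullback.exists_preimage_pullback (f := v) (g := m)
    (IsLocalRing.closedPoint L) ω hω.symm
  refine ⟨(pullback v m).residueField π, inferInstance,
    (pullback v m).fromSpecResidueField π ≫ pullback.fst v m,
    (pullback v m).fromSpecResidueField π ≫ pullback.snd v m, ?_⟩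
  rw [Category.assoc, Category.assoc, pullback.condition]

variable {S : Scheme.{u}} {X : Sp S} {U R : Over S} {e : (yon S).obj U ⟶ X} {t s : R ⟶ U}
  (sq : IsPullback ((yon S).map t) ((yon S).map s) e e) {n : ℕ} {W : Over S}
  {ρ : Fin (n + 1) → (W ⟶ U)} {M : Over S} {m : W ⟶ M} {b : (yon S).obj M ⟶ X}

include sq in
/-- A point of the chart of degree at least `n + 1` gives a point of the symmetric quotient. -/
theorem exists_point_of_mem_strat (hW : IsTuple e n W ρ)
    (hb : (yon S).map m ≫ b = (yon S).map (ρ 0) ≫ e) (u₀ : ↥U.left)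
    (h : u₀ ∈ Strat s.left (n + 1)) :
    ∃ v : ↥M.left, Points.ofPt b v = Points.ofPt e u₀ := by
  classical
  obtain ⟨K, _, y, F, hy, hF, hc⟩ := h
  let T : Over S := Over.mk (y ≫ U.hom)
  let ŷ : T ⟶ U := Over.homMk y rfl
  let f : Fin (n + 1) ≃ {x // x ∈ F} := (F.equivFinOfCardEq hc).symm
  have hxw : ∀ k, (f k).1 ≫ R.hom = T.hom := by
    intro k
    change _ = y ≫ U.hom
    rw [← hF (f k).1 (f k).2, Category.assoc, Over.w s]
  let xh : Fin (n + 1) → (T ⟶ R) := fun k => Over.homMk (f k).1 (hxw k)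
  have hxs : ∀ k, xh k ≫ s = ŷ := by
    intro k
    ext
    exact hF (f k).1 (f k).2
  have hcomm0 : ∀ k, (yon S).map (xh k ≫ t) ≫ e = (yon S).map ŷ ≫ e := by
    intro k
    rw [Functor.map_comp, Category.assoc, sq.w, ← Category.assoc, ← Functor.map_comp, hxs]
  obtain ⟨φ, hφ⟩ := hW.exists_lift T (fun k => xh k ≫ t)
    (fun k l => (hcomm0 k).trans (hcomm0 l).symm)
    (fun k l hkl τ hag => by
      have h1 : (xh k ≫ t).left = (xh l ≫ t).left := (agreeAt_field_iff _ _ τ).1 hag
      have h2 : xh k ≫ t = xh l ≫ t := by ext; exact h1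
      have h3 : xh k = xh l := hom_ext_kernelPair sq _ _ h2 ((hxs k).trans (hxs l).symm)
      have h4 : (f k).1 = (f l).1 := congrArg (fun g => g.left) h3
      exact hkl (f.injective (Subtype.ext h4)))
  refine ⟨(φ ≫ m).left (IsLocalRing.closedPoint K), ?_⟩
  rw [← ofPt_yon_map_comp, Functor.map_comp, Category.assoc, hb, ← Category.assoc,
    ← Functor.map_comp, hφ 0, hcomm0 0, ofPt_yon_map_comp]
  exact congrArg _ hy

include sq in
/-- **Key property**: over a point of degree exactly `n + 1`, two field valued points of the symmetric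
quotient with the same image in `X` are equal. -/
theorem eq_of_comp_eq_of_notMem_strat (he : RepWith @Etale e) (hW : IsTuple e n W ρ)
    (hmsurj : Surjective m.left)
    (hb : (yon S).map m ≫ b = (yon S).map (ρ 0) ≫ e)
    (hmrel : ∀ (T : Over S) (a a' : T ⟶ W), a ≫ m = a' ≫ m ↔ TRel e ρ a a')
    (u₀ : ↥U.left) (hnot : u₀ ∉ Strat s.left (n + 2))
    {L : Type u} [Field L] (str : Spec (.of L) ⟶ S) (v₁ v₂ : Over.mk str ⟶ M)
    (h : (yon S).map v₁ ≫ b = (yon S).map v₂ ≫ b)
    (hx : Points.ofPt b (v₁.left (IsLocalRing.closedPoint L)) = Points.ofPt e u₀) : v₁ = v₂ := by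
  classical
  have hEq : IsEqvRel s t := (Groth.Agent.H51.isEtaleEqvRel_of_isPullback s t e he sq).toIsEqvRel
  -- lift the two points to `W` over a common field extension
  obtain ⟨L₁, _, c₁, w₁, hcw₁⟩ := exists_lift_field_of_surjective m.left hmsurj v₁.left
  obtain ⟨L₂, _, c₂, w₂, hcw₂⟩ := exists_lift_field_of_surjective m.left hmsurj v₂.left
  obtain ⟨L', _, d₁, d₂, hd⟩ := exists_common_field c₁ c₂
    (Subsingleton.elim (α := PrimeSpectrum L) _ _)
  let c : Spec (.of L') ⟶ Spec (.of L) := d₁ ≫ c₁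
  have hc₂ : d₂ ≫ c₂ = c := hd.symm
  let T' : Over S := Over.mk (c ≫ str)
  let ĉ : T' ⟶ Over.mk str := Over.homMk c rfl
  have hstr₁ : v₁.left ≫ M.hom = str := Over.w v₁
  have hstr₂ : v₂.left ≫ M.hom = str := Over.w v₂
  let ŵ₁ : T' ⟶ W := Over.homMk (d₁ ≫ w₁) (by
    change (d₁ ≫ w₁) ≫ W.hom = c ≫ str
    rw [← Over.w m, Category.assoc, ← Category.assoc w₁, ← hcw₁, Category.assoc, hstr₁,
      ← Category.assoc])
  let ŵ₂ : T' ⟶ W := Over.homMk (d₂ ≫ w₂) (by
    change (d₂ ≫ w₂) ≫ W.hom = c ≫ str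
    rw [← Over.w m, Category.assoc, ← Category.assoc w₂, ← hcw₂, Category.assoc, hstr₂,
      ← Category.assoc, hc₂])
  have hwm₁ : ŵ₁ ≫ m = ĉ ≫ v₁ := by
    ext
    change (d₁ ≫ w₁) ≫ m.left = c ≫ v₁.left
    rw [Category.assoc, ← hcw₁, ← Category.assoc]
  have hwm₂ : ŵ₂ ≫ m = ĉ ≫ v₂ := by
    ext
    change (d₂ ≫ w₂) ≫ m.left = c ≫ v₂.left
    rw [Category.assoc, ← hcw₂, ← Category.assoc, hc₂]
  -- the two tuples lie over the same point of `X`
  have hX₁ : ∀ k, (yon S).map (ŵ₁ ≫ ρ k) ≫ e = (yon S).map ĉ ≫ (yon S).map v₁ ≫ b := by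
    intro k
    rw [Functor.map_comp, Category.assoc, hW.comm k 0, ← hb, ← Category.assoc, ← Functor.map_comp,
      hwm₁, Functor.map_comp, Category.assoc]
  have hX₂ : ∀ k, (yon S).map (ŵ₂ ≫ ρ k) ≫ e = (yon S).map ĉ ≫ (yon S).map v₁ ≫ b := by
    intro k
    rw [Functor.map_comp, Category.assoc, hW.comm k 0, ← hb, ← Category.assoc, ← Functor.map_comp,
      hwm₂, Functor.map_comp, Category.assoc, h]
  have hne : Nonempty ↥T'.left := ⟨IsLocalRing.closedPoint L'⟩
  -- the relation
  have hrel : TRel e ρ ŵ₁ ŵ₂ := by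
    refine ⟨(hX₁ 0).trans (hX₂ 0).symm, fun τ k => ?_⟩
    by_contra hcon
    push Not at hcon
    have hcon' : ∀ l, ŵ₁ ≫ ρ k ≠ ŵ₂ ≫ ρ l := by
      intro l heq
      exact hcon l ((agreeAt_field_iff _ _ τ).2 (congrArg (fun g => g.left) heq))
    -- `n + 2` distinct lifts
    let z : Fin (n + 2) → (T' ⟶ U) :=
      Fin.cases (ŵ₁ ≫ ρ k) (fun l => ŵ₂ ≫ ρ l)
    have hz0 : z 0 = ŵ₁ ≫ ρ k := rfl
    have hzs : ∀ l : Fin (n + 1), z l.succ = ŵ₂ ≫ ρ l := fun l => rfl
    have hzX : ∀ j, (yon S).map (z j) ≫ e = (yon S).map (ŵ₂ ≫ ρ 0) ≫ e := by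
      intro j
      refine Fin.cases ?_ (fun l => ?_) j
      · rw [hz0]; exact (hX₁ k).trans (hX₂ 0).symm
      · rw [hzs]; exact (hX₂ l).trans (hX₂ 0).symm
    have hzinj : Function.Injective z := by
      intro j j' hjj'
      induction j using Fin.cases with
      | zero =>
        induction j' using Fin.cases with
        | zero => rfl
        | succ l' => exact (hcon' l' hjj').elim
      | succ l =>
        induction j' using Fin.cases with
        | zero => exact (hcon' l hjj'.symm).elim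
        | succ l' =>
          rw [hzs, hzs] at hjj'
          rw [hW.index_injective ŵ₂ hjj']
    choose r hr1 hr2 using fun j => exists_lift_kernelPair sq (z j) (ŵ₂ ≫ ρ 0) (hzX j)
    have hrinj : Function.Injective fun j => (r j).left := by
      intro j j' hjj'
      have h1 : r j = r j' := by ext; exact hjj'
      exact hzinj (by rw [← hr1 j, ← hr1 j', h1])
    have hmem : (ŵ₂ ≫ ρ 0).left (IsLocalRing.closedPoint L') ∈ Strat s.left (n + 2) := by
      refine ⟨L', inferInstance, (ŵ₂ ≫ ρ 0).left,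
        (Finset.univ : Finset (Fin (n + 2))).image (fun j => (r j).left), rfl, ?_, ?_⟩
      · intro x hx'
        obtain ⟨j, -, rfl⟩ := Finset.mem_image.1 hx'
        have := congrArg (fun g => g.left) (hr2 j)
        simp only [Over.comp_left] at this
        rw [Over.comp_left]
        exact this
      · rw [Finset.card_image_of_injective _ hrinj, Finset.card_univ, Fintype.card_fin]
    -- this point of the chart lies over the same point of `X` as `u₀`
    have hpt : Points.ofPt e ((ŵ₂ ≫ ρ 0).left (IsLocalRing.closedPoint L')) = Points.ofPt e u₀ := by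
      rw [← ofPt_yon_map_comp, hX₂ 0, ofPt_yon_map_comp, ofPt_yon_map_comp, ← hx]
      congr 2
      exact Subsingleton.elim (α := PrimeSpectrum L) _ _
    obtain ⟨r₀, hr₀1, hr₀2⟩ := (ofPt_eq_iff_of_isPullback sq _ _).1 hpt
    have := (strat_invariant s t hEq (n + 2) r₀).2 (hr₀1 ▸ hmem)
    rw [hr₀2] at this
    exact hnot this
  have hfin : ŵ₁ ≫ m = ŵ₂ ≫ m := (hmrel T' ŵ₁ ŵ₂).2 hrel
  rw [hwm₁, hwm₂] at hfin
  have hl : c ≫ v₁.left = c ≫ v₂.left := by
    have := congrArg (fun g => g.left) hfin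
    simp only [Over.comp_left] at this
    exact this
  have hepi : Epi c := epi_of_fields c
  ext
  exact (cancel_epi c).1 hl

end Groth.Agent.H52.SymQuot
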