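import Mathlib

set_option autoImplicit false
universe u
open TensorProduct

namespace Groth.Agent.H52.TensorDiag

/-- Finitely many extension fields of `k` embed in a common one. -/
theorem exists_common_overfield (k : Type u) [Field k] (K : ℕ → Type u) [∀ n, Field (K n)]
    [∀ n, Algebra k (K n)] (N : ℕ) :
    ∃ (Ω : Type u) (_ : Field Ω) (_ : Algebra k Ω), ∀ n < N, Nonempty (K n →ₐ[k] Ω) := by
  induction N with
  | zero => exact ⟨k, inferInstance, inferInstance, fun n hn => absurd hn (Nat.not_lt_zero n)⟩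
  | succ N ih =>
    obtain ⟨Ω, _, _, h⟩ := ih
    have : Nontrivial (Ω ⊗[k] K N) :=
      (Algebra.TensorProduct.includeLeft_injective (R := k) (S := k) (A := Ω) (B := K N)
        (algebraMap k (K N)).injective).nontrivial
    obtain ⟨M, hM⟩ := Ideal.exists_maximal (Ω ⊗[k] K N)
    let _ : Field ((Ω ⊗[k] K N) ⧸ M) := Ideal.Quotient.field M
    refine ⟨(Ω ⊗[k] K N) ⧸ M, inferInstance, inferInstance, fun n hn => ?_⟩
    rcases Nat.lt_succ_iff_lt_or_eq.1 hn with h1 | rfl
    · obtain ⟨σ⟩ := h n h1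
      exact ⟨((Ideal.Quotient.mkₐ k M).comp Algebra.TensorProduct.includeLeft).comp σ⟩
    · exact ⟨(Ideal.Quotient.mkₐ k M).comp Algebra.TensorProduct.includeRight⟩

/-- An identity matrix of size `r+1` is not a product of an `(r+1) × r` and an `r × (r+1)`
matrix. -/
theorem false_of_dot_eq_one {Ω : Type*} [Field Ω] {ι : Type*} [Fintype ι]
    (α β : Fin (Fintype.card ι + 1) → ι → Ω)
    (h : ∀ j j', ∑ i, α j i * β j' i = if j = j' then 1 else 0) : False := by
  classical
  have h1 : (Matrix.of α) * (Matrix.of β).transpose =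
      (1 : Matrix (Fin (Fintype.card ι + 1)) (Fin (Fintype.card ι + 1)) Ω) := by
    ext j j'
    simp [Matrix.mul_apply, Matrix.one_apply, h]
  have h2 := Matrix.rank_mul_le_left (Matrix.of α) (Matrix.of β).transpose
  rw [h1, Matrix.rank_one, Fintype.card_fin] at h2
  have h3 := Matrix.rank_le_card_width (Matrix.of α)
  omega

/-- The comparison map `A ⊗ A → K n ⊗_k K m`. -/
noncomputable abbrev psi (A k : Type u) [CommRing A] [Field k] (K : ℕ → Type u)
    [∀ n, Field (K n)] [∀ n, Algebra A (K n)] [∀ n, Algebra k (K n)] (n m : ℕ) :=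
  (Algebra.TensorProduct.lift
    ((Algebra.TensorProduct.includeLeft (R := k) (S := ℤ) (A := K n)
      (B := K m)).toRingHom.toIntAlgHom.comp (Algebra.ofId A (K n)).toRingHom.toIntAlgHom)
    ((Algebra.TensorProduct.includeRight (R := k) (A := K n)
      (B := K m)).toRingHom.toIntAlgHom.comp (Algebra.ofId A (K m)).toRingHom.toIntAlgHom)
    (fun _ _ => Commute.all _ _)).toRingHom

theorem psi_tmul (A k : Type u) [CommRing A] [Field k] (K : ℕ → Type u)
    [∀ n, Field (K n)] [∀ n, Algebra A (K n)] [∀ n, Algebra k (K n)] (n m : ℕ) (a b : A) :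
    psi A k K n m (a ⊗ₜ b) = algebraMap A (K n) a ⊗ₜ[k] algebraMap A (K m) b := by
  simp [psi, Algebra.TensorProduct.lift_tmul]

/-- An element of `A ⊗ A` vanishing on all the off-diagonal tensor spectra does not multiply
to `1`. -/
theorem lmul_ne_one (A k : Type u) [CommRing A] [Field k] (K : ℕ → Type u)
    [∀ n, Field (K n)] [∀ n, Algebra A (K n)] [∀ n, Algebra k (K n)] (f : A ⊗[ℤ] A)
    (hf : ∀ n m, n ≠ m → ∀ P : PrimeSpectrum (K n ⊗[k] K m), psi A k K n m f ∈ P.asIdeal) :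
    Algebra.TensorProduct.lmul' (S := A) ℤ f ≠ 1 := by
  intro h1
  obtain ⟨Sf, rfl⟩ := TensorProduct.exists_finset f
  obtain ⟨Ω, _, _, hσ⟩ := exists_common_overfield k K (Fintype.card ↥Sf + 1)
  let σ : ∀ j : Fin (Fintype.card ↥Sf + 1), K j.1 →ₐ[k] Ω := fun j => (hσ j.1 j.2).some
  refine false_of_dot_eq_one (ι := ↥Sf)
    (fun j i => σ j (algebraMap A (K j.1) i.1.1)) (fun j i => σ j (algebraMap A (K j.1) i.1.2))
    (fun j j' => ?_)
  by_cases hjj : j = j'
  · subst hjj
    rw [if_pos rfl]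
    have h2 : ∑ i : ↥Sf, σ j (algebraMap A (K j.1) i.1.1) * σ j (algebraMap A (K j.1) i.1.2) =
        σ j (algebraMap A (K j.1) (∑ i ∈ Sf, i.1 * i.2)) := by
      rw [← Finset.sum_coe_sort Sf, map_sum, map_sum]
      simp
    rw [h2]
    have h3 : (∑ i ∈ Sf, i.1 * i.2 : A) = 1 := by
      rw [← h1, map_sum]
      simp
    rw [h3, map_one, map_one]
  · rw [if_neg hjj]
    have hne : j.1 ≠ j'.1 := fun h => hjj (Fin.ext h)
    let θ : K j.1 ⊗[k] K j'.1 →ₐ[k] Ω := Algebra.TensorProduct.productMap (σ j) (σ j')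
    have := hf j.1 j'.1 hne ⟨RingHom.ker θ.toRingHom, RingHom.ker_isPrime _⟩
    have h4 : θ (psi A k K j.1 j'.1 (∑ i ∈ Sf, i.1 ⊗ₜ[ℤ] i.2)) = 0 := this
    rw [map_sum, map_sum, ← Finset.sum_coe_sort Sf] at h4
    rw [← h4]
    refine Finset.sum_congr rfl (fun i _ => ?_)
    rw [psi_tmul]
    simp [θ]

end Groth.Agent.H52.TensorDiag
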