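import Mathlib.RingTheory.Ideal.GoingUp
import Mathlib.RingTheory.AlgebraicIndependent.Transcendental
import Mathlib.AlgebraicGeometry.ResidueField
import Mathlib.AlgebraicGeometry.AffineScheme
import Groth.Agent.H51.ResTrdeg2

set_option autoImplicit false
universe u
open CategoryTheory CategoryTheory.Limits AlgebraicGeometry Opposite Polynomial

namespace Groth.Agent.H52.TrdegSpec

/-- Clearing denominators of a polynomial over a field `K` whose elements are all fractions of
elements in the image of `evA`. -/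
theorem exists_clear_denominators {A K : Type*} [CommRing A] [Field K] (evA : A →+* K)
    (hfrac : ∀ k : K, ∃ a s : A, evA s ≠ 0 ∧ k * evA s = evA a) (P : K[X]) :
    ∃ (s : A) (P' : A[X]), evA s ≠ 0 ∧ P'.map evA = C (evA s) * P := by
  induction P using Polynomial.induction_on' with
  | add p q hp hq =>
    obtain ⟨s₁, P₁, hs₁, h₁⟩ := hp
    obtain ⟨s₂, P₂, hs₂, h₂⟩ := hq
    refine ⟨s₁ * s₂, C s₂ * P₁ + C s₁ * P₂, ?_, ?_⟩
    · rw [map_mul]; exact mul_ne_zero hs₁ hs₂
    · simp only [Polynomial.map_add, Polynomial.map_mul, Polynomial.map_C, h₁, h₂, map_mul]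
      ring
  | monomial n k =>
    obtain ⟨a, s, hs, hk⟩ := hfrac k
    refine ⟨s, monomial n a, hs, ?_⟩
    rw [Polynomial.map_monomial, C_mul_monomial, ← hk, mul_comm]

/-- Pure algebra: two comparable primes over the same prime, the smaller having residue field
algebraic over that of the base prime, coincide. -/
theorem ideal_eq_of_le_of_algebraic {A B K L : Type*} [CommRing A] [CommRing B] [Field K] [Field L]
    (φ : A →+* B) (q₁ q' : Ideal B) [q₁.IsPrime] (hle : q₁ ≤ q')
    (hcomap : q'.comap φ ≤ q₁.comap φ)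
    (evA : A →+* K) (evB : B →+* L) (ι : K →+* L) (hι : ι.comp evA = evB.comp φ)
    (hker : ∀ b, evB b = 0 ↔ b ∈ q₁)
    (hfrac : ∀ k : K, ∃ a s : A, evA s ≠ 0 ∧ k * evA s = evA a)
    (halg : ∀ l : L, ∃ P : K[X], P ≠ 0 ∧ P.eval₂ ι l = 0) : q₁ = q' := by
  refine le_antisymm hle ?_
  intro b hb'
  by_contra hb₁
  obtain ⟨P, hP0, hP⟩ := halg (evB b)
  obtain ⟨s, P', hs, hP'⟩ := exists_clear_denominators evA hfrac P
  have hev : evB (P'.eval₂ φ b) = 0 := by
    rw [Polynomial.hom_eval₂, ← hι, ← Polynomial.eval₂_map, hP', Polynomial.eval₂_mul, hP,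
      mul_zero]
  have hmem : P'.eval₂ φ b ∈ q₁ := (hker _).1 hev
  have hne : P'.map (Ideal.Quotient.mk (q₁.comap φ)) ≠ 0 := by
    intro h0
    have : P'.map evA = 0 := by
      ext i
      have hi : (P'.map (Ideal.Quotient.mk (q₁.comap φ))).coeff i = 0 := by rw [h0]; simp
      rw [Polynomial.coeff_map, Ideal.Quotient.eq_zero_iff_mem, Ideal.mem_comap] at hi
      rw [Polynomial.coeff_map, Polynomial.coeff_zero]
      -- evB (φ a) = 0 → evA a = 0
      have h1 : evB (φ (P'.coeff i)) = 0 := (hker _).2 hi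
      have h2 : ι (evA (P'.coeff i)) = 0 := by
        have := congrArg (fun g => g (P'.coeff i)) hι
        simpa [h1] using this
      exact (map_eq_zero ι).1 h2
    rw [hP'] at this
    exact (mul_ne_zero (by simpa using hs) hP0) this
  have hlt := Ideal.comap_lt_comap_of_root_mem_sdiff (f := φ) hle ⟨hb', hb₁⟩ hne hmem
  exact (not_le_of_gt hlt) hcomap


/-- Every element of the residue field at a point of an affine scheme is a fraction of
evaluations of global sections. -/
theorem exists_frac_Γevaluation {V : Scheme.{u}} [IsAffine V] (v : V) (k : V.residueField v) :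
    ∃ a s : Γ(V, ⊤), (V.Γevaluation v).hom s ≠ 0 ∧ k * (V.Γevaluation v).hom s =
      (V.Γevaluation v).hom a := by
  have hU : IsAffineOpen (⊤ : V.Opens) := isAffineOpen_top V
  obtain ⟨t, rfl⟩ := V.residue_surjective v k
  let v' : (⊤ : V.Opens) := ⟨v, trivial⟩
  let _ := V.presheaf.algebra_section_stalk v'
  have hloc := hU.isLocalization_stalk v'
  obtain ⟨⟨a, s⟩, has⟩ := IsLocalization.surj (hU.primeIdealOf v').asIdeal.primeCompl t
  have hunit : IsUnit (V.presheaf.germ ⊤ v trivial s.1) :=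
    IsLocalization.map_units (M := (hU.primeIdealOf v').asIdeal.primeCompl)
      (V.presheaf.stalk v) s
  refine ⟨a, s.1, ?_, ?_⟩
  · exact (hunit.map (V.residue v).hom).ne_zero
  · have := congrArg (V.residue v).hom has
    rw [map_mul] at this
    exact this


/-- Points of an affine scheme are determined by the kernels of their evaluation maps. -/
theorem eq_of_ker_Γevaluation_le {W : Scheme.{u}} [IsAffine W] (w₁ w' : W)
    (hs : w₁ ⤳ w')
    (h : RingHom.ker (W.Γevaluation w').hom ≤ RingHom.ker (W.Γevaluation w₁).hom) : w₁ = w' := by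
  refine (Inseparable.eq ?_)
  refine le_antisymm hs ?_
  change w' ⤳ w₁
  rw [specializes_iff_forall_open]
  intro s hso hw₁
  obtain ⟨_, ⟨_, ⟨b, rfl⟩, rfl⟩, hb, hbs⟩ :=
    (isBasis_basicOpen W).exists_subset_of_mem_open hw₁ hso
  refine hbs ?_
  change w' ∈ W.basicOpen b
  rw [← W.evaluation_ne_zero_iff_mem_basicOpen (U := ⊤) w' trivial]
  intro h0
  have h1 : (W.Γevaluation w₁).hom b = 0 := h h0
  exact ((W.evaluation_ne_zero_iff_mem_basicOpen (U := ⊤) w₁ trivial b).2 hb) h1

theorem ker_Γevaluation_le_of_specializes {W : Scheme.{u}} (w₁ w' : W) (hs : w₁ ⤳ w') :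
    RingHom.ker (W.Γevaluation w₁).hom ≤ RingHom.ker (W.Γevaluation w').hom := by
  intro b hb
  by_contra hb'
  have h1 : w' ∈ W.basicOpen b :=
    (W.evaluation_ne_zero_iff_mem_basicOpen (U := ⊤) w' trivial b).1 hb'
  have h2 : w₁ ∈ W.basicOpen b := hs.mem_open (W.basicOpen b).2 h1
  exact ((W.evaluation_ne_zero_iff_mem_basicOpen (U := ⊤) w₁ trivial b).2 h2) hb

/-- Affine case: a point with residue field algebraic over the residue field of its image has no
proper specialization in its fibre. -/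
theorem eq_of_specializes_of_resTrdeg_zero_affine {W V : Scheme.{u}} [IsAffine W] [IsAffine V]
    (h : W ⟶ V) (w₁ w' : W) (hs : w₁ ⤳ w') (he : h w₁ = h w')
    (ht : Dual3.resTrdeg h w₁ = 0) : w₁ = w' := by
  refine eq_of_ker_Γevaluation_le w₁ w' hs (le_of_eq ?_)
  have hprime : (RingHom.ker (W.Γevaluation w₁).hom).IsPrime := RingHom.ker_isPrime _
  have hι : (h.residueFieldMap w₁).hom.comp (V.Γevaluation (h w₁)).hom =
      (W.Γevaluation w₁).hom.comp h.appTop.hom := by
    have := Scheme.Γevaluation_naturality h w₁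
    exact congrArg CommRingCat.Hom.hom this
  have hι' : (h.residueFieldMap w').hom.comp (V.Γevaluation (h w')).hom =
      (W.Γevaluation w').hom.comp h.appTop.hom := by
    have := Scheme.Γevaluation_naturality h w'
    exact congrArg CommRingCat.Hom.hom this
  have hc : ∀ w : W, (RingHom.ker (W.Γevaluation w).hom).comap h.appTop.hom =
      RingHom.ker (V.Γevaluation (h w)).hom := by
    intro w
    ext a
    have := congrArg (fun g => g a) (congrArg CommRingCat.Hom.hom
      (Scheme.Γevaluation_naturality h w))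
    simp only [Ideal.mem_comap, RingHom.mem_ker]
    change (h.residueFieldMap w).hom ((V.Γevaluation (h w)).hom a) =
      (W.Γevaluation w).hom (h.appTop.hom a) at this
    rw [← this, map_eq_zero]
  symm
  refine ideal_eq_of_le_of_algebraic h.appTop.hom _ _
    (ker_Γevaluation_le_of_specializes w₁ w' hs) ?_ (V.Γevaluation (h w₁)).hom
    (W.Γevaluation w₁).hom (h.residueFieldMap w₁).hom hι (fun b => Iff.rfl)
    (exists_frac_Γevaluation (h w₁)) ?_
  · rw [hc, hc, he]
  · intro l
    let _ := (h.residueFieldMap w₁).hom.toAlgebra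
    have halg : Algebra.IsAlgebraic (V.residueField (h w₁)) (W.residueField w₁) :=
      trdeg_eq_zero_iff.1 ht
    obtain ⟨P, hP0, hP⟩ := halg.isAlgebraic l
    exact ⟨P, hP0, hP⟩


/-- A point whose residue field is algebraic over the residue field of its image has no proper
specialization inside its fibre. -/
theorem eq_of_specializes_of_resTrdeg_zero {W V : Scheme.{u}}
    (h : W ⟶ V) (w₁ w' : W) (hs : w₁ ⤳ w') (he : h w₁ = h w')
    (ht : Dual3.resTrdeg h w₁ = 0) : w₁ = w' := by
  obtain ⟨_, ⟨V₀, hV₀, rfl⟩, hvV₀, -⟩ :=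
    V.isBasis_affineOpens.exists_subset_of_mem_open (Set.mem_univ (h w')) isOpen_univ
  obtain ⟨_, ⟨W₀, hW₀, rfl⟩, hwW₀, hWV⟩ :=
    W.isBasis_affineOpens.exists_subset_of_mem_open (show w' ∈ (h ⁻¹ᵁ V₀ : Set W) from hvV₀)
      (h ⁻¹ᵁ V₀).2
  have hw₁W₀ : w₁ ∈ W₀ := hs.mem_open W₀.2 hwW₀
  have e : W₀ ≤ h ⁻¹ᵁ V₀ := hWV
  have : IsAffine ↑W₀ := hW₀
  have : IsAffine ↑V₀ := hV₀
  let h' : (W₀ : Scheme.{u}) ⟶ V₀ := h.resLE V₀ W₀ e
  have hcomm : h' ≫ (Scheme.Opens.ι V₀) = (Scheme.Opens.ι W₀) ≫ h := Scheme.Hom.resLE_comp_ι h e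
  let z₁ : W₀ := ⟨w₁, hw₁W₀⟩
  let z' : W₀ := ⟨w', hwW₀⟩
  have hz : z₁ ⤳ z' := by
    refine ((Scheme.Opens.ι W₀).isOpenEmbedding.isInducing.specializes_iff).1 ?_
    exact hs
  have hez : h' z₁ = h' z' := by
    apply (Scheme.Opens.ι V₀).isOpenEmbedding.injective
    have h1 : (Scheme.Opens.ι V₀) (h' z₁) = h ((Scheme.Opens.ι W₀) z₁) := by
      rw [← Scheme.Hom.comp_apply, hcomm, Scheme.Hom.comp_apply]
    have h2 : (Scheme.Opens.ι V₀) (h' z') = h ((Scheme.Opens.ι W₀) z') := by
      rw [← Scheme.Hom.comp_apply, hcomm, Scheme.Hom.comp_apply]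
    rw [h1, h2]
    exact he
  have htz : Dual3.resTrdeg h' z₁ = 0 := by
    have h1 := H51.resTrdeg_comp h' (Scheme.Opens.ι V₀) z₁
    have h2 := H51.resTrdeg_comp (Scheme.Opens.ι W₀) h z₁
    rw [hcomm, h2] at h1
    have h3 : Dual3.resTrdeg h ((Scheme.Opens.ι W₀) z₁) = 0 := ht
    rw [h3, H51.resTrdeg_eq_zero_of_etale (Scheme.Opens.ι W₀) z₁, add_zero] at h1
    exact (add_eq_zero.1 h1.symm).2
  have := eq_of_specializes_of_resTrdeg_zero_affine h' z₁ z' hz hez htz
  exact congrArg Subtype.val this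

end Groth.Agent.H52.TrdegSpec
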