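import Mathlib

set_option autoImplicit false
universe u
open CategoryTheory AlgebraicGeometry

namespace Groth.Agent.H52.UBF

/-- A morphism to the spectrum of a field is finite of degree at most `n`. -/
def FinDegLE {K : Type u} [Field K] (n : ℕ) {T : Scheme.{u}}
    (c : T ⟶ Spec (CommRingCat.of K)) : Prop :=
  IsFinite c ∧ ∀ s, c.finrank s ≤ n

instance {K : Type u} [Field K] : Subsingleton ↥(Spec (CommRingCat.of K)) :=
  inferInstanceAs (Subsingleton (PrimeSpectrum K))

instance {K : Type u} [Field K] {T : Scheme.{u}} (c : T ⟶ Spec (CommRingCat.of K)) : Flat c :=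
  inferInstance

/-- Normal form of an affine morphism to the spectrum of a field. -/
theorem exists_algebra_of_isAffineHom {K : Type u} [Field K] {T : Scheme.{u}}
    (c : T ⟶ Spec (CommRingCat.of K)) [IsAffineHom c] :
    ∃ (A : Type u) (_ : CommRing A) (_ : Algebra K A) (e : T ≅ Spec (CommRingCat.of A)),
      c = e.hom ≫ Spec.map (CommRingCat.ofHom (algebraMap K A)) := by
  have : IsAffine T := isAffine_of_isAffineHom c
  let φ : CommRingCat.of K ⟶ Γ(T, ⊤) := (Scheme.ΓSpecIso (CommRingCat.of K)).inv ≫ c.appTop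
  let _ : Algebra K Γ(T, ⊤) := φ.hom.toAlgebra
  refine ⟨Γ(T, ⊤), inferInstance, inferInstance, T.isoSpec, ?_⟩
  have h1 : CommRingCat.ofHom (algebraMap K Γ(T, ⊤)) = φ := rfl
  rw [h1, Spec.map_comp, ← Scheme.isoSpec_Spec_inv, Scheme.isoSpec_hom_naturality_assoc,
    Iso.hom_inv_id, Category.comp_id]

theorem finDegLE_SpecMap_iff {K A : Type u} [Field K] [CommRing A] [Algebra K A] (n : ℕ) :
    FinDegLE n (Spec.map (CommRingCat.ofHom (algebraMap K A))) ↔
      Module.Finite K A ∧ Module.finrank K A ≤ n := by
  unfold FinDegLE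
  rw [IsFinite.SpecMap_iff]
  change (algebraMap K A).Finite ∧ _ ↔ _
  rw [RingHom.finite_algebraMap]
  refine and_congr_right fun hfin => ?_
  have h1 : ∀ s, Scheme.Hom.finrank (Spec.map (CommRingCat.ofHom (algebraMap K A))) s =
      Module.finrank K A := by
    intro s
    rw [Scheme.Hom.finrank_SpecMap_algebraMap, Module.rankAtStalk_eq_finrank_of_free]
    rfl
  constructor
  · intro h
    rw [← h1 (IsLocalRing.closedPoint K)]
    exact h _
  · intro h s
    rw [h1]
    exact h

theorem finDegLE_iso_comp {K : Type u} [Field K] (n : ℕ) {T T' : Scheme.{u}} (e : T' ≅ T)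
    (c : T ⟶ Spec (CommRingCat.of K)) : FinDegLE n (e.hom ≫ c) ↔ FinDegLE n c := by
  unfold FinDegLE
  rw [MorphismProperty.cancel_left_of_respectsIso @IsFinite]
  refine and_congr_right fun hfin => ?_
  rw [Scheme.Hom.finrank_comp_left_of_isIso]

/-- The number of points of a scheme finite of degree at most `n` over a field is at most `n`. -/
theorem encard_le_of_finDegLE {K : Type u} [Field K] (n : ℕ) {T : Scheme.{u}}
    (c : T ⟶ Spec (CommRingCat.of K)) (h : FinDegLE n c) : (Set.univ : Set ↥T).encard ≤ n := by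
  have := h.1
  obtain ⟨A, _, _, e, rfl⟩ := exists_algebra_of_isAffineHom c
  rw [finDegLE_iso_comp, finDegLE_SpecMap_iff] at h
  obtain ⟨hfin, hn⟩ := h
  have hArt : IsArtinianRing A := IsArtinianRing.of_finite K A
  have : Finite (PrimeSpectrum A) := inferInstance
  have : Fintype (PrimeSpectrum A) := Fintype.ofFinite _
  have hsum := IsArtinianRing.finrank_eq_sum_primeSpectrum (R := A) K
  have hcard : Fintype.card (PrimeSpectrum A) ≤ Module.finrank K A := by
    rw [hsum]
    calc Fintype.card (PrimeSpectrum A) = ∑ _p : PrimeSpectrum A, 1 := by simp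
      _ ≤ _ := Finset.sum_le_sum (fun p _ => ?_)
    have : Module.Finite K (Localization.AtPrime p.asIdeal) :=
      Module.Finite.of_surjective (Algebra.algHom K A (Localization.AtPrime p.asIdeal)).toLinearMap
        (IsArtinianRing.localization_surjective p.asIdeal.primeCompl _)
    exact Module.finrank_pos
  have hequiv : (Set.univ : Set ↥T).encard = (Set.univ : Set (PrimeSpectrum A)).encard := by
    rw [Set.encard_univ, Set.encard_univ]
    exact ENat.card_congr e.hom.homeomorph.toEquiv
  rw [hequiv, Set.encard_univ, ENat.card_eq_coe_fintype_card]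
  exact_mod_cast hcard.trans hn

end Groth.Agent.H52.UBF
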