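import Groth.Agent.H52.UBF0
import Groth.Agent.H52.Special
import Groth.Prelude.Def_W4decUnivBdd

set_option autoImplicit false
universe u
open CategoryTheory CategoryTheory.Limits AlgebraicGeometry Opposite

namespace Groth.Agent.H52

open AlgSp UBF

variable {S : Scheme.{u}}

/-- S10428 for sheaves. -/
theorem encard_fibre_le_of_degFibresLE {X : Sp S} (hXa : IsAlgSpace X) {U : Over S}
    (φ : (yon S).obj U ⟶ X) (n : ℕ) (hn : W4dec.DegFibresLE n φ) (x : Points X) :
    (Points.ofPt φ ⁻¹' {x}).encard ≤ n := by
  induction x using Points.ind with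
  | h q =>
  obtain ⟨Z, a, b, hpb, hrange⟩ := exists_fibre_scheme q φ (hXa.representable_from_yon φ)
  have h1 : FinDegLE n b.left := hn q Z b _ hpb.flip
  rw [← hrange, ← Set.image_univ]
  exact (Set.encard_image_le _ _).trans (encard_le_of_finDegLE n b.left h1)

end Groth.Agent.H52
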