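import Groth.Agent.H52.UBF9
import Groth.Agent.H52.QCAtlas

set_option autoImplicit false
universe u
open CategoryTheory CategoryTheory.Limits AlgebraicGeometry Opposite

namespace Groth.Agent.H52

open AlgSp UBF

variable {S : Scheme.{u}}

/-- Composing with a representable open immersion does not change the fibre degrees. -/
theorem degFibresLE_comp_openImm {X' X : Sp S} (j : X' ⟶ X) (hj : RepWith @IsOpenImmersion j)
    {V : Over S} (ψ : (yon S).obj V ⟶ X') (n : ℕ) (hn : W4dec.DegFibresLE n ψ) :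
    W4dec.DegFibresLE n (ψ ≫ j) := by
  intro q T c snd hsq
  by_cases hT : IsEmpty ↥T.left
  · exact finDegLE_of_isEmpty n c.left
  rw [not_isEmpty_iff] at hT
  obtain ⟨t⟩ := hT
  have hjm : Mono j := mono_of_repWith_isOpenImmersion j hj
  have sqQ := hj.rep.isPullback q.toHom
  have hopen : IsOpenImmersion (hj.rep.snd q.toHom).left := hj.property_snd q.toHom
  obtain ⟨ℓ, hℓ1, hℓ2⟩ := sqQ.exists_lift (snd ≫ ψ) ((yon S).map c)
    (by rw [Category.assoc]; exact hsq.w.symm)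
  obtain ⟨e, rfl⟩ := (yon S).map_surjective ℓ
  have hs : Surjective (hj.rep.snd q.toHom).left :=
    ⟨fun s => ⟨e.left t, Subsingleton.elim (α := ↥(Spec (CommRingCat.of q.K))) _ _⟩⟩
  have hiso : IsIso (hj.rep.snd q.toHom).left :=
    (isIso_iff_isOpenImmersion_and_surjective _).mpr ⟨hopen, hs⟩
  have hiso'' : IsIso ((Over.forget S).map (hj.rep.snd q.toHom)) := hiso
  have hiso' : IsIso (hj.rep.snd q.toHom) :=
    isIso_of_reflects_iso (hj.rep.snd q.toHom) (Over.forget S)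
  let q' : FieldPt X' := fieldPtOfHom q.str ((yon S).map (inv (hj.rep.snd q.toHom)) ≫
    hj.rep.fst q.toHom)
  have hq' : q'.toHom ≫ j = q.toHom := by
    rw [toHom_fieldPtOfHom, Category.assoc, sqQ.w, ← Category.assoc, ← Functor.map_comp,
      IsIso.inv_hom_id, CategoryTheory.Functor.map_id, Category.id_comp]
  rw [← hq'] at hsq
  exact hn q' T c snd (Groth.Agent.H49.isPullback_of_comp_mono j hsq)

/-- S10432 for sheaves. -/
theorem hasUnivBddFibres_of_zarCover {X : Sp S} (hX : IsAlgSpace X) {ι : Type u}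
    (Xi : ι → Sp S) (hXi : ∀ i, IsAlgSpace (Xi i)) (j : ∀ i, Xi i ⟶ X) (hj : IsZarCover Xi j)
    (h : ∀ (i : ι) (V : Over S) (ψ : (yon S).obj V ⟶ Xi i), IsAffine V.left →
      RepWith @Etale ψ → W4dec.HasUnivBddFibres ψ)
    (U : Over S) (φ : (yon S).obj U ⟶ X) [CompactSpace ↥U.left] (hφ : RepWith @Etale φ) :
    W4dec.HasUnivBddFibres φ := by
  choose J V ψ hVaff hψ hcov using fun i => exists_affine_etale_cover (hXi i)
  refine hasUnivBddFibres_of_etale_cover hX (ι := Σ i, J i) (fun k => V k.1 k.2)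
    (fun k => ψ k.1 k.2 ≫ j k.1)
    (fun k => (RepWith (S := S) @Etale).comp_mem _ _ (hψ k.1 k.2)
      (repWith_etale_of_isOpenImmersion _ (hj.1 k.1))) ?_ (fun k => ?_) φ hφ
  · intro x
    obtain ⟨i, xi, rfl⟩ := hj.2 x
    obtain ⟨k, z, rfl⟩ := hcov i xi
    exact ⟨⟨i, k⟩, z, (Points.map_ofPt _ _ _).symm⟩
  · obtain ⟨n, hn⟩ := h k.1 (V k.1 k.2) (ψ k.1 k.2) (hVaff k.1 k.2) (hψ k.1 k.2)
    exact ⟨n, degFibresLE_comp_openImm (j k.1) (hj.1 k.1) _ n hn⟩

end Groth.Agent.H52
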