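import Groth.Agent.H52.UBF0

set_option autoImplicit false
universe u
open CategoryTheory AlgebraicGeometry

namespace Groth.Agent.H52.UBF

/-- A scheme finite over a field is a finite discrete space. -/
theorem finite_discrete_of_finDegLE {K : Type u} [Field K] (n : ℕ) {T : Scheme.{u}}
    (c : T ⟶ Spec (CommRingCat.of K)) (h : FinDegLE n c) :
    Finite ↥T ∧ DiscreteTopology ↥T := by
  have := h.1
  obtain ⟨A, _, _, e, rfl⟩ := exists_algebra_of_isAffineHom c
  rw [finDegLE_iso_comp, finDegLE_SpecMap_iff] at h
  obtain ⟨hfin, -⟩ := h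
  have hArt : IsArtinianRing A := IsArtinianRing.of_finite K A
  have h1 : Finite (PrimeSpectrum A) := inferInstance
  have h2 : DiscreteTopology (PrimeSpectrum A) := inferInstance
  exact ⟨Finite.of_equiv _ e.hom.homeomorph.toEquiv.symm,
    e.hom.homeomorph.symm.discreteTopology⟩

/-- The target of a flat surjective morphism from a finite discrete scheme is finite discrete. -/
theorem finite_discrete_of_flat_surjective {T' T : Scheme.{u}} (π : T' ⟶ T) [Flat π]
    [Surjective π] [Finite ↥T'] [DiscreteTopology ↥T'] : Finite ↥T ∧ DiscreteTopology ↥T := by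
  have hfin : Finite ↥T := Finite.of_surjective π π.surjective
  have : T1Space ↥T := by
    refine ⟨fun t => ?_⟩
    rw [← closure_subset_iff_isClosed]
    intro t1 ht1
    have hsp : t ⤳ t1 := specializes_iff_mem_closure.2 ht1
    obtain ⟨u1, rfl⟩ := π.surjective t1
    obtain ⟨u, hu, rfl⟩ := Flat.generalizingMap π hsp
    rw [hu.eq]
    rfl
  exact ⟨hfin, inferInstance⟩

/-- **Quotients.**  If `T' ⟶ T` is flat and surjective and `T'` is finite of degree at most `n`
over a field, so is `T`. -/
theorem finDegLE_of_flat_surjective {K : Type u} [Field K] (n : ℕ) {T' T : Scheme.{u}}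
    (π : T' ⟶ T) [Flat π] [Surjective π] (c : T ⟶ Spec (CommRingCat.of K))
    (h : FinDegLE n (π ≫ c)) : FinDegLE n c := by
  obtain ⟨hf', hd'⟩ := finite_discrete_of_finDegLE n _ h
  obtain ⟨hf, hd⟩ := finite_discrete_of_flat_surjective π
  have hT : IsAffine T := inferInstance
  have : IsAffineHom c := isAffineHom_of_isAffine c
  have := h.1
  obtain ⟨B, _, _, eT, hc⟩ := exists_algebra_of_isAffineHom c
  obtain ⟨A, _, _, eT', hc'⟩ := exists_algebra_of_isAffineHom (π ≫ c)
  obtain ⟨ψ, hψ⟩ := Spec.map_surjective (eT'.inv ≫ π ≫ eT.hom)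
  -- `ψ` is a `K`-algebra map
  have hcomp : CommRingCat.ofHom (algebraMap K B) ≫ ψ = CommRingCat.ofHom (algebraMap K A) := by
    apply Spec.map_injective
    rw [Spec.map_comp, hψ, Category.assoc, Category.assoc, ← hc, hc', Iso.inv_hom_id_assoc]
  rw [hc', finDegLE_iso_comp, finDegLE_SpecMap_iff] at h
  rw [hc, finDegLE_iso_comp, finDegLE_SpecMap_iff]
  obtain ⟨hAfin, hAn⟩ := h
  -- `ψ` is injective, being faithfully flat
  have hflat : Flat (Spec.map ψ) := by rw [hψ]; infer_instance
  have hsurj : Surjective (Spec.map ψ) := by rw [hψ]; infer_instance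
  have hψflat : ψ.hom.Flat := Flat.SpecMap_iff.1 hflat
  algebraize [ψ.hom]
  have hff : Module.FaithfullyFlat B A :=
    Module.FaithfullyFlat.of_comap_surjective (fun p => (Spec.map ψ).surjective p)
  have hinj : Function.Injective ψ.hom := FaithfulSMul.algebraMap_injective B A
  let ψl : B →ₗ[K] A :=
    { toFun := ψ.hom
      map_add' := map_add _
      map_smul' := fun k b => by
        simp only [Algebra.smul_def, map_mul, RingHom.id_apply]
        congr 1
        exact congrArg (fun φ => φ.hom k) hcomp }
  have hinjl : Function.Injective ψl := hinj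
  exact ⟨Module.Finite.of_injective ψl hinjl,
    (LinearMap.finrank_le_finrank_of_injective hinjl).trans hAn⟩

end Groth.Agent.H52.UBF
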