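import Groth.Agent.H52.UBF1
import Groth.Agent.H52.UBF2

set_option autoImplicit false
universe u
open CategoryTheory CategoryTheory.Limits AlgebraicGeometry Opposite

namespace Groth.Agent.H52

open AlgSp UBF

variable {S : Scheme.{u}}

/-- The fibre of `h_f ≫ h` over a field valued point, from the fibre of `h`. -/
theorem isPullback_fibre_comp {X : Sp S} {U V : Over S} (f : U ⟶ V) (h : (yon S).obj V ⟶ X)
    (q : FieldPt X) {T : Over S} (c : T ⟶ q.pt) (d : T ⟶ V)
    (hsq : IsPullback ((yon S).map c) ((yon S).map d) q.toHom h) :
    IsPullback ((yon S).map (pullback.fst d f ≫ c)) ((yon S).map (pullback.snd d f)) q.toHom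
      ((yon S).map f ≫ h) := by
  have sqP := (IsPullback.of_hasPullback d f).map (yon S)
  rw [Functor.map_comp]
  exact (sqP.flip.paste_vert hsq.flip).flip

/-- S10427 for sheaves. -/
theorem degFibresLE_of_flat_surjective {X : Sp S} {U V : Over S} (f : U ⟶ V)
    [Surjective f.left] [Flat f.left] (h : (yon S).obj V ⟶ X) (n : ℕ)
    (hg : W4dec.DegFibresLE n ((yon S).map f ≫ h)) : W4dec.DegFibresLE n h := by
  intro q T c snd hsq
  obtain ⟨d, rfl⟩ := (yon S).map_surjective snd
  have h1 : FinDegLE n (pullback.fst d f ≫ c).left :=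
    hg q _ (pullback.fst d f ≫ c) _ (isPullback_fibre_comp f h q c d hsq)
  have sqL := (IsPullback.of_hasPullback d f).map (Over.forget S)
  have hfl : Flat (pullback.fst d f).left :=
    MorphismProperty.of_isPullback (P := @Flat) sqL.flip (inferInstanceAs (Flat f.left))
  have hsj : Surjective (pullback.fst d f).left :=
    MorphismProperty.of_isPullback (P := @Surjective) sqL.flip (inferInstanceAs (Surjective f.left))
  exact finDegLE_of_flat_surjective n (pullback.fst d f).left c.left h1

end Groth.Agent.H52
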