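import Groth.Agent.H52.UBF0
import Groth.Agent.H1.Descent

set_option autoImplicit false
universe u
open CategoryTheory CategoryTheory.Limits AlgebraicGeometry

namespace Groth.Agent.H52.UBF

/-- The empty scheme is finite of degree zero over a field. -/
theorem finDegLE_of_isEmpty {K : Type u} [Field K] (n : ℕ) {T : Scheme.{u}} [IsEmpty ↥T]
    (c : T ⟶ Spec (CommRingCat.of K)) : FinDegLE n c := by
  have hfin : IsFinite c := inferInstance
  obtain ⟨A, _, _, e, rfl⟩ := exists_algebra_of_isAffineHom c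
  rw [finDegLE_iso_comp, finDegLE_SpecMap_iff]
  have : IsEmpty (PrimeSpectrum A) := e.hom.homeomorph.toEquiv.symm.isEmpty
  have : Subsingleton A := not_nontrivial_iff_subsingleton.1 (fun h =>
    (PrimeSpectrum.nonempty_iff_nontrivial.2 h).elim (fun p => IsEmpty.false p))
  refine ⟨inferInstance, ?_⟩
  rw [Module.finrank_zero_of_subsingleton]
  exact Nat.zero_le n

/-- **Descent along field extensions.** -/
theorem finDegLE_of_isPullback_field {K Ω : Type u} [Field K] [Field Ω]
    (β : Spec (CommRingCat.of Ω) ⟶ Spec (CommRingCat.of K)) {T T' : Scheme.{u}}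
    (c : T ⟶ Spec (CommRingCat.of K)) (c' : T' ⟶ Spec (CommRingCat.of Ω)) (e : T' ⟶ T)
    (sq : IsPullback c' e β c) (n : ℕ) (h : FinDegLE n c') : FinDegLE n c := by
  have hsurj : Surjective β :=
    ⟨fun s => ⟨IsLocalRing.closedPoint Ω, Subsingleton.elim _ _⟩⟩
  have hfin : IsFinite c :=
    (Groth.Agent.H1.isFinite_descendsAlong_fpqc.{u}).of_isPullback sq
      ⟨⟨hsurj, inferInstance⟩, inferInstance⟩ h.1
  refine ⟨hfin, fun s => ?_⟩
  have h1 := Scheme.Hom.finrank_of_isPullback e c' c β sq.flip (IsLocalRing.closedPoint Ω)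
  rw [Subsingleton.elim s (β (IsLocalRing.closedPoint Ω)), ← h1]
  exact h.2 _

end Groth.Agent.H52.UBF
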