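import Groth.Agent.H52.UBF1
import Groth.Agent.H52.UBF4
import Groth.Agent.H52.MonoPoint

set_option autoImplicit false
universe u
open CategoryTheory CategoryTheory.Limits AlgebraicGeometry Opposite

namespace Groth.Agent.H52

open AlgSp UBF

variable {S : Scheme.{u}}

/-- S10426 for sheaves. -/
theorem degFibresLE_of_base_change {X Y : Sp S} (g : Y ⟶ X) {U V : Over S}
    (f : (yon S).obj U ⟶ X) (fst : (yon S).obj V ⟶ (yon S).obj U) (f' : (yon S).obj V ⟶ Y)
    (h : IsPullback fst f' f g)
    (him : Set.range (Points.ofPt f) ⊆ Set.range (Points.map g)) (n : ℕ)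
    (hf' : W4dec.DegFibresLE n f') : W4dec.DegFibresLE n f := by
  intro q T c snd hsq
  obtain ⟨d, rfl⟩ := (yon S).map_surjective snd
  by_cases hT : IsEmpty ↥T.left
  · exact finDegLE_of_isEmpty n c.left
  rw [not_isEmpty_iff] at hT
  obtain ⟨t⟩ := hT
  have hpt : Points.ofPt f (d.left t) = Points.mk q := by
    have := (ofPt_eq_iff_of_isPullback hsq (c.left t) (d.left t)).2 ⟨t, rfl, rfl⟩
    rw [Points.ofPt_toHom] at this
    exact this.symm
  obtain ⟨y, hy⟩ := him ⟨d.left t, rfl⟩
  induction y using Points.ind with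
  | h r =>
  rw [Points.map_mk, hpt, Points.mk_eq_mk_iff, rel_iff_toHom] at hy
  obtain ⟨Ω, _, w, a₀, b, hab₀⟩ := hy
  rw [FieldPt.toHom_map] at hab₀
  let a : Over.mk w ⟶ r.pt := a₀
  have hab : (yon S).map a ≫ r.toHom ≫ g = (yon S).map b ≫ q.toHom := hab₀
  -- the restricted point of `Y`
  have hr' := toHom_fieldPtRestrict r w a
  -- the fibre over `Ω`
  have sqP := (IsPullback.of_hasPullback b c).map (yon S)
  have big := sqP.flip.paste_horiz hsq.flip
  rw [← hab, ← Category.assoc, ← hr'] at big
  obtain ⟨ℓ, hℓ1, hℓ2⟩ := h.exists_lift ((yon S).map (pullback.snd b c) ≫ (yon S).map d)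
    ((yon S).map (pullback.fst b c) ≫ (fieldPtRestrict r w a).toHom)
    (by rw [Category.assoc]; exact big.w)
  have left : IsPullback ℓ ((yon S).map (pullback.fst b c)) f' (fieldPtRestrict r w a).toHom := by
    refine IsPullback.of_right ?_ hℓ2 h
    rw [hℓ1]
    exact big
  have h1 : FinDegLE n (pullback.fst b c).left :=
    hf' (fieldPtRestrict r w a) _ (pullback.fst b c) ℓ left.flip
  have sqL := (IsPullback.of_hasPullback b c).map (Over.forget S)
  exact finDegLE_of_isPullback_field b.left c.left (pullback.fst b c).left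
    (pullback.snd b c).left sqL n h1

end Groth.Agent.H52
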