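import Groth.Agent.H52.UBFAlg
import Groth.Agent.H52.UBF2

set_option autoImplicit false
universe u
open CategoryTheory CategoryTheory.Limits AlgebraicGeometry TensorProduct

namespace Groth.Agent.H52.UBF

/-- A scheme over a finite discrete scheme with finite discrete fibres is finite discrete. -/
theorem finite_discrete_of_fibres {T T' : Scheme.{u}} (e : T' ⟶ T) [Finite ↥T]
    [DiscreteTopology ↥T]
    (h : ∀ z : T, Finite ↥(e.fiber z) ∧ DiscreteTopology ↥(e.fiber z)) :
    Finite ↥T' ∧ DiscreteTopology ↥T' := by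
  have hfin : ∀ z : T, Finite ↥(e ⁻¹' {z}) := fun z =>
    haveI := (h z).1
    Finite.of_equiv _ (e.fiberHomeo z).toEquiv
  have hdisc : ∀ z : T, DiscreteTopology ↥(e ⁻¹' {z}) := fun z =>
    haveI := (h z).2
    (e.fiberHomeo z).discreteTopology
  constructor
  · rw [← Set.finite_univ_iff]
    have : (Set.univ : Set ↥T') = ⋃ z : T, e ⁻¹' {z} := by
      ext t
      simp
    rw [this]
    exact Set.finite_iUnion fun z => Set.toFinite _
  · rw [discreteTopology_iff_isOpen_singleton]
    intro t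
    have hs : IsOpen (e ⁻¹' {e t}) := (isOpen_discrete _).preimage e.continuous
    have := hdisc (e t)
    have h1 := hs.isOpenEmbedding_subtypeVal.isOpenMap {⟨t, rfl⟩} (isOpen_discrete _)
    simpa using h1

/-- **Composition.**  If `T` is finite of degree `≤ n` over a field and all fibres of `T' ⟶ T` over
field valued points are finite of degree `≤ m`, then `T'` is finite of degree `≤ (n * m) * n`. -/
theorem finDegLE_comp {K : Type u} [Field K] (n m : ℕ) {T T' : Scheme.{u}} (e : T' ⟶ T)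
    (c : T ⟶ Spec (CommRingCat.of K)) (hc : FinDegLE n c)
    (hfib : ∀ (L : Type u) [Field L] (x : Spec (CommRingCat.of L) ⟶ T),
      FinDegLE m (pullback.fst x e)) :
    FinDegLE ((n * m) * n) (e ≫ c) := by
  obtain ⟨hTf, hTd⟩ := finite_discrete_of_finDegLE n c hc
  -- fibres are finite discrete
  have hfd : ∀ z : T, Finite ↥(e.fiber z) ∧ DiscreteTopology ↥(e.fiber z) := by
    intro z
    have h1 := hfib (T.residueField z) (T.fromSpecResidueField z)
    have h2 : FinDegLE (K := T.residueField z) m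
        ((pullbackSymmetry e (T.fromSpecResidueField z)).hom ≫
          pullback.fst (T.fromSpecResidueField z) e) :=
      (finDegLE_iso_comp (K := T.residueField z) m (pullbackSymmetry e (T.fromSpecResidueField z))
        (pullback.fst (T.fromSpecResidueField z) e)).2 h1
    rw [pullbackSymmetry_hom_comp_fst] at h2
    exact finite_discrete_of_finDegLE m _ h2
  obtain ⟨hT'f, hT'd⟩ := finite_discrete_of_fibres e hfd
  have hTaff : IsAffine T := inferInstance
  have hT'aff : IsAffine T' := inferInstance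
  have : IsAffineHom c := isAffineHom_of_isAffine c
  have : IsAffineHom (e ≫ c) := isAffineHom_of_isAffine _
  obtain ⟨B, _, _, eT, hcB⟩ := exists_algebra_of_isAffineHom c
  obtain ⟨A, _, _, eT', hcA⟩ := exists_algebra_of_isAffineHom (e ≫ c)
  obtain ⟨ψ, hψ⟩ := Spec.map_surjective (eT'.inv ≫ e ≫ eT.hom)
  have hcomp : CommRingCat.ofHom (algebraMap K B) ≫ ψ = CommRingCat.ofHom (algebraMap K A) := by
    apply Spec.map_injective
    rw [Spec.map_comp, hψ, Category.assoc, Category.assoc, ← hcB, hcA, Iso.inv_hom_id_assoc]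
  rw [hcB, finDegLE_iso_comp, finDegLE_SpecMap_iff] at hc
  rw [hcA, finDegLE_iso_comp, finDegLE_SpecMap_iff]
  obtain ⟨hBfin, hBn⟩ := hc
  algebraize [ψ.hom]
  have : IsScalarTower K B A := IsScalarTower.of_algebraMap_eq fun k =>
    (congrArg (fun φ => φ.hom k) hcomp).symm
  refine UBFAlg.finite_finrank_le_of_fibres n m hBn ?_
  intro 𝔭 h𝔭
  let _ := Ideal.Quotient.field 𝔭
  let x : Spec (CommRingCat.of (B ⧸ 𝔭)) ⟶ T :=
    Spec.map (CommRingCat.ofHom (algebraMap B (B ⧸ 𝔭))) ≫ eT.inv
  have h1 := hfib (B ⧸ 𝔭) x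
  have sqL : IsPullback
      (Spec.map (CommRingCat.ofHom
        (Algebra.TensorProduct.includeLeftRingHom : (B ⧸ 𝔭) →+* (B ⧸ 𝔭) ⊗[B] A)))
      (Spec.map (CommRingCat.ofHom
        ((Algebra.TensorProduct.includeRight : A →ₐ[B] (B ⧸ 𝔭) ⊗[B] A).toRingHom)))
      (Spec.map (CommRingCat.ofHom (algebraMap B (B ⧸ 𝔭))))
      (Spec.map (CommRingCat.ofHom (algebraMap B A))) :=
    isPullback_SpecMap_of_isPushout _ _ _ _ (CommRingCat.isPushout_tensorProduct B (B ⧸ 𝔭) A)
  have hψ' : CommRingCat.ofHom (algebraMap B A) = ψ := rfl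
  rw [hψ'] at sqL
  have sqR : IsPullback eT'.inv (Spec.map ψ) e eT.inv :=
    IsPullback.of_horiz_isIso ⟨by rw [hψ]; simp⟩
  have sq := (sqL.flip.paste_horiz sqR).flip
  have h2 : FinDegLE m (Spec.map (CommRingCat.ofHom
      (Algebra.TensorProduct.includeLeftRingHom : (B ⧸ 𝔭) →+* (B ⧸ 𝔭) ⊗[B] A))) := by
    rw [← sq.isoPullback_hom_fst, finDegLE_iso_comp]
    exact h1
  exact (finDegLE_SpecMap_iff m).1 h2

end Groth.Agent.H52.UBF
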