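import Groth.Agent.H52.UBF1
import Groth.Agent.H52.UBFComp
import Groth.Agent.H52.Points

set_option autoImplicit false
universe u
open CategoryTheory CategoryTheory.Limits AlgebraicGeometry Opposite

namespace Groth.Agent.H52

open AlgSp UBF

variable {S : Scheme.{u}}

/-- S10424 for sheaves: composition of morphisms with universally bounded fibres. -/
theorem degFibresLE_comp {X : Sp S} (hXa : IsAlgSpace X) {U V : Over S} (f : V ⟶ U)
    (g : (yon S).obj U ⟶ X) (m n : ℕ) (hf : W4dec.DegFibresLE m ((yon S).map f))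
    (hg : W4dec.DegFibresLE n g) : W4dec.DegFibresLE ((n * m) * n) ((yon S).map f ≫ g) := by
  intro q T' c' snd' hsq
  obtain ⟨d', rfl⟩ := (yon S).map_surjective snd'
  obtain ⟨Z, a, b, hpb, -⟩ := exists_fibre_scheme q g (hXa.representable_from_yon g)
  have hZ : FinDegLE n b.left := hg q Z b _ hpb.flip
  obtain ⟨ℓ, hℓ1, hℓ2⟩ := hpb.exists_lift ((yon S).map d' ≫ (yon S).map f) ((yon S).map c')
    (by rw [Category.assoc]; exact hsq.w.symm)
  obtain ⟨e, rfl⟩ := (yon S).map_surjective ℓ
  have hc' : e ≫ b = c' := (yon S).map_injective (by rw [Functor.map_comp]; exact hℓ2)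
  subst hc'
  have sqE : IsPullback ((yon S).map d') ((yon S).map e) ((yon S).map f) ((yon S).map a) := by
    refine IsPullback.of_bot ?_ hℓ1.symm hpb
    rw [← Functor.map_comp]
    exact hsq.flip
  change FinDegLE ((n * m) * n) (e.left ≫ b.left)
  refine finDegLE_comp n m e.left b.left hZ ?_
  intro L _ x
  let w : Spec (CommRingCat.of L) ⟶ S := x ≫ Z.hom
  let xo : Over.mk w ⟶ Z := Over.homMk x rfl
  let r : FieldPt ((yon S).obj U) := fieldPtOfHom w ((yon S).map (xo ≫ a))
  have sqP := (IsPullback.of_hasPullback xo e).map (yon S)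
  have big := (sqP.flip.paste_horiz sqE).flip
  have h1 : FinDegLE m (pullback.fst xo e).left := by
    refine hf r (pullback xo e) (pullback.fst xo e)
      ((yon S).map (pullback.snd xo e) ≫ (yon S).map d') ?_
    rw [toHom_fieldPtOfHom, Functor.map_comp]
    exact big
  have sqL := (IsPullback.of_hasPullback xo e).map (Over.forget S)
  have h2 : sqL.isoPullback.hom ≫ pullback.fst x e.left = (pullback.fst xo e).left :=
    sqL.isoPullback_hom_fst
  have h3 : FinDegLE m (sqL.isoPullback.hom ≫ pullback.fst x e.left) := by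
    rw [h2]
    exact h1
  exact (finDegLE_iso_comp m sqL.isoPullback (pullback.fst x e.left)).1 h3

end Groth.Agent.H52
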