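import Groth.Agent.H52.UBFFam
import Groth.Agent.H52.UBF6
import Groth.Agent.H52.UBF3

set_option autoImplicit false
universe u
open CategoryTheory CategoryTheory.Limits AlgebraicGeometry Opposite

namespace Groth.Agent.H52

open AlgSp UBF

variable {S : Scheme.{u}}

/-- From the scheme-level bound to the sheaf-level one. -/
theorem degFibresLE_yon_map_of_schUBF {U V : Over S} (f : V ⟶ U) (N : ℕ)
    (h : SchUBF N f.left) : W4dec.DegFibresLE N ((yon S).map f) := by
  intro q T c snd hsq
  obtain ⟨d, rfl⟩ := (yon S).map_surjective snd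
  obtain ⟨x, hx⟩ := (yon S).map_surjective q.toHom
  rw [← hx] at hsq
  have sq : IsPullback c d x f :=
    IsPullback.of_map (yon S) ((yon S).map_injective (by
      rw [Functor.map_comp, Functor.map_comp]; exact hsq.w)) hsq
  have sqL := sq.map (Over.forget S)
  exact h q.K x.left T.left c.left d.left sqL

/-- Descent of bounds along finite flat jointly surjective families. -/
theorem degFibresLE_of_flat_family {X : Sp S} {ι : Type u} [Fintype ι] {V : Over S}
    (W : ι → Over S) (f : ∀ k, W k ⟶ V) (hfl : ∀ k, Flat (f k).left)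
    (hsurj : ∀ v : V.left, ∃ k w, (f k).left w = v) (ψ : (yon S).obj V ⟶ X) (N : ι → ℕ)
    (hg : ∀ k, W4dec.DegFibresLE (N k) ((yon S).map (f k) ≫ ψ)) :
    W4dec.DegFibresLE (∑ k, N k) ψ := by
  intro q T c snd hsq
  obtain ⟨d, rfl⟩ := (yon S).map_surjective snd
  have h1 : ∀ k, FinDegLE (N k) ((pullback.fst d (f k)).left ≫ c.left) := fun k =>
    hg k q _ (pullback.fst d (f k) ≫ c) _ (isPullback_fibre_comp (f k) ψ q c d hsq)
  have sqL := fun k => (IsPullback.of_hasPullback d (f k)).map (Over.forget S)
  have hflat : ∀ k, Flat (pullback.fst d (f k)).left := fun k =>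
    MorphismProperty.of_isPullback (P := @Flat) (sqL k).flip (hfl k)
  have hs : ⋃ k, Set.range (pullback.fst d (f k)).left = Set.univ := by
    rw [Set.eq_univ_iff_forall]
    intro t
    obtain ⟨k, w, hw⟩ := hsurj (d.left t)
    obtain ⟨z, hz1, -⟩ := Scheme.Pullback.exists_preimage_pullback (f := d.left)
      (g := (f k).left) t w hw.symm
    refine Set.mem_iUnion.2 ⟨k, (sqL k).isoPullback.inv z, ?_⟩
    have := congrArg (fun φ => φ z) (sqL k).isoPullback_inv_fst
    rw [← hz1]
    exact this
  exact finDegLE_of_flat_family N _ (fun k => (pullback.fst d (f k)).left) hs c.left h1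

end Groth.Agent.H52
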