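import Groth.Agent.H52.UBF7
import Groth.Agent.H52.Chart

set_option autoImplicit false
universe u
open CategoryTheory CategoryTheory.Limits AlgebraicGeometry Opposite

namespace Groth.Agent.H52

open AlgSp UBF

variable {S : Scheme.{u}}

/-- Local form of S10429: around every point of an étale chart `V` there is an étale
neighbourhood whose composite to `X` has bounded fibres. -/
theorem exists_etale_nbhd_degFibresLE {X : Sp S} (hXa : IsAlgSpace X) {ι : Type u}
    (U : ι → Over S) (φ : ∀ i, (yon S).obj (U i) ⟶ X) (hφ : ∀ i, RepWith @Etale (φ i))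
    (hsurj : ∀ x : Points X, ∃ (i : ι) (v : ↥(U i).left), Points.ofPt (φ i) v = x)
    (hb : ∀ i, W4dec.HasUnivBddFibres (φ i)) {V : Over S} (ψ : (yon S).obj V ⟶ X)
    (hψ : RepWith @Etale ψ) (v : ↥V.left) :
    ∃ (W : Over S) (f : W ⟶ V) (N : ℕ), Etale f.left ∧ v ∈ Set.range f.left ∧
      W4dec.DegFibresLE N ((yon S).map f ≫ ψ) := by
  obtain ⟨i, u, hu⟩ := hsurj (Points.ofPt ψ v)
  obtain ⟨n, hn⟩ := hb i
  obtain ⟨b, hb'⟩ := (yon S).map_surjective ((hφ i).rep.fst ψ)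
  have sq : IsPullback ((yon S).map b) ((yon S).map ((hφ i).rep.snd ψ)) (φ i) ψ := by
    rw [hb']; exact (hφ i).rep.isPullback ψ
  have ha : Etale ((hφ i).rep.snd ψ).left := (hφ i).property_snd ψ
  have hbe : Etale b.left := hψ.2 (φ i) ((yon S).map ((hφ i).rep.snd ψ)) b sq.flip
  obtain ⟨p, hp1, hp2⟩ := (ofPt_eq_iff_of_isPullback sq u v).1 hu
  obtain ⟨W', j, hj, hpj, N, hN⟩ := exists_isOpenImmersion_schUBF_of_etale b.left p
  let P := (hφ i).rep.pullback ψ
  let jo : Over.mk (j ≫ P.hom) ⟶ P := Over.homMk j rfl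
  refine ⟨Over.mk (j ≫ P.hom), jo ≫ (hφ i).rep.snd ψ, (n * N) * n, ?_, ?_, ?_⟩
  · change Etale (j ≫ ((hφ i).rep.snd ψ).left)
    infer_instance
  · obtain ⟨y, hy⟩ := hpj
    refine ⟨y, ?_⟩
    change (j ≫ ((hφ i).rep.snd ψ).left) y = v
    rw [Scheme.Hom.comp_apply, hy, hp2]
  · have h1 : W4dec.DegFibresLE N ((yon S).map (jo ≫ b)) :=
      degFibresLE_yon_map_of_schUBF (jo ≫ b) N hN
    have h2 := degFibresLE_comp hXa (jo ≫ b) (φ i) N n h1 hn
    have h3 : (yon S).map (jo ≫ (hφ i).rep.snd ψ) ≫ ψ = (yon S).map (jo ≫ b) ≫ φ i := by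
      rw [Functor.map_comp, Functor.map_comp, Category.assoc, Category.assoc, sq.w]
    rw [h3]
    exact h2

/-- S10429 for sheaves (with a quasi-compact chart). -/
theorem hasUnivBddFibres_of_etale_cover {X : Sp S} (hXa : IsAlgSpace X) {ι : Type u}
    (U : ι → Over S) (φ : ∀ i, (yon S).obj (U i) ⟶ X) (hφ : ∀ i, RepWith @Etale (φ i))
    (hsurj : ∀ x : Points X, ∃ (i : ι) (v : ↥(U i).left), Points.ofPt (φ i) v = x)
    (hb : ∀ i, W4dec.HasUnivBddFibres (φ i)) {V : Over S} [CompactSpace ↥V.left]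
    (ψ : (yon S).obj V ⟶ X) (hψ : RepWith @Etale ψ) : W4dec.HasUnivBddFibres ψ := by
  choose W f N hfe hfv hfN using
    fun v => exists_etale_nbhd_degFibresLE hXa U φ hφ hsurj hb ψ hψ v
  have hopen : ∀ v, IsOpen (Set.range (f v).left) := fun v =>
    haveI := hfe v
    (f v).left.isOpenMap.isOpen_range
  obtain ⟨s, hs⟩ := isCompact_univ.elim_finite_subcover (fun v => Set.range (f v).left) hopen
    (fun v _ => Set.mem_iUnion.2 ⟨v, hfv v⟩)
  refine ⟨∑ k : ↥s, N k.1, degFibresLE_of_flat_family (fun k : ↥s => W k.1) (fun k => f k.1)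
    (fun k => haveI := hfe k.1; inferInstance) ?_ ψ (fun k => N k.1) (fun k => hfN k.1)⟩
  intro v
  have hv := hs (Set.mem_univ v)
  simp only [Set.mem_iUnion] at hv
  obtain ⟨k, hk, w, hw⟩ := hv
  exact ⟨⟨k, hk⟩, w, hw⟩

end Groth.Agent.H52
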