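import Mathlib

set_option autoImplicit false
universe u
open TensorProduct

namespace Groth.Agent.H52.UBFAlg

section Nak

variable {B A : Type*} [CommRing B] [AddCommGroup A] [Module B A]

theorem sup_smul_mul (N : Submodule B A) (I I' : Ideal B)
    (h : N ⊔ I • (⊤ : Submodule B A) = ⊤) (h' : N ⊔ I' • (⊤ : Submodule B A) = ⊤) :
    N ⊔ (I * I') • (⊤ : Submodule B A) = ⊤ := by
  rw [eq_top_iff]
  calc (⊤ : Submodule B A) = N ⊔ I • (⊤ : Submodule B A) := h.symm
    _ = N ⊔ I • (N ⊔ I' • (⊤ : Submodule B A)) := by rw [h']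
    _ = N ⊔ (I • N ⊔ I • I' • (⊤ : Submodule B A)) := by rw [Submodule.smul_sup]
    _ ≤ N ⊔ (I * I') • (⊤ : Submodule B A) := by
      rw [← Submodule.mul_smul]
      exact sup_le le_sup_left (sup_le (Submodule.smul_le_right.trans le_sup_left) le_sup_right)

theorem sup_smul_prod {ι : Type*} (s : Finset ι) (N : Submodule B A) (I : ι → Ideal B)
    (h : ∀ i ∈ s, N ⊔ I i • (⊤ : Submodule B A) = ⊤) :
    N ⊔ (∏ i ∈ s, I i) • (⊤ : Submodule B A) = ⊤ := by
  classical
  induction s using Finset.induction_on with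
  | empty => simp
  | insert a s ha ih =>
    rw [Finset.prod_insert ha]
    exact sup_smul_mul N _ _ (h a (Finset.mem_insert_self a s))
      (ih fun i hi => h i (Finset.mem_insert_of_mem hi))

theorem sup_smul_pow (N : Submodule B A) (I : Ideal B)
    (h : N ⊔ I • (⊤ : Submodule B A) = ⊤) (k : ℕ) :
    N ⊔ (I ^ k) • (⊤ : Submodule B A) = ⊤ := by
  induction k with
  | zero => simp
  | succ k ih =>
    rw [pow_succ]
    exact sup_smul_mul N _ _ ih h

theorem eq_top_of_sup_smul_of_isNilpotent (N : Submodule B A) (I : Ideal B) (hI : IsNilpotent I)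
    (h : N ⊔ I • (⊤ : Submodule B A) = ⊤) : N = ⊤ := by
  obtain ⟨k, hk⟩ := hI
  have := sup_smul_pow N I h k
  rw [hk] at this
  simpa using this

end Nak

section Gen

variable {B A : Type u} [CommRing B] [AddCommGroup A] [Module B A]

/-- Lifting a basis of the fibre `κ(𝔭) ⊗ A` to generators of `A` modulo `𝔭`. -/
theorem exists_finset_span_sup_smul (𝔭 : Ideal B) [h𝔭 : 𝔭.IsMaximal] (m : ℕ)
    (hfin : letI := Ideal.Quotient.field 𝔭; Module.Finite (B ⧸ 𝔭) ((B ⧸ 𝔭) ⊗[B] A))
    (hm : letI := Ideal.Quotient.field 𝔭; Module.finrank (B ⧸ 𝔭) ((B ⧸ 𝔭) ⊗[B] A) ≤ m) :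
    ∃ G : Finset A, G.card ≤ m ∧ Submodule.span B (G : Set A) ⊔ 𝔭 • (⊤ : Submodule B A) = ⊤ := by
  classical
  let _ := Ideal.Quotient.field 𝔭
  let b := Module.finBasis (B ⧸ 𝔭) ((B ⧸ 𝔭) ⊗[B] A)
  have hsurj : ∀ t : (B ⧸ 𝔭) ⊗[B] A, ∃ a : A, (1 : B ⧸ 𝔭) ⊗ₜ[B] a = t := by
    intro t
    obtain ⟨a, ha⟩ := Submodule.Quotient.mk_surjective _ (quotTensorEquivQuotSMul A 𝔭 t)
    refine ⟨a, ?_⟩
    rw [← quotTensorEquivQuotSMul_symm_mk, ha, LinearEquiv.symm_apply_apply]
  choose a ha using fun i => hsurj (b i)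
  refine ⟨Finset.image a Finset.univ, ?_, ?_⟩
  · refine Finset.card_image_le.trans ?_
    simpa using hm
  · rw [eq_top_iff]
    intro x _
    -- expand `1 ⊗ x` in the basis
    have hx := b.sum_repr ((1 : B ⧸ 𝔭) ⊗ₜ[B] x)
    choose c hc using fun i => Ideal.Quotient.mk_surjective (b.repr ((1 : B ⧸ 𝔭) ⊗ₜ[B] x) i)
    have h1 : (1 : B ⧸ 𝔭) ⊗ₜ[B] (∑ i, c i • a i) = (1 : B ⧸ 𝔭) ⊗ₜ[B] x := by
      rw [← hx, TensorProduct.tmul_sum]
      refine Finset.sum_congr rfl fun i _ => ?_
      rw [← ha i, ← hc i, TensorProduct.smul_tmul', ← TensorProduct.smul_tmul, smul_eq_mul, mul_one,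
        Algebra.smul_def, mul_one]
      rfl
    have h2 := congrArg (quotTensorEquivQuotSMul A 𝔭) h1
    rw [quotTensorEquivQuotSMul_mk_one_tmul, quotTensorEquivQuotSMul_mk_one_tmul,
      Submodule.Quotient.eq] at h2
    have h3 : x = (∑ i, c i • a i) - ((∑ i, c i • a i) - x) := by abel
    rw [h3]
    refine Submodule.sub_mem _ (Submodule.mem_sup_left ?_) (Submodule.mem_sup_right h2)
    refine Submodule.sum_mem _ fun i _ => Submodule.smul_mem _ _ (Submodule.subset_span ?_)
    simp

end Gen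

section Main

variable {K B A : Type u} [Field K] [CommRing B] [CommRing A] [Algebra K B] [Algebra B A]
  [Algebra K A] [IsScalarTower K B A]

theorem card_primeSpectrum_le_finrank [Module.Finite K B] [Fintype (PrimeSpectrum B)] :
    Fintype.card (PrimeSpectrum B) ≤ Module.finrank K B := by
  have hArt : IsArtinianRing B := IsArtinianRing.of_finite K B
  have hsum := IsArtinianRing.finrank_eq_sum_primeSpectrum (R := B) K
  rw [hsum]
  calc Fintype.card (PrimeSpectrum B) = ∑ _p : PrimeSpectrum B, 1 := by simp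
    _ ≤ _ := Finset.sum_le_sum (fun p _ => ?_)
  have : Module.Finite K (Localization.AtPrime p.asIdeal) :=
    Module.Finite.of_surjective (Algebra.algHom K B (Localization.AtPrime p.asIdeal)).toLinearMap
      (IsArtinianRing.localization_surjective p.asIdeal.primeCompl _)
  exact Module.finrank_pos

/-- **Algebra core of the composition of universally bounded fibres.** -/
theorem finite_finrank_le_of_fibres [Module.Finite K B] (n m : ℕ) (hn : Module.finrank K B ≤ n)
    (h : ∀ (𝔭 : Ideal B) (_ : 𝔭.IsMaximal), letI := Ideal.Quotient.field 𝔭;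
      Module.Finite (B ⧸ 𝔭) ((B ⧸ 𝔭) ⊗[B] A) ∧ Module.finrank (B ⧸ 𝔭) ((B ⧸ 𝔭) ⊗[B] A) ≤ m) :
    Module.Finite K A ∧ Module.finrank K A ≤ (n * m) * n := by
  classical
  have hArt : IsArtinianRing B := IsArtinianRing.of_finite K B
  have : Finite (PrimeSpectrum B) := inferInstance
  have : Fintype (PrimeSpectrum B) := Fintype.ofFinite _
  have hmax : ∀ p : PrimeSpectrum B, p.asIdeal.IsMaximal := fun p =>
    IsArtinianRing.isMaximal_of_isPrime p.asIdeal
  choose G hGcard hG using fun p : PrimeSpectrum B =>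
    haveI := hmax p
    exists_finset_span_sup_smul (A := A) p.asIdeal m (h p.asIdeal (hmax p)).1 (h p.asIdeal (hmax p)).2
  let GG : Finset A := Finset.univ.biUnion G
  have hGGcard : GG.card ≤ n * m := by
    refine Finset.card_biUnion_le.trans ?_
    calc ∑ p : PrimeSpectrum B, (G p).card ≤ ∑ _p : PrimeSpectrum B, m :=
          Finset.sum_le_sum fun p _ => hGcard p
      _ = Fintype.card (PrimeSpectrum B) * m := by simp
      _ ≤ n * m := Nat.mul_le_mul_right _ ((card_primeSpectrum_le_finrank (K := K)).trans hn)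
  let N : Submodule B A := Submodule.span B (GG : Set A)
  have hN : ∀ p : PrimeSpectrum B, N ⊔ p.asIdeal • (⊤ : Submodule B A) = ⊤ := by
    intro p
    rw [eq_top_iff]
    refine (hG p).symm.le.trans (sup_le_sup (Submodule.span_mono ?_) le_rfl)
    intro x hx
    simp only [GG, Finset.coe_biUnion, Finset.coe_univ, Set.mem_univ, Set.iUnion_true,
      Set.mem_iUnion]
    exact ⟨p, hx⟩
  have hprod := sup_smul_prod Finset.univ N (fun p : PrimeSpectrum B => p.asIdeal)
    (fun p _ => hN p)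
  have hnil : IsNilpotent (∏ p : PrimeSpectrum B, p.asIdeal) := by
    obtain ⟨k, hk⟩ := IsArtinianRing.isNilpotent_nilradical (R := B)
    refine ⟨k, ?_⟩
    rw [Ideal.zero_eq_bot, eq_bot_iff, ← Ideal.zero_eq_bot, ← hk]
    refine Ideal.pow_right_mono ?_ k
    rw [nilradical_eq_sInf]
    refine le_sInf fun J hJ => ?_
    exact Ideal.prod_le_inf.trans (Finset.inf_le (b := (⟨J, hJ⟩ : PrimeSpectrum B))
      (Finset.mem_univ _))
  have hNtop : N = ⊤ := eq_top_of_sup_smul_of_isNilpotent N _ hnil hprod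
  -- the surjection `B^GG → A`
  let v : GG → A := fun g => g.1
  let φ : (GG → B) →ₗ[B] A := Fintype.linearCombination B v
  have hφ : Function.Surjective φ := by
    rw [← LinearMap.range_eq_top, Fintype.range_linearCombination]
    simpa [v, N] using hNtop
  let φK : (GG → B) →ₗ[K] A := φ.restrictScalars K
  have hφK : Function.Surjective φK := hφ
  have hfinK : Module.Finite K (GG → B) := inferInstance
  refine ⟨Module.Finite.of_surjective φK hφK, ?_⟩
  refine (LinearMap.finrank_le_finrank_of_surjective hφK).trans ?_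
  rw [Module.finrank_pi_fintype]
  simp only [Finset.sum_const, Finset.card_univ, Fintype.card_coe, smul_eq_mul]
  exact Nat.mul_le_mul hGGcard hn

end Main

end Groth.Agent.H52.UBFAlg
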