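import Groth.Agent.H52.UBFSch

set_option autoImplicit false
universe u
open CategoryTheory CategoryTheory.Limits AlgebraicGeometry TensorProduct

namespace Groth.Agent.H52.UBF

/-- Normal form of a morphism from an affine scheme to the spectrum of a field. -/
theorem eq_isoSpec_comp_SpecMap {K : Type u} [Field K] {T : Scheme.{u}} [IsAffine T]
    (c : T ⟶ Spec (CommRingCat.of K)) :
    c = T.isoSpec.hom ≫ Spec.map ((Scheme.ΓSpecIso (CommRingCat.of K)).inv ≫ c.appTop) := by
  rw [Spec.map_comp, ← Scheme.isoSpec_Spec_inv, Scheme.isoSpec_hom_naturality_assoc,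
    Iso.hom_inv_id, Category.comp_id]

/-- A finite coproduct of schemes finite over a field is finite, with degrees adding up. -/
theorem finDegLE_sigmaDesc {K : Type u} [Field K] {ι : Type u} [Fintype ι] (N : ι → ℕ)
    (T : ι → Scheme.{u}) (c : ∀ k, T k ⟶ Spec (CommRingCat.of K))
    (h : ∀ k, FinDegLE (N k) (c k)) : FinDegLE (∑ k, N k) (Sigma.desc c) := by
  have haff : ∀ k, IsAffine (T k) := fun k =>
    haveI := (h k).1
    isAffine_of_isAffineHom (c k)
  let A : ι → CommRingCat.{u} := fun k => Γ(T k, ⊤)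
  let φ : ∀ k, CommRingCat.of K ⟶ A k := fun k =>
    (Scheme.ΓSpecIso (CommRingCat.of K)).inv ≫ (c k).appTop
  let _ : ∀ k, Algebra K (A k) := fun k => (φ k).hom.toAlgebra
  have hφ : ∀ k, CommRingCat.ofHom (algebraMap K (A k)) = φ k := fun k => rfl
  have hc : ∀ k, c k = (T k).isoSpec.hom ≫ Spec.map (CommRingCat.ofHom (algebraMap K (A k))) :=
    fun k => by rw [hφ k]; exact eq_isoSpec_comp_SpecMap (c k)
  have hfin : ∀ k, Module.Finite K (A k) ∧ Module.finrank K (A k) ≤ N k := fun k => by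
    have := h k
    rw [hc k, finDegLE_iso_comp, finDegLE_SpecMap_iff] at this
    exact this
  have hdesc : Sigma.desc c = (Sigma.mapIso (fun k => (T k).isoSpec) ≪≫ asIso (sigmaSpec A)).hom ≫
      Spec.map (CommRingCat.ofHom (algebraMap K (Π k, A k))) := by
    refine Sigma.hom_ext _ _ fun k => ?_
    rw [Sigma.ι_desc, Iso.trans_hom, Category.assoc, Sigma.ι_mapIso_hom_assoc, asIso_hom,
      ι_sigmaSpec_assoc, ← Spec.map_comp, hc k]
    rfl
  rw [hdesc, finDegLE_iso_comp, finDegLE_SpecMap_iff]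
  have : ∀ k, Module.Finite K (A k) := fun k => (hfin k).1
  refine ⟨inferInstance, ?_⟩
  rw [Module.finrank_pi_fintype]
  exact Finset.sum_le_sum fun k _ => (hfin k).2

/-- **Descent along finite flat jointly surjective families.** -/
theorem finDegLE_of_flat_family {K : Type u} [Field K] {ι : Type u} [Fintype ι] (N : ι → ℕ)
    {T : Scheme.{u}} (T' : ι → Scheme.{u}) (π : ∀ k, T' k ⟶ T) [∀ k, Flat (π k)]
    (hsurj : ⋃ k, Set.range (π k) = Set.univ) (c : T ⟶ Spec (CommRingCat.of K))
    (h : ∀ k, FinDegLE (N k) (π k ≫ c)) : FinDegLE (∑ k, N k) c := by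
  have : Surjective (Sigma.desc π) := Surjective.sigmaDesc_of_union_range_eq_univ hsurj
  refine finDegLE_of_flat_surjective _ (Sigma.desc π) c ?_
  have : Sigma.desc π ≫ c = Sigma.desc (fun k => π k ≫ c) := by
    refine Sigma.hom_ext _ _ fun k => ?_
    rw [Sigma.ι_desc_assoc, Sigma.ι_desc]
  rw [this]
  exact finDegLE_sigmaDesc N T' _ h

end Groth.Agent.H52.UBF
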