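import Groth.Agent.H52.UBFComp
import Groth.Agent.H52.UBF4

set_option autoImplicit false
universe u
open CategoryTheory CategoryTheory.Limits AlgebraicGeometry TensorProduct

namespace Groth.Agent.H52.UBF

/-- Scheme-level version of "the degrees of the fibres of `h` are bounded by `N`". -/
def SchUBF (N : ℕ) {W U : Scheme.{u}} (h : W ⟶ U) : Prop :=
  ∀ (K : Type u) [Field K] (x : Spec (CommRingCat.of K) ⟶ U) (T : Scheme.{u})
    (c : T ⟶ Spec (CommRingCat.of K)) (d : T ⟶ W), IsPullback c d x h → FinDegLE N c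

theorem SchUBF.comp {W' W U : Scheme.{u}} (h' : W' ⟶ W) (h : W ⟶ U) {m n : ℕ}
    (hm : SchUBF m h') (hn : SchUBF n h) : SchUBF ((n * m) * n) (h' ≫ h) := by
  intro K _ x T c d sq
  have sqP := IsPullback.of_hasPullback x h
  obtain ⟨e, he1, he2⟩ := sqP.exists_lift c (d ≫ h') (by rw [Category.assoc]; exact sq.w)
  subst he1
  have sqE : IsPullback d e h' (pullback.snd x h) :=
    IsPullback.of_bot sq.flip he2.symm sqP.flip
  refine finDegLE_comp n m e (pullback.fst x h) (hn K x _ _ _ sqP) ?_
  intro L _ y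
  have sqY := IsPullback.of_hasPullback y e
  exact hm L (y ≫ pullback.snd x h) _ _ (pullback.snd y e ≫ d) (sqY.flip.paste_horiz sqE).flip

theorem finDegLE_one_of_isIso {K : Type u} [Field K] {T : Scheme.{u}}
    (c : T ⟶ Spec (CommRingCat.of K)) [IsIso c] : FinDegLE 1 c := by
  have h1 : c = (asIso c).hom ≫ Spec.map (CommRingCat.ofHom (algebraMap K K)) := by
    have : CommRingCat.ofHom (algebraMap K K) = 𝟙 _ := rfl
    rw [this, Spec.map_id, Category.comp_id]
    rfl
  rw [h1, finDegLE_iso_comp, finDegLE_SpecMap_iff]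
  exact ⟨inferInstance, (Module.finrank_self K).le⟩

/-- Open immersions have fibres of degree at most one. -/
theorem schUBF_one_of_isOpenImmersion {W U : Scheme.{u}} (j : W ⟶ U) [IsOpenImmersion j] :
    SchUBF 1 j := by
  intro K _ x T c d sq
  have hc : IsOpenImmersion c :=
    MorphismProperty.of_isPullback (P := @IsOpenImmersion) sq.flip inferInstance
  by_cases hT : IsEmpty ↥T
  · exact finDegLE_of_isEmpty 1 c
  rw [not_isEmpty_iff] at hT
  obtain ⟨t⟩ := hT
  have hs : Surjective c := ⟨fun s => ⟨t, Subsingleton.elim _ _⟩⟩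
  have : IsIso c := (isIso_iff_isOpenImmersion_and_surjective _).mpr ⟨hc, hs⟩
  exact finDegLE_one_of_isIso c

/-- A finite morphism of affine schemes has universally bounded fibres. -/
theorem schUBF_SpecMap_of_finite {R S' : Type u} [CommRing R] [CommRing S'] [Algebra R S']
    [Module.Finite R S'] :
    SchUBF ((⊤ : Submodule R S').spanFinrank)
      (Spec.map (CommRingCat.ofHom (algebraMap R S'))) := by
  intro K _ x T c d sq
  obtain ⟨ξ, rfl⟩ := Spec.map_surjective x
  algebraize [ξ.hom]
  have hξ : ξ = CommRingCat.ofHom (algebraMap R K) := rfl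
  rw [hξ] at sq
  have h1 : c = (sq.isoPullback ≪≫ pullbackSpecIso R K S').hom ≫
      Spec.map (CommRingCat.ofHom (algebraMap K (K ⊗[R] S'))) := by
    rw [Iso.trans_hom, Category.assoc, pullbackSpecIso_hom_fst', sq.isoPullback_hom_fst]
  rw [h1, finDegLE_iso_comp, finDegLE_SpecMap_iff]
  refine ⟨inferInstance, ?_⟩
  rw [Module.finrank_eq_spanFinrank_of_free, ← Submodule.baseChange_top]
  exact Submodule.FG.spanFinrank_baseChange_le _ Module.Finite.fg_top

/-- **Zariski's main theorem, local form**: a quasi-finite algebra of finite type has universally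
bounded fibres on a principal open neighbourhood of any prime. -/
theorem exists_away_schUBF {R B : Type u} [CommRing R] [CommRing B] [Algebra R B]
    [Algebra.FiniteType R B] (p : Ideal B) [p.IsPrime] [Algebra.QuasiFiniteAt R p] :
    ∃ r : B, r ∉ p ∧ ∃ N, SchUBF N
      (Spec.map (CommRingCat.ofHom (algebraMap R (Localization.Away r)))) := by
  obtain ⟨S', hS', r, hrp, hbij⟩ :=
    Algebra.QuasiFiniteAt.exists_fg_and_exists_notMem_and_awayMap_bijective (R := R) p
  have : Module.Finite R S' := ⟨(Submodule.fg_top _).mpr hS'⟩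
  refine ⟨r.1, hrp, ?_⟩
  let ψ : Localization.Away r →+* Localization.Away r.1 := Localization.awayMap S'.val.toRingHom r
  have hfac : CommRingCat.ofHom (algebraMap R (Localization.Away r.1)) =
      CommRingCat.ofHom (algebraMap R S') ≫
        CommRingCat.ofHom (algebraMap S' (Localization.Away r)) ≫ CommRingCat.ofHom ψ := by
    ext x
    simp only [CommRingCat.hom_ofHom, CommRingCat.hom_comp, RingHom.coe_comp, Function.comp_apply]
    change _ = Localization.awayMap S'.val.toRingHom r _
    rw [Localization.awayMap, IsLocalization.Away.map, IsLocalization.map_eq]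
    rw [IsScalarTower.algebraMap_apply R B (Localization.Away r.1)]
    rfl
  rw [hfac, Spec.map_comp, Spec.map_comp]
  have h1 := schUBF_SpecMap_of_finite (R := R) (S' := S')
  have h2 := schUBF_one_of_isOpenImmersion
    (Spec.map (CommRingCat.ofHom (algebraMap S' (Localization.Away r))))
  have hiso : IsIso (CommRingCat.ofHom ψ) :=
    (RingEquiv.ofBijective ψ hbij).toCommRingCatIso.isIso_hom
  have h3 := schUBF_one_of_isOpenImmersion (Spec.map (CommRingCat.ofHom ψ))
  exact ⟨_, h3.comp _ _ (h2.comp _ _ h1)⟩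

/-- An étale morphism has universally bounded fibres locally on the source. -/
theorem exists_isOpenImmersion_schUBF_of_etale {W U : Scheme.{u}} (h : W ⟶ U) [Etale h] (w : W) :
    ∃ (W' : Scheme.{u}) (j : W' ⟶ W), IsOpenImmersion j ∧ w ∈ Set.range j ∧
      ∃ N, SchUBF N (j ≫ h) := by
  obtain ⟨_, ⟨U', hU', rfl⟩, hxU, -⟩ := U.isBasis_affineOpens.exists_subset_of_mem_open
    (Set.mem_univ (h w)) isOpen_univ
  obtain ⟨_, ⟨V, hV, rfl⟩, hxV, hUV : V ≤ h ⁻¹ᵁ U'⟩ :=
    W.isBasis_affineOpens.exists_subset_of_mem_open hxU (h ⁻¹ᵁ U').2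
  have hφ : (h.appLE U' V hUV).hom.Etale :=
    HasRingHomProperty.appLE (P := @Etale) h inferInstance ⟨U', hU'⟩ ⟨V, hV⟩ hUV
  algebraize [(h.appLE U' V hUV).hom]
  have : Algebra.Etale Γ(U, U') Γ(W, V) := hφ
  obtain ⟨r, hrp, N, hN⟩ := exists_away_schUBF (R := Γ(U, U')) (B := Γ(W, V))
    (hV.primeIdealOf ⟨w, hxV⟩).asIdeal
  refine ⟨Spec (.of (Localization.Away r)),
    Spec.map (CommRingCat.ofHom (algebraMap Γ(W, V) (Localization.Away r))) ≫ hV.fromSpec,
    inferInstance, ?_, ?_⟩
  · have hmem : hV.primeIdealOf ⟨w, hxV⟩ ∈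
        Set.range (PrimeSpectrum.comap (algebraMap Γ(W, V) (Localization.Away r))) := by
      rw [PrimeSpectrum.localization_away_comap_range (Localization.Away r) r]
      exact hrp
    obtain ⟨y, hy⟩ := hmem
    refine ⟨y, ?_⟩
    rw [Scheme.Hom.comp_apply]
    have : (Spec.map (CommRingCat.ofHom (algebraMap Γ(W, V) (Localization.Away r)))) y =
        hV.primeIdealOf ⟨w, hxV⟩ := hy
    rw [this, hV.fromSpec_primeIdealOf]
  · rw [Category.assoc, ← IsAffineOpen.SpecMap_appLE_fromSpec h hU' hV hUV, ← Category.assoc,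
      ← Spec.map_comp]
    have h1 := schUBF_one_of_isOpenImmersion hU'.fromSpec
    have h2 : h.appLE U' V hUV ≫
        CommRingCat.ofHom (algebraMap Γ(W, V) (Localization.Away r)) =
        CommRingCat.ofHom (algebraMap Γ(U, U') (Localization.Away r)) := by
      ext x
      simp only [CommRingCat.hom_ofHom, CommRingCat.hom_comp, RingHom.coe_comp,
        Function.comp_apply]
      rw [IsScalarTower.algebraMap_apply Γ(U, U') Γ(W, V) (Localization.Away r)]
      rfl
    rw [h2]
    exact ⟨_, hN.comp _ _ h1⟩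

end Groth.Agent.H52.UBF
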