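import Groth.Agent.H52.HensElemMain
import Groth.Agent.H14.HensProp.CompStalk
import Groth.Agent.H14.HensProp.ElemNbhd2
import Groth.Agent.H14.HensProp.UniqueMin
import Groth.Prelude.Def_CAlgX

/-!
# Unibranch points of decent spaces: auxiliary results
-/

set_option autoImplicit false
universe u
open CategoryTheory CategoryTheory.Limits AlgebraicGeometry TopologicalSpace
open AlgSp

namespace Groth.Agent.H52.UnibranchSp

theorem existsUnique_mem_iff_encard {α : Type*} (s : Set α) :
    (∃! p, p ∈ s) ↔ s.encard = 1 := by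
  rw [Set.encard_eq_one]
  constructor
  · rintro ⟨p, hp, hu⟩
    refine ⟨p, ?_⟩
    ext q
    constructor
    · intro hq; exact hu q hq
    · rintro rfl; exact hp
  · rintro ⟨p, rfl⟩
    exact ⟨p, rfl, fun q hq => hq⟩

theorem hasUniqueMinimalPrime_iff_encard (A : Type u) [CommRing A] :
    CAlgX.HasUniqueMinimalPrime A ↔ (minimalPrimes A).encard = 1 :=
  existsUnique_mem_iff_encard _

theorem hasUniqueMinimalPrime_of_ringEquiv {A B : Type u} [CommRing A] [CommRing B]
    (e : A ≃+* B) (h : CAlgX.HasUniqueMinimalPrime A) : CAlgX.HasUniqueMinimalPrime B := by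
  rw [Groth.Agent.H14.HensProp.UniqueMin.hasUniqueMinimalPrime_iff_isPrime_nilradical] at h ⊢
  have : nilradical B = (nilradical A).comap (e.symm : B →+* A) := by
    ext x
    rw [Ideal.mem_comap, mem_nilradical, mem_nilradical]
    exact (IsNilpotent.map_iff e.symm.injective).symm
  rw [this]
  exact Ideal.comap_isPrime _ _

variable {S : Scheme.{u}}

/-- The chart obtained by composing a chart with an étale morphism of schemes. -/
noncomputable abbrev compChart {F : Sp S} {U : Over S} (a : (yon S).obj U ⟶ F) {V : Scheme.{u}}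
    (g : V ⟶ U.left) : (yon S).obj (Over.mk (g ≫ U.hom)) ⟶ F :=
  (yon S).map (Over.homMk g rfl : Over.mk (g ≫ U.hom) ⟶ U) ≫ a

/-- An elementary étale neighbourhood (in the sense of schemes) of an elementary étale
neighbourhood of `(F, x)` is an elementary étale neighbourhood of `(F, x)`. -/
theorem isElemEtaleNbhd_comp {F : Sp S} {U : Over S} (a : (yon S).obj U ⟶ F) (u : ↥U.left)
    (x : Points F) (h : IsElemEtaleNbhd a u x) {V : Scheme.{u}} (g : V ⟶ U.left) (v : ↥V)
    (hg : Hens2.IsEtaleNbhd g v u) :
    IsElemEtaleNbhd (compChart a g) (v : ↥(Over.mk (g ≫ U.hom)).left) x := by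
  obtain ⟨het, rfl, hres⟩ := hg
  let φ : Over.mk (g ≫ U.hom) ⟶ U := Over.homMk g rfl
  refine ⟨?_, ?_, ?_⟩
  · exact (RepWith @Etale).comp_mem _ _ ((repWith_yon_map_iff _ _).2 het) h.etale
  · exact (ofPt_yon_map_comp φ a v).trans h.ofPt_eq
  · have hcomp : (yon S).map (HensElemSp.resHom a (compChart a g) φ v) ≫
        (FieldPt.ofPt a (φ.left v)).toHom = (FieldPt.ofPt (compChart a g) v).toHom := by
      rw [toHom_ofPt', toHom_ofPt', ← Category.assoc, ← Functor.map_comp,
        HensElemSp.resHom_ofPtHom, Functor.map_comp, Category.assoc]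
    rw [← hcomp]
    have hiso : IsIso (HensElemSp.resHom a (compChart a g) φ v).left := by
      change IsIso (Spec.map (g.residueFieldMap v))
      have : IsIso (g.residueFieldMap v) := by
        rw [ConcreteCategory.isIso_iff_bijective]
        exact hres
      infer_instance
    have : IsIso (HensElemSp.resHom a (compChart a g) φ v) := by
      have : IsIso ((Over.forget S).map (HensElemSp.resHom a (compChart a g) φ v)) := hiso
      exact isIso_of_reflects_iso _ (Over.forget S)
    have hm : Mono (FieldPt.ofPt a (φ.left v)).toHom := h.mono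
    exact mono_comp _ _

end Groth.Agent.H52.UnibranchSp
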