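import Groth.Agent.H52.UnibranchSp
import Groth.Agent.H14.HensProp.BranchSup
import Groth.Agent.H14.HensProp.BranchCount
import Groth.Prelude.Def_Brnch

/-!
# Number of branches at a point of a decent space: auxiliary results
-/

set_option autoImplicit false
universe u
open CategoryTheory CategoryTheory.Limits AlgebraicGeometry TopologicalSpace
open AlgSp

namespace Groth.Agent.H52.UnibranchSp

theorem encard_minimalPrimes_of_ringEquiv {A B : Type u} [CommRing A] [CommRing B]
    (e : A ≃+* B) : (minimalPrimes A).encard = (minimalPrimes B).encard := by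
  have hsurj : Function.Surjective (e.symm : B →+* A) := e.symm.surjective
  have h1 : minimalPrimes B = Ideal.comap (e.symm : B →+* A) '' minimalPrimes A := by
    have := Ideal.comap_minimalPrimes_eq_of_surjective hsurj (⊥ : Ideal A)
    have hb : (⊥ : Ideal A).comap (e.symm : B →+* A) = ⊥ := by
      rw [← RingHom.ker_eq_comap_bot, RingHom.ker_eq_bot_iff_eq_zero]
      intro x hx
      exact (map_eq_zero_iff _ e.symm.injective).1 hx
    rw [hb] at this
    exact this
  rw [h1]
  exact ((Ideal.comap_injective_of_surjective _ hsurj).injOn).encard_image.symm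

variable {S : Scheme.{u}}

/-- The number of branches at the marked point of any elementary étale neighbourhood of
`(F, x)` is the number of minimal primes of a model of the henselian local ring at `x`. -/
theorem numBranchesAt_eq_encard {F : Sp S} (hF : IsAlgSpace F) (x : Points F)
    {U₀ U : Over S} (a₀ : (yon S).obj U₀ ⟶ F) (a : (yon S).obj U ⟶ F) (u₀ : ↥U₀.left)
    (u : ↥U.left) (h₀ : IsElemEtaleNbhd a₀ u₀ x) (h : IsElemEtaleNbhd a u x)
    (R : Type u) [CommRing R] [IsLocalRing R]
    [Algebra ↥(U₀.left.presheaf.stalk u₀) R] [IsLocalHom (algebraMap ↥(U₀.left.presheaf.stalk u₀) R)]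
    [Hensel.IsHenselization ↥(U₀.left.presheaf.stalk u₀) R] :
    Brnch.numBranchesAt U.left u = (minimalPrimes R).encard := by
  obtain ⟨R', _, _, _, _, hH, ⟨ε⟩⟩ :=
    HensElemMain.exists_henselization_ringEquiv hF x a₀ a u₀ u h₀ h R
  unfold Brnch.numBranchesAt
  rw [← Groth.Agent.H14.HensProp.BranchCount.card_minimalPrimes_henselization
    ↥(U.left.presheaf.stalk u) R', ENat.card_coe_set_eq]
  exact (encard_minimalPrimes_of_ringEquiv ε).symm

/-- The number of components through the marked point of an étale neighbourhood with trivial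
residue field extension is at most the number of branches. -/
theorem encard_le_numBranchesAt {X V : Scheme.{u}} (g : V ⟶ X) (v : ↥V) (x : ↥X)
    (hg : Hens2.IsEtaleNbhd g v x) :
    {Z : Set ↥V | Z ∈ irreducibleComponents ↥V ∧ v ∈ Z}.encard ≤ Brnch.numBranchesAt X x := by
  rw [Groth.Agent.H14.HensProp.BranchSup.numBranchesAt_eq]
  exact le_iSup_of_le V (le_iSup_of_le g (le_iSup_of_le v (le_iSup_of_le hg le_rfl)))

theorem encard_le_numBranchesAt_self {X : Scheme.{u}} (x : ↥X) :
    {Z : Set ↥X | Z ∈ irreducibleComponents ↥X ∧ x ∈ Z}.encard ≤ Brnch.numBranchesAt X x := by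
  refine encard_le_numBranchesAt (𝟙 X) x x ⟨inferInstance, rfl, ?_⟩
  rw [Scheme.residueFieldMap_id]
  exact Function.bijective_id

/-- A finite positive number of branches is attained on some étale neighbourhood with trivial
residue field extension. -/
theorem exists_encard_eq_numBranchesAt {X : Scheme.{u}} (x : ↥X) (n : ℕ) (hn : 1 ≤ n)
    (h : Brnch.numBranchesAt X x = n) :
    ∃ (V : Scheme.{u}) (g : V ⟶ X) (v : ↥V), Hens2.IsEtaleNbhd g v x ∧
      {Z : Set ↥V | Z ∈ irreducibleComponents ↥V ∧ v ∈ Z}.encard = n := by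
  by_contra hcon
  obtain ⟨m, rfl⟩ : ∃ m, n = m + 1 := ⟨n - 1, by omega⟩
  have hle : Brnch.numBranchesAt X x ≤ (m : ℕ∞) := by
    rw [Groth.Agent.H14.HensProp.BranchSup.numBranchesAt_eq]
    refine iSup_le fun V => iSup_le fun g => iSup_le fun v => iSup_le fun hg => ?_
    have h1 : {Z : Set ↥V | Z ∈ irreducibleComponents ↥V ∧ v ∈ Z}.encard ≤ ((m + 1 : ℕ) : ℕ∞) :=
      h ▸ encard_le_numBranchesAt g v x hg
    have h2 : {Z : Set ↥V | Z ∈ irreducibleComponents ↥V ∧ v ∈ Z}.encard ≠ ((m + 1 : ℕ) : ℕ∞) :=
      fun e => hcon ⟨V, g, v, hg, e⟩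
    have h3 := lt_of_le_of_ne h1 h2
    rw [Nat.cast_add, Nat.cast_one] at h3
    exact Order.le_of_lt_add_one h3
  rw [h] at hle
  have := Nat.cast_le.1 hle
  omega

end Groth.Agent.H52.UnibranchSp
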