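import Groth.Agent.H52.DecentMorLocal
import Groth.Agent.H51.SpGlue2
import Groth.Prelude.Def_AlgSpMor5
import Mathlib.AlgebraicGeometry.Morphisms.Integral
import Mathlib.AlgebraicGeometry.Morphisms.Finite

set_option autoImplicit false
universe u
open CategoryTheory CategoryTheory.Limits AlgebraicGeometry Opposite

namespace Groth.Agent.H52.ZarLocalBase

open AlgSp

variable {S : Scheme.{u}}

/-- Gluing local representing schemes: if Zariski locally on the scheme `T` the base change of
`f : X ⟶ Y` along `g : h_T ⟶ Y` is representable, then it is representable, and every property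
local on the target which holds for the local pieces holds for the glued morphism. -/
theorem exists_rep_of_local {X Y : Sp S} (hX : IsAlgSpace X) (hY : IsAlgSpace Y) (f : X ⟶ Y)
    {T : Over S} (g : (yon S).obj T ⟶ Y)
    (A : T.left → T.left.Opens) (hA : ∀ t, t ∈ A t)
    (W : T.left → Over S) (i : ∀ t, W t ⟶ Over.mk ((A t).ι ≫ T.hom))
    (k : ∀ t, (yon S).obj (W t) ⟶ X)
    (sq : ∀ t, IsPullback (k t) ((yon S).map (i t)) f ((yon S).map (openIncl T (A t)) ≫ g)) :
    ∃ (G : Over S) (π : G ⟶ T) (fst : (yon S).obj G ⟶ X), IsPullback fst ((yon S).map π) f g ∧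
      ∀ (P : MorphismProperty Scheme.{u}) [IsZariskiLocalAtTarget P],
        (∀ t, P (i t).left) → P π.left := by
  let F : Sp S := pullback f g
  let p₁ : F ⟶ X := pullback.fst f g
  let p₂ : F ⟶ (yon S).obj T := pullback.snd f g
  have sqF : IsPullback p₁ p₂ f g := IsPullback.of_hasPullback f g
  have hF : IsAlgSpace F := isAlgSpace_of_isPullback_yon hX hY f g p₁ p₂ sqF
  -- the local pieces as open subfunctors of `F`
  let κ : ∀ t, (yon S).obj (W t) ⟶ F := fun t =>
    sqF.lift (k t) ((yon S).map (i t) ≫ (yon S).map (openIncl T (A t)))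
      (by rw [(sq t).w, Category.assoc])
  have hκ₁ : ∀ t, κ t ≫ p₁ = k t := fun t => sqF.lift_fst _ _ _
  have hκ₂ : ∀ t, κ t ≫ p₂ = (yon S).map (i t) ≫ (yon S).map (openIncl T (A t)) :=
    fun t => sqF.lift_snd _ _ _
  have L : ∀ t, IsPullback (κ t) ((yon S).map (i t)) p₂ ((yon S).map (openIncl T (A t))) := by
    intro t
    refine IsPullback.of_right ?_ (hκ₂ t) sqF
    rw [hκ₁ t]
    exact sq t
  have hκ : ∀ t, RepWith @IsOpenImmersion (κ t) := by
    intro t
    have h1 : RepWith @IsOpenImmersion ((yon S).map (openIncl T (A t))) := by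
      rw [repWith_yon_map_iff]
      change IsOpenImmersion (A t).ι
      infer_instance
    exact MorphismProperty.of_isPullback (P := RepWith @IsOpenImmersion) (L t).flip h1
  obtain ⟨U, a, ha, has⟩ := hF.atlas
  have hcov : ∀ x : Points F, ∃ t, x ∈ Set.range (Points.map (κ t)) := by
    intro x
    obtain ⟨t, ht⟩ := (Points.schemeEquiv T).surjective (Points.map p₂ x)
    have e : Points.map p₂ x =
        Points.map ((yon S).map (openIncl T (A t))) (Points.ofScheme _ ⟨t, hA t⟩) := by
      rw [← Points.ofPt_eq_map_ofScheme, ofPt_yon_map]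
      exact ht.symm
    obtain ⟨w, hw, -⟩ := exists_point_of_isPullback (L t) x _ e
    exact ⟨t, w, hw⟩
  obtain ⟨G, ⟨e⟩⟩ := H51.exists_iso_yon_of_forall_point a has (fun u => by
    obtain ⟨t, ht⟩ := hcov (Points.ofPt a u)
    exact ⟨W t, κ t, hκ t, ht⟩)
  obtain ⟨π, hπ⟩ := (yon S).map_surjective (e.hom ≫ p₂)
  have sqG : IsPullback (e.hom ≫ p₁) ((yon S).map π) f g := by
    rw [hπ]
    exact IsPullback.of_iso sqF e.symm (Iso.refl _) (Iso.refl _) (Iso.refl _) (by simp) (by simp)
      (by simp) (by simp)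
  refine ⟨G, π, e.hom ≫ p₁, sqG, ?_⟩
  intro P _ hP
  have hsup : iSup A = ⊤ := by
    rw [eq_top_iff]
    intro t _
    exact TopologicalSpace.Opens.mem_iSup.2 ⟨t, hA t⟩
  refine IsZariskiLocalAtTarget.of_iSup_eq_top A hsup (fun t => ?_)
  -- the two pullbacks of `π` along the open `A t`
  obtain ⟨κ', hκ'⟩ := (yon S).map_surjective (κ t ≫ e.inv)
  have L' : IsPullback ((yon S).map κ') ((yon S).map (i t)) ((yon S).map π)
      ((yon S).map (openIncl T (A t))) := by
    rw [hκ', hπ]
    exact IsPullback.of_iso (L t) (Iso.refl _) e.symm (Iso.refl _) (Iso.refl _) (by simp) (by simp)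
      (by simp) (by simp)
  have L'' : IsPullback κ' (i t) π (openIncl T (A t)) :=
    IsPullback.of_map (yon S) (by
      apply (yon S).map_injective
      rw [Functor.map_comp, Functor.map_comp]
      exact L'.w) L'
  have L₃ : IsPullback (i t).left κ'.left (A t).ι π.left := (L''.map (Over.forget S)).flip
  have R₃ := isPullback_morphismRestrict π.left (A t)
  have hφ : (L₃.isoIsPullback _ _ R₃).hom ≫ (π.left ∣_ A t) = (i t).left :=
    IsPullback.isoIsPullback_hom_fst _ _ L₃ R₃
  have : π.left ∣_ A t = (L₃.isoIsPullback _ _ R₃).inv ≫ (i t).left :=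
    (Iso.eq_inv_comp _).2 hφ
  rw [this]
  exact (MorphismProperty.cancel_left_of_respectsIso P _ _).2 (hP t)


/-- Zariski locally on a scheme `T`, a map `h_T ⟶ Y` lifts to a member of a Zariski covering. -/
theorem exists_local_lift {Y : Sp S} {ι : Type u} (Yi : ι → Sp S) (j : ∀ i, Yi i ⟶ Y)
    (hj : IsZarCover Yi j) {T : Over S} (g : (yon S).obj T ⟶ Y) (z : T.left) :
    ∃ (i : ι) (A : T.left.Opens), IsAffineOpen A ∧ z ∈ A ∧
      ∃ t : (yon S).obj (Over.mk (A.ι ≫ T.hom)) ⟶ Yi i,
        t ≫ j i = (yon S).map (openIncl T A) ≫ g := by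
  obtain ⟨i, y, hy⟩ := hj.2 (Points.ofPt g z)
  have hrep := (hj.1 i).1
  have sqZ := hrep.isPullback g
  have hoi : IsOpenImmersion (hrep.snd g).left := (hj.1 i).2 _ _ _ sqZ
  have e : Points.map (j i) y = Points.map g (Points.ofScheme T z) := by
    rw [hy, Points.ofPt_eq_map_ofScheme]
  obtain ⟨w, -, hw⟩ := exists_point_of_isPullback sqZ y _ e
  obtain ⟨z', rfl⟩ := (Points.schemeEquiv (hrep.pullback g)).surjective w
  have hz' : (hrep.snd g).left z' = z := by
    have h1 : Points.map ((yon S).map (hrep.snd g)) (Points.ofScheme _ z') =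
        Points.ofScheme T ((hrep.snd g).left z') := by
      rw [← Points.ofPt_eq_map_ofScheme, ofPt_yon_map]
    have h2 : Points.ofScheme T ((hrep.snd g).left z') = Points.ofScheme T z := h1.symm.trans hw
    exact (Points.schemeEquiv T).injective h2
  have hzO : z ∈ (hrep.snd g).left.opensRange := ⟨z', hz'⟩
  obtain ⟨A, hA, hzA, hAO⟩ := exists_isAffineOpen_mem_and_subset (x := z)
    (U := (hrep.snd g).left.opensRange) hzO
  have hrange : Set.range A.ι ⊆ Set.range (hrep.snd g).left := by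
    rw [Scheme.Opens.range_ι]
    exact hAO
  let l := IsOpenImmersion.lift (hrep.snd g).left A.ι hrange
  have hl : l ≫ (hrep.snd g).left = A.ι := IsOpenImmersion.lift_fac _ _ _
  let l' : Over.mk (A.ι ≫ T.hom) ⟶ hrep.pullback g := Over.homMk l (by
    change l ≫ (hrep.pullback g).hom = A.ι ≫ T.hom
    rw [← Over.w (hrep.snd g), ← Category.assoc, hl])
  have hl' : l' ≫ hrep.snd g = openIncl T A := by
    apply Over.OverMorphism.ext
    exact hl
  refine ⟨i, A, hA, hzA, (yon S).map l' ≫ hrep.fst g, ?_⟩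
  rw [Category.assoc, sqZ.w, ← Category.assoc, ← Functor.map_comp, hl']


section main

variable {X Y : AlgSp.Space S} (f : X ⟶ Y) {ι : Type u}
    (Yi : ι → AlgSp.Space S) (j : ∀ i, Yi i ⟶ Y)
    (hj : AlgSp.IsZarCover (fun i => (Yi i).obj) (fun i => (j i).hom))
    (Xi : ι → AlgSp.Sp S) (p : ∀ i, Xi i ⟶ X.obj) (q : ∀ i, Xi i ⟶ (Yi i).obj)
    (sq : ∀ i, IsPullback (p i) (q i) f.hom (j i).hom)
include hj sq

theorem affine_part (P : MorphismProperty Scheme.{u}) [IsZariskiLocalAtTarget P]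
    (hPaff : ∀ {A B : Scheme.{u}} (φ : A ⟶ B), P φ → IsAffineHom φ)
    (hq : ∀ i, ∀ ⦃Z : Over S⦄, IsAffine Z.left → ∀ g : (yon S).obj Z ⟶ (Yi i).obj,
      ∃ (W : Over S) (i' : W ⟶ Z) (fst : (yon S).obj W ⟶ Xi i),
        IsPullback fst ((yon S).map i') (q i) g ∧ IsAffine W.left ∧ P i'.left) :
    ∀ ⦃Z : Over S⦄, IsAffine Z.left → ∀ g : (yon S).obj Z ⟶ Y.obj,
      ∃ (W : Over S) (i' : W ⟶ Z) (fst : (yon S).obj W ⟶ X.obj),
        IsPullback fst ((yon S).map i') f.hom g ∧ IsAffine W.left ∧ P i'.left := by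
  intro Z hZ g
  have hloc := fun z : Z.left =>
    exists_local_lift (fun i => (Yi i).obj) (fun i => (j i).hom) hj g z
  choose i A hA hzA t ht using hloc
  have hloc2 := fun z : Z.left => hq (i z) (Z := Over.mk ((A z).ι ≫ Z.hom)) (hA z) (t z)
  choose W i' fst sq' hW hP using hloc2
  have sqs : ∀ z, IsPullback (fst z ≫ p (i z)) ((yon S).map (i' z)) f.hom
      ((yon S).map (openIncl Z (A z)) ≫ g) := by
    intro z
    rw [← ht z]
    exact (sq' z).paste_horiz (sq (i z))
  obtain ⟨G, π, fstG, sqG, hG⟩ := exists_rep_of_local X.property Y.property f.hom g A hzA W i'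
    (fun z => fst z ≫ p (i z)) sqs
  have hPπ : P π.left := hG P hP
  have : IsAffineHom π.left := hPaff _ hPπ
  exact ⟨G, π, fstG, sqG, isAffine_of_isAffineHom π.left, hPπ⟩

theorem finLocFree_aux (hq : ∀ i, AlgSp.IsFinLocFreeMor (q i)) {T : Over S}
    (g : (yon S).obj T ⟶ Y.obj) :
    ∃ (G : Over S) (π : G ⟶ T) (fst : (yon S).obj G ⟶ X.obj),
      IsPullback fst ((yon S).map π) f.hom g ∧ Mor2.IsFinLocFree π.left := by
  have hloc := fun z : T.left =>
    exists_local_lift (fun i => (Yi i).obj) (fun i => (j i).hom) hj g z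
  choose i A hA hzA t ht using hloc
  have sqs : ∀ z, IsPullback ((hq (i z)).1.fst (t z) ≫ p (i z))
      ((yon S).map ((hq (i z)).1.snd (t z))) f.hom ((yon S).map (openIncl T (A z)) ≫ g) := by
    intro z
    rw [← ht z]
    exact ((hq (i z)).1.isPullback (t z)).paste_horiz (sq (i z))
  have hprop : ∀ z, Mor2.IsFinLocFree ((hq (i z)).1.snd (t z)).left :=
    fun z => (hq (i z)).2 _ _ _ ((hq (i z)).1.isPullback (t z))
  obtain ⟨G, π, fstG, sqG, hG⟩ := exists_rep_of_local X.property Y.property f.hom g A hzA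
    (fun z => (hq (i z)).1.pullback (t z)) (fun z => (hq (i z)).1.snd (t z))
    (fun z => (hq (i z)).1.fst (t z) ≫ p (i z)) sqs
  exact ⟨G, π, fstG, sqG, hG @IsFinite (fun z => (hprop z).1), hG @Flat (fun z => (hprop z).2.1),
    hG @LocallyOfFinitePresentation (fun z => (hprop z).2.2)⟩

theorem finLocFree_part (hq : ∀ i, AlgSp.IsFinLocFreeMor (q i)) :
    AlgSp.IsFinLocFreeMor f.hom := by
  refine ⟨?_, ?_⟩
  · intro T g
    obtain ⟨G, π, fstG, sqG, -⟩ := finLocFree_aux f Yi j hj Xi p q sq hq g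
    exact ⟨G, π, fstG, sqG⟩
  · intro U V g fst snd sqV
    obtain ⟨G, π, fstG, sqG, hfl⟩ := finLocFree_aux f Yi j hj Xi p q sq hq g
    let φ := sqV.isoIsPullback _ _ sqG
    have hφ : φ.hom ≫ (yon S).map π = (yon S).map snd := IsPullback.isoIsPullback_hom_snd _ _ sqV sqG
    let φ' : V ≅ G := (yon S).preimageIso φ
    have hφ' : φ'.hom ≫ π = snd := by
      apply (yon S).map_injective
      rw [Functor.map_comp, ← hφ]
      congr 1
      exact (yon S).map_preimage φ.hom
    have hleft : snd.left = φ'.hom.left ≫ π.left := by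
      rw [← hφ']; rfl
    have : IsIso φ'.hom.left := (Over.forget S).map_isIso φ'.hom
    change Mor2.IsFinLocFree snd.left
    rw [hleft]
    obtain ⟨h1, h2, h3⟩ := hfl
    exact ⟨(MorphismProperty.cancel_left_of_respectsIso @IsFinite _ _).2 h1,
      (MorphismProperty.cancel_left_of_respectsIso @Flat _ _).2 h2,
      (MorphismProperty.cancel_left_of_respectsIso @LocallyOfFinitePresentation _ _).2 h3⟩

end main

end Groth.Agent.H52.ZarLocalBase
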